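import Mathlib.RingTheory.Smooth.NoetherianDescent
import Mathlib.RingTheory.Etale.Field
import Mathlib.RingTheory.Smooth.StandardSmoothOfFree
import Mathlib.RingTheory.RingHom.StandardSmooth
import Mathlib.RingTheory.Adjoin.FGBaseChange
import Mathlib.RingTheory.Smooth.Flat
import Mathlib.RingTheory.Ideal.MinimalPrime.Noetherian
import Mathlib.Algebra.MvPolynomial.Nilpotent

set_option linter.all false
set_option autoImplicit false

/-! Reducedness ascends along étale and smooth algebras. -/

namespace Groth.Agent.H6.EtaleReduced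

universe u

open TensorProduct

theorem isReduced_tensor_of_noetherian (C : Type u) [CommRing C] [IsNoetherianRing C] [IsReduced C]
    (B : Type u) [CommRing B] [Algebra C B] [Algebra.Etale C B] : IsReduced B := by
  refine ⟨fun x hx => ?_⟩
  haveI := (minimalPrimes.finite_of_isNoetherianRing C).to_subtype
  haveI hp : ∀ p : minimalPrimes C, p.1.IsPrime := fun p => p.2.1.1
  classical
  haveI := Fintype.ofFinite (minimalPrimes C)
  let K := fun p : minimalPrimes C => p.1.ResidueField
  let ι : C →ₗ[C] ((p : minimalPrimes C) → K p) := LinearMap.pi fun p => Algebra.linearMap C (K p)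
  have hι : Function.Injective ι := by
    rw [injective_iff_map_eq_zero]
    intro c hc
    refine IsReduced.eq_zero c (mem_nilradical.1 ?_)
    rw [nilradical, Ideal.zero_eq_bot, ← Ideal.sInf_minimalPrimes, Ideal.mem_sInf]
    intro P hP
    haveI : P.IsPrime := hP.1.1
    exact Ideal.algebraMap_residueField_eq_zero.1 (congrFun hc ⟨P, hP⟩)
  have hinj : Function.Injective (ι.lTensor B) := Module.Flat.lTensor_preserves_injective_linearMap ι hι
  have hx0 : ι.lTensor B (x ⊗ₜ[C] (1 : C)) = ι.lTensor B 0 := by
    rw [LinearMap.lTensor_tmul, map_zero]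
    apply (TensorProduct.piRight C C B K).injective
    rw [map_zero]
    ext p
    simp only [TensorProduct.piRight_apply, TensorProduct.piRightHom_tmul, Pi.zero_apply, ι, LinearMap.pi_apply,
      Algebra.linearMap_apply, map_one]
    haveI : IsReduced (K p ⊗[C] B) := Algebra.FormallyUnramified.isReduced_of_field (K p) _
    have h1 : (1 : K p) ⊗ₜ[C] x = 0 :=
      (hx.map (Algebra.TensorProduct.includeRight : B →ₐ[C] K p ⊗[C] B)).eq_zero
    simpa using congrArg (TensorProduct.comm C (K p) B) h1
  have := hinj hx0
  simpa using congrArg (TensorProduct.rid C B) this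

/-- reducedness ascends along étale algebras -/
theorem isReduced_of_etale (A B : Type u) [CommRing A] [CommRing B] [Algebra A B] [IsReduced A] [Algebra.Etale A B] :
    IsReduced B := by
  obtain ⟨A₀, B₀, _, _, hA₀, hB₀, ⟨e⟩⟩ := Algebra.Etale.exists_subalgebra_fg (R := ℤ) (A := A) (B := B)
  haveI : Algebra.FiniteType ℤ A₀ := A₀.fg_iff_finiteType.1 hA₀
  haveI : IsNoetherianRing A₀ := Algebra.FiniteType.isNoetherianRing ℤ A₀
  suffices IsReduced (B₀ ⊗[A₀] A) from
    isReduced_of_injective ((Algebra.TensorProduct.comm A₀ A B₀).toAlgHom.toRingHom.comp e.toAlgHom.toRingHom)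
      ((Algebra.TensorProduct.comm A₀ A B₀).injective.comp e.injective)
  refine ⟨fun x hx => ?_⟩
  obtain ⟨C, hC, hxC⟩ := exists_fg_and_mem_baseChange x
  obtain ⟨y, rfl⟩ := hxC
  haveI : Algebra.FiniteType A₀ C := C.fg_iff_finiteType.1 hC
  haveI : IsNoetherianRing C := Algebra.FiniteType.isNoetherianRing A₀ C
  haveI : IsReduced C := isReduced_of_injective C.val.toRingHom Subtype.val_injective
  have hinj : Function.Injective (Algebra.TensorProduct.map (AlgHom.id B₀ B₀) C.val) :=
    Module.Flat.lTensor_preserves_injective_linearMap (M := B₀) C.val.toLinearMap Subtype.val_injective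
  haveI hred : IsReduced (C ⊗[A₀] B₀) := isReduced_tensor_of_noetherian C (C ⊗[A₀] B₀)
  haveI : IsReduced (B₀ ⊗[A₀] C) :=
    isReduced_of_injective (Algebra.TensorProduct.comm A₀ B₀ C).toAlgHom.toRingHom (Algebra.TensorProduct.comm A₀ B₀ C).injective
  obtain ⟨n, hn⟩ := hx
  have hy : IsNilpotent y := ⟨n, hinj (by rw [map_pow, map_zero]; exact hn)⟩
  rw [hy.eq_zero, map_zero]

/-- reducedness ascends along smooth algebras -/
theorem isReduced_of_smooth (R S : Type u) [CommRing R] [CommRing S] [Algebra R S] [Algebra.Smooth R S] [IsReduced R] :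
    IsReduced S := by
  obtain ⟨s, hs, h⟩ := Algebra.Smooth.exists_span_eq_top_isStandardSmooth R S
  refine ⟨fun x hx => ?_⟩
  refine Module.eq_zero_of_isLocalized_span s hs (fun r => Localization.Away r.1)
    (fun r => Algebra.linearMap S (Localization.Away r.1)) x fun r => ?_
  haveI := h r.1 r.2
  obtain ⟨n, g, -, hg⟩ := RingHom.IsStandardSmooth.exists_etale_mvPolynomial
    (f := algebraMap R (Localization.Away r.1)) ((RingHom.isStandardSmooth_algebraMap).2 inferInstance)
  letI := g.toAlgebra
  haveI : Algebra.Etale (MvPolynomial (Fin n) R) (Localization.Away r.1) := hg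
  haveI : IsReduced (MvPolynomial (Fin n) R) :=
    inferInstance
  haveI : IsReduced (Localization.Away r.1) := isReduced_of_etale (MvPolynomial (Fin n) R) _
  exact (hx.map (algebraMap S (Localization.Away r.1))).eq_zero

end Groth.Agent.H6.EtaleReduced
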