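import Mathlib.AlgebraicGeometry.ValuativeCriterion
import Mathlib.AlgebraicGeometry.Morphisms.UniversallyOpen
import Mathlib.RingTheory.Flat.TorsionFree
import Groth.Prelude.Def_W4c2submetdescSubtr

set_option linter.all false
set_option autoImplicit false
set_option backward.isDefEq.respectTransparency.types false

/-! S-subtrusive morphisms and valuation rings. -/

namespace Groth.Agent.H6.SubtrVal

universe u

open CategoryTheory CategoryTheory.Limits AlgebraicGeometry IsLocalRing

/-- the generic point of the spectrum of a domain -/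
abbrev gen (V : Type u) [CommRing V] [IsDomain V] : Spec (CommRingCat.of V) :=
  (⟨⊥, Ideal.isPrime_bot⟩ : PrimeSpectrum V)

/-- the closed point -/
abbrev cl (V : Type u) [CommRing V] [IsLocalRing V] : Spec (CommRingCat.of V) := closedPoint V

theorem gen_specializes (V : Type u) [CommRing V] [IsDomain V] (y : Spec (CommRingCat.of V)) : gen V ⤳ y :=
  (PrimeSpectrum.le_iff_specializes (gen V : PrimeSpectrum V) y).1 bot_le

theorem specializes_cl (V : Type u) [CommRing V] [IsLocalRing V] (y : Spec (CommRingCat.of V)) : y ⤳ cl V :=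
  (PrimeSpectrum.le_iff_specializes (y : PrimeSpectrum V) (closedPoint V)).1 (le_maximalIdeal y.2.ne_top)

theorem specializes_total (V : Type u) [CommRing V] [IsDomain V] [ValuationRing V]
    (p q : Spec (CommRingCat.of V)) : p ⤳ q ∨ q ⤳ p := by
  rcases (ValuationRing.le_total_ideal V).total (p : PrimeSpectrum V).asIdeal (q : PrimeSpectrum V).asIdeal with h | h
  · exact Or.inl ((PrimeSpectrum.le_iff_specializes (p : PrimeSpectrum V) q).1 h)
  · exact Or.inr ((PrimeSpectrum.le_iff_specializes (q : PrimeSpectrum V) p).1 h)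

theorem exists_valuationRing_pair {X : Scheme.{u}} {x' x : X} (h : x' ⤳ x) :
    ∃ (W : Type u) (_ : CommRing W) (_ : IsDomain W) (_ : ValuationRing W) (g : Spec (CommRingCat.of W) ⟶ X),
      g (cl W) = x ∧ g (gen W) = x' := by
  let r : X.presheaf.stalk x ⟶ X.residueField x' := X.presheaf.stalkSpecializes h ≫ X.residue x'
  obtain ⟨A, hA, hloc⟩ := exists_factor_valuationRing r.hom
  let a : X.presheaf.stalk x ⟶ CommRingCat.of A := CommRingCat.ofHom (r.hom.codRestrict _ hA)
  let g : Spec (CommRingCat.of A) ⟶ X := Spec.map a ≫ X.fromSpecStalk x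
  have hgen : Spec.map (CommRingCat.ofHom (algebraMap A (X.residueField x'))) ≫ g = X.fromSpecResidueField x' := by
    rw [Scheme.fromSpecResidueField, ← Scheme.SpecMap_stalkSpecializes_fromSpecStalk h]
    simp only [g, ← Spec.map_comp_assoc]
    rfl
  refine ⟨A, inferInstance, inferInstance, inferInstance, g, ?_, ?_⟩
  · have : Spec.map a (cl A) = closedPoint (X.presheaf.stalk x) :=
      comap_closedPoint (S := A) (r.hom.codRestrict A.toSubring hA)
    show (Spec.map a ≫ X.fromSpecStalk x) (cl A) = x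
    rw [Scheme.Hom.comp_apply, this, X.fromSpecStalk_closedPoint]
  · have hb : Spec.map (CommRingCat.ofHom (algebraMap A (X.residueField x'))) (closedPoint (X.residueField x')) = gen A := by
      refine PrimeSpectrum.ext ?_
      show (closedPoint (X.residueField x')).asIdeal.comap (algebraMap A (X.residueField x')) = ⊥
      rw [show (closedPoint (X.residueField x')).asIdeal = ⊥ from maximalIdeal_eq_bot, ← RingHom.ker_eq_comap_bot]
      exact (RingHom.injective_iff_ker_eq_bot _).1 Subtype.val_injective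
    rw [← hb, ← Scheme.Hom.comp_apply, hgen]
    exact Scheme.fromSpecResidueField_apply x' _

theorem flat_specMap_of_injective {V W : Type u} [CommRing V] [IsDomain V] [ValuationRing V] [CommRing W] [IsDomain W]
    (φ : V →+* W) (hφ : Function.Injective φ) : Flat (Spec.map (CommRingCat.ofHom φ)) := by
  rw [Flat.SpecMap_iff]
  show RingHom.Flat φ
  algebraize [φ]
  refine (Module.Flat.flat_iff_torsion_eq_bot_of_isBezout (R := V) (M := W)).2 (eq_bot_iff.2 fun w hw => ?_)
  obtain ⟨⟨a, ha⟩, haw⟩ := (Submodule.mem_torsion_iff w).1 hw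
  rw [Submodule.mem_bot]
  have h1 : φ a * w = 0 := (Algebra.smul_def a w).symm.trans haw
  exact (mul_eq_zero.1 h1).resolve_left fun h => nonZeroDivisors.ne_zero ha (hφ (h.trans (map_zero φ).symm))

theorem exists_generization_of_flat {X Y : Scheme.{u}} (f : X ⟶ Y) [Flat f] (x : X) (y : Y) (h : y ⤳ f x) :
    ∃ x' : X, x' ⤳ x ∧ f x' = y :=
  (Flat.generalizingMap f) h

theorem surjective_of_valuation {V W : Type u} [CommRing V] [IsDomain V] [ValuationRing V] [CommRing W] [IsDomain W]
    [IsLocalRing W] (b : Spec (CommRingCat.of W) ⟶ Spec (CommRingCat.of V))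
    (hg : b (gen W) = gen V) (hc : b (cl W) = cl V) : Surjective b := by
  haveI : Flat b := by
    rw [← Spec.map_preimage b]
    refine flat_specMap_of_injective (Spec.preimage b).hom ?_
    rw [RingHom.injective_iff_ker_eq_bot, RingHom.ker_eq_comap_bot]
    have : Spec.map (Spec.preimage b) (gen W) = gen V := by rw [Spec.map_preimage]; exact hg
    exact congrArg PrimeSpectrum.asIdeal this
  refine ⟨fun y => ?_⟩
  obtain ⟨w, -, hw⟩ := exists_generization_of_flat b (cl W) y (hc ▸ specializes_cl V y)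
  exact ⟨w, hw⟩

theorem isSSubtrusive_of_flat_surjective {X Y : Scheme.{u}} (f : X ⟶ Y) [Flat f] [Surjective f] :
    Subtr.IsSSubtrusive f := fun y y' h => by
  obtain ⟨x, hx⟩ := f.surjective y
  obtain ⟨x', h1, h2⟩ := exists_generization_of_flat f x y' (hx ▸ h)
  exact ⟨x, x', h1, hx, h2⟩

theorem univ_of_flat_surjective {X Y : Scheme.{u}} (f : X ⟶ Y) [Flat f] [Surjective f] :
    Subtr.UnivSSubtrusive f := fun X' Y' i₁ i₂ f' hsq => by
  haveI : Flat f' := MorphismProperty.of_isPullback (P := @Flat) hsq.flip inferInstance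
  haveI : Surjective f' := MorphismProperty.of_isPullback (P := @Surjective) hsq.flip inferInstance
  exact isSSubtrusive_of_flat_surjective f'

theorem univ_of_comp {Z X Y : Scheme.{u}} (i : Z ⟶ X) (f : X ⟶ Y) (h : Subtr.UnivSSubtrusive (i ≫ f)) :
    Subtr.UnivSSubtrusive f := fun X' Y' i₁ i₂ f' hsq => by
  have h2 := (IsPullback.of_hasPullback i i₁).flip.paste_horiz hsq
  intro y y' hy
  obtain ⟨p, p', hp, hpy, hpy'⟩ := h (pullback.fst i i₁) i₂ (pullback.snd i i₁ ≫ f') h2 hy
  refine ⟨pullback.snd i i₁ p, pullback.snd i i₁ p', hp.map (pullback.snd i i₁).continuous, ?_, ?_⟩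
  · rw [← hpy, Scheme.Hom.comp_apply]
  · rw [← hpy', Scheme.Hom.comp_apply]

theorem isSSubtrusive_snd_of_univ {X Y T : Scheme.{u}} (f : X ⟶ Y) (h : Subtr.UnivSSubtrusive f) (g : T ⟶ Y) :
    Subtr.IsSSubtrusive (pullback.snd f g) :=
  h (pullback.fst f g) g (pullback.snd f g) (IsPullback.of_hasPullback f g).flip

/-- it suffices to lift the pair (generic, closed) over valuation rings -/
theorem univ_of_valuation {X Y : Scheme.{u}} (f : X ⟶ Y)
    (h : ∀ (V : Type u) [CommRing V] [IsDomain V] [ValuationRing V] (g : Spec (CommRingCat.of V) ⟶ Y),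
      ∃ x x' : ↥(pullback f g), x' ⤳ x ∧ pullback.snd f g x = cl V ∧ pullback.snd f g x' = gen V) :
    Subtr.UnivSSubtrusive f := by
  intro X' Y' i₁ i₂ f' hsq y y' hy
  obtain ⟨V, _, _, _, t, ht, ht'⟩ := exists_valuationRing_pair hy
  obtain ⟨x, x', hx, hc, hg⟩ := h V (t ≫ i₂)
  let l : pullback f (t ≫ i₂) ⟶ X' := hsq.lift (pullback.snd f (t ≫ i₂) ≫ t) (pullback.fst f (t ≫ i₂))
    (by rw [Category.assoc, ← pullback.condition])
  have hl : l ≫ f' = pullback.snd f (t ≫ i₂) ≫ t := hsq.lift_fst _ _ _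
  refine ⟨l x, l x', hx.map l.continuous, ?_, ?_⟩
  · rw [← Scheme.Hom.comp_apply, hl, Scheme.Hom.comp_apply, hc, ht]
  · rw [← Scheme.Hom.comp_apply, hl, Scheme.Hom.comp_apply, hg, ht']

/-- from a lifted pair over a valuation ring to a dominating valuation ring -/
theorem exists_dominating {V : Type u} [CommRing V] [IsDomain V] [ValuationRing V] {P : Scheme.{u}}
    (p : P ⟶ Spec (CommRingCat.of V)) {x x' : P} (h : x' ⤳ x) (hc : p x = cl V) (hg : p x' = gen V) :
    ∃ (W : Type u) (_ : CommRing W) (_ : IsDomain W) (_ : ValuationRing W) (a : Spec (CommRingCat.of W) ⟶ P),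
      Surjective (a ≫ p) := by
  obtain ⟨W, _, _, _, a, ha, ha'⟩ := exists_valuationRing_pair h
  refine ⟨W, inferInstance, inferInstance, inferInstance, a, surjective_of_valuation _ ?_ ?_⟩
  · rw [Scheme.Hom.comp_apply, ha', hg]
  · rw [Scheme.Hom.comp_apply, ha, hc]

theorem pair_of_surjective {V W : Type u} [CommRing V] [IsDomain V] [ValuationRing V] [CommRing W] [IsDomain W]
    [ValuationRing W] {P : Scheme.{u}} (p : P ⟶ Spec (CommRingCat.of V)) (a : Spec (CommRingCat.of W) ⟶ P)
    (hs : Surjective (a ≫ p)) : ∃ x x' : P, x' ⤳ x ∧ p x = cl V ∧ p x' = gen V := by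
  obtain ⟨Q, hQ⟩ := (a ≫ p).surjective (cl V)
  obtain ⟨Q', hQ'⟩ := (a ≫ p).surjective (gen V)
  rw [Scheme.Hom.comp_apply] at hQ hQ'
  rcases specializes_total W Q' Q with h | h
  · exact ⟨a Q, a Q', h.map a.continuous, hQ, hQ'⟩
  · have h1 : cl V ⤳ gen V := hQ ▸ hQ' ▸ (h.map a.continuous).map p.continuous
    have h2 : cl V = gen V := ((specializes_cl V (gen V)).antisymm h1).eq.symm
    exact ⟨a Q, a Q, specializes_rfl, hQ, hQ.trans h2⟩

end Groth.Agent.H6.SubtrVal
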