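import Groth.Agent.Lib.H6.DVRDom2
import Groth.Agent.Lib.H6.SubtrVal
import Mathlib.AlgebraicGeometry.Noetherian
import Mathlib.RingTheory.EssentialFiniteness

set_option linter.all false
set_option autoImplicit false
set_option backward.isDefEq.respectTransparency.types false

/-! Specializations on locally Noetherian schemes are dominated by discrete valuation rings. -/

namespace Groth.Agent.H6.DVRDom

universe u

open CategoryTheory CategoryTheory.Limits AlgebraicGeometry IsLocalRing

theorem exists_dvr_pair {Y : Scheme.{u}} [IsLocallyNoetherian Y] {y' y : Y} (h : y' ⤳ y) (hne : y' ≠ y)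
    (L : Type u) [Field L] (φ : Y.residueField y' ⟶ CommRingCat.of L) (hfg : φ.hom.EssFiniteType) :
    ∃ (V : ValuationSubring L) (_ : IsDiscreteValuationRing V) (g : Spec (CommRingCat.of V) ⟶ Y),
      g (SubtrVal.cl V) = y ∧
      Spec.map (CommRingCat.ofHom V.subtype) ≫ g = Spec.map φ ≫ Y.fromSpecResidueField y' := by
  let r : Y.presheaf.stalk y ⟶ Y.residueField y' := Y.presheaf.stalkSpecializes h ≫ Y.residue y'
  let R := r.hom.range
  haveI : IsLocalRing R := IsLocalRing.of_surjective' r.hom.rangeRestrict r.hom.rangeRestrict_surjective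
  haveI : IsNoetherianRing R := isNoetherianRing_of_surjective _ _ r.hom.rangeRestrict r.hom.rangeRestrict_surjective
  haveI : IsFractionRing R (Y.residueField y') := IsFractionRing.of_field R _ fun z => by
    obtain ⟨W, hW, hyW, -⟩ := exists_isAffineOpen_mem_and_subset (X := Y) (x := y) (U := ⊤) trivial
    have hy'W : y' ∈ W := h.mem_open W.isOpen hyW
    obtain ⟨t, ht⟩ := IsLocalRing.residue_surjective (R := Y.presheaf.stalk y') z
    letI := TopCat.Presheaf.algebra_section_stalk Y.presheaf ⟨y', hy'W⟩
    haveI := hW.isLocalization_stalk ⟨y', hy'W⟩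
    obtain ⟨a, b, hab⟩ := IsLocalization.exists_mk'_eq (hW.primeIdealOf ⟨y', hy'W⟩).asIdeal.primeCompl t
    have hc : ∀ c : Γ(Y, W), r (Y.presheaf.germ W y hyW c) = Y.residue y' (Y.presheaf.germ W y' hy'W c) := fun c => by
      show Y.residue y' (Y.presheaf.stalkSpecializes h (Y.presheaf.germ W y hyW c)) = _
      rw [← CommRingCat.comp_apply (Y.presheaf.germ W y hyW), TopCat.Presheaf.germ_stalkSpecializes]
    refine ⟨⟨_, Y.presheaf.germ W y hyW a, rfl⟩, ⟨_, Y.presheaf.germ W y hyW b, rfl⟩, ?_⟩
    show z = r (Y.presheaf.germ W y hyW a) / r (Y.presheaf.germ W y hyW b)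
    symm
    rw [hc, hc]
    have hb0 : Y.residue y' (Y.presheaf.germ W y' hy'W (b : Γ(Y, W))) ≠ 0 := by
      have hu : IsUnit (Y.presheaf.germ W y' hy'W (b : Γ(Y, W))) :=
        IsLocalization.map_units (Y.presheaf.stalk y') b
      exact (hu.map (Y.residue y').hom).ne_zero
    rw [div_eq_iff hb0, ← ht, ← hab]
    show Y.residue y' _ = Y.residue y' _ * Y.residue y' _
    rw [← map_mul]
    congr 1
    exact (IsLocalization.mk'_spec _ a b).symm
  have hRne : ¬ IsField R := fun hf => hne <| by
    have hk : RingHom.ker r.hom = maximalIdeal (Y.presheaf.stalk y) := by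
      refine IsLocalRing.eq_maximalIdeal ?_
      rw [← RingHom.ker_rangeRestrict]
      haveI : (⊥ : Ideal R).IsMaximal := by
        letI := hf.toField
        exact Ideal.bot_isMaximal
      rw [RingHom.ker_eq_comap_bot]
      exact Ideal.comap_isMaximal_of_surjective _ r.hom.rangeRestrict_surjective
    have h1 : Spec.map r (closedPoint (Y.residueField y')) = closedPoint (Y.presheaf.stalk y) := by
      refine PrimeSpectrum.ext ?_
      show (maximalIdeal (Y.residueField y')).comap r.hom = maximalIdeal (Y.presheaf.stalk y)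
      rw [maximalIdeal_eq_bot, ← RingHom.ker_eq_comap_bot, hk]
    have h2 := congrArg (Y.fromSpecStalk y) h1
    rw [Y.fromSpecStalk_closedPoint, ← Scheme.Hom.comp_apply] at h2
    have h3 : Spec.map r ≫ Y.fromSpecStalk y = Y.fromSpecResidueField y' := by
      rw [Spec.map_comp, Category.assoc, Scheme.SpecMap_stalkSpecializes_fromSpecStalk]
      rfl
    rw [h3, Scheme.fromSpecResidueField_apply] at h2
    exact h2
  letI : Algebra (Y.residueField y') L := φ.hom.toAlgebra
  haveI : Algebra.EssFiniteType (Y.residueField y') L := hfg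
  letI : Algebra R L := (φ.hom.comp R.subtype).toAlgebra
  haveI : IsScalarTower R (Y.residueField y') L := IsScalarTower.of_algebraMap_eq fun x => rfl
  obtain ⟨V, hV, hR, hm⟩ := exists_dvr (R := R) (Y.residueField y') L hRne
  let α : Y.presheaf.stalk y ⟶ CommRingCat.of V :=
    CommRingCat.ofHom ((φ.hom.comp r.hom).codRestrict V.toSubring fun x => hR ⟨r x, x, rfl⟩)
  have hα : IsLocalHom α.hom := ⟨fun x hx => by
    by_contra hn
    have h1 : r.hom.rangeRestrict x ∈ maximalIdeal R := by
      rw [mem_maximalIdeal]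
      intro hu
      haveI : IsLocalHom r.hom.rangeRestrict := IsLocalHom.of_surjective _ r.hom.rangeRestrict_surjective
      exact hn (IsUnit.of_map r.hom.rangeRestrict x hu)
    have h2 := hm _ h1
    rw [show algebraMap R L (r.hom.rangeRestrict x) = ((α x : V) : L) from rfl, ValuationSubring.coe_mem_nonunits_iff] at h2
    exact (mem_maximalIdeal _).1 h2 hx⟩
  refine ⟨V, hV, Spec.map α ≫ Y.fromSpecStalk y, ?_, ?_⟩
  · have : Spec.map α (SubtrVal.cl V) = closedPoint (Y.presheaf.stalk y) := by
      haveI := hα
      exact comap_closedPoint (S := V) α.hom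
    rw [Scheme.Hom.comp_apply, this, Y.fromSpecStalk_closedPoint]
  · rw [Scheme.fromSpecResidueField, ← Scheme.SpecMap_stalkSpecializes_fromSpecStalk h]
    simp only [← Spec.map_comp_assoc]
    rfl

end Groth.Agent.H6.DVRDom
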