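import Mathlib.AlgebraicGeometry.Morphisms.ClosedImmersion
import Mathlib.AlgebraicGeometry.PullbackCarrier
import Mathlib.AlgebraicGeometry.Properties
import Mathlib.AlgebraicGeometry.IdealSheaf.Subscheme

set_option linter.all false
set_option autoImplicit false
set_option backward.isDefEq.respectTransparency.types false

/-! Reduced closed subschemes. -/

namespace Groth.Agent.H6.RedClosed

universe u

open CategoryTheory CategoryTheory.Limits AlgebraicGeometry

variable {S X Z : Scheme.{u}}

theorem isReduced_vanishing (C : TopologicalSpace.Closeds X) :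
    AlgebraicGeometry.IsReduced (Scheme.IdealSheafData.vanishingIdeal C).subscheme := by
  rw [IsReduced.iff_of_openCover _ (Scheme.IdealSheafData.vanishingIdeal C).subschemeCover.openCover]
  intro U
  show AlgebraicGeometry.IsReduced (Spec (CommRingCat.of (Γ(X, U.1) ⧸ (Scheme.IdealSheafData.vanishingIdeal C).ideal U)))
  haveI : _root_.IsReduced (Γ(X, U.1) ⧸ (Scheme.IdealSheafData.vanishingIdeal C).ideal U) :=
    (Ideal.isRadical_iff_quotient_reduced _).mp (by
      rw [Scheme.IdealSheafData.vanishingIdeal_ideal]
      exact PrimeSpectrum.isRadical_vanishingIdeal _)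
  infer_instance

theorem exists_lift [AlgebraicGeometry.IsReduced S] (g : S ⟶ X) (i : Z ⟶ X) [IsClosedImmersion i]
    (h : Set.range g.base ⊆ Set.range i.base) : ∃ l : S ⟶ Z, l ≫ i = g := by
  haveI : Surjective (pullback.fst g i) := ⟨fun s => by
    have : s ∈ Set.range (pullback.fst g i).base := by
      rw [show Set.range (pullback.fst g i).base = _ from Scheme.Pullback.range_fst g i]
      exact h ⟨s, rfl⟩
    exact this⟩
  haveI : IsIso (pullback.fst g i) := isIso_of_isClosedImmersion_of_surjective _
  exact ⟨inv (pullback.fst g i) ≫ pullback.snd _ _,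
    by rw [Category.assoc, ← pullback.condition, IsIso.inv_hom_id_assoc]⟩

theorem range_subschemeι_vanishing (C : TopologicalSpace.Closeds X) :
    Set.range (Scheme.IdealSheafData.vanishingIdeal C).subschemeι.base = (C : Set X) := by
  rw [show Set.range (Scheme.IdealSheafData.vanishingIdeal C).subschemeι.base = _ from
    Scheme.IdealSheafData.range_subschemeι _]
  simp

end Groth.Agent.H6.RedClosed
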