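import Groth.Agent.Lib.H6.SubtrVal
import Groth.Agent.Lib.H6.RedClosed
import Mathlib.AlgebraicGeometry.Morphisms.QuasiCompact

set_option linter.all false
set_option autoImplicit false
set_option backward.isDefEq.respectTransparency.types false

/-! S-subtrusive morphisms and valuation rings, II. -/

namespace Groth.Agent.H6.SubtrVal

universe u

open CategoryTheory CategoryTheory.Limits AlgebraicGeometry IsLocalRing

theorem exists_le_of_mem_closure_range_comap {B C : Type u} [CommRing B] [CommRing C] (ψ : B →+* C)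
    {p : PrimeSpectrum B} (h : p ∈ closure (Set.range (PrimeSpectrum.comap ψ))) :
    ∃ q ∈ Set.range (PrimeSpectrum.comap ψ), q ⤳ p := by
  rw [PrimeSpectrum.closure_range_comap, PrimeSpectrum.mem_zeroLocus, SetLike.coe_subset_coe] at h
  obtain ⟨r, hr, hrp⟩ := Ideal.exists_minimalPrimes_le h
  rw [RingHom.ker_eq_comap_bot] at hr
  obtain ⟨r', hr', -, he⟩ := Ideal.exists_comap_eq_of_mem_minimalPrimes ψ r hr
  refine ⟨PrimeSpectrum.comap ψ ⟨r', hr'⟩, ⟨_, rfl⟩, (PrimeSpectrum.le_iff_specializes _ _).1 ?_⟩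
  rw [← PrimeSpectrum.asIdeal_le_asIdeal]
  exact (le_of_eq he).trans hrp

/-- points in the closure of the generic fibre specialise from the generic fibre -/
theorem exists_specializes_of_mem_closure_preimage {V : Type u} [CommRing V] [IsDomain V] {X : Scheme.{u}}
    (f : X ⟶ Spec (CommRingCat.of V)) {x : X} (h : x ∈ closure (f ⁻¹' {gen V})) :
    ∃ x' : X, x' ⤳ x ∧ f x' = gen V := by
  obtain ⟨U, hU, hxU, -⟩ := exists_isAffineOpen_mem_and_subset (X := X) (x := x) (U := ⊤) trivial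
  obtain ⟨ψ, hψ⟩ : ∃ ψ : CommRingCat.of V ⟶ Γ(X, U), Spec.map ψ = hU.fromSpec ≫ f :=
    ⟨Spec.preimage _, Spec.map_preimage _⟩
  obtain ⟨p, rfl⟩ : x ∈ Set.range hU.fromSpec := hU.range_fromSpec ▸ hxU
  let M : Submonoid Γ(X, U) := (nonZeroDivisors V).map ψ.hom
  have hT : ∀ q : Spec Γ(X, U), f (hU.fromSpec q) = gen V ↔
      (q : PrimeSpectrum Γ(X, U)) ∈ Set.range (PrimeSpectrum.comap (algebraMap Γ(X, U) (Localization M))) := fun q => by
    rw [← Scheme.Hom.comp_apply, ← hψ, PrimeSpectrum.localization_comap_range (Localization M) M]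
    constructor
    · intro hq
      have h0 : (q : PrimeSpectrum Γ(X, U)).asIdeal.comap ψ.hom = ⊥ := congrArg PrimeSpectrum.asIdeal hq
      exact Set.disjoint_left.2 fun b hb hb' => by
        obtain ⟨a, ha, rfl⟩ := hb
        exact nonZeroDivisors.ne_zero ha ((Submodule.mem_bot V).1 (h0 ▸ hb'))
    · intro hd
      refine PrimeSpectrum.ext ?_
      show (q : PrimeSpectrum Γ(X, U)).asIdeal.comap ψ.hom = ⊥
      rw [eq_bot_iff]
      intro a ha
      rw [Submodule.mem_bot]
      by_contra hne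
      exact Set.disjoint_left.1 hd ⟨a, mem_nonZeroDivisors_of_ne_zero hne, rfl⟩ ha
  have hp : (p : PrimeSpectrum Γ(X, U)) ∈
      closure (Set.range (PrimeSpectrum.comap (algebraMap Γ(X, U) (Localization M)))) := by
    have h1 : p ∈ hU.fromSpec ⁻¹' closure (f ⁻¹' {gen V}) := h
    rw [hU.fromSpec.isOpenEmbedding.isOpenMap.preimage_closure_eq_closure_preimage hU.fromSpec.continuous] at h1
    exact closure_mono (fun q hq => (hT q).1 hq) h1
  obtain ⟨q, hq, hqp⟩ := exists_le_of_mem_closure_range_comap _ hp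
  exact ⟨hU.fromSpec q, hqp.map hU.fromSpec.continuous, (hT q).2 hq⟩

/-- for a quasi-compact morphism the closure of the image consists of specialisations of the image -/
theorem exists_specializes_of_mem_closure_range {X Y : Scheme.{u}} (f : X ⟶ Y) [QuasiCompact f] {z : Y}
    (hz : z ∈ closure (Set.range f)) : ∃ x : X, f x ⤳ z := by
  obtain ⟨W, hW, hzW, -⟩ := exists_isAffineOpen_mem_and_subset (X := Y) (x := z) (U := ⊤) trivial
  obtain ⟨s, hs, hcov⟩ := (isCompact_iff_finite_and_eq_biUnion_affineOpens (U := f ⁻¹ᵁ W)).1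
    (QuasiCompact.isCompact_preimage (f := f) (W : Set Y) W.isOpen hW.isCompact)
  have hmem : ∀ x : X, x ∈ f ⁻¹ᵁ W ↔ ∃ U ∈ s, x ∈ (U : X.affineOpens).1 := fun x => by
    rw [hcov]
    simp [TopologicalSpace.Opens.mem_iSup]
  have h1 : z ∈ closure (⋃ U ∈ s, f '' ((U : X.affineOpens).1 : Set X)) := by
    have h2 : z ∈ closure (Set.range f ∩ W) := by rw [Set.inter_comm]; exact W.isOpen.inter_closure ⟨hzW, hz⟩
    refine closure_mono ?_ h2
    rintro _ ⟨⟨x, rfl⟩, hx⟩
    obtain ⟨U, hU, hxU⟩ := (hmem x).1 hx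
    exact Set.mem_iUnion₂.2 ⟨U, hU, x, hxU, rfl⟩
  rw [hs.closure_biUnion, Set.mem_iUnion₂] at h1
  obtain ⟨⟨U, hU⟩, hUs, hzU⟩ := h1
  have hUW : U ≤ f ⁻¹ᵁ W := fun x hx => (hmem x).2 ⟨⟨U, hU⟩, hUs, hx⟩
  obtain ⟨p, rfl⟩ : z ∈ Set.range hW.fromSpec := hW.range_fromSpec ▸ hzW
  have he := hW.SpecMap_appLE_fromSpec f hU hUW
  have hp : (p : PrimeSpectrum Γ(Y, W)) ∈ closure (Set.range (PrimeSpectrum.comap (f.appLE W U hUW).hom)) := by
    have h3 : p ∈ hW.fromSpec ⁻¹' closure (f '' (U : Set X)) := hzU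
    rw [hW.fromSpec.isOpenEmbedding.isOpenMap.preimage_closure_eq_closure_preimage hW.fromSpec.continuous] at h3
    refine closure_mono ?_ h3
    rintro q ⟨x, hx, hxq⟩
    obtain ⟨r, rfl⟩ : x ∈ Set.range hU.fromSpec := hU.range_fromSpec ▸ hx
    refine ⟨r, hW.fromSpec.isOpenEmbedding.injective ?_⟩
    rw [← hxq]
    exact congrArg (fun g : Spec Γ(X, U) ⟶ Y => g r) he
  obtain ⟨_, ⟨r, rfl⟩, hr⟩ := exists_le_of_mem_closure_range_comap _ hp
  refine ⟨hU.fromSpec r, ?_⟩
  have h4 := hr.map hW.fromSpec.continuous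
  have h5 : hW.fromSpec (PrimeSpectrum.comap (f.appLE W U hUW).hom r) = f (hU.fromSpec r) :=
    congrArg (fun g : Spec Γ(X, U) ⟶ Y => g r) he
  rw [← h5]
  exact h4

/-- the closure of a point lifting the generic point, as a flat closed subscheme -/
theorem exists_flat_closed {V : Type u} [CommRing V] [IsDomain V] [ValuationRing V] {X : Scheme.{u}}
    (f : X ⟶ Spec (CommRingCat.of V)) {x' x : X} (h : x' ⤳ x) (hc : f x = cl V) (hg : f x' = gen V) :
    ∃ (Z : Scheme.{u}) (i : Z ⟶ X), IsClosedImmersion i ∧ Flat (i ≫ f) ∧ Surjective (i ≫ f) := by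
  let C : TopologicalSpace.Closeds X := ⟨closure {x'}, isClosed_closure⟩
  let Z := (Scheme.IdealSheafData.vanishingIdeal C).subscheme
  let i : Z ⟶ X := (Scheme.IdealSheafData.vanishingIdeal C).subschemeι
  have hr : Set.range i = closure {x'} := RedClosed.range_subschemeι_vanishing C
  haveI : AlgebraicGeometry.IsReduced Z := RedClosed.isReduced_vanishing C
  obtain ⟨z₀, hz₀⟩ : x' ∈ Set.range i := hr ▸ subset_closure rfl
  obtain ⟨z, hz⟩ : x ∈ Set.range i := hr ▸ h.mem_closure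
  have hgenz : ∀ y : Z, z₀ ⤳ y := fun y => by
    rw [← i.isEmbedding.isInducing.specializes_iff, hz₀, specializes_iff_mem_closure]
    exact hr ▸ ⟨y, rfl⟩
  haveI : IrreducibleSpace Z := by
    haveI : Nonempty Z := ⟨z₀⟩
    refine (irreducibleSpace_def Z).2 ?_
    rw [Set.top_eq_univ]
    have : (Set.univ : Set Z) = closure {z₀} :=
      (Set.eq_univ_of_forall fun y => (hgenz y).mem_closure).symm
    rw [this]
    exact isIrreducible_singleton.closure
  haveI : IsIntegral Z := isIntegral_of_irreducibleSpace_of_isReduced Z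
  have hflat : Flat (i ≫ f) := by
    have hz₀f : (i ≫ f) z₀ = gen V := by rw [Scheme.Hom.comp_apply, hz₀, hg]
    choose U hU hyU using fun y : Z => (⟨_, (exists_isAffineOpen_mem_and_subset (X := Z) (x := y) (U := ⊤) trivial).choose_spec.1,
      (exists_isAffineOpen_mem_and_subset (X := Z) (x := y) (U := ⊤) trivial).choose_spec.2.1⟩ : ∃ U : Z.Opens, IsAffineOpen U ∧ y ∈ U)
    refine IsZariskiLocalAtSource.of_iSup_eq_top (P := @Flat) U
      (eq_top_iff.2 fun y _ => TopologicalSpace.Opens.mem_iSup.2 ⟨y, hyU y⟩) fun y => ?_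
    have hz₀U : z₀ ∈ U y := (hgenz y).mem_open (U y).isOpen (hyU y)
    haveI : Nonempty (U y) := ⟨⟨y, hyU y⟩⟩
    haveI : IsDomain Γ(Z, U y) := IsIntegral.component_integral _
    suffices Flat ((hU y).fromSpec ≫ i ≫ f) by
      rw [← (hU y).isoSpec_hom_fromSpec, Category.assoc]
      infer_instance
    obtain ⟨ψ, hψ⟩ : ∃ ψ : CommRingCat.of V ⟶ Γ(Z, U y), Spec.map ψ = (hU y).fromSpec ≫ i ≫ f :=
      ⟨Spec.preimage _, Spec.map_preimage _⟩
    rw [← hψ]
    refine flat_specMap_of_injective ψ.hom ?_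
    obtain ⟨q, hq⟩ : z₀ ∈ Set.range (hU y).fromSpec := (hU y).range_fromSpec ▸ hz₀U
    have h2 : Spec.map ψ q = gen V := by rw [hψ, Scheme.Hom.comp_apply, hq, hz₀f]
    have h3 : (q : PrimeSpectrum Γ(Z, U y)).asIdeal.comap ψ.hom = ⊥ := congrArg PrimeSpectrum.asIdeal h2
    rw [RingHom.injective_iff_ker_eq_bot, eq_bot_iff, ← h3, RingHom.ker_eq_comap_bot]
    exact Ideal.comap_mono bot_le
  refine ⟨Z, i, inferInstance, hflat, ⟨fun v => ?_⟩⟩
  obtain ⟨w, -, hw⟩ := exists_generization_of_flat (i ≫ f) z v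
    (by rw [Scheme.Hom.comp_apply, hz, hc]; exact specializes_cl V v)
  exact ⟨w, hw⟩

/-- every point has a maximal generization -/
theorem exists_maximal {Y : Scheme.{u}} (y : Y) :
    ∃ y₀ : Y, y₀ ⤳ y ∧ ∀ y' : Y, y' ⤳ y₀ → y' = y₀ := by
  obtain ⟨S, hS, hyS⟩ := exists_mem_irreducibleComponents_subset_of_isIrreducible ({y} : Set Y) isIrreducible_singleton
  have hgp : IsGenericPoint hS.1.genericPoint S := by
    have := hS.1.isGenericPoint_genericPoint_closure
    rwa [(isClosed_of_mem_irreducibleComponents S hS).closure_eq] at this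
  refine ⟨hS.1.genericPoint, hgp.specializes (hyS rfl), fun y' hy' => ?_⟩
  have h1 : S ⊆ closure {y'} := by
    rw [← hgp.def]
    exact closure_minimal (Set.singleton_subset_iff.2 hy'.mem_closure) isClosed_closure
  have h2 : closure {y'} = S := le_antisymm (hS.2 isIrreducible_singleton.closure h1) h1
  exact IsGenericPoint.eq h2 hgp

end Groth.Agent.H6.SubtrVal
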