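import Groth.Agent.Lib.H6.DVRVal
import Groth.Agent.Lib.H6.DVRDom3
import Groth.Agent.Lib.H6.SubtrVal2
import Mathlib.AlgebraicGeometry.Morphisms.FiniteType

set_option linter.all false
set_option autoImplicit false
set_option backward.isDefEq.respectTransparency.types false

/-! Separatedness tested on discrete valuation rings at a dense set of points. -/

namespace Groth.Agent.H6.DVRVal

universe u

open CategoryTheory CategoryTheory.Limits AlgebraicGeometry IsLocalRing

theorem residueFieldMap_essFiniteType {X Y : Scheme.{u}} (f : X ⟶ Y) [LocallyOfFiniteType f] (x : X) :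
    (f.residueFieldMap x).hom.EssFiniteType :=
  RingHom.EssFiniteType.residueFieldMap (LocallyOfFiniteType.stalkMap f x)

/-- separatedness can be tested on discrete valuation rings in the residue fields of a dense set of points -/
theorem isSeparated_of_dvr_at {X S : Scheme.{u}} [IsLocallyNoetherian S] (f : X ⟶ S) [LocallyOfFiniteType f]
    (D : Set X) (hD : ∀ x : X, ∃ d ∈ D, d ⤳ x)
    (H : ∀ d ∈ D, ∀ (A : ValuationSubring (X.residueField d)), IsDiscreteValuationRing A →
      ∀ l₁ l₂ : Spec (CommRingCat.of A) ⟶ X, l₁ ≫ f = l₂ ≫ f →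
        Spec.map (CommRingCat.ofHom A.subtype) ≫ l₁ = X.fromSpecResidueField d →
        Spec.map (CommRingCat.ofHom A.subtype) ≫ l₂ = X.fromSpecResidueField d → l₁ = l₂) :
    IsSeparated f := by
  haveI : IsLocallyNoetherian X := LocallyOfFiniteType.isLocallyNoetherian f
  haveI : IsLocallyNoetherian (pullback f f) := LocallyOfFiniteType.isLocallyNoetherian (pullback.fst f f ≫ f)
  refine ⟨?_⟩
  haveI : QuasiCompact (pullback.diagonal f) := inferInstance
  refine .of_isPreimmersion _ (isClosed_of_closure_subset fun z hz => ?_)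
  obtain ⟨x, hx⟩ := SubtrVal.exists_specializes_of_mem_closure_range (pullback.diagonal f) hz
  obtain ⟨d, hd, hdx⟩ := hD x
  by_cases he : pullback.diagonal f d = z
  · exact ⟨d, he⟩
  have hsp : pullback.diagonal f d ⤳ z := (hdx.map (pullback.diagonal f).continuous).trans hx
  obtain ⟨V, hV, g, hgc, hgg⟩ := DVRDom.exists_dvr_pair hsp he (X.residueField d)
    ((pullback.diagonal f).residueFieldMap d) (residueFieldMap_essFiniteType _ d)
  have hg2 : Spec.map (CommRingCat.ofHom V.subtype) ≫ g = X.fromSpecResidueField d ≫ pullback.diagonal f := by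
    rw [hgg]
    exact Scheme.Hom.SpecMap_residueFieldMap_fromSpecResidueField _ _
  have h12 : g ≫ pullback.fst f f = g ≫ pullback.snd f f := H d hd V hV _ _
    (by rw [Category.assoc, Category.assoc, pullback.condition])
    (by rw [← Category.assoc, hg2, Category.assoc, pullback.diagonal_fst, Category.comp_id])
    (by rw [← Category.assoc, hg2, Category.assoc, pullback.diagonal_snd, Category.comp_id])
  have hg : (g ≫ pullback.fst f f) ≫ pullback.diagonal f = g := by
    apply pullback.hom_ext
    · rw [Category.assoc, pullback.diagonal_fst, Category.comp_id]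
    · rw [Category.assoc, pullback.diagonal_snd, Category.comp_id, h12]
  exact ⟨(g ≫ pullback.fst f f) (SubtrVal.cl V), by rw [← Scheme.Hom.comp_apply, hg, hgc]⟩

theorem exists_maximal_mem {X : Scheme.{u}} (x : X) :
    ∃ η : X, closure {η} ∈ irreducibleComponents (X : Type u) ∧ η ⤳ x := by
  obtain ⟨Z, hZ, hxZ⟩ := exists_mem_irreducibleComponents_subset_of_isIrreducible ({x} : Set X) isIrreducible_singleton
  have hgp : IsGenericPoint hZ.1.genericPoint Z := by
    have := hZ.1.isGenericPoint_genericPoint_closure
    rwa [(isClosed_of_mem_irreducibleComponents Z hZ).closure_eq] at this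
  exact ⟨_, by rw [hgp.def]; exact hZ, hgp.specializes (hxZ rfl)⟩

end Groth.Agent.H6.DVRVal
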