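import Mathlib
import Groth.Prelude.Def_MoreMor
import Groth.Agent.Lib.H7Cartier

set_option autoImplicit false
set_option linter.all false
set_option backward.isDefEq.respectTransparency.types false

/-! First order thickenings: Spec of a square-zero quotient, base change. -/

universe u

open CategoryTheory CategoryTheory.Limits AlgebraicGeometry

namespace Groth.Agent.H6.Thick

theorem specMk {R : CommRingCat.{u}} (K : Ideal R) (hK : K ^ 2 = ⊥) :
    MoreMor.IsFirstOrderThickening (Spec.map (CommRingCat.ofHom (Ideal.Quotient.mk K))) := by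
  have hcl : IsClosedImmersion (Spec.map (CommRingCat.ofHom (Ideal.Quotient.mk K))) :=
    IsClosedImmersion.spec_of_surjective _ Ideal.Quotient.mk_surjective
  refine ⟨⟨hcl, ⟨fun p => ?_⟩⟩, ?_⟩
  · let q : PrimeSpectrum R := p
    have hp : q ∈ Set.range (PrimeSpectrum.comap (Ideal.Quotient.mk K)) := by
      rw [range_comap_of_surjective _ _ Ideal.Quotient.mk_surjective, Ideal.mk_ker, PrimeSpectrum.mem_zeroLocus]
      intro x hx
      refine q.isPrime.mem_of_pow_mem 2 ?_
      have : x ^ 2 ∈ K ^ 2 := Ideal.pow_mem_pow hx 2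
      rw [hK] at this
      rw [(Submodule.mem_bot _).1 this]
      exact q.asIdeal.zero_mem
    obtain ⟨r, hr⟩ := hp
    exact ⟨r, hr⟩
  · haveI := hcl
    refine bot_unique (Scheme.IdealSheafData.le_of_isAffine ?_)
    rw [Scheme.IdealSheafData.ideal_mul, Pi.mul_apply, Scheme.Hom.ker_apply, Ideal.mul_le]
    intro x hx y hy
    rw [RingHom.mem_ker] at hx hy
    have key : ∀ z, (Spec.map (CommRingCat.ofHom (Ideal.Quotient.mk K))).appTop z = 0 → (Scheme.ΓSpecIso R).hom z ∈ K := by
      intro z hz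
      rw [← Ideal.Quotient.eq_zero_iff_mem]
      have := congrArg (fun k => k z) (congrArg (fun k => (ConcreteCategory.hom k)) (Scheme.ΓSpecIso_naturality (CommRingCat.ofHom (Ideal.Quotient.mk K))))
      change (Scheme.ΓSpecIso _).hom ((Spec.map (CommRingCat.ofHom (Ideal.Quotient.mk K))).appTop z) = Ideal.Quotient.mk K ((Scheme.ΓSpecIso R).hom z) at this
      exact this.symm.trans ((congrArg _ hz).trans (map_zero _))
    have h0 : (Scheme.ΓSpecIso R).hom (x * y) = 0 := by
      have := Ideal.mul_mem_mul (key x hx) (key y hy)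
      rw [← sq, hK] at this
      rw [map_mul]
      exact (Submodule.mem_bot _).1 this
    have : x * y = 0 := (ConcreteCategory.bijective_of_isIso (Scheme.ΓSpecIso R).hom).1 (h0.trans (map_zero _).symm)
    rw [this]
    exact zero_mem _

theorem of_isPullback {Z Z' W W' : Scheme.{u}} {i : Z ⟶ Z'} {f : Z ⟶ W} {g : Z' ⟶ W'} {j : W ⟶ W'}
    (hP : IsPullback i f g j) (hj : MoreMor.IsFirstOrderThickening j) : MoreMor.IsFirstOrderThickening i := by
  haveI := hj.1.1
  refine ⟨⟨MorphismProperty.of_isPullback (P := @IsClosedImmersion) hP.flip hj.1.1,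
    MorphismProperty.of_isPullback (P := @Surjective) hP.flip hj.1.2⟩, ?_⟩
  have hk : i.ker = j.ker.comap g := by
    rw [← Scheme.IdealSheafData.ker_fst_of_isClosedImmersion j, ← hP.isoPullback_hom_fst, Scheme.Hom.ker_comp_of_isIso]
  rw [hk, ← H7Cartier.comap_mul, hj.2, Scheme.IdealSheafData.comap_bot]

/-- first order thickenings are homeomorphisms: preimage on opens is injective. -/
theorem preimage_injective {Z Z' : Scheme.{u}} {i : Z ⟶ Z'} (hi : MoreMor.IsFirstOrderThickening i)
    {V W : Z'.Opens} (h : i ⁻¹ᵁ V = i ⁻¹ᵁ W) : V = W := by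
  haveI := hi.1.2
  refine SetLike.coe_injective (i.surjective.preimage_injective ?_)
  exact congrArg (fun O : Z.Opens => (O : Set Z)) h

theorem of_comp {Z P Z' : Scheme.{u}} {ι : Z ⟶ P} {p : P ⟶ Z'} [IsClosedImmersion p]
    (hi : MoreMor.IsFirstOrderThickening (ι ≫ p)) : MoreMor.IsFirstOrderThickening ι := by
  haveI := hi.1.1
  haveI hcl : IsClosedImmersion ι := IsClosedImmersion.of_comp ι p
  refine ⟨⟨hcl, ⟨fun y => ?_⟩⟩, ?_⟩
  · obtain ⟨z, hz⟩ := hi.1.2.surj (p y)
    exact ⟨z, p.isClosedEmbedding.injective (by rw [← hz, Scheme.Hom.comp_apply])⟩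
  · refine bot_unique (Scheme.IdealSheafData.le_of_iSup_eq_top
      (fun A : Z'.affineOpens => ⟨p ⁻¹ᵁ A.1, A.2.preimage p⟩) ?_ fun A => ?_)
    · rw [← Scheme.Hom.preimage_iSup, iSup_affineOpens_eq_top, Scheme.Hom.preimage_top]
    · rw [Scheme.IdealSheafData.ideal_mul, Pi.mul_apply, Ideal.mul_le]
      intro x hx y hy
      obtain ⟨x, rfl⟩ := p.app_surjective A.1 A.2 x
      obtain ⟨y, rfl⟩ := p.app_surjective A.1 A.2 y
      rw [Scheme.Hom.ker_apply, RingHom.mem_ker] at hx hy
      have hm : x * y ∈ (ι ≫ p).ker.ideal A * (ι ≫ p).ker.ideal A :=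
        Ideal.mul_mem_mul (by rw [Scheme.Hom.ker_apply]; exact hx) (by rw [Scheme.Hom.ker_apply]; exact hy)
      rw [← Pi.mul_apply (f := (ι ≫ p).ker.ideal) (g := (ι ≫ p).ker.ideal), ← Scheme.IdealSheafData.ideal_mul, hi.2] at hm
      have h0 : x * y = 0 := by simpa using hm
      rw [← map_mul, h0, map_zero]
      exact zero_mem _

end Groth.Agent.H6.Thick
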