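import Mathlib
set_option autoImplicit false
set_option linter.all false
universe u v
open CategoryTheory Limits AlgebraicGeometry TopologicalSpace TensorProduct

namespace Groth.Agent.H6

theorem red_ff {X Y : Scheme.{u}} (f : X ⟶ Y) [Flat f] [Surjective f] [AlgebraicGeometry.IsReduced X] : AlgebraicGeometry.IsReduced Y := by
  haveI : ∀ y : Y, _root_.IsReduced (Y.presheaf.stalk y) := by
    intro y
    obtain ⟨x, rfl⟩ := f.surjective y
    letI := (f.stalkMap x).hom.toAlgebra
    haveI : Module.Flat (Y.presheaf.stalk (f x)) (X.presheaf.stalk x) := Flat.stalkMap f x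
    haveI : IsLocalHom (algebraMap (Y.presheaf.stalk (f x)) (X.presheaf.stalk x)) := inferInstanceAs (IsLocalHom (f.stalkMap x).hom)
    haveI := Module.FaithfullyFlat.of_flat_of_isLocalHom (A := Y.presheaf.stalk (f x)) (B := X.presheaf.stalk x)
    exact isReduced_of_injective (f.stalkMap x).hom (FaithfulSMul.algebraMap_injective (Y.presheaf.stalk (f x)) (X.presheaf.stalk x))
  exact isReduced_of_isReduced_stalk Y

theorem flat_descend {R A B : Type u} [CommRing R] [CommRing A] [CommRing B] [Algebra R A] [Algebra A B] [Algebra R B] [IsScalarTower R A B] [Module.FaithfullyFlat A B] [Module.Flat R B] : Module.Flat R A := by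
  rw [Module.Flat.iff_lTensor_preserves_injective_linearMap]
  intro N N' _ _ _ _ f hf
  suffices Function.Injective (AlgebraTensorModule.lTensor A A f) by exact this
  rw [← Module.FaithfullyFlat.lTensor_injective_iff_injective A B]
  have key : ((AlgebraTensorModule.cancelBaseChange R A A B N').toLinearMap).comp ((AlgebraTensorModule.lTensor A A f).lTensor B) =
      (AlgebraTensorModule.lTensor A B f).comp (AlgebraTensorModule.cancelBaseChange R A A B N).toLinearMap := by
    ext b n; simp
  have inj : Function.Injective (AlgebraTensorModule.lTensor A B f) := Module.Flat.lTensor_preserves_injective_linearMap f hf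
  have : Function.Injective (((AlgebraTensorModule.cancelBaseChange R A A B N').toLinearMap).comp ((AlgebraTensorModule.lTensor A A f).lTensor B)) := by
    rw [key]; exact inj.comp (AlgebraTensorModule.cancelBaseChange R A A B N).injective
  rw [LinearMap.coe_comp] at this
  exact Function.Injective.of_comp this

theorem flat_iff_comp {A B C : Type u} [CommRing A] [CommRing B] [CommRing C] [IsLocalRing B] [IsLocalRing C] (g : A →+* B) (f : B →+* C) [IsLocalHom f] (hf : f.Flat) :
    (f.comp g).Flat ↔ g.Flat := by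
  refine ⟨fun h => ?_, fun h => h.comp hf⟩
  letI := g.toAlgebra
  letI := f.toAlgebra
  letI := (f.comp g).toAlgebra
  haveI : IsScalarTower A B C := IsScalarTower.of_algebraMap_eq fun _ => rfl
  haveI : IsLocalHom (algebraMap B C) := ‹IsLocalHom f›
  haveI : Module.Flat B C := hf
  haveI : Module.Flat A C := h
  haveI := Module.FaithfullyFlat.of_flat_of_isLocalHom (A := B) (B := C)
  exact flat_descend (R := A) (A := B) (B := C)

theorem flat_stalk_comp {X Y Z : Scheme.{u}} (f : X ⟶ Y) (g : Y ⟶ Z) (x : X) (hf : (f.stalkMap x).hom.Flat) :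
    ((f ≫ g).stalkMap x).hom.Flat ↔ (g.stalkMap (f x)).hom.Flat := by
  rw [Scheme.Hom.stalkMap_comp]
  haveI : IsLocalHom (f.stalkMap x).hom := inferInstance
  exact @flat_iff_comp _ _ _ _ _ _ _ _ (g.stalkMap (f x)).hom (f.stalkMap x).hom this hf

theorem flat_cancel {X' X Y : Scheme.{u}} (f : X' ⟶ X) (g : X ⟶ Y) [Flat f] [Surjective f] [Flat (f ≫ g)] : Flat g := by
  refine Flat.of_stalkMap g fun x => ?_
  obtain ⟨x', rfl⟩ := f.surjective x
  exact (flat_stalk_comp f g x' (Flat.stalkMap f x')).mp (Flat.stalkMap _ x')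

theorem open_of_etale_ui {X Y : Scheme.{u}} (f : X ⟶ Y) [Etale f] [UniversallyInjective f] : IsOpenImmersion f := by
  haveI : Surjective (pullback.diagonal f) := (UniversallyInjective.iff_diagonal f).mp inferInstance
  haveI : IsIso (pullback.diagonal f) := (isIso_iff_isOpenImmersion_and_surjective _).mpr ⟨inferInstance, inferInstance⟩
  haveI : Mono f := (pullback.isIso_diagonal_iff f).mp inferInstance
  exact IsOpenImmersion.of_flat_of_mono f

theorem integral_fibre {X S : Scheme.{u}} (f : X ⟶ S) [IsIntegralHom f] (x : X) : closure {x} ∩ f.base ⁻¹' {f.base x} = {x} := by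
  refine Set.Subset.antisymm ?_ (Set.singleton_subset_iff.mpr ⟨subset_closure rfl, rfl⟩)
  rintro y ⟨hy, hfy⟩
  have hyx : x ⤳ y := specializes_iff_mem_closure.mpr hy
  obtain ⟨V, hV, hyV, -⟩ := exists_isAffineOpen_mem_and_subset (x := f y) (U := ⊤) trivial
  have hU : IsAffineOpen (f ⁻¹ᵁ V) := hV.preimage f
  have hxV : x ∈ f ⁻¹ᵁ V := hyx.mem_open (f ⁻¹ᵁ V).2 hyV
  let φ := f.app V
  have hint : φ.hom.IsIntegral := f.isIntegral_app V hV
  letI := φ.hom.toAlgebra
  haveI : Algebra.IsIntegral Γ(S, V) Γ(X, f ⁻¹ᵁ V) := ⟨hint⟩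
  let p := hU.primeIdealOf ⟨x, hxV⟩
  let q := hU.primeIdealOf ⟨y, hyV⟩
  have hcomm : ∀ a, f (hU.fromSpec a) = hV.fromSpec (Spec.map φ a) := fun a =>
    (congrArg (fun k : Spec Γ(X, f ⁻¹ᵁ V) ⟶ S => k a) (show Spec.map φ ≫ hV.fromSpec = hU.fromSpec ≫ f from (congrArg (fun m => Spec.map m ≫ hV.fromSpec) f.appLE_eq_app.symm).trans (hV.SpecMap_appLE_fromSpec f hU le_rfl))).symm
  have hp : hU.fromSpec p = x := hU.fromSpec_primeIdealOf _
  have hq : hU.fromSpec q = y := hU.fromSpec_primeIdealOf _
  have hpq : p ⤳ q := hU.fromSpec.isOpenEmbedding.isInducing.specializes_iff.mp (hp.symm ▸ hq.symm ▸ hyx)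
  have heq : Spec.map φ p = Spec.map φ q := hV.fromSpec.isOpenEmbedding.injective (by
    refine ((hcomm p).symm.trans ?_).trans (hcomm q)
    exact (congrArg f hp).trans (hfy.symm.trans (congrArg f hq.symm)))
  have hle : p.asIdeal ≤ q.asIdeal := (PrimeSpectrum.le_iff_specializes p q).mpr hpq
  have : p = q := by
    refine PrimeSpectrum.ext (hle.eq_or_lt.resolve_right fun hlt => ?_)
    haveI := p.isPrime
    exact (Ideal.IsIntegral.comap_lt_comap (R := Γ(S, V)) hlt).ne (congrArg PrimeSpectrum.asIdeal heq)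
  show y = x
  rw [← hp, ← hq, this]

theorem red_sub (X : Scheme.{u}) (I : X.IdealSheafData) (hI : I.support = ⊤) : AlgebraicGeometry.IsReduced I.subscheme ↔ I = X.nilradical := by
  have hle : I ≤ X.nilradical := by
    rw [← Scheme.IdealSheafData.vanishingIdeal_top, ← Scheme.IdealSheafData.le_support_iff_le_vanishingIdeal]
    exact hI.ge
  rw [IsReduced.iff_of_openCover I.subscheme I.subschemeCover.openCover]
  constructor
  · intro h
    refine le_antisymm hle fun U => ?_
    have hU : AlgebraicGeometry.IsReduced (Spec (CommRingCat.of (Γ(X, U) ⧸ I.ideal U))) := h U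
    have hr : (I.ideal U).IsRadical := (Ideal.isRadical_iff_quotient_reduced _).mpr ((affine_isReduced_iff _).mp hU)
    exact (Ideal.radical_mono bot_le).trans hr
  · rintro rfl U
    show AlgebraicGeometry.IsReduced (Spec (CommRingCat.of (Γ(X, U.1) ⧸ X.nilradical.ideal U)))
    haveI : _root_.IsReduced (Γ(X, U.1) ⧸ X.nilradical.ideal U) := (Ideal.isRadical_iff_quotient_reduced _).mp (Ideal.radical_isRadical _)
    exact inferInstance

theorem closed_gen {Y : Scheme.{u}} [IsLocallyNoetherian Y] (W : Set Y) (hW : IsClosed W) (hgen : StableUnderGeneralization W) : IsOpen W := by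
  rw [← isClosed_compl_iff]
  have hs : StableUnderSpecialization Wᶜ := stableUnderSpecialization_compl_iff.mpr hgen
  rw [TopologicalSpace.IsOpenCover.isClosed_iff_coe_preimage (U := fun U : Y.affineOpens => (U : Y.Opens)) (iSup_affineOpens_eq_top Y)]
  intro U
  let e := (U.2.isoSpec).inv.homeomorph
  haveI : IsNoetherianRing Γ(Y, U.1) := IsLocallyNoetherian.component_noetherian U
  refine e.isClosed_preimage.mp ?_
  refine PrimeSpectrum.isClosed_of_stableUnderSpecialization_of_isConstructible
    ((hs.preimage (continuous_subtype_val.comp e.continuous))) ?_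
  refine (TopologicalSpace.NoetherianSpace.isCompact _).isConstructible ?_
  exact (hW.isOpen_compl.preimage (continuous_subtype_val.comp e.continuous))

theorem bij_iff {B : Type u} [Ring B] {V W : Type v} [AddCommGroup V] [AddCommGroup W] [Module B V] [Module B W] (e : V ≃ₗ[B] W) (u : V →ₗ[B] W) : (∀ v : V →ₗ[B] W, ∃! c : V →ₗ[B] V, v = u ∘ₗ c) ↔ Function.Bijective u := by
  constructor
  · intro h
    obtain ⟨c, hc, -⟩ := h e.toLinearMap
    have hsurj : Function.Surjective u := fun w => ⟨c (e.symm w), by simpa using (LinearMap.congr_fun hc (e.symm w)).symm⟩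
    refine ⟨?_, hsurj⟩
    have huc : ∀ a, u (c a) = e a := fun a => (LinearMap.congr_fun hc a).symm
    have hid : c ∘ₗ e.symm.toLinearMap ∘ₗ u = LinearMap.id := by
      obtain ⟨d, hd, hu⟩ := h u
      rw [hu (c ∘ₗ e.symm.toLinearMap ∘ₗ u) (by ext a; simp [huc]), hu LinearMap.id (by simp)]
    intro a b hab
    have ha := LinearMap.congr_fun hid a
    have hb := LinearMap.congr_fun hid b
    simp [hab] at ha hb
    exact ha.symm.trans hb
  · intro h v
    let eu := LinearEquiv.ofBijective u h
    refine ⟨eu.symm.toLinearMap ∘ₗ v, ?_, fun c hc => ?_⟩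
    · ext a; exact (eu.apply_symm_apply _).symm
    · subst hc; ext a; exact (eu.symm_apply_apply _).symm

theorem noeth_iff {B : Type u} [Ring B] {V W : Type v} [AddCommGroup V] [AddCommGroup W] [Module B V] [Module B W] [IsNoetherian B V] [IsNoetherian B W] (e : V ≃ₗ[B] W) (u : V →ₗ[B] W) : (∀ v : V →ₗ[B] W, ∃ c : V →ₗ[B] V, v = u ∘ₗ c) ↔ Function.Bijective u := by
  constructor
  · intro h
    obtain ⟨c, hc⟩ := h e.toLinearMap
    have hsurj : Function.Surjective u := fun w => ⟨c (e.symm w), by simpa using (LinearMap.congr_fun hc (e.symm w)).symm⟩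
    have := IsNoetherian.injective_of_surjective_endomorphism (e.symm.toLinearMap ∘ₗ u) (e.symm.surjective.comp hsurj)
    exact ⟨fun a b hab => this (by simp [hab]), hsurj⟩
  · intro h v
    obtain ⟨c, hc, -⟩ := (bij_iff e u).mpr h v
    exact ⟨c, hc⟩

theorem sq_cube {B : Type u} [CommRing B] (A : Subring B) (b : B) (hb : b ∉ A) (n : ℕ) (hn : 2 ≤ n) (h1 : b ^ n ∈ A) (h2 : b ^ (n + 1) ∈ A) : ∃ b' : B, b' ∉ A ∧ b' ^ 2 ∈ A ∧ b' ^ 3 ∈ A := by
  classical
  have key : ∀ m, n * n ≤ m → b ^ m ∈ A := fun m hm => by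
    obtain ⟨q, r, hr, rfl⟩ : ∃ q r, r < n ∧ m = q * n + r := ⟨m / n, m % n, Nat.mod_lt _ (by omega), (Nat.div_add_mod' m n).symm⟩
    have hq : r ≤ q := by nlinarith
    obtain ⟨d, rfl⟩ := Nat.exists_eq_add_of_le hq
    rw [show (r + d) * n + r = n * d + (n + 1) * r by ring, pow_add, pow_mul, pow_mul]
    exact A.mul_mem (A.pow_mem h1 _) (A.pow_mem h2 _)
  let m := Nat.findGreatest (fun m => b ^ m ∉ A) (n * n)
  have hm1 : b ^ m ∉ A := Nat.findGreatest_spec (P := fun m => b ^ m ∉ A) (m := 1) (by nlinarith) (by simpa using hb)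
  have hm0 : 1 ≤ m := Nat.le_findGreatest (by nlinarith) (by simpa using hb)
  have hgt : ∀ k, m < k → b ^ k ∈ A := fun k hk => by
    by_cases hkn : k ≤ n * n
    · exact not_not.mp (Nat.findGreatest_is_greatest hk hkn)
    · exact key k (by omega)
  exact ⟨b ^ m, hm1, by rw [← pow_mul]; exact hgt _ (by omega), by rw [← pow_mul]; exact hgt _ (by omega)⟩

theorem closed_sub (G : Type u) [Group G] [TopologicalSpace G] [IsTopologicalGroup G] [CompactSpace G] [TotallyDisconnectedSpace G] (H : Subgroup G) (hH : IsClosed (H : Set G)) : ⨅ U : {U : OpenSubgroup G // H ≤ U.toSubgroup}, (U.1.toSubgroup) = H := by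
  refine le_antisymm (fun g hg => ?_) (le_iInf fun U => U.2)
  by_contra hgH
  have ho : IsOpen {x : G | x⁻¹ * g ∉ (H : Set G)} := hH.isOpen_compl.preimage (by fun_prop)
  have hWo : IsOpen {x : G | g * x ∉ (H : Set G)} := hH.isOpen_compl.preimage (by fun_prop)
  obtain ⟨N, hN⟩ := ProfiniteGrp.exist_openNormalSubgroup_sub_open_nhds_of_one hWo (by simpa using hgH)
  have hmem := (Subgroup.mem_iInf.mp hg) ⟨⟨H ⊔ N.toSubgroup, Subgroup.isOpen_mono le_sup_right N.isOpen'⟩, le_sup_left⟩
  change g ∈ H ⊔ N.toSubgroup at hmem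
  haveI : N.toSubgroup.Normal := N.isNormal'
  obtain ⟨h, hh, n, hn, rfl⟩ := Subgroup.mem_sup_of_normal_right.mp hmem
  have := hN (N.toSubgroup.inv_mem hn)
  simp [hh] at this

end Groth.Agent.H6
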