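import Groth.Agent.Lib.H6.DVRVal
import Groth.Agent.Lib.H6.DVRVal2
import Groth.Agent.Lib.H6.SubtrVal
import Groth.Agent.Lib.H6.SubtrVal2

set_option linter.all false
set_option autoImplicit false
set_option backward.isDefEq.respectTransparency.types false

/-! Valuative criteria tested at a dense set of points. -/

namespace Groth.Agent.H6.ValDense

universe u

open CategoryTheory CategoryTheory.Limits AlgebraicGeometry IsLocalRing

theorem gen_apply {X : Scheme.{u}} {k : Type u} [Field k] {R : ValuationSubring k} (l : Spec (CommRingCat.of R) ⟶ X)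
    (q : Spec (CommRingCat.of k)) : (Spec.map (CommRingCat.ofHom R.subtype) ≫ l) q = l (SubtrVal.gen R) := by
  rw [Scheme.Hom.comp_apply]
  congr 1
  refine PrimeSpectrum.ext ?_
  show (q : PrimeSpectrum k).asIdeal.comap R.subtype = ⊥
  rw [show (q : PrimeSpectrum k).asIdeal = ⊥ from ((Ideal.eq_bot_or_top _).resolve_right (q : PrimeSpectrum k).2.ne_top), ← RingHom.ker_eq_comap_bot]
  exact (RingHom.injective_iff_ker_eq_bot _).1 Subtype.val_injective

/-- two morphisms from the spectrum of a valuation subring with equal closed and generic points -/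
theorem ext_of_gen {X : Scheme.{u}} {k : Type u} [Field k] {R : ValuationSubring k}
    (l₁ l₂ : Spec (CommRingCat.of R) ⟶ X)
    (hg : Spec.map (CommRingCat.ofHom R.subtype) ≫ l₁ = Spec.map (CommRingCat.ofHom R.subtype) ≫ l₂)
    (hc : l₁ (closedPoint R) = l₂ (closedPoint R)) : l₁ = l₂ := by
  obtain ⟨U, hU, hyU, -⟩ := exists_isAffineOpen_mem_and_subset (X := X) (x := l₁ (closedPoint R)) (U := ⊤) trivial
  obtain ⟨θ₁, h₁⟩ := DVRVal.exists_factor hU l₁ (DVRVal.mem_of_closed l₁ hyU)
  obtain ⟨θ₂, h₂⟩ := DVRVal.exists_factor hU l₂ (DVRVal.mem_of_closed l₂ (hc ▸ hyU))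
  have : θ₁ ≫ CommRingCat.ofHom R.subtype = θ₂ ≫ CommRingCat.ofHom R.subtype := by
    apply DVRVal.factor_unique hU
    rw [Spec.map_comp, Category.assoc, h₁, Spec.map_comp, Category.assoc, h₂, hg]
  rw [← h₁, ← h₂]
  congr 2
  ext b
  exact congrArg (fun g => g.hom b) this

/-- restriction of a valuation ring to a subfield -/
def res {k K : Type u} [Field k] [Field K] (R : Type u) [CommRing R] [IsDomain R] [ValuationRing R] [Algebra R K]
    [IsFractionRing R K] (φ : k →+* K) : ValuationSubring k where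
  __ := (algebraMap R K).range.comap φ
  mem_or_inv_mem' z := by
    rcases ValuationRing.isInteger_or_isInteger R (φ z) with ⟨r, hr⟩ | ⟨r, hr⟩
    · exact Or.inl ⟨r, hr⟩
    · exact Or.inr ⟨r, hr.trans (map_inv₀ φ z).symm⟩

variable {k K : Type u} [Field k] [Field K] {R : Type u} [CommRing R] [IsDomain R] [ValuationRing R] [Algebra R K]
  [IsFractionRing R K] (φ : k →+* K)

theorem exists_rho : ∃ ρ : res R φ →+* R, (algebraMap R K).comp ρ = φ.comp (res R φ).subtype ∧ IsLocalHom ρ := by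
  have hinj := IsFractionRing.injective R K
  choose ρ hρ using fun z : res R φ => (z.2 : (z : k) ∈ (algebraMap R K).range.comap φ)
  let ρ' : res R φ →+* R :=
    { toFun := ρ
      map_one' := hinj (by rw [hρ, map_one]; exact map_one φ)
      map_mul' := fun p q => hinj (by rw [hρ, map_mul, hρ, hρ]; exact map_mul φ _ _)
      map_zero' := hinj (by rw [hρ, map_zero]; exact map_zero φ)
      map_add' := fun p q => hinj (by rw [hρ, map_add, hρ, hρ]; exact map_add φ _ _) }
  refine ⟨ρ', RingHom.ext hρ, ⟨fun z hz => ?_⟩⟩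
  obtain ⟨v, hv⟩ := hz
  have hz0 : (z : k) ≠ 0 := fun h => by
    have h1 : algebraMap R K ↑v = 0 := by rw [hv]; exact (hρ z).trans (by rw [h, map_zero])
    exact v.ne_zero (hinj (h1.trans (map_zero _).symm))
  have hmem : (z : k)⁻¹ ∈ res R φ := ⟨↑v⁻¹, by
    rw [map_inv₀, ← hρ z]
    refine eq_inv_of_mul_eq_one_left ?_
    rw [← map_mul, show ρ z = ↑v from hv.symm, Units.inv_mul, map_one]⟩
  exact IsUnit.of_mul_eq_one (b := ⟨_, hmem⟩) (Subtype.ext (mul_inv_cancel₀ hz0))

/-- a morphism descends to the restricted valuation ring -/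
theorem descend {X : Scheme.{u}} (ρ : res R φ →+* R) (hρ : (algebraMap R K).comp ρ = φ.comp (res R φ).subtype)
    (p : Spec (CommRingCat.of k) ⟶ X) (l : Spec (CommRingCat.of R) ⟶ X)
    (h : Spec.map (CommRingCat.ofHom (algebraMap R K)) ≫ l = Spec.map (CommRingCat.ofHom φ) ≫ p) :
    ∃ l' : Spec (CommRingCat.of (res R φ)) ⟶ X,
      Spec.map (CommRingCat.ofHom (res R φ).subtype) ≫ l' = p ∧ Spec.map (CommRingCat.ofHom ρ) ≫ l' = l := by
  obtain ⟨U, hU, hyU, -⟩ := exists_isAffineOpen_mem_and_subset (X := X) (x := l (closedPoint R)) (U := ⊤) trivial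
  obtain ⟨θ, hθ⟩ := DVRVal.exists_factor hU l (DVRVal.mem_of_closed l hyU)
  have hpU : ∀ q, p q ∈ U := fun q => by
    have h1 : (Spec.map (CommRingCat.ofHom φ) ≫ p) (closedPoint K) ∈ U := by
      rw [← h, Scheme.Hom.comp_apply]
      exact DVRVal.mem_of_closed l hyU _
    rwa [Scheme.Hom.comp_apply, Subsingleton.elim (α := PrimeSpectrum k) (Spec.map (CommRingCat.ofHom φ) (closedPoint K)) q] at h1
  obtain ⟨β, hβ⟩ := DVRVal.exists_factor hU p hpU
  have hc : θ ≫ CommRingCat.ofHom (algebraMap R K) = β ≫ CommRingCat.ofHom φ := by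
    apply DVRVal.factor_unique hU
    rw [Spec.map_comp, Category.assoc, hθ, h, Spec.map_comp, Category.assoc, hβ]
  have hmem : ∀ b, β.hom b ∈ res R φ := fun b => ⟨θ.hom b, congrArg (fun g => g.hom b) hc⟩
  refine ⟨Spec.map (CommRingCat.ofHom (β.hom.codRestrict (res R φ).toSubring hmem)) ≫ hU.fromSpec, ?_, ?_⟩
  · rw [← Spec.map_comp_assoc, ← hβ]
    rfl
  · rw [← Spec.map_comp_assoc, ← hθ]
    congr 2
    ext b
    apply IsFractionRing.injective R K
    exact (RingHom.congr_fun hρ ⟨_, hmem b⟩).trans (congrArg (fun g => g.hom b) hc).symm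

/-- a valuation subring of a field over a generization, centred at a point -/
theorem exists_valuationSubring_pair {X : Scheme.{u}} {x' x : X} (h : x' ⤳ x) (L : Type u) [Field L]
    (φ : X.residueField x' ⟶ CommRingCat.of L) :
    ∃ (A : ValuationSubring L) (g : Spec (CommRingCat.of A) ⟶ X), g (closedPoint A) = x ∧
      Spec.map (CommRingCat.ofHom A.subtype) ≫ g = Spec.map φ ≫ X.fromSpecResidueField x' := by
  let r : X.presheaf.stalk x ⟶ CommRingCat.of L := X.presheaf.stalkSpecializes h ≫ X.residue x' ≫ φ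
  obtain ⟨A, hA, hloc⟩ := exists_factor_valuationRing r.hom
  let a : X.presheaf.stalk x ⟶ CommRingCat.of A := CommRingCat.ofHom (r.hom.codRestrict _ hA)
  refine ⟨A, Spec.map a ≫ X.fromSpecStalk x, ?_, ?_⟩
  · have : Spec.map a (closedPoint A) = closedPoint (X.presheaf.stalk x) :=
      comap_closedPoint (S := A) (r.hom.codRestrict A.toSubring hA)
    rw [Scheme.Hom.comp_apply, this, X.fromSpecStalk_closedPoint]
  · rw [Scheme.fromSpecResidueField, ← Scheme.SpecMap_stalkSpecializes_fromSpecStalk h]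
    simp only [← Spec.map_comp_assoc]
    congr 2

/-- lifts for valuation subrings of the residue field at a point -/
def LiftAt {X S : Scheme.{u}} (f : X ⟶ S) (d : X) : Prop :=
  ∀ (A : ValuationSubring (X.residueField d)) (y : Spec (CommRingCat.of A) ⟶ S),
    Spec.map (CommRingCat.ofHom A.subtype) ≫ y = X.fromSpecResidueField d ≫ f →
      ∃ l : Spec (CommRingCat.of A) ⟶ X, l ≫ f = y ∧ Spec.map (CommRingCat.ofHom A.subtype) ≫ l = X.fromSpecResidueField d

/-- at most one lift for valuation subrings of the residue field at a point -/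
def UniqAt {X S : Scheme.{u}} (f : X ⟶ S) (d : X) : Prop :=
  ∀ (A : ValuationSubring (X.residueField d)) (l₁ l₂ : Spec (CommRingCat.of A) ⟶ X), l₁ ≫ f = l₂ ≫ f →
    Spec.map (CommRingCat.ofHom A.subtype) ≫ l₁ = X.fromSpecResidueField d →
    Spec.map (CommRingCat.ofHom A.subtype) ≫ l₂ = X.fromSpecResidueField d → l₁ = l₂

theorem res_eq {k K : Type u} [Field k] [Field K] (R : ValuationSubring k) (ψ : k →+* K) (R'' : ValuationSubring K)
    (h : ∀ z : R, ψ z ∈ R'') (hloc : ∀ z : R, z ∈ maximalIdeal R → ψ z ∈ R''.nonunits) (z : k) (hz : ψ z ∈ R'') : z ∈ R := by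
  by_contra hn
  have hz0 : z ≠ 0 := fun h => hn (h ▸ R.zero_mem)
  have hi : z⁻¹ ∈ R := (R.mem_or_inv_mem z).resolve_left hn
  have hm : (⟨z⁻¹, hi⟩ : R) ∈ maximalIdeal R := (mem_maximalIdeal _).2 fun hu => by
    obtain ⟨v, hv⟩ := hu
    refine hn ?_
    have h1 : ((↑v⁻¹ : R) : k) * z⁻¹ = 1 := by
      rw [show z⁻¹ = ((↑v : R) : k) by rw [hv], ← MulMemClass.coe_mul, Units.inv_mul]; rfl
    have h2 : ((↑v⁻¹ : R) : k) = z := by rw [← inv_inv z]; exact eq_inv_of_mul_eq_one_left h1
    rw [← h2]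
    exact (↑v⁻¹ : R).2
  obtain ⟨h3, h4⟩ := ValuationSubring.mem_nonunits_iff_exists_mem_maximalIdeal.1 (hloc _ hm)
  refine (mem_maximalIdeal _).1 h4 (IsUnit.of_mul_eq_one (b := ⟨ψ z, hz⟩) (Subtype.ext ?_))
  show ψ z⁻¹ * ψ z = 1
  rw [← map_mul, inv_mul_cancel₀ hz0, map_one]

/-- the composite of valuation subrings -/
def compositeVS {L : Type u} [Field L] (W : ValuationSubring L) (A : ValuationSubring (ResidueField W)) :
    ValuationSubring L where
  __ := (A.toSubring.comap (residue W)).map W.subtype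
  mem_or_inv_mem' z := by
    have key : ∀ z : L, z ∈ W → z ∈ (A.toSubring.comap (residue W)).map W.subtype ∨
        z⁻¹ ∈ (A.toSubring.comap (residue W)).map W.subtype := by
      intro z hz
      by_cases hA : residue W ⟨z, hz⟩ ∈ A
      · exact Or.inl ⟨⟨z, hz⟩, hA, rfl⟩
      · have hu : IsUnit (⟨z, hz⟩ : W) := by
          by_contra h
          exact hA ((residue_eq_zero_iff _).2 ((mem_maximalIdeal _).2 h) ▸ A.zero_mem)
        obtain ⟨v, hv⟩ := hu
        refine Or.inr ⟨↑v⁻¹, ?_, ?_⟩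
        · show residue W ↑v⁻¹ ∈ A
          have : residue W ↑v⁻¹ = (residue W ⟨z, hz⟩)⁻¹ :=
            eq_inv_of_mul_eq_one_left (by rw [← map_mul, ← hv, Units.inv_mul, map_one])
          rw [this]
          exact (A.mem_or_inv_mem _).resolve_left hA
        · refine eq_inv_of_mul_eq_one_left ?_
          have h1 : ((↑v⁻¹ : W) : L) * ((↑v : W) : L) = 1 := by rw [← MulMemClass.coe_mul, Units.inv_mul]; rfl
          rw [hv] at h1
          exact h1
    rcases W.mem_or_inv_mem z with h | h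
    · exact key z h
    · exact (key z⁻¹ h).symm.imp (fun h' => by rwa [inv_inv] at h') id

theorem mem_compositeVS {L : Type u} [Field L] (W : ValuationSubring L) (A : ValuationSubring (ResidueField W)) (z : L) :
    z ∈ compositeVS W A ↔ ∃ h : z ∈ W, residue W ⟨z, h⟩ ∈ A :=
  ⟨fun ⟨w, hw, h⟩ => by obtain rfl : (w : L) = z := h; exact ⟨w.2, hw⟩, fun ⟨h, h'⟩ => ⟨⟨z, h⟩, h', rfl⟩⟩

/-- existence of lifts spreads from a dense set of points, given uniqueness there -/
theorem existence_of_points {X S : Scheme.{u}} (f : X ⟶ S) (D : Set X) (hD : ∀ x : X, ∃ d ∈ D, d ⤳ x)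
    (H₁ : ∀ d ∈ D, LiftAt f d) (H₂ : ∀ d ∈ D, UniqAt f d) : ValuativeCriterion.Existence f := by
  intro sq
  let x := sq.i₁ (closedPoint sq.K)
  obtain ⟨⟨x', φ⟩, hφ'⟩ := (Scheme.SpecToEquivOfField sq.K X).symm.surjective sq.i₁
  rw [Scheme.SpecToEquivOfField_symm_apply] at hφ'
  obtain rfl : x' = x := by
    have := congrArg (fun g : Spec (CommRingCat.of sq.K) ⟶ X => g (closedPoint sq.K)) hφ'
    simp only [Scheme.Hom.comp_apply, Scheme.fromSpecResidueField_apply] at this
    exact this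
  have hφ : Spec.map φ ≫ X.fromSpecResidueField x = sq.i₁ := hφ'
  obtain ⟨ρ, hρ, hρloc⟩ := exists_rho (R := sq.R) (K := sq.K) φ.hom
  let R' := res sq.R φ.hom
  obtain ⟨y, hy₁, hy₂⟩ := descend φ.hom ρ hρ (X.fromSpecResidueField x ≫ f) sq.i₂ (by
    rw [← sq.commSq.w, ← hφ, Category.assoc]
    rfl)
  -- reduce to the restricted ring
  suffices ∃ l : Spec (CommRingCat.of R') ⟶ X, l ≫ f = y ∧
      Spec.map (CommRingCat.ofHom R'.subtype) ≫ l = X.fromSpecResidueField x by
    obtain ⟨l, hl₁, hl₂⟩ := this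
    refine ⟨⟨⟨Spec.map (CommRingCat.ofHom ρ) ≫ l, ?_, ?_⟩⟩⟩
    · show Spec.map (CommRingCat.ofHom (algebraMap sq.R sq.K)) ≫ Spec.map (CommRingCat.ofHom ρ) ≫ l = sq.i₁
      rw [← Spec.map_comp_assoc, ← CommRingCat.ofHom_comp, hρ, ← hφ, ← hl₂, ← Spec.map_comp_assoc]
      rfl
    · show (Spec.map (CommRingCat.ofHom ρ) ≫ l) ≫ f = sq.i₂
      rw [Category.assoc, hl₁, hy₂]
  obtain ⟨d, hd, hdx⟩ := hD x
  obtain ⟨W, g, hgc, hgg⟩ := exists_valuationSubring_pair hdx (X.residueField d) (𝟙 _)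
  rw [Spec.map_id] at hgg
  erw [Category.id_comp] at hgg
  let k' := ResidueField W
  -- the map on residue fields
  let c : Spec (CommRingCat.of k') ⟶ X := Spec.map (CommRingCat.ofHom (residue W)) ≫ g
  have hcx : c (closedPoint k') = x := by
    rw [Scheme.Hom.comp_apply, show Spec.map (CommRingCat.ofHom (residue W)) (closedPoint k') = closedPoint W from
      PrimeSpectrum.comap_residue W _]
    exact hgc
  obtain ⟨⟨x'', ψ⟩, hψ'⟩ := (Scheme.SpecToEquivOfField k' X).symm.surjective c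
  rw [Scheme.SpecToEquivOfField_symm_apply] at hψ'
  obtain rfl : x'' = x := by
    have := congrArg (fun g : Spec (CommRingCat.of k') ⟶ X => g (closedPoint k')) hψ'
    simp only [Scheme.Hom.comp_apply, Scheme.fromSpecResidueField_apply] at this
    exact this.trans hcx
  have hψ : Spec.map ψ ≫ X.fromSpecResidueField x = c := hψ'
  obtain ⟨R'', hR'', hloc''⟩ := exists_factor_valuationRing (ψ.hom.comp R'.subtype)
  have hmax : ∀ z : R', z ∈ maximalIdeal R' → ψ.hom z ∈ R''.nonunits := fun z hz => by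
    let m : R' →+* R'' := (ψ.hom.comp R'.subtype).codRestrict R''.toSubring hR''
    haveI : IsLocalHom m := hloc''
    exact (ValuationSubring.mem_nonunits_iff_exists_mem_maximalIdeal).2
      ⟨hR'' z, map_nonunit m z hz⟩
  let W'' := compositeVS W R''
  obtain ⟨V, hV, hyV, -⟩ := exists_isAffineOpen_mem_and_subset (X := S) (x := y (closedPoint R')) (U := ⊤) trivial
  obtain ⟨α, hα⟩ := DVRVal.exists_factor hV y (DVRVal.mem_of_closed y hyV)
  have hgV : ∀ p, (g ≫ f) p ∈ V := by
    apply DVRVal.mem_of_closed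
    rw [Scheme.Hom.comp_apply, hgc]
    have h1 : (X.fromSpecResidueField x ≫ f) (closedPoint (X.residueField x)) ∈ V := by
      rw [← hy₁, Scheme.Hom.comp_apply]
      exact DVRVal.mem_of_closed y hyV _
    rwa [Scheme.Hom.comp_apply, Scheme.fromSpecResidueField_apply] at h1
  obtain ⟨αW, hαW⟩ := DVRVal.exists_factor hV (g ≫ f) hgV
  have hcomp : αW ≫ CommRingCat.ofHom (residue W) = (α ≫ CommRingCat.ofHom R'.subtype) ≫ ψ := by
    apply DVRVal.factor_unique hV
    rw [Spec.map_comp, Category.assoc, hαW, Spec.map_comp, Category.assoc, Spec.map_comp, Category.assoc, hα, hy₁,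
      ← Category.assoc (Spec.map ψ), hψ, Category.assoc]
  have hmem : ∀ a, (αW.hom a : X.residueField d) ∈ W'' := fun a => (mem_compositeVS _ _ _).2 ⟨(αW.hom a).2, by
    have := congrArg (fun g => g.hom a) hcomp
    show residue W (αW.hom a) ∈ R''
    rw [show residue W (αW.hom a) = ψ.hom (α.hom a).1 from this]
    exact hR'' (α.hom a)⟩
  let α'' : Γ(S, V) ⟶ CommRingCat.of W'' := CommRingCat.ofHom ((W.subtype.comp αW.hom).codRestrict W''.toSubring hmem)
  obtain ⟨l, hl₁, hl₂⟩ := H₁ d hd W'' (Spec.map α'' ≫ hV.fromSpec) (by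
    rw [← Spec.map_comp_assoc, ← hgg, Category.assoc, ← hαW, ← Spec.map_comp_assoc]
    rfl)
  have hle : ∀ z : W'', (z : X.residueField d) ∈ W := fun z => ((mem_compositeVS _ _ _).1 z.2).1
  let incl : W'' →+* W := W''.subtype.codRestrict W.toSubring hle
  have hW : Spec.map (CommRingCat.ofHom incl) ≫ l = g := by
    refine H₂ d hd W _ _ ?_ ?_ hgg
    · rw [Category.assoc, hl₁, ← hαW, ← Spec.map_comp_assoc]
      rfl
    · rw [← Spec.map_comp_assoc, ← hl₂]
      rfl
  let q : W'' →+* R'' := ((residue W).comp incl).codRestrict R''.toSubring fun z => ((mem_compositeVS _ _ _).1 z.2).2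
  -- descend from `R''` to `R'`
  let lq : Spec (CommRingCat.of R'') ⟶ X := Spec.map (CommRingCat.ofHom q) ≫ l
  have hlq : Spec.map (CommRingCat.ofHom R''.subtype) ≫ lq = Spec.map ψ ≫ X.fromSpecResidueField x := by
    rw [hψ, ← Spec.map_comp_assoc]
    show _ = Spec.map (CommRingCat.ofHom (residue W)) ≫ g
    rw [← hW, ← Spec.map_comp_assoc]
    rfl
  obtain ⟨σ, hσ, hσloc⟩ := exists_rho (R := R'') (K := k') ψ.hom
  obtain ⟨l', hl'₁, hl'₂⟩ := descend ψ.hom σ hσ (X.fromSpecResidueField x) lq hlq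
  have hR : ∀ z : R', (z : X.residueField x) ∈ res R'' ψ.hom := fun z => ⟨⟨_, hR'' z⟩, rfl⟩
  have hR2 : ∀ z : res R'' ψ.hom, (z : X.residueField x) ∈ R' := fun z => by
    obtain ⟨r, hr⟩ := (z.2 : (z : X.residueField x) ∈ (algebraMap R'' k').range.comap ψ.hom)
    refine res_eq R' ψ.hom R'' hR'' hmax z.1 ?_
    rw [← hr]
    exact r.2
  let i : res R'' ψ.hom →+* R' := (res R'' ψ.hom).subtype.codRestrict R'.toSubring hR2
  let j : R' →+* res R'' ψ.hom := R'.subtype.codRestrict (res R'' ψ.hom).toSubring hR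
  refine ⟨Spec.map (CommRingCat.ofHom i) ≫ l', ?_, ?_⟩
  · have hgen : Spec.map (CommRingCat.ofHom R'.subtype) ≫ Spec.map (CommRingCat.ofHom i) ≫ l' =
        X.fromSpecResidueField x := by rw [← Spec.map_comp_assoc, ← hl'₁]; rfl
    refine ext_of_gen _ _ (by rw [← Category.assoc, hgen, hy₁]) ?_
    haveI := hloc''
    have hcl : Spec.map (CommRingCat.ofHom i) (closedPoint R') = Spec.map (CommRingCat.ofHom σ) (closedPoint R'') := by
      haveI := hσloc
      rw [show Spec.map (CommRingCat.ofHom σ) (closedPoint R'') = closedPoint (res R'' ψ.hom) from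
        comap_closedPoint (S := R'') σ]
      haveI : IsLocalHom i := ⟨fun z hz => ?_⟩
      exact comap_closedPoint (S := R') i
      obtain ⟨v, hv⟩ := hz
      have := congrArg j (Units.mul_inv v)
      rw [map_mul, hv, map_one] at this
      refine IsUnit.of_mul_eq_one (b := j ↑v⁻¹) (Eq.trans ?_ this)
      rfl
    rw [Category.assoc, Scheme.Hom.comp_apply, hcl, ← Scheme.Hom.comp_apply, ← Category.assoc, hl'₂]
    show ((Spec.map (CommRingCat.ofHom q) ≫ l) ≫ f) (closedPoint R'') = _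
    rw [Category.assoc, hl₁, ← hα, ← Category.assoc, ← Spec.map_comp]
    have hq : α'' ≫ CommRingCat.ofHom q =
        α ≫ CommRingCat.ofHom ((ψ.hom.comp R'.subtype).codRestrict R''.toSubring hR'') := by
      ext a
      exact congrArg (fun g => g.hom a) hcomp
    rw [hq, Spec.map_comp, Category.assoc, Scheme.Hom.comp_apply]
    congr 1
    exact comap_closedPoint (S := R'') _
  · rw [← Spec.map_comp_assoc, ← hl'₁]
    rfl

/-- separatedness tested at a dense set of points -/
theorem isSeparated_of_points {X S : Scheme.{u}} (f : X ⟶ S) [QuasiSeparated f]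
    (D : Set X) (hD : ∀ x : X, ∃ d ∈ D, d ⤳ x) (H₂ : ∀ d ∈ D, UniqAt f d) : IsSeparated f := by
  refine ⟨?_⟩
  refine .of_isPreimmersion _ (isClosed_of_closure_subset fun z hz => ?_)
  obtain ⟨x, hx⟩ := SubtrVal.exists_specializes_of_mem_closure_range (pullback.diagonal f) hz
  obtain ⟨d, hd, hdx⟩ := hD x
  have hsp : pullback.diagonal f d ⤳ z := (hdx.map (pullback.diagonal f).continuous).trans hx
  obtain ⟨A, g, hgc, hgg⟩ := exists_valuationSubring_pair hsp (X.residueField d) ((pullback.diagonal f).residueFieldMap d)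
  have hg2 : Spec.map (CommRingCat.ofHom A.subtype) ≫ g = X.fromSpecResidueField d ≫ pullback.diagonal f := by
    rw [hgg]
    exact Scheme.Hom.SpecMap_residueFieldMap_fromSpecResidueField _ _
  have h12 : g ≫ pullback.fst f f = g ≫ pullback.snd f f := H₂ d hd A _ _
    (by rw [Category.assoc, Category.assoc, pullback.condition])
    (by rw [← Category.assoc, hg2, Category.assoc, pullback.diagonal_fst, Category.comp_id])
    (by rw [← Category.assoc, hg2, Category.assoc, pullback.diagonal_snd, Category.comp_id])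
  have hg : (g ≫ pullback.fst f f) ≫ pullback.diagonal f = g := by
    apply pullback.hom_ext
    · rw [Category.assoc, pullback.diagonal_fst, Category.comp_id]
    · rw [Category.assoc, pullback.diagonal_snd, Category.comp_id, h12]
  exact ⟨(g ≫ pullback.fst f f) (closedPoint A), by rw [← Scheme.Hom.comp_apply, hg, hgc]⟩

theorem uniqAt_of_isSeparated {X S : Scheme.{u}} (f : X ⟶ S) [IsSeparated f] (d : X) : UniqAt f d := by
  intro A l₁ l₂ hl h₁ h₂
  have hsq : CommSq (X.fromSpecResidueField d) (Spec.map (CommRingCat.ofHom (algebraMap A (X.residueField d)))) f (l₁ ≫ f) :=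
    ⟨by rw [← Category.assoc, ← h₁]; rfl⟩
  have := IsSeparated.valuativeCriterion f ⟨A, X.residueField d, _, _, hsq⟩
  exact congrArg CommSq.LiftStruct.l (this.elim ⟨l₁, h₁, rfl⟩ ⟨l₂, h₂, hl.symm⟩)

theorem exists_ext {k K : Type u} [Field k] [Field K] (A : ValuationSubring k) (φ : k →+* K) :
    ∃ (B : ValuationSubring K) (m : A →+* B), B.subtype.comp m = φ.comp A.subtype ∧ IsLocalHom m ∧
      ∀ z, φ z ∈ B → z ∈ A := by
  obtain ⟨B, hB, hloc⟩ := exists_factor_valuationRing (φ.comp A.subtype)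
  let m : A →+* B := (φ.comp A.subtype).codRestrict B.toSubring hB
  haveI : IsLocalHom m := hloc
  exact ⟨B, m, rfl, inferInstance, res_eq A φ B hB fun z hz =>
    (ValuationSubring.mem_nonunits_iff_exists_mem_maximalIdeal).2 ⟨hB z, map_nonunit m z hz⟩⟩

/-- a lift over an extension gives a lift over the valuation subring -/
theorem exists_lift_of_ext {X S : Scheme.{u}} (f : X ⟶ S) {k K : Type u} [Field k] [Field K] (A : ValuationSubring k)
    (φ : k →+* K) (B : ValuationSubring K) (m : A →+* B) (hm : B.subtype.comp m = φ.comp A.subtype) [IsLocalHom m]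
    (hA : ∀ z, φ z ∈ B → z ∈ A) (p : Spec (CommRingCat.of k) ⟶ X) (y : Spec (CommRingCat.of A) ⟶ S)
    (hy : Spec.map (CommRingCat.ofHom A.subtype) ≫ y = p ≫ f)
    (l : Spec (CommRingCat.of B) ⟶ X) (hl : l ≫ f = Spec.map (CommRingCat.ofHom m) ≫ y)
    (hlg : Spec.map (CommRingCat.ofHom B.subtype) ≫ l = Spec.map (CommRingCat.ofHom φ) ≫ p) :
    ∃ l' : Spec (CommRingCat.of A) ⟶ X, l' ≫ f = y ∧ Spec.map (CommRingCat.ofHom A.subtype) ≫ l' = p := by
  obtain ⟨U, hU, hyU, -⟩ := exists_isAffineOpen_mem_and_subset (X := X) (x := l (closedPoint B)) (U := ⊤) trivial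
  obtain ⟨θ, hθ⟩ := DVRVal.exists_factor hU l (DVRVal.mem_of_closed l hyU)
  have hpU : ∀ q, p q ∈ U := fun q => by
    have h1 : (Spec.map (CommRingCat.ofHom φ) ≫ p) (closedPoint K) ∈ U := by
      rw [← hlg, Scheme.Hom.comp_apply]
      exact DVRVal.mem_of_closed l hyU _
    rwa [Scheme.Hom.comp_apply, Subsingleton.elim (α := PrimeSpectrum k) (Spec.map (CommRingCat.ofHom φ) (closedPoint K)) q] at h1
  obtain ⟨β, hβ⟩ := DVRVal.exists_factor hU p hpU
  have hc : θ ≫ CommRingCat.ofHom B.subtype = β ≫ CommRingCat.ofHom φ := by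
    apply DVRVal.factor_unique hU
    rw [Spec.map_comp, Category.assoc, hθ, hlg, Spec.map_comp, Category.assoc, hβ]
  have hmem : ∀ b, β.hom b ∈ A := fun b => hA _ ((congrArg (fun g => g.hom b) hc) ▸ (θ.hom b).2)
  let l' : Spec (CommRingCat.of A) ⟶ X := Spec.map (CommRingCat.ofHom (β.hom.codRestrict A.toSubring hmem)) ≫ hU.fromSpec
  have hgen : Spec.map (CommRingCat.ofHom A.subtype) ≫ l' = p := by
    rw [← Spec.map_comp_assoc, ← hβ]
    rfl
  refine ⟨l', ext_of_gen _ _ (by rw [← Category.assoc, hgen, hy]) ?_, hgen⟩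
  have hcl : Spec.map (CommRingCat.ofHom m) (closedPoint B) = closedPoint A := comap_closedPoint (S := B) m
  have hml : Spec.map (CommRingCat.ofHom m) ≫ l' = l := by
    rw [← Spec.map_comp_assoc, ← hθ]
    congr 2
    ext b
    exact (RingHom.congr_fun hm ⟨_, hmem b⟩).trans (congrArg (fun g => g.hom b) hc).symm
  rw [← hcl, ← Scheme.Hom.comp_apply, ← Scheme.Hom.comp_apply, ← Category.assoc, hml, hl]

theorem eq_of_ext {X : Scheme.{u}} {k K : Type u} [Field k] [Field K] (A : ValuationSubring k) (B : ValuationSubring K)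
    (m : A →+* B) [IsLocalHom m] (l₁ l₂ : Spec (CommRingCat.of A) ⟶ X)
    (hg : Spec.map (CommRingCat.ofHom A.subtype) ≫ l₁ = Spec.map (CommRingCat.ofHom A.subtype) ≫ l₂)
    (h : Spec.map (CommRingCat.ofHom m) ≫ l₁ = Spec.map (CommRingCat.ofHom m) ≫ l₂) : l₁ = l₂ := by
  refine ext_of_gen _ _ hg ?_
  have hcl : Spec.map (CommRingCat.ofHom m) (closedPoint B) = closedPoint A := comap_closedPoint (S := B) m
  rw [← hcl, ← Scheme.Hom.comp_apply, ← Scheme.Hom.comp_apply, h]

/-- squares through `h : U ⟶ X` -/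
theorem atRange_of_squares {U X S : Scheme.{u}} (f : X ⟶ S) (h : U ⟶ X)
    (H : ∀ sq : ValuativeCommSq f, (∃ i : Spec (.of sq.K) ⟶ U, i ≫ h = sq.i₁) → Nonempty (Unique sq.commSq.LiftStruct))
    (u : U) : LiftAt f (h u) ∧ UniqAt f (h u) := by
  let φ := (h.residueFieldMap u).hom
  let p := X.fromSpecResidueField (h u)
  have hp : U.fromSpecResidueField u ≫ h = Spec.map (h.residueFieldMap u) ≫ p :=
    (Scheme.Hom.SpecMap_residueFieldMap_fromSpecResidueField h u).symm
  have key : ∀ (A : ValuationSubring (X.residueField (h u))) (B : ValuationSubring (U.residueField u)) (m : A →+* B),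
      B.subtype.comp m = φ.comp A.subtype →
      ∀ y : Spec (CommRingCat.of A) ⟶ S, Spec.map (CommRingCat.ofHom A.subtype) ≫ y = p ≫ f →
      CommSq (U.fromSpecResidueField u ≫ h) (Spec.map (CommRingCat.ofHom (algebraMap B (U.residueField u)))) f
        (Spec.map (CommRingCat.ofHom m) ≫ y) := fun A B m hm y hy => ⟨by
    show _ = Spec.map (CommRingCat.ofHom B.subtype) ≫ Spec.map (CommRingCat.ofHom m) ≫ y
    rw [hp, Category.assoc, ← hy, ← Spec.map_comp_assoc, ← Spec.map_comp_assoc]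
    congr 2
    ext a
    exact (RingHom.congr_fun hm a).symm⟩
  constructor
  · intro A y hy
    obtain ⟨B, m, hm, hloc, hA⟩ := exists_ext A φ
    haveI := hloc
    obtain ⟨hu⟩ := H ⟨B, U.residueField u, _, _, key A B m hm y hy⟩ ⟨U.fromSpecResidueField u, rfl⟩
    exact exists_lift_of_ext f A φ B m hm hA p y hy hu.default.l hu.default.fac_right (hu.default.fac_left.trans hp)
  · intro A l₁ l₂ hl h₁ h₂
    obtain ⟨B, m, hm, hloc, hA⟩ := exists_ext A φ
    haveI := hloc
    obtain ⟨hu⟩ := H ⟨B, U.residueField u, _, _, key A B m hm (l₁ ≫ f) (by rw [← Category.assoc, h₁])⟩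
      ⟨U.fromSpecResidueField u, rfl⟩
    have e : ∀ l : Spec (CommRingCat.of A) ⟶ X, Spec.map (CommRingCat.ofHom A.subtype) ≫ l = p →
        Spec.map (CommRingCat.ofHom (algebraMap B (U.residueField u))) ≫ Spec.map (CommRingCat.ofHom m) ≫ l =
          U.fromSpecResidueField u ≫ h := fun l hl => by
      show Spec.map (CommRingCat.ofHom B.subtype) ≫ Spec.map (CommRingCat.ofHom m) ≫ l = _
      rw [hp, ← hl, ← Spec.map_comp_assoc, ← Spec.map_comp_assoc]
      congr 2
      ext a
      exact RingHom.congr_fun hm a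
    refine eq_of_ext A B m l₁ l₂ (h₁.trans h₂.symm) ?_
    exact congrArg CommSq.LiftStruct.l ((hu.uniq ⟨_, e l₁ h₁, Category.assoc _ _ _⟩).trans
      (hu.uniq ⟨_, e l₂ h₂, (Category.assoc _ _ _).trans (congrArg _ hl.symm)⟩).symm)

end Groth.Agent.H6.ValDense
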