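import Groth.Agent.Lib.H6.DVRDom
import Mathlib.RingTheory.AlgebraicIndependent.TranscendenceBasis
import Mathlib.RingTheory.MvPolynomial.Basic
import Mathlib.RingTheory.Adjoin.Tower
import Mathlib.RingTheory.Ideal.Height
import Mathlib.FieldTheory.IntermediateField.Adjoin.Algebra
import Mathlib.FieldTheory.FinTrdeg
import Mathlib.FieldTheory.SeparableClosure

set_option linter.all false
set_option autoImplicit false

/-! Discrete valuation rings dominating Noetherian local domains. -/

namespace Groth.Agent.H6.DVRDom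

universe u

variable {R : Type u} [CommRing R] [IsDomain R] [IsNoetherianRing R] [IsLocalRing R]

theorem exists_dvr_finite (K : Type u) [Field K] [Algebra R K] [IsFractionRing R K] {L : Type u} [Field L]
    [Algebra R L] [Algebra K L] [IsScalarTower R K L] [Module.Finite K L] (hne : ¬ IsField R) :
    ∃ V : ValuationSubring L, IsDiscreteValuationRing V ∧ (∀ x : R, algebraMap R L x ∈ V) ∧
      ∀ x ∈ IsLocalRing.maximalIdeal R, algebraMap R L x ∈ V.nonunits := by
  classical
  have hinjL : Function.Injective (algebraMap R L) := by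
    rw [IsScalarTower.algebraMap_eq R K L]
    exact (algebraMap K L).injective.comp (IsFractionRing.injective R K)
  obtain ⟨V₀, hV₀, hV₀loc⟩ := IsLocalRing.exists_factor_valuationRing (algebraMap R K)
  have hV₀m : ∀ x ∈ IsLocalRing.maximalIdeal R, algebraMap R K x ∈ V₀.nonunits := fun x hx => by
    rw [show algebraMap R K x = ((⟨algebraMap R K x, hV₀ x⟩ : V₀) : K) from rfl, ValuationSubring.coe_mem_nonunits_iff,
      IsLocalRing.mem_maximalIdeal]
    exact fun hu => (IsLocalRing.mem_maximalIdeal x).1 hx (hV₀loc.map_nonunit x hu)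
  obtain ⟨s, hs⟩ := IsNoetherian.noetherian (IsLocalRing.maximalIdeal R)
  have hsne : ∃ x ∈ s, x ≠ 0 := by
    by_contra h
    push Not at h
    refine hne (IsLocalRing.isField_iff_maximalIdeal_eq.2 (eq_bot_iff.2 ?_))
    rw [← hs, Submodule.span_le]
    exact fun x hx => h x hx
  obtain ⟨x₁, hx₁, hx₁0, hmin⟩ : ∃ x₁ ∈ s, x₁ ≠ 0 ∧ ∀ y ∈ s, algebraMap R K y / algebraMap R K x₁ ∈ V₀ := by
    obtain ⟨x₀, hx₀, hx₀0⟩ := hsne
    obtain ⟨x₁, hx₁, hmax⟩ := (s.filter (· ≠ 0)).exists_max_image (fun y => V₀.valuation (algebraMap R K y))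
      ⟨x₀, Finset.mem_filter.2 ⟨hx₀, hx₀0⟩⟩
    rw [Finset.mem_filter] at hx₁
    refine ⟨x₁, hx₁.1, hx₁.2, fun y hy => ?_⟩
    by_cases hy0 : y = 0
    · simp [hy0, V₀.zero_mem]
    rw [← V₀.valuation_le_one_iff, map_div₀]
    exact div_le_one_of_le₀ (hmax y (Finset.mem_filter.2 ⟨hy, hy0⟩)) zero_le'
  have hx₁K : algebraMap R K x₁ ≠ 0 := fun h => hx₁0 (IsFractionRing.injective R K (h.trans (map_zero _).symm))
  let A : Subalgebra R K := Algebra.adjoin R ((fun y => algebraMap R K y / algebraMap R K x₁) '' (s : Set R))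
  haveI : IsNoetherianRing A := isNoetherianRing_of_fg (Subalgebra.fg_def.2 ⟨_, s.finite_toSet.image _, rfl⟩)
  have hAV : ∀ a : A, (a : K) ∈ V₀ := by
    intro a
    have : A ≤ { V₀.toSubring.toSubsemiring with algebraMap_mem' := hV₀ } := Algebra.adjoin_le (by
      rintro _ ⟨y, hy, rfl⟩
      exact hmin y hy)
    exact this a.2
  haveI : IsFractionRing A K := IsFractionRing.of_field A K fun z => by
    obtain ⟨a, b, hb, rfl⟩ := IsFractionRing.div_surjective R z
    exact ⟨algebraMap R A a, algebraMap R A b, by simp [← IsScalarTower.algebraMap_apply]⟩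
  let I : Ideal A := Ideal.span {algebraMap R A x₁}
  have hInt : I ≠ ⊤ := by
    intro h
    obtain ⟨a, ha⟩ := Ideal.mem_span_singleton'.1 (h ▸ (Submodule.mem_top : (1 : A) ∈ ⊤) : (1 : A) ∈ I)
    have h1 := hV₀m x₁ (hs ▸ Submodule.subset_span hx₁)
    rw [show algebraMap R K x₁ = ((⟨algebraMap R K x₁, hV₀ x₁⟩ : V₀) : K) from rfl, ValuationSubring.coe_mem_nonunits_iff,
      IsLocalRing.mem_maximalIdeal] at h1
    refine h1 (IsUnit.of_mul_eq_one ⟨(a : K), hAV a⟩ (Subtype.ext ?_))
    show algebraMap R K x₁ * (a : K) = 1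
    have := congrArg (Subtype.val : A → K) ha
    simpa [mul_comm, ← IsScalarTower.algebraMap_apply] using this
  obtain ⟨M, hM, hIM⟩ := I.exists_le_maximal hInt
  haveI := hM.isPrime
  obtain ⟨P, hP, -⟩ := Ideal.exists_minimalPrimes_le hIM
  haveI := hP.1.1
  have hmP : ∀ y ∈ IsLocalRing.maximalIdeal R, algebraMap R A y ∈ P := by
    intro y hy
    suffices IsLocalRing.maximalIdeal R ≤ P.comap (algebraMap R A) from this hy
    rw [← hs, Submodule.span_le]
    intro t ht
    have he : algebraMap R A t = algebraMap R A x₁ * ⟨algebraMap R K t / algebraMap R K x₁,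
        Algebra.subset_adjoin ⟨t, ht, rfl⟩⟩ := Subtype.ext (by
      show algebraMap R K t = algebraMap R K x₁ * (algebraMap R K t / algebraMap R K x₁)
      rw [mul_div_cancel₀ _ hx₁K])
    show algebraMap R A t ∈ P
    rw [he]
    exact P.mul_mem_right _ (hP.1.2 (Ideal.mem_span_singleton_self _))
  let T := Localization.AtPrime P
  have hht : P.height ≤ 1 := Ideal.height_le_one_of_isPrincipal_of_mem_minimalPrimes I P hP
  haveI : Ring.KrullDimLE 1 T := by
    rw [Ring.krullDimLE_iff, IsLocalization.AtPrime.ringKrullDim_eq_height P T]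
    exact_mod_cast hht
  letI : Algebra T K := (IsLocalization.lift (M := P.primeCompl) (S := T) (g := algebraMap A K) (fun y => by
    refine IsUnit.mk0 _ fun h => y.2 ?_
    rw [show (y : A) = 0 from Subtype.val_injective h]
    exact P.zero_mem)).toAlgebra
  haveI : IsScalarTower A T K := IsScalarTower.of_algebraMap_eq fun x => (IsLocalization.lift_eq _ x).symm
  haveI : IsFractionRing T K := IsFractionRing.isFractionRing_of_isDomain_of_isLocalization P.primeCompl T K
  letI : Algebra T L := ((algebraMap K L).comp (algebraMap T K)).toAlgebra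
  haveI : IsScalarTower T K L := IsScalarTower.of_algebraMap_eq fun x => rfl
  have hx₁P : algebraMap R A x₁ ∈ P := hP.1.2 (Ideal.mem_span_singleton_self _)
  have hTne : ¬ IsField T := by
    rw [IsLocalRing.isField_iff_maximalIdeal_eq]
    intro h
    have h2 : algebraMap A T (algebraMap R A x₁) ∈ IsLocalRing.maximalIdeal T :=
      (IsLocalization.AtPrime.to_map_mem_maximal_iff T P _).2 hx₁P
    rw [h, Submodule.mem_bot] at h2
    have h3 := congrArg (algebraMap T K) h2
    rw [map_zero, ← IsScalarTower.algebraMap_apply A T K, ← IsScalarTower.algebraMap_apply R A K] at h3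
    exact hx₁K h3
  obtain ⟨V, hTV, hTloc⟩ := IsLocalRing.exists_factor_valuationRing (algebraMap T L)
  have hTm : ∀ t ∈ IsLocalRing.maximalIdeal T, algebraMap T L t ∈ V.nonunits := fun t ht => by
    rw [show algebraMap T L t = ((⟨algebraMap T L t, hTV t⟩ : V) : L) from rfl, ValuationSubring.coe_mem_nonunits_iff,
      IsLocalRing.mem_maximalIdeal]
    exact fun hu => (IsLocalRing.mem_maximalIdeal t).1 ht (hTloc.map_nonunit t hu)
  have he : ∀ x : R, algebraMap R L x = algebraMap T L (algebraMap A T (algebraMap R A x)) := fun x => by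
    show _ = algebraMap K L (algebraMap T K _)
    rw [← IsScalarTower.algebraMap_apply A T K, ← IsScalarTower.algebraMap_apply R A K, ← IsScalarTower.algebraMap_apply]
  refine ⟨V, isDiscreteValuationRing_of_dominates K V hTV hTm hTne, fun x => he x ▸ hTV _, fun x hx => ?_⟩
  rw [he]
  exact hTm _ ((IsLocalization.AtPrime.to_map_mem_maximal_iff T P _).2 (hmP x hx))

/-- a Noetherian local domain, not a field, is dominated by a DVR in any finitely generated extension -/
theorem exists_dvr (K : Type u) [Field K] [Algebra R K] [IsFractionRing R K] (L : Type u) [Field L]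
    [Algebra R L] [Algebra K L] [IsScalarTower R K L] [Algebra.EssFiniteType K L] (hne : ¬ IsField R) :
    ∃ V : ValuationSubring L, IsDiscreteValuationRing V ∧ (∀ x : R, algebraMap R L x ∈ V) ∧
      ∀ x ∈ IsLocalRing.maximalIdeal R, algebraMap R L x ∈ V.nonunits := by
  classical
  haveI : FinTrdeg K L := inferInstance
  obtain ⟨s, hs⟩ := exists_finset_isTranscendenceBasis K L
  let P := MvPolynomial s R
  let ψ : P →+* IsLocalRing.ResidueField R := (IsLocalRing.residue R).comp MvPolynomial.constantCoeff
  let p : Ideal P := RingHom.ker ψ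
  haveI : p.IsPrime := RingHom.ker_isPrime ψ
  let φ : P →ₐ[R] L := MvPolynomial.aeval (fun i : s => (i : L))
  have hφ : Function.Injective φ :=
    hs.1.restrictScalars (IsFractionRing.injective R K)
  let T := Localization.AtPrime p
  haveI : IsNoetherianRing T := IsLocalization.isNoetherianRing p.primeCompl T inferInstance
  let ρ : T →+* L := IsLocalization.lift (M := p.primeCompl) (S := T) (g := φ.toRingHom) (fun y => by
    refine IsUnit.mk0 _ fun h => y.2 ?_
    rw [show (y : P) = 0 from hφ (h.trans (map_zero φ).symm)]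
    exact p.zero_mem)
  have hρ : ∀ x : P, ρ (algebraMap P T x) = φ x := fun x => IsLocalization.lift_eq _ x
  letI : Algebra T L := ρ.toAlgebra
  have hρinj : Function.Injective ρ := by
    rw [RingHom.injective_iff_ker_eq_bot, eq_bot_iff]
    intro t ht
    obtain ⟨a, b, rfl⟩ := IsLocalization.exists_mk'_eq p.primeCompl t
    rw [Submodule.mem_bot]
    have h0 : ρ (algebraMap P T a) = 0 := by
      rw [← IsLocalization.mk'_spec T a b, map_mul, RingHom.mem_ker.1 ht, zero_mul]
    rw [hρ] at h0
    rw [show a = 0 from hφ (h0.trans (map_zero φ).symm), IsLocalization.mk'_zero]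
  haveI : FaithfulSMul T L := (faithfulSMul_iff_algebraMap_injective T L).2 hρinj
  have hTne : ¬ IsField T := by
    obtain ⟨a, ha, ha0⟩ := Submodule.exists_mem_ne_zero_of_ne_bot
      (fun h => hne (IsLocalRing.isField_iff_maximalIdeal_eq.2 h) : IsLocalRing.maximalIdeal R ≠ ⊥)
    rw [IsLocalRing.isField_iff_maximalIdeal_eq]
    intro h
    have h2 : algebraMap P T (MvPolynomial.C a) ∈ IsLocalRing.maximalIdeal T :=
      (IsLocalization.AtPrime.to_map_mem_maximal_iff T p _).2 (by
        show ψ (MvPolynomial.C a) = 0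
        show IsLocalRing.residue R (MvPolynomial.constantCoeff (MvPolynomial.C a)) = 0
        rw [MvPolynomial.constantCoeff_C]
        exact (IsLocalRing.residue_eq_zero_iff a).2 ha)
    rw [h, Submodule.mem_bot] at h2
    have h3 := congrArg ρ h2
    rw [hρ, map_zero, MvPolynomial.aeval_C] at h3
    apply ha0
    apply IsFractionRing.injective R K
    apply (algebraMap K L).injective
    rw [← IsScalarTower.algebraMap_apply, h3, map_zero, map_zero]
  let K' := FractionRing T
  letI : Algebra K' L := (IsFractionRing.lift (A := T) (K := K') hρinj).toAlgebra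
  haveI : IsScalarTower T K' L := IsScalarTower.of_algebraMap_eq fun x => (IsFractionRing.lift_algebraMap _ x).symm
  let F : Subfield L := (algebraMap K' L).fieldRange
  have hsub : ∀ x ∈ IntermediateField.adjoin K (s : Set L), x ∈ F := by
    intro x hx
    induction hx using IntermediateField.adjoin_induction with
    | mem x hx => exact ⟨algebraMap T K' (algebraMap P T (MvPolynomial.X ⟨x, hx⟩)), by
        rw [← IsScalarTower.algebraMap_apply]; exact (hρ _).trans (MvPolynomial.aeval_X _ _)⟩
    | algebraMap k =>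
      obtain ⟨a, b, hb, rfl⟩ := IsFractionRing.div_surjective R k
      rw [map_div₀]
      refine F.div_mem ⟨algebraMap T K' (algebraMap P T (MvPolynomial.C a)), ?_⟩
        ⟨algebraMap T K' (algebraMap P T (MvPolynomial.C b)), ?_⟩
      all_goals
        rw [← IsScalarTower.algebraMap_apply R K L, ← IsScalarTower.algebraMap_apply T K' L]
        exact (hρ _).trans (MvPolynomial.aeval_C _ _)
    | add x y _ _ hx hy => exact F.add_mem hx hy
    | inv x _ hx => exact F.inv_mem hx
    | mul x y _ _ hx hy => exact F.mul_mem hx hy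
  haveI : Module.Finite (IntermediateField.adjoin K (s : Set L)) L := by
    apply +allowSynthFailures Algebra.finite_of_essFiniteType_of_isAlgebraic
    · exact .of_comp K _ _
    · convert! hs.isAlgebraic_field <;> simp
  haveI : Module.Finite K' L := by
    obtain ⟨t, ht⟩ := Module.Finite.fg_top (R := IntermediateField.adjoin K (s : Set L)) (M := L)
    refine ⟨⟨t, ?_⟩⟩
    rw [Submodule.eq_top_iff']
    intro x
    have hx : x ∈ Submodule.span (IntermediateField.adjoin K (s : Set L)) (t : Set L) := ht ▸ trivial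
    induction hx using Submodule.span_induction with
    | mem y hy => exact Submodule.subset_span hy
    | zero => exact Submodule.zero_mem _
    | add y z _ _ hy hz => exact Submodule.add_mem _ hy hz
    | smul r y _ hy =>
      obtain ⟨k, hk⟩ := hsub r r.2
      rw [show r • y = k • y by
        rw [Algebra.smul_def, Algebra.smul_def, hk]
        rfl]
      exact Submodule.smul_mem _ k hy
  obtain ⟨V, hV, hT, hm⟩ := exists_dvr_finite (R := T) K' (L := L) hTne
  have he : ∀ x : R, algebraMap R L x = algebraMap T L (algebraMap P T (MvPolynomial.C x)) := fun x =>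
    ((hρ _).trans (MvPolynomial.aeval_C _ _)).symm
  refine ⟨V, hV, fun x => he x ▸ hT _, fun x hx => ?_⟩
  rw [he]
  refine hm _ ((IsLocalization.AtPrime.to_map_mem_maximal_iff T p _).2 ?_)
  show ψ (MvPolynomial.C x) = 0
  show IsLocalRing.residue R (MvPolynomial.constantCoeff (MvPolynomial.C x)) = 0
  rw [MvPolynomial.constantCoeff_C]
  exact (IsLocalRing.residue_eq_zero_iff x).2 hx

end Groth.Agent.H6.DVRDom
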