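import Mathlib

/-! Reducedness of flat algebras with reduced fibres over a reduced base. -/

set_option autoImplicit false

open TensorProduct

universe u

namespace Groth.Agent.H6.RedFlat

theorem exists_mul_eq_zero_of_isNilpotent {A B : Type u} [CommRing A] [CommRing B] [Algebra A B]
    [IsNoetherianRing A] [Module.Flat A B] (q : Ideal B) [q.IsPrime] (L : Type u) [CommRing L]
    [Algebra A L] [IsLocalization.AtPrime L (q.comap (algebraMap A B))] [IsReduced L]
    (hf : ∀ p : Ideal A, p.IsPrime → ∃ (K : Type u) (_ : CommRing K) (_ : Algebra A K),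
      RingHom.ker (algebraMap A K) = p ∧ IsReduced (B ⊗[A] K))
    {b : B} (hb : IsNilpotent b) : ∃ c ∉ q, c * b = 0 := by
  classical
  let S : Set (Ideal A) := {p | p ∈ minimalPrimes A ∧ p ≤ q.comap (algebraMap A B)}
  have hS : S.Finite := (minimalPrimes.finite_of_isNoetherianRing A).subset fun p hp => hp.1
  haveI : Fintype S := hS.fintype
  choose K iK iA hker hred using fun p : S => hf p.1 p.2.1.1.1
  let ψ : A →ₐ[A] (∀ p : S, K p) := AlgHom.pi fun p => Algebra.ofId A (K p)
  let J : Ideal A := RingHom.ker ψ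
  have hJ : ∀ a ∈ J, ∃ s ∉ q.comap (algebraMap A B), s * a = 0 := by
    intro a ha
    have hnil : IsNilpotent (algebraMap A L a) := nilpotent_iff_mem_prime.2 fun P hP => by
      obtain ⟨p, hp, hpP⟩ := Ideal.exists_minimalPrimes_le (bot_le (a := P.comap (algebraMap A L)))
      have hle : P.comap (algebraMap A L) ≤ q.comap (algebraMap A B) :=
        ((IsLocalization.AtPrime.orderIsoOfPrime L (q.comap (algebraMap A B))) ⟨P, hP⟩).2.2
      refine (Ideal.mem_comap (f := algebraMap A L)).1 (hpP ?_)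
      exact (hker ⟨p, hp, hpP.trans hle⟩).le (RingHom.mem_ker.2 (congrFun ha _))
    obtain ⟨s, hs⟩ := (IsLocalization.map_eq_zero_iff (q.comap (algebraMap A B)).primeCompl L a).1
      hnil.eq_zero
    exact ⟨s.1, s.2, hs⟩
  have h1 : b ⊗ₜ[A] (1 : A ⧸ J) = 0 := by
    let ψ' : (A ⧸ J) →ₐ[A] (∀ p : S, K p) := Ideal.kerLiftAlg ψ
    refine Module.Flat.lTensor_preserves_injective_linearMap (M := B) ψ'.toLinearMap
      (Ideal.kerLiftAlg_injective ψ) ?_
    rw [map_zero, LinearMap.lTensor_tmul]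
    apply (Algebra.TensorProduct.piRight A A B fun p : S => K p).injective
    rw [map_zero]
    funext p
    have hn : IsNilpotent (Algebra.TensorProduct.includeLeft (R := A) (S := A) (B := K p) b) := hb.map _
    have := hn.eq_zero
    simpa using this
  have h2 : b ∈ J.map (algebraMap A B) := by
    rw [← Ideal.Quotient.eq_zero_iff_mem]
    apply (Algebra.TensorProduct.quotIdealMapEquivTensorQuot B J).injective
    rw [map_zero, Algebra.TensorProduct.quotIdealMapEquivTensorQuot_mk]
    exact h1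
  clear hb h1
  refine Submodule.span_induction (p := fun x _ => ∃ c ∉ q, c * x = 0) ?_ ⟨1, (q.ne_top_iff_one).1 (Ideal.IsPrime.ne_top'), by simp⟩ ?_ ?_ h2
  · rintro _ ⟨a, ha, rfl⟩
    obtain ⟨s, hs, hsa⟩ := hJ a ha
    exact ⟨algebraMap A B s, hs, by rw [← map_mul, hsa, map_zero]⟩
  · rintro x y _ _ ⟨c, hc, hcx⟩ ⟨d, hd, hdy⟩
    exact ⟨c * d, Ideal.IsPrime.mul_notMem ‹_› hc hd,
      by rw [mul_add, mul_right_comm, hcx, mul_assoc, hdy]; simp⟩
  · rintro r x _ ⟨c, hc, hcx⟩
    exact ⟨c, hc, by rw [smul_eq_mul, mul_left_comm, hcx, mul_zero]⟩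

end Groth.Agent.H6.RedFlat
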