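import Mathlib
/-! Elementary topological facts on schemes. -/
set_option autoImplicit false
set_option linter.all false
universe u v
open CategoryTheory Limits AlgebraicGeometry TopologicalSpace

namespace Groth.Agent.H6

-- zero dim
theorem spec_t2 (R : Type u) [CommRing R] [T1Space (PrimeSpectrum R)] : T2Space (PrimeSpectrum R) := by
  refine ⟨fun p q hpq => ?_⟩
  have hne : ¬ p.asIdeal ≤ q.asIdeal := fun h => hpq (specializes_iff_eq.mp ((PrimeSpectrum.le_iff_specializes p q).mp h))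
  obtain ⟨f, hfp, hfq⟩ := SetLike.not_le_iff_exists.mp hne
  have hnil : ∃ s : R, s ∉ p.asIdeal ∧ ∃ n : ℕ, s * f ^ n = 0 := by
    by_contra hc
    push_neg at hc
    have hd : Disjoint ((⊥ : Ideal R) : Set R) ((p.asIdeal.primeCompl ⊔ Submonoid.powers f : Submonoid R) : Set R) := by
      rw [Set.disjoint_left]
      rintro x hx hxS
      obtain ⟨s, hs, t, ⟨n, rfl⟩, rfl⟩ := Submonoid.mem_sup.mp hxS
      exact hc s hs n hx
    obtain ⟨P, hP, -, hPd⟩ := Ideal.exists_le_prime_disjoint _ _ hd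
    have hle : P ≤ p.asIdeal := fun x hx => by
      by_contra hxp
      exact Set.disjoint_left.mp hPd hx (Submonoid.mem_sup_left hxp)
    have : (⟨P, hP⟩ : PrimeSpectrum R) = p :=
      specializes_iff_eq.mp ((PrimeSpectrum.le_iff_specializes ⟨P, hP⟩ p).mp hle)
    subst this
    exact Set.disjoint_left.mp hPd hfp (Submonoid.mem_sup_right ⟨1, pow_one f⟩)
  obtain ⟨s, hs, n, hn⟩ := hnil
  refine ⟨_, _, (PrimeSpectrum.basicOpen s).2, (PrimeSpectrum.basicOpen f).2, hs, hfq, ?_⟩
  rw [Set.disjoint_left]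
  intro x hxs hxf
  have : s * f ^ n ∈ x.asIdeal := hn ▸ zero_mem _
  exact (x.isPrime.mem_or_mem this).elim hxs (fun h => hxf (x.isPrime.mem_of_pow_mem n h))

theorem scheme_t1_of_dim (X : Scheme.{u}) (h : topologicalKrullDim X ≤ 0) : T1Space X := by
  refine ⟨fun x => ?_⟩
  rw [← closure_subset_iff_isClosed]
  intro y hy
  have hyx : x ⤳ y := specializes_iff_mem_closure.mpr hy
  by_contra hne
  have h0 := Order.krullDim_nonpos_iff_forall_isMin.mp h
  let a : IrreducibleCloseds X := ⟨closure {x}, isIrreducible_singleton.closure, isClosed_closure⟩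
  let b : IrreducibleCloseds X := ⟨closure {y}, isIrreducible_singleton.closure, isClosed_closure⟩
  have hab : b ≤ a := hyx.closure_subset
  have := h0 a hab
  exact hne ((hyx.antisymm (specializes_iff_mem_closure.mpr (this (subset_closure rfl)))).eq.symm)

theorem affineOpen_t2 (X : Scheme.{u}) [T1Space X] (U : X.affineOpens) : T2Space ↥(U.1 : Set X) := by
  let e := (U.2.isoSpec).hom.homeomorph
  haveI : T1Space (U.1 : Scheme.{u}) := inferInstanceAs (T1Space ↥(U.1 : Set X))
  haveI : T1Space (PrimeSpectrum Γ(X, U.1)) := e.t1Space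
  haveI : T2Space (Spec Γ(X, U.1)) := spec_t2 Γ(X, U.1)
  exact e.symm.t2Space

theorem t2_of_qs (X : Scheme.{u}) [QuasiSeparatedSpace X] [T1Space X] : T2Space X := by
  have hcl : ∀ U : X.affineOpens, IsClosed (U.1 : Set X) := fun U => by
    rw [TopologicalSpace.IsOpenCover.isClosed_iff_coe_preimage (U := fun U : X.affineOpens => (U : X.Opens)) (iSup_affineOpens_eq_top X)]
    intro V
    haveI := affineOpen_t2 X V
    refine IsCompact.isClosed ?_
    rw [Subtype.isCompact_iff]
    erw [Subtype.image_preimage_coe]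
    exact (quasiSeparatedSpace_iff _).mp inferInstance _ _ V.1.2 V.2.isCompact U.1.2 U.2.isCompact
  refine ⟨fun x y hxy => ?_⟩
  obtain ⟨_, ⟨U, hU, rfl⟩, hxU, -⟩ := X.isBasis_affineOpens.exists_subset_of_mem_open (Set.mem_univ x) isOpen_univ
  by_cases hy : y ∈ U
  · haveI := affineOpen_t2 X ⟨U, hU⟩
    obtain ⟨a, b, ha, hb, hxa, hyb, hd⟩ := t2_separation (X := ↥(U : Set X)) (x := ⟨x, hxU⟩) (y := ⟨y, hy⟩) (fun e => hxy (congrArg Subtype.val e))
    exact ⟨_, _, U.2.isOpenMap_subtype_val a ha, U.2.isOpenMap_subtype_val b hb, ⟨_, hxa, rfl⟩, ⟨_, hyb, rfl⟩,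
      (Set.disjoint_image_iff Subtype.val_injective).mpr hd⟩
  · exact ⟨_, _, U.2, (hcl ⟨U, hU⟩).isOpen_compl, hxU, hy, disjoint_compl_right⟩

theorem sep_of_t2 (X : Scheme.{u}) [T2Space X] : X.IsSeparated := by
  constructor
  set f := terminal.from X
  constructor
  haveI : IsImmersion (pullback.diagonal f) := inferInstance
  refine IsClosedImmersion.of_isPreimmersion _ ?_
  rw [← isOpen_compl_iff, isOpen_iff_forall_mem_open]
  intro z hz
  let p := pullback.fst f f
  let q := pullback.snd f f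
  by_cases hpq : p z = q z
  · obtain ⟨U, hU, hxU, -⟩ := exists_isAffineOpen_mem_and_subset (x := p z) (U := ⊤) trivial
    haveI : IsAffine U := hU
    let i := pullback.map (U.ι ≫ f) (U.ι ≫ f) f f U.ι U.ι (𝟙 _) (by simp) (by simp)
    have hzr : z ∈ Set.range i := by
      rw [Scheme.Pullback.range_map]
      simp only [Scheme.Opens.range_ι]
      refine ⟨hxU, ?_⟩
      show q z ∈ U
      rw [← hpq]; exact hxU
    obtain ⟨w, rfl⟩ := hzr
    haveI : IsOpenImmersion i := inferInstance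
    have hclU : IsClosed (Set.range (pullback.diagonal (U.ι ≫ f))) :=
      (pullback.diagonal (U.ι ≫ f)).isClosedEmbedding.isClosed_range
    refine ⟨i '' (Set.range (pullback.diagonal (U.ι ≫ f)))ᶜ, ?_, i.isOpenEmbedding.isOpenMap _ hclU.isOpen_compl, ⟨w, ?_, rfl⟩⟩
    · rintro _ ⟨v, hv, rfl⟩ ⟨a, ha⟩
      have hp' : (i ≫ p) = pullback.fst _ _ ≫ U.ι := pullback.lift_fst _ _ _
      have ha1 : a = U.ι (pullback.fst (U.ι ≫ f) (U.ι ≫ f) v) := by
        have := congrArg p ha
        rw [show p (pullback.diagonal f a) = a from congrArg (fun k : X ⟶ X => k a) (pullback.diagonal_fst f)] at this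
        exact this.trans (congrArg (fun k : pullback (U.ι ≫ f) (U.ι ≫ f) ⟶ X => k v) hp')
      have hd : pullback.diagonal (U.ι ≫ f) ≫ i = U.ι ≫ pullback.diagonal f := by
        apply pullback.hom_ext <;> (simp only [Category.assoc]; first | (erw [pullback.lift_fst, pullback.diagonal_fst, ← Category.assoc, pullback.diagonal_fst]; simp) | (erw [pullback.lift_snd, pullback.diagonal_snd, ← Category.assoc, pullback.diagonal_snd]; simp))
      subst ha1
      refine hv ⟨pullback.fst (U.ι ≫ f) (U.ι ≫ f) v, i.isOpenEmbedding.injective ?_⟩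
      exact (congrArg (fun k : U.toScheme ⟶ pullback f f => k _) hd).trans ha
    · rintro ⟨a, rfl⟩
      apply hz
      refine ⟨U.ι a, ?_⟩
      have : pullback.diagonal (U.ι ≫ f) ≫ i = U.ι ≫ pullback.diagonal f := by
        apply pullback.hom_ext <;> (simp only [Category.assoc]; first | (erw [pullback.lift_fst, pullback.diagonal_fst, ← Category.assoc, pullback.diagonal_fst]; simp) | (erw [pullback.lift_snd, pullback.diagonal_snd, ← Category.assoc, pullback.diagonal_snd]; simp))
      exact (congrArg (fun k : U.toScheme ⟶ pullback f f => k a) this).symm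
  · refine ⟨{w | p w ≠ q w}, ?_, isOpen_ne_fun p.continuous q.continuous, hpq⟩
    rintro _ hw ⟨a, rfl⟩
    apply hw
    simp [p, q, ← Scheme.Hom.comp_apply]

theorem nil_nilp (X : Scheme.{u}) [AlgebraicGeometry.IsNoetherian X] : IsNilpotent X.nilradical := by
  obtain ⟨s, hs, hsX⟩ := (isCompact_iff_finite_and_eq_biUnion_affineOpens (U := (⊤ : X.Opens))).mp CompactSpace.isCompact_univ
  have hN : ∀ U : X.affineOpens, IsNilpotent (nilradical Γ(X, U.1)) := fun U => by
    haveI : IsNoetherianRing Γ(X, U.1) := IsLocallyNoetherian.component_noetherian U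
    exact IsNoetherianRing.isNilpotent_nilradical _
  choose n hn using hN
  haveI := hs.fintype
  refine ⟨(Finset.univ.sum fun U : s => n U) + 1, le_antisymm ?_ bot_le⟩
  refine Scheme.IdealSheafData.le_of_iSup_eq_top (fun U : s => (U : X.affineOpens)) (by rw [iSup_subtype]; exact hsX.symm) fun U => ?_
  have hle : n U ≤ (Finset.univ.sum fun U : s => n U) + 1 := (Finset.single_le_sum (f := fun U : s => n U) (fun i _ => Nat.zero_le _) (Finset.mem_univ U)).trans (Nat.le_succ _)
  show ((X.nilradical ^ _).ideal) _ ≤ (⊥ : X.IdealSheafData).ideal _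
  simp only [Scheme.IdealSheafData.ideal_pow, Pi.pow_apply, Scheme.IdealSheafData.ideal_bot, Pi.bot_apply]
  exact (Ideal.pow_le_pow_right hle).trans (hn U).le

theorem wf (X : Scheme.{u}) [AlgebraicGeometry.IsNoetherian X] : WellFoundedGT X.IdealSheafData := by
  obtain ⟨s, hs, hsX⟩ := (isCompact_iff_finite_and_eq_biUnion_affineOpens (U := (⊤ : X.Opens))).mp CompactSpace.isCompact_univ
  haveI := hs.fintype
  haveI : ∀ U : s, WellFoundedGT (Ideal Γ(X, (U : X.affineOpens).1)) := fun U =>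
    (isNoetherianRing_iff.trans isNoetherian_iff').mp (IsLocallyNoetherian.component_noetherian _)
  let F : X.IdealSheafDataᵒᵈ → ∀ U : s, (Ideal Γ(X, (U : X.affineOpens).1))ᵒᵈ := fun I U => OrderDual.toDual ((OrderDual.ofDual I).ideal U)
  haveI : ∀ U : s, WellFoundedLT (Ideal Γ(X, (U : X.affineOpens).1))ᵒᵈ := fun U => inferInstance
  have h : WellFoundedLT X.IdealSheafDataᵒᵈ := by
    refine StrictMono.wellFoundedLT (f := F) fun I J hlt => ?_
    refine lt_of_le_of_ne (fun U => hlt.le _) fun e => hlt.ne ?_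
    exact Scheme.IdealSheafData.ext_of_iSup_eq_top (fun U : s => (U : X.affineOpens)) (by rw [iSup_subtype]; exact hsX.symm) (fun U => congrFun e U)
  exact ⟨h.wf⟩

theorem gen_of_open {X Y : Scheme.{u}} (f : X ⟶ Y) (hf : IsOpenMap f.base) : GeneralizingMap f.base := by
  intro x y' hy
  obtain ⟨V, hV, hxV, -⟩ := exists_isAffineOpen_mem_and_subset (x := f x) (U := ⊤) trivial
  obtain ⟨U, hU, hxU, hUV⟩ := exists_isAffineOpen_mem_and_subset (x := x) (U := f ⁻¹ᵁ V) hxV
  let φ := f.appLE V U hUV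
  have hcomm : ∀ a, f (hU.fromSpec a) = hV.fromSpec (Spec.map φ a) := fun a => by
    exact (congrArg (fun k : Spec Γ(X, U) ⟶ Y => k a) (hV.SpecMap_appLE_fromSpec f hU hUV)).symm
  have hyV : y' ∈ V := hy.mem_open V.2 hxV
  obtain ⟨q, rfl⟩ : x ∈ Set.range hU.fromSpec := by rw [hU.range_fromSpec]; exact hxU
  obtain ⟨p', rfl⟩ : y' ∈ Set.range hV.fromSpec := by rw [hV.range_fromSpec]; exact hyV
  rw [hcomm] at hy
  have hle : p'.asIdeal ≤ Ideal.comap φ.hom q.asIdeal :=
    (PrimeSpectrum.le_iff_specializes p' (Spec.map φ q)).mpr (hV.fromSpec.isOpenEmbedding.isInducing.specializes_iff.mp hy)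
  haveI : q.asIdeal.IsPrime := q.isPrime
  haveI : p'.asIdeal.IsPrime := p'.isPrime
  let S : Submonoid Γ(X, U) := q.asIdeal.primeCompl ⊔ p'.asIdeal.primeCompl.map φ.hom
  have hd : Disjoint ((p'.asIdeal.map φ.hom : Ideal Γ(X, U)) : Set Γ(X, U)) (S : Set Γ(X, U)) := by
    rw [Set.disjoint_left]
    intro b hb hbS
    obtain ⟨g, hg, h', ⟨a, ha, rfl⟩, rfl⟩ := Submonoid.mem_sup.mp hbS
    let W : Set Y := f '' (hU.fromSpec '' (PrimeSpectrum.basicOpen g : Set (PrimeSpectrum Γ(X, U))))
    have hW : IsOpen W := hf _ (hU.fromSpec.isOpenEmbedding.isOpenMap _ (PrimeSpectrum.basicOpen g).2)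
    have hmem : hV.fromSpec p' ∈ W := hy.mem_open hW ⟨_, ⟨q, hg, rfl⟩, hcomm q⟩
    obtain ⟨_, ⟨r, hr, rfl⟩, hr'⟩ := hmem
    rw [hcomm] at hr'
    have hrp : Spec.map φ r = p' := hV.fromSpec.isOpenEmbedding.injective hr'
    have hrc : Ideal.comap φ.hom r.asIdeal = p'.asIdeal := congrArg PrimeSpectrum.asIdeal hrp
    have hmap : p'.asIdeal.map φ.hom ≤ r.asIdeal := Ideal.map_le_iff_le_comap.mpr hrc.ge
    rcases r.isPrime.mem_or_mem (hmap hb) with h1 | h2
    · exact hr h1
    · exact ha (hrc.le h2)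
  obtain ⟨P, hP, hle', hPd⟩ := Ideal.exists_le_prime_disjoint _ _ hd
  refine ⟨hU.fromSpec ⟨P, hP⟩, ?_, ?_⟩
  · refine Specializes.map ?_ hU.fromSpec.continuous
    refine (PrimeSpectrum.le_iff_specializes ⟨P, hP⟩ q).mp fun z hz => ?_
    by_contra hzq
    exact Set.disjoint_left.mp hPd hz (Submonoid.mem_sup_left hzq)
  · refine (hcomm _).trans (congrArg _ ?_)
    refine PrimeSpectrum.ext (le_antisymm (fun a ha => ?_) (fun a ha => hle' (Ideal.mem_map_of_mem _ ha)))
    by_contra hap
    exact Set.disjoint_left.mp hPd ha (Submonoid.mem_sup_right ⟨a, hap, rfl⟩)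

end Groth.Agent.H6
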