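import Mathlib
import Groth.Agent.Lib.H6.Top
import Groth.Agent.Lib.H6.Misc
set_option autoImplicit false
set_option linter.all false
universe u v
open CategoryTheory Limits AlgebraicGeometry TopologicalSpace TensorProduct

namespace Groth.Agent.H6

theorem flat_fromSpecStalk (Y : Scheme.{u}) (y : Y) : Flat (Y.fromSpecStalk y) := by
  obtain ⟨U, hU, hy, -⟩ := exists_isAffineOpen_mem_and_subset (x := y) (U := ⊤) trivial
  rw [← hU.fromSpecStalk_eq_fromSpecStalk hy]
  letI : Algebra Γ(Y, U) (Y.presheaf.stalk y) := (Y.presheaf.germ U y hy).hom.toAlgebra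
  haveI := hU.isLocalization_stalk ⟨y, hy⟩
  haveI : Flat (Spec.map (Y.presheaf.germ U y hy)) :=
    Flat.SpecMap_iff.mpr (IsLocalization.flat (Y.presheaf.stalk y) (hU.primeIdealOf ⟨y, hy⟩).asIdeal.primeCompl)
  exact inferInstanceAs (Flat (Spec.map (Y.presheaf.germ U y hy) ≫ hU.fromSpec))

theorem iso_stalk_fst {X Y : Scheme.{u}} (f : X ⟶ Y) (y : Y) (t : ↑(pullback f (Y.fromSpecStalk y))) : IsIso ((pullback.fst f (Y.fromSpecStalk y)).stalkMap t) := by
  haveI := flat_fromSpecStalk Y y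
  set g := pullback.fst f (Y.fromSpecStalk y)
  haveI : IsPreimmersion g := inferInstance
  haveI : Flat g := inferInstance
  rw [ConcreteCategory.isIso_iff_bijective]
  refine ⟨?_, g.stalkMap_surjective t⟩
  letI := (g.stalkMap t).hom.toAlgebra
  haveI : Module.Flat (X.presheaf.stalk (g t)) ((pullback f (Y.fromSpecStalk y)).presheaf.stalk t) := Flat.stalkMap g t
  haveI : IsLocalHom (algebraMap (X.presheaf.stalk (g t)) ((pullback f (Y.fromSpecStalk y)).presheaf.stalk t)) := inferInstanceAs (IsLocalHom (g.stalkMap t).hom)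
  haveI := Module.FaithfullyFlat.of_flat_of_isLocalHom (A := X.presheaf.stalk (g t)) (B := (pullback f (Y.fromSpecStalk y)).presheaf.stalk t)
  exact FaithfulSMul.algebraMap_injective (X.presheaf.stalk (g t)) ((pullback f (Y.fromSpecStalk y)).presheaf.stalk t)

theorem pre_eq {T T' : Scheme.{u}} (p : T' ⟶ T) (U' : Set T') : (∃ U : Set T, p.base ⁻¹' U = U') ↔ (pullback.fst p p).base ⁻¹' U' = (pullback.snd p p).base ⁻¹' U' := by
  constructor
  · rintro ⟨U, rfl⟩
    ext z
    have : p (pullback.fst p p z) = p (pullback.snd p p z) := congrArg (fun k : pullback p p ⟶ T => k z) pullback.condition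
    show p (pullback.fst p p z) ∈ U ↔ p (pullback.snd p p z) ∈ U
    rw [this]
  · intro h
    refine ⟨p '' U', Set.Subset.antisymm ?_ (Set.subset_preimage_image _ _)⟩
    rintro a ⟨b, hb, hab⟩
    obtain ⟨z, hz1, hz2⟩ := Scheme.Pullback.exists_preimage_pullback (f := p) (g := p) b a hab
    have : z ∈ (pullback.fst p p).base ⁻¹' U' := by show pullback.fst p p z ∈ U'; rw [hz1]; exact hb
    rw [h] at this
    rw [← hz2]; exact this

theorem inj_desc : MorphismProperty.DescendsAlong (topologically (fun f => Function.Injective f)) (@Surjective : MorphismProperty Scheme.{u}) := by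
  refine ⟨fun {A X Y Z fst snd f g} h hf hfst => ?_⟩
  intro a b hab
  haveI : Surjective f := hf
  obtain ⟨x, hx⟩ := f.surjective (g a)
  obtain ⟨p, hp1, hp2⟩ := Scheme.exists_preimage_of_isPullback h x a hx
  obtain ⟨q, hq1, hq2⟩ := Scheme.exists_preimage_of_isPullback h x b (hx.trans hab)
  rw [← hp2, ← hq2, hfst (hp1.trans hq1.symm)]

theorem fin_desc : MorphismProperty.DescendsAlong (topologically (fun f => ∀ y, (f ⁻¹' {y}).Finite)) (@Surjective : MorphismProperty Scheme.{u}) := by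
  refine ⟨fun {A X Y Z fst snd f g} h hf hfst => ?_⟩
  intro z
  haveI : Surjective f := hf
  obtain ⟨x, hx⟩ := f.surjective z
  refine ((hfst x).image snd).subset fun b hb => ?_
  obtain ⟨q, hq1, hq2⟩ := Scheme.exists_preimage_of_isPullback h x b (hx.trans hb.symm)
  exact ⟨q, hq1, hq2⟩

set_option backward.isDefEq.respectTransparency.types false in
theorem noeth_desc {X Y : Scheme.{u}} (f : X ⟶ Y) [Flat f] [Surjective f] [QuasiCompact f] [IsLocallyNoetherian X] : IsLocallyNoetherian Y := by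
  refine isLocallyNoetherian_of_affine_cover (iSup_affineOpens_eq_top Y) fun V => ?_
  rw [isNoetherianRing_iff_ideal_fg]
  by_contra hc
  push_neg at hc
  haveI : IsAffine V.1 := V.2
  haveI : CompactSpace (f ⁻¹ᵁ V.1).toScheme := isCompact_iff_compactSpace.mp (f.isCompact_preimage V.2.isCompact)
  obtain ⟨W, g, hgs, hgo, hW⟩ := Scheme.exists_hom_isAffine_of_isZariskiLocalAtSource (@Etale : MorphismProperty Scheme.{u}) (f ⁻¹ᵁ V.1).toScheme
  haveI : Etale g := hgo
  haveI : Flat g := inferInstance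
  haveI : Surjective (f ∣_ V.1) := IsZariskiLocalAtTarget.restrict (P := @Surjective) inferInstance V.1
  let h : W ⟶ V.1.toScheme := g ≫ (f ∣_ V.1)
  haveI : Surjective h := inferInstance
  haveI : Flat h := inferInstance
  haveI : IsLocallyNoetherian W := LocallyOfFiniteType.isLocallyNoetherian g
  haveI : IsNoetherianRing Γ(W, ⊤) := IsLocallyNoetherian.component_noetherian ⟨⊤, isAffineOpen_top W⟩
  obtain ⟨hfl, hsurj⟩ := show RingHom.Flat h.appTop.hom ∧ _ from ⟨Scheme.Hom.flat_appTop h, (Flat.flat_and_surjective_iff_faithfullyFlat_of_isAffine h).mp ⟨inferInstance, inferInstance⟩⟩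
  letI := h.appTop.hom.toAlgebra
  haveI : Module.FaithfullyFlat Γ(V.1, ⊤) Γ(W, ⊤) := hsurj
  haveI : IsNoetherianRing Γ(V.1, ⊤) := by
    rw [isNoetherianRing_iff_ideal_fg]
    intro I
    exact Ideal.FG.of_FG_map_of_faithfullyFlat (S := Γ(W, ⊤)) (IsNoetherian.noetherian _)
  obtain ⟨I, hI⟩ := hc
  exact hI (by
    haveI : IsNoetherianRing Γ(Y, V.1) := isNoetherianRing_of_ringEquiv Γ(V.1, ⊤) V.1.topIso.commRingCatIsoToRingEquiv
    exact IsNoetherian.noetherian I)

theorem open_sub_inter (G : Type u) [Group G] [TopologicalSpace G] [IsTopologicalGroup G] [CompactSpace G] [TotallyDisconnectedSpace G] (H V' : Subgroup G) (hH : IsClosed (H : Set G)) (hle : V' ≤ H) (hopen : IsOpen ((Subtype.val : H → G) ⁻¹' (V' : Set G))) : ∃ V : OpenSubgroup G, V.toSubgroup ⊓ H = V' := by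
  obtain ⟨O, hO, hOV⟩ := isOpen_induced_iff.mp hopen
  have h1 : (1 : G) ∈ O := by
    have : (1 : H) ∈ (Subtype.val : H → G) ⁻¹' (V' : Set G) := V'.one_mem
    rw [← hOV] at this; exact this
  obtain ⟨N, hN⟩ := ProfiniteGrp.exist_openNormalSubgroup_sub_open_nhds_of_one hO h1
  haveI : N.toSubgroup.Normal := N.isNormal'
  refine ⟨⟨V' ⊔ N.toSubgroup, Subgroup.isOpen_mono le_sup_right N.isOpen'⟩, le_antisymm ?_ (le_inf le_sup_left hle)⟩
  rintro g ⟨hg, hgH⟩
  obtain ⟨h, hh, n, hn, rfl⟩ := Subgroup.mem_sup_of_normal_right.mp hg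
  have hnH : n ∈ H := by simpa using H.mul_mem (H.inv_mem (hle hh)) hgH
  have : (⟨n, hnH⟩ : H) ∈ (Subtype.val : H → G) ⁻¹' O := hN hn
  rw [hOV] at this
  exact V'.mul_mem hh this

theorem affine_compact (X : Scheme.{u}) [X.IsSeparated] (h : topologicalKrullDim X ≤ 0) (U : X.Opens) (hU : IsCompact (U : Set X)) : IsAffineOpen U := by
  haveI := scheme_t1_of_dim X h
  haveI := t2_of_qs X
  classical
  have key : ∀ s : Finset X.affineOpens, IsAffineOpen (⨆ i ∈ s, (i : X.Opens)) := by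
    intro s
    induction s using Finset.induction_on with
    | empty => simpa using isAffineOpen_bot X
    | @insert a t _ ih =>
      rw [Finset.iSup_insert]
      set T := (⨆ i ∈ t, (i : X.Opens))
      let T' : X.Opens := ⟨(T : Set X) \ (a.1 : Set X), T.2.sdiff a.2.isCompact.isClosed⟩
      have hT' : IsAffineOpen T' := by
        let V : T.toScheme.Opens := T.ι ⁻¹ᵁ ⟨(a.1 : Set X)ᶜ, a.2.isCompact.isClosed.isOpen_compl⟩
        have hV : IsClopen (V : Set T.toScheme) :=
          ⟨(a.1.2.isClosed_compl).preimage T.ι.continuous, V.2⟩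
        haveI : IsAffine T.toScheme := ih
        haveI : IsClosedImmersion V.ι := IsClosedImmersion.of_isPreimmersion _ (by rw [Scheme.Opens.range_ι]; exact hV.1)
        have hVaff : IsAffineOpen V := (isAffine_of_isAffineHom V.ι : IsAffine V.toScheme)
        have := (T.ι).isAffineOpen_iff_of_isOpenImmersion.mpr hVaff
        have e' : T' = T.ι ''ᵁ V := Opens.ext (Set.ext fun x => ⟨fun hx => ⟨⟨x, hx.1⟩, hx.2, rfl⟩, by rintro ⟨y, hy, rfl⟩; exact ⟨y.2, hy⟩⟩)
        rw [e']; exact this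
      have heq : a.1 ⊔ T = a.1 ⊔ T' := Opens.ext (Set.ext fun x => by
        show x ∈ (a.1 : Set X) ∪ (T : Set X) ↔ x ∈ (a.1 : Set X) ∪ ((T : Set X) \ (a.1 : Set X))
        by_cases hx : x ∈ (a.1 : Set X) <;> simp only [Set.mem_union, Set.mem_diff, hx, true_or, false_or, not_false_iff, and_true])
      rw [heq]
      exact a.2.sup_of_disjoint hT' (by rw [← Opens.coe_disjoint]; exact Set.disjoint_sdiff_right)
  obtain ⟨s, hs, e⟩ := isCompact_iff_finite_and_eq_biUnion_affineOpens.mp hU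
  have := key hs.toFinset
  simpa [e] using this

theorem lfp_cancel {X Y S : Scheme.{u}} (f : X ⟶ Y) (g : Y ⟶ S) [LocallyOfFinitePresentation (f ≫ g)] [LocallyOfFiniteType g] : LocallyOfFinitePresentation f := by
  rw [HasRingHomProperty.iff_exists_appLE (P := @LocallyOfFinitePresentation)
    (RingHom.finitePresentation_stableUnderComposition.stableUnderCompositionWithLocalizationAway RingHom.finitePresentation_holdsForLocalizationAway).1]
  intro x
  obtain ⟨W, hW, hxW, -⟩ := exists_isAffineOpen_mem_and_subset (x := g (f x)) (U := ⊤) trivial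
  obtain ⟨U, hU, hxU, hUW⟩ := exists_isAffineOpen_mem_and_subset (x := f x) (U := g ⁻¹ᵁ W) hxW
  obtain ⟨V, hV, hxV, hVU⟩ := exists_isAffineOpen_mem_and_subset (x := x) (U := f ⁻¹ᵁ U) hxU
  refine ⟨⟨U, hU⟩, ⟨V, hV⟩, hxV, hVU, ?_⟩
  refine RingHom.FinitePresentation.of_comp_finiteType (g.appLE W U hUW).hom ?_ (HasRingHomProperty.appLE (P := @LocallyOfFiniteType) g inferInstance ⟨W, hW⟩ ⟨U, hU⟩ hUW)
  rw [← CommRingCat.hom_comp]
  erw [Scheme.Hom.appLE_comp_appLE]
  exact HasRingHomProperty.appLE (P := @LocallyOfFinitePresentation) (f ≫ g) inferInstance ⟨W, hW⟩ ⟨V, hV⟩ _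

theorem max_pt (S : Scheme.{u}) [AlgebraicGeometry.IsNoetherian S] (T : Set S) (t : S) (ht : t ∈ T) : ∃ t₀ ∈ T, (∀ t' ∈ T, t' ⤳ t₀ → t' = t₀) ∧ t₀ ⤳ t := by
  obtain ⟨U, hU, htU, -⟩ := exists_isAffineOpen_mem_and_subset (x := t) (U := ⊤) trivial
  haveI : IsNoetherianRing Γ(S, U) := IsLocallyNoetherian.component_noetherian ⟨U, hU⟩
  let H : {x : S // x ∈ T ∧ x ⤳ t} → ℕ∞ := fun x => (hU.primeIdealOf ⟨x.1, x.2.2.mem_open U.2 htU⟩).asIdeal.height
  obtain ⟨_, ⟨⟨t₀, ht₀, hsp⟩, rfl⟩, hmin⟩ := (wellFounded_lt : WellFounded ((· < ·) : ℕ∞ → ℕ∞ → Prop)).has_min (Set.range H) ⟨_, ⟨t, ht, specializes_rfl⟩, rfl⟩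
  refine ⟨t₀, ht₀, fun t' ht' h => ?_, hsp⟩
  by_contra hne
  refine hmin _ ⟨⟨t', ht', h.trans hsp⟩, rfl⟩ ?_
  set p := hU.primeIdealOf ⟨t', (h.trans hsp).mem_open U.2 htU⟩
  set q := hU.primeIdealOf ⟨t₀, hsp.mem_open U.2 htU⟩
  have hp : hU.fromSpec p = t' := hU.fromSpec_primeIdealOf _
  have hq : hU.fromSpec q = t₀ := hU.fromSpec_primeIdealOf _
  have hle : p.asIdeal ≤ q.asIdeal := (PrimeSpectrum.le_iff_specializes p q).mpr
    (hU.fromSpec.isOpenEmbedding.isInducing.specializes_iff.mp (hp.symm ▸ hq.symm ▸ h))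
  haveI := p.isPrime
  haveI := q.isPrime
  exact Ideal.height_strict_mono_of_isPrime_of_isPrime (lt_of_le_of_ne hle fun e => hne (by
    rw [← hp, ← hq]; exact congrArg hU.fromSpec (PrimeSpectrum.ext e)))

attribute [local instance] specializationOrder in
theorem dim_range {X Y : Scheme.{u}} (f : X ⟶ Y) (hf : IsOpenMap f.base) : topologicalKrullDim ↥(Set.range f.base) ≤ topologicalKrullDim ↥X := by
  let R : Y.Opens := ⟨Set.range f.base, hf.isOpen_range⟩
  have hgen := gen_of_open f hf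
  show Order.krullDim (IrreducibleCloseds R.toScheme) ≤ Order.krullDim (IrreducibleCloseds X)
  rw [Order.krullDim_eq_of_orderIso irreducibleSetEquivPoints, Order.krullDim_eq_of_orderIso (irreducibleSetEquivPoints (α := X))]
  refine iSup_le fun p => ?_
  suffices ∀ (n : ℕ) (a : X) (q : LTSeries R.toScheme), q.length = n → f a = (RelSeries.head q).1 →
      ∃ q' : LTSeries X, q'.length = n ∧ RelSeries.head q' = a by
    obtain ⟨a, ha⟩ := (RelSeries.head p).2
    obtain ⟨q', hq', -⟩ := this p.length a p rfl ha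
    rw [← hq']; exact Order.LTSeries.length_le_krullDim q'
  intro n
  induction n with
  | zero => exact fun a q _ _ => ⟨RelSeries.singleton _ a, rfl, rfl⟩
  | succ n ih =>
    intro a q hq ha
    have hne : q.length ≠ 0 := by omega
    have hlt : RelSeries.head q < q 1 := by
      have h1 : (Fin.succ ⟨0, by omega⟩ : Fin (q.length + 1)) = 1 := by
        apply Fin.ext
        rw [Fin.val_one', Nat.one_mod_eq_one.mpr (show q.length + 1 ≠ 1 by omega)]
        rfl
      exact h1 ▸ (q.step ⟨0, by omega⟩ : q _ < q (Fin.succ ⟨0, by omega⟩))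
    have hsp : ((q 1).1 : Y) ⤳ f a := ha ▸ Specializes.map hlt.le R.ι.continuous
    obtain ⟨a', ha', hfa'⟩ := hgen hsp
    obtain ⟨q', hl, hhd⟩ := ih a' (q.tail hne) (show q.length - 1 = n by omega) (by rw [RelSeries.head_tail]; exact hfa')
    have hlt' : a < RelSeries.head q' := by
      rw [hhd]
      refine lt_of_le_of_ne ha' fun e => hlt.ne (Subtype.ext ?_)
      rw [← ha, e]; exact hfa'
    exact ⟨q'.cons a hlt', (show 0 + q'.length + 1 = n + 1 by omega), rfl⟩

end Groth.Agent.H6
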