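import Groth.Prelude.Def_ProCons
import Mathlib.RingTheory.Spectrum.Prime.ConstructibleSet
import Mathlib.AlgebraicGeometry.AffineScheme

set_option linter.all false
set_option autoImplicit false
set_option backward.isDefEq.respectTransparency.types false

/-! Pro-constructible subsets of schemes: closure consists of specializations; points are pro-constructible. -/

namespace Groth.Agent.H6.ProConsSpec

universe u

open AlgebraicGeometry Topology Filter CategoryTheory

theorem exists_limit {A : Type u} [CommRing A] (F : Ultrafilter (PrimeSpectrum A)) :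
    ∃ q : PrimeSpectrum A, ∀ a : A, a ∈ q.asIdeal ↔ ∀ᶠ r in (F : Filter (PrimeSpectrum A)), a ∈ r.asIdeal := by
  let I : Ideal A :=
    { carrier := {a | ∀ᶠ r in (F : Filter (PrimeSpectrum A)), a ∈ r.asIdeal}
      zero_mem' := Filter.Eventually.of_forall fun r => r.asIdeal.zero_mem
      add_mem' := fun ha hb => ha.and hb |>.mono fun r h => r.asIdeal.add_mem h.1 h.2
      smul_mem' := fun c a ha => ha.mono fun r h => r.asIdeal.smul_mem c h }
  have hI : I.IsPrime := by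
    refine ⟨fun h => ?_, fun {a b} hab => ?_⟩
    · obtain ⟨r, hr⟩ := ((Ideal.eq_top_iff_one I).1 h : ∀ᶠ r in (F : Filter (PrimeSpectrum A)), (1 : A) ∈ r.asIdeal).exists
      exact r.2.ne_top ((Ideal.eq_top_iff_one _).2 hr)
    · exact Ultrafilter.eventually_or.1 (Filter.Eventually.mono hab fun r h => r.2.mem_or_mem h)
  exact ⟨⟨I, hI⟩, fun a => Iff.rfl⟩

theorem constructible_mem_iff {A : Type u} [CommRing A] {F : Ultrafilter (PrimeSpectrum A)} {q : PrimeSpectrum A}
    (hq : ∀ a : A, a ∈ q.asIdeal ↔ ∀ᶠ r in (F : Filter (PrimeSpectrum A)), a ∈ r.asIdeal)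
    {T : Set (PrimeSpectrum A)} (hT : IsConstructible T) : q ∈ T ↔ T ∈ F := by
  obtain ⟨D, hD⟩ := PrimeSpectrum.exists_constructibleSetData_iff.2 hT
  have hz : ∀ G : Finset A, q ∈ PrimeSpectrum.zeroLocus (G : Set A) ↔ PrimeSpectrum.zeroLocus (G : Set A) ∈ F := fun G => by
    have h1 : PrimeSpectrum.zeroLocus (G : Set A) = ⋂ g ∈ (G : Set A), {r : PrimeSpectrum A | g ∈ r.asIdeal} := by
      ext r; simp [PrimeSpectrum.mem_zeroLocus, Set.subset_def]
    rw [h1, ← Ultrafilter.mem_coe, Filter.biInter_mem G.finite_toSet, Set.mem_iInter₂]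
    exact forall₂_congr fun g _ => hq g
  classical
  have hC : ∀ C : PrimeSpectrum.BasicConstructibleSetData A, q ∈ C.toSet ↔ C.toSet ∈ F := fun C => by
    have hg : PrimeSpectrum.zeroLocus (Set.range C.g) = PrimeSpectrum.zeroLocus ((Finset.univ.image C.g : Finset A) : Set A) := by
      simp
    rw [PrimeSpectrum.BasicConstructibleSetData.toSet, Set.mem_diff, Set.diff_eq, ← Ultrafilter.mem_coe, Filter.inter_mem_iff, Ultrafilter.mem_coe, Ultrafilter.mem_coe,
      Ultrafilter.compl_mem_iff_notMem, hg, hz]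
    refine and_congr_right fun _ => not_congr ?_
    have := hz {C.f}
    simpa using this
  rw [← hD, PrimeSpectrum.ConstructibleSetData.toSet, ← Finset.set_biUnion_coe, Ultrafilter.finite_biUnion_mem_iff (D.finite_toSet), Set.mem_iUnion₂]
  exact ⟨fun ⟨C, h1, h2⟩ => ⟨C, h1, (hC C).1 h2⟩, fun ⟨C, h1, h2⟩ => ⟨C, h1, (hC C).2 h2⟩⟩

theorem exists_specializes_of_mem_closure {A : Type u} [CommRing A] (S : Set (Set (PrimeSpectrum A)))
    (hS : ∀ T ∈ S, IsConstructible T) {p : PrimeSpectrum A} (hp : p ∈ closure (⋂₀ S)) :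
    ∃ q ∈ ⋂₀ S, q ⤳ p := by
  obtain ⟨F, hF, hFp⟩ := mem_closure_iff_ultrafilter.1 hp
  obtain ⟨q, hq⟩ := exists_limit F
  refine ⟨q, fun T hT => (constructible_mem_iff hq (hS T hT)).2 (Filter.mem_of_superset hF (Set.sInter_subset_of_mem hT)),
    (PrimeSpectrum.le_iff_specializes q p).1 fun a ha => ?_⟩
  by_contra hap
  have h1 : (PrimeSpectrum.basicOpen a : Set (PrimeSpectrum A)) ∈ F :=
    hFp ((PrimeSpectrum.basicOpen a).2.mem_nhds hap)
  obtain ⟨r, hr1, hr2⟩ := (((hq a).1 ha).and h1).exists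
  exact hr2 hr1

theorem closure_eq_specializations {X : Scheme.{u}} {Z : Set X} (hZ : ProCons.IsProConstructible Z) {y : X}
    (hy : y ∈ closure Z) : ∃ y' ∈ Z, y' ⤳ y := by
  obtain ⟨U, hU, hyU, S, hS, hSe⟩ := hZ y
  obtain ⟨W, hW, hyW, hWU⟩ := exists_isAffineOpen_mem_and_subset (X := X) (x := y) (U := ⟨U, hU⟩) hyU
  let φ : PrimeSpectrum Γ(X, W) → U := fun p => ⟨hW.fromSpec p, hWU (hW.range_fromSpec.le ⟨p, rfl⟩)⟩
  have hφ : IsOpenEmbedding φ :=
    IsOpenEmbedding.of_comp φ hU.isOpenEmbedding_subtypeVal (g := Subtype.val) hW.fromSpec.isOpenEmbedding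
  have hpre : hW.fromSpec ⁻¹' Z = ⋂₀ ((fun T => φ ⁻¹' T) '' S) := by
    rw [Set.sInter_image, ← Set.preimage_iInter₂, ← Set.sInter_eq_biInter, ← hSe]
    rfl
  obtain ⟨p, rfl⟩ : y ∈ Set.range hW.fromSpec := hW.range_fromSpec ▸ hyW
  have hp : (p : PrimeSpectrum Γ(X, W)) ∈ closure (⋂₀ ((fun T => φ ⁻¹' T) '' S)) := by
    have h1 : p ∈ hW.fromSpec ⁻¹' closure Z := hy
    rw [hW.fromSpec.isOpenEmbedding.isOpenMap.preimage_closure_eq_closure_preimage hW.fromSpec.continuous, hpre] at h1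
    exact h1
  obtain ⟨q, hq, hqp⟩ := exists_specializes_of_mem_closure _ (by
    rintro _ ⟨T, hT, rfl⟩
    exact ((hS T hT).preimage_of_isOpenEmbedding hφ).isConstructible) hp
  exact ⟨hW.fromSpec q, (hpre.symm.le hq : q ∈ hW.fromSpec ⁻¹' Z), hqp.map hW.fromSpec.continuous⟩

theorem isProConstructible_singleton {X : Scheme.{u}} (y : X) : ProCons.IsProConstructible ({y} : Set X) := by
  intro x
  obtain ⟨W, hW, hxW, -⟩ := exists_isAffineOpen_mem_and_subset (X := X) (x := x) (U := ⊤) trivial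
  by_cases hy : y ∈ W
  swap
  · refine ⟨W, W.isOpen, hxW, {∅}, fun T hT => hT ▸ IsLocallyConstructible.empty, ?_⟩
    rw [Set.sInter_singleton, Set.eq_empty_iff_forall_notMem]
    rintro z (hz : (z : X) = y)
    exact hy (hz ▸ z.2)
  let e : (W : Set X) ≃ₜ PrimeSpectrum Γ(X, W) := Scheme.homeoOfIso hW.isoSpec
  let q := e ⟨y, hy⟩
  refine ⟨W, W.isOpen, hxW,
    (fun T => e ⁻¹' T) '' ((fun a => PrimeSpectrum.zeroLocus {a}) '' {a : Γ(X, W) | a ∈ q.asIdeal} ∪
      (fun a => (PrimeSpectrum.basicOpen a : Set (PrimeSpectrum Γ(X, W)))) '' {a : Γ(X, W) | a ∉ q.asIdeal}), ?_, ?_⟩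
  · rintro _ ⟨T, hT, rfl⟩
    refine IsLocallyConstructible.preimage_of_isOpenEmbedding ?_ e.isOpenEmbedding
    have h1 : ∀ a : Γ(X, W), IsConstructible (PrimeSpectrum.basicOpen a : Set (PrimeSpectrum Γ(X, W))) := fun a =>
      (PrimeSpectrum.isCompact_basicOpen a).isConstructible (PrimeSpectrum.basicOpen a).2
    rcases hT with ⟨a, -, rfl⟩ | ⟨a, -, rfl⟩
    · have := (h1 a).compl
      rw [PrimeSpectrum.basicOpen_eq_zeroLocus_compl, compl_compl] at this
      exact this.isLocallyConstructible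
    · exact (h1 a).isLocallyConstructible
  · ext z
    simp only [Set.mem_preimage, Set.mem_singleton_iff, Set.sInter_image, Set.mem_iInter]
    constructor
    · intro hz T hT
      have hzq : e z = q := congrArg e (Subtype.ext hz)
      rw [hzq]
      rcases hT with ⟨a, ha, rfl⟩ | ⟨a, ha, rfl⟩
      · exact Set.singleton_subset_iff.2 ‹_›
      · assumption
    · intro hz
      have : e z = q := by
        refine PrimeSpectrum.ext (le_antisymm (fun a ha => ?_) fun a ha => ?_)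
        · by_contra haq
          exact (hz _ (Or.inr ⟨a, haq, rfl⟩) : a ∉ (e z).asIdeal) ha
        · exact Set.singleton_subset_iff.1 (hz _ (Or.inl ⟨a, ha, rfl⟩))
      exact congrArg Subtype.val (e.injective this)
theorem exists_specializes_of_mem_closure_fibre {X Y : Scheme.{u}} (f : X ⟶ Y) (y' : Y) {x : X}
    (hx : x ∈ closure (f ⁻¹' {y'})) : ∃ x', f x' = y' ∧ x' ⤳ x := by
  have hsp : y' ⤳ f x := specializes_iff_mem_closure.2
    (closure_mono (Set.image_preimage_subset f {y'}) (image_closure_subset_closure_image f.continuous ⟨x, hx, rfl⟩))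
  obtain ⟨W, hW, hyW, -⟩ := exists_isAffineOpen_mem_and_subset (X := Y) (x := f x) (U := ⊤) trivial
  obtain ⟨U, hU, hxU, hUW⟩ := exists_isAffineOpen_mem_and_subset (X := X) (x := x) (U := f ⁻¹ᵁ W) hyW
  have hle : U ≤ f ⁻¹ᵁ W := hUW
  obtain ⟨q, rfl⟩ : y' ∈ Set.range hW.fromSpec := hW.range_fromSpec ▸ hsp.mem_open W.isOpen hyW
  obtain ⟨p, rfl⟩ : x ∈ Set.range hU.fromSpec := hU.range_fromSpec ▸ hxU
  let φ := (f.appLE W U hle).hom
  have hc : ∀ r, f (hU.fromSpec r) = hW.fromSpec (PrimeSpectrum.comap φ r) := fun r => by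
    rw [← Scheme.Hom.comp_apply, ← hW.SpecMap_appLE_fromSpec f hU hle, Scheme.Hom.comp_apply]
    rfl
  let S : Set (Set (PrimeSpectrum Γ(X, U))) :=
    (fun a => PrimeSpectrum.zeroLocus {φ a}) '' {a | a ∈ (q : PrimeSpectrum Γ(Y, W)).asIdeal} ∪
      (fun a => (PrimeSpectrum.basicOpen (φ a) : Set (PrimeSpectrum Γ(X, U)))) '' {a | a ∉ (q : PrimeSpectrum Γ(Y, W)).asIdeal}
  have hpre : hU.fromSpec ⁻¹' (f ⁻¹' {hW.fromSpec q}) = ⋂₀ S := by
    ext r
    rw [Set.mem_preimage, Set.mem_preimage, Set.mem_singleton_iff, hc, hW.fromSpec.isOpenEmbedding.injective.eq_iff]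
    constructor
    · intro h T hT
      rcases hT with ⟨a, ha, rfl⟩ | ⟨a, ha, rfl⟩
      · exact Set.singleton_subset_iff.2 (h.symm ▸ ha : a ∈ (PrimeSpectrum.comap φ r).asIdeal)
      · exact (h.symm ▸ ha : a ∉ (PrimeSpectrum.comap φ r).asIdeal)
    · intro h
      refine PrimeSpectrum.ext (le_antisymm (fun a ha => ?_) fun a ha => ?_)
      · by_contra haq
        exact (h _ (Or.inr ⟨a, haq, rfl⟩) : φ a ∉ (r : PrimeSpectrum Γ(X, U)).asIdeal) ha
      · exact (Set.singleton_subset_iff.1 (h _ (Or.inl ⟨a, ha, rfl⟩) : ({φ a} : Set Γ(X, U)) ⊆ (r : PrimeSpectrum Γ(X, U)).asIdeal) :)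
  have hp : (p : PrimeSpectrum Γ(X, U)) ∈ closure (⋂₀ S) := by
    have h1 : p ∈ hU.fromSpec ⁻¹' closure (f ⁻¹' {hW.fromSpec q}) := hx
    rw [hU.fromSpec.isOpenEmbedding.isOpenMap.preimage_closure_eq_closure_preimage hU.fromSpec.continuous, hpre] at h1
    exact h1
  obtain ⟨r, hr, hrp⟩ := exists_specializes_of_mem_closure S (by
    rintro _ (⟨a, -, rfl⟩ | ⟨a, -, rfl⟩)
    · have := ((PrimeSpectrum.isCompact_basicOpen (φ a)).isConstructible (PrimeSpectrum.basicOpen (φ a)).2).compl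
      rwa [PrimeSpectrum.basicOpen_eq_zeroLocus_compl, compl_compl] at this
    · exact (PrimeSpectrum.isCompact_basicOpen (φ a)).isConstructible (PrimeSpectrum.basicOpen (φ a)).2) hp
  exact ⟨hU.fromSpec r, (hpre.symm.le hr : r ∈ hU.fromSpec ⁻¹' (f ⁻¹' {hW.fromSpec q})), hrp.map hU.fromSpec.continuous⟩

end Groth.Agent.H6.ProConsSpec
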