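import Groth.Agent.Lib.H6.SubtrFT
import Groth.Agent.Lib.H6.ValDense
import Mathlib.AlgebraicGeometry.ValuativeCriterion

set_option linter.all false
set_option autoImplicit false
set_option backward.isDefEq.respectTransparency.types false

/-! Universal closedness of a quasi-compact morphism is tested by affine base changes of finite type. -/

namespace Groth.Agent.H6.SubtrFT

universe u

open CategoryTheory CategoryTheory.Limits AlgebraicGeometry
open scoped TensorProduct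

variable {X Y : Scheme.{u}} (f : X ⟶ Y) {A B : Type u} [CommRing A] [CommRing B] [Algebra A B]
  (i : Spec (CommRingCat.of B) ⟶ X) (w : Spec (CommRingCat.of A) ⟶ Y)
  (hc : i ≫ f = Spec.map (CommRingCat.ofHom (algebraMap A B)) ≫ w)

/-- sections separating the closed fibre from the closure of a point -/
theorem exists_sections_point [IsOpenImmersion i] [Mono w] (V : Type u) [CommRing V] [IsLocalRing V] [Algebra A V]
    (z₁ : ↥(pullback f (PullAff.base w V)))
    (hno : ∀ z, z₁ ⤳ z → pullback.snd f (PullAff.base w V) z ≠ IsLocalRing.closedPoint V) :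
    ∃ S : Finset (B ⊗[A] V),
      (∀ r, PullAff.piece f i w hc V r = z₁ → ∀ s ∈ S, s ∈ (r : PrimeSpectrum (B ⊗[A] V)).asIdeal) ∧
      ∀ r, pullback.snd f (PullAff.base w V) (PullAff.piece f i w hc V r) = IsLocalRing.closedPoint V →
        ∃ s ∈ S, s ∉ (r : PrimeSpectrum (B ⊗[A] V)).asIdeal := by
  let ι : V →+* B ⊗[A] V := (Algebra.TensorProduct.includeRight (R := A) (A := B) (B := V)).toRingHom
  have hsnd : ∀ r, pullback.snd f (PullAff.base w V) (PullAff.piece f i w hc V r) = Spec.map (CommRingCat.ofHom ι) r :=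
    fun r => by rw [← Scheme.Hom.comp_apply, PullAff.piece_snd]
  let F : Set (PrimeSpectrum (B ⊗[A] V)) := PrimeSpectrum.comap ι ⁻¹' {IsLocalRing.closedPoint V}
  have hF : IsCompact F :=
    ((IsLocalRing.isClosed_singleton_closedPoint (R := V)).preimage (PrimeSpectrum.continuous_comap ι)).isCompact
  haveI := PullAff.isOpenImmersion_piece f i w hc V
  have hcov : ∀ r ∈ F, ∃ s : B ⊗[A] V,
      (∀ q, PullAff.piece f i w hc V q = z₁ → s ∈ (q : PrimeSpectrum (B ⊗[A] V)).asIdeal) ∧ s ∉ r.asIdeal := by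
    intro r hr
    by_contra hno'
    push Not at hno'
    obtain ⟨q, hq⟩ : z₁ ∈ Set.range (PullAff.piece f i w hc V) := by
      by_contra hn
      exact r.2.ne_top ((Ideal.eq_top_iff_one _).2 (hno' 1 fun q hq => absurd ⟨q, hq⟩ hn))
    refine hno (PullAff.piece f i w hc V r) ?_ ((hsnd r).trans hr)
    rw [← hq]
    refine Specializes.map ?_ (PullAff.piece f i w hc V).continuous
    refine (PrimeSpectrum.le_iff_specializes (q : PrimeSpectrum (B ⊗[A] V)) r).1 fun s hs => hno' s fun q' hq' => ?_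
    rwa [(PullAff.piece f i w hc V).isOpenEmbedding.injective (hq'.trans hq.symm)]
  choose s hsG hsr using hcov
  obtain ⟨T, hT⟩ := hF.elim_finite_subcover (fun r : F => (PrimeSpectrum.basicOpen (s r.1 r.2) : Set (PrimeSpectrum (B ⊗[A] V))))
    (fun r => (PrimeSpectrum.basicOpen _).2) fun r hr => Set.mem_iUnion.2 ⟨⟨r, hr⟩, hsr r hr⟩
  classical
  refine ⟨T.image fun r => s r.1 r.2, fun r hr t ht => ?_, fun r hr => ?_⟩
  · obtain ⟨p, -, rfl⟩ := Finset.mem_image.1 ht
    exact hsG p.1 p.2 r hr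
  · obtain ⟨p, hp, hrp⟩ := Set.mem_iUnion₂.1 (hT ((hsnd r).symm.trans hr : (r : PrimeSpectrum (B ⊗[A] V)) ∈ F))
    exact ⟨_, Finset.mem_image_of_mem _ hp, hrp⟩

/-- universal specialization from affine base changes of finite type -/
theorem specializing_of_finiteType {X Y : Scheme.{u}} (f : X ⟶ Y) [QuasiCompact f]
    (H : ∀ (W : Y.Opens) (hW : IsAffineOpen W) (C : Type u) [CommRing C] [Algebra Γ(Y, W) C], Algebra.FiniteType Γ(Y, W) C →
      SpecializingMap (pullback.snd f (PullAff.base hW.fromSpec C))) :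
    (topologically @SpecializingMap).universally f := by
  intro X' Y' i₁ i₂ f' hsq p₁ a₀ hp
  obtain ⟨R, t, htc, htg⟩ := ValDense.exists_valuationSubring_pair (show f' p₁ ⤳ a₀ from hp) (Y'.residueField (f' p₁)) (𝟙 _)
  rw [Spec.map_id] at htg
  erw [Category.id_comp] at htg
  obtain ⟨W, hW, hyW, -⟩ := exists_isAffineOpen_mem_and_subset (X := Y) (x := i₂ a₀) (U := ⊤) trivial
  obtain ⟨a, ha⟩ := DVRVal.exists_factor hW (t ≫ i₂) (DVRVal.mem_of_closed _ (by rw [Scheme.Hom.comp_apply, htc]; exact hyW))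
  letI : Algebra Γ(Y, W) R := a.hom.toAlgebra
  have hb : PullAff.base hW.fromSpec R = t ≫ i₂ := ha
  let l : pullback f (PullAff.base hW.fromSpec R) ⟶ X' := hsq.lift (pullback.snd _ _ ≫ t) (pullback.fst _ _)
    (by rw [Category.assoc, ← hb, pullback.condition])
  have hl : l ≫ f' = pullback.snd _ _ ≫ t := hsq.lift_fst _ _ _
  have hP : IsPullback l (pullback.snd f (PullAff.base hW.fromSpec R)) f' t := by
    refine IsPullback.of_right ?_ hl hsq.flip
    rw [hsq.lift_snd, ← hb]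
    exact IsPullback.of_hasPullback _ _
  have hgen : t (SubtrVal.gen R) = f' p₁ := by
    rw [← ValDense.gen_apply t (IsLocalRing.closedPoint _), htg]
    exact Scheme.fromSpecResidueField_apply _ _
  obtain ⟨z₁, hz₁, hz₁g⟩ := Scheme.exists_preimage_of_isPullback hP p₁ (SubtrVal.gen R) hgen.symm
  suffices ∃ z, z₁ ⤳ z ∧ pullback.snd f (PullAff.base hW.fromSpec R) z = IsLocalRing.closedPoint R by
    obtain ⟨z, hz, hzc⟩ := this
    refine ⟨l z, ?_, ?_⟩
    · have h0 := hz.map l.continuous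
      rw [hz₁] at h0
      exact h0
    · rw [← Scheme.Hom.comp_apply, hl, Scheme.Hom.comp_apply, hzc, htc]
  by_contra hno
  push Not at hno
  obtain ⟨s, hs, hcov⟩ := (isCompact_iff_finite_and_eq_biUnion_affineOpens (U := f ⁻¹ᵁ W)).1
    (QuasiCompact.isCompact_preimage (f := f) (W : Set Y) W.isOpen hW.isCompact)
  have hmem : ∀ x : X, x ∈ f ⁻¹ᵁ W ↔ ∃ U ∈ s, x ∈ (U : X.affineOpens).1 := fun x => by
    rw [hcov]
    simp [TopologicalSpace.Opens.mem_iSup]
  haveI := hs.to_subtype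
  have hle : ∀ U : s, U.1.1 ≤ f ⁻¹ᵁ W := fun U p hp => (hmem p).2 ⟨U.1, U.2, hp⟩
  letI alg : ∀ U : s, Algebra Γ(Y, W) Γ(X, U.1.1) := fun U => (f.appLE W U.1.1 (hle U)).hom.toAlgebra
  have hcomm : ∀ U : s, U.1.2.fromSpec ≫ f =
      Spec.map (CommRingCat.ofHom (algebraMap Γ(Y, W) Γ(X, U.1.1))) ≫ hW.fromSpec :=
    fun U => (hW.SpecMap_appLE_fromSpec f U.1.2 (hle U)).symm
  choose S hG hF using fun U : s => exists_sections_point f U.1.2.fromSpec hW.fromSpec (hcomm U) R z₁ hno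
  choose C₁ hC₁ hS₁ using fun U : s => PullAff.exists_fg_sections (S U)
  let C : Subalgebra Γ(Y, W) R := ⨆ U : s, C₁ U
  have hCfg : C.FG := by
    choose T hT using hC₁
    refine Subalgebra.fg_def.2 ⟨⋃ U : s, (T U : Set R), Set.finite_iUnion fun U => (T U).finite_toSet, ?_⟩
    rw [Algebra.adjoin_iUnion]
    exact iSup_congr hT
  haveI : Algebra.FiniteType Γ(Y, W) C := C.fg_iff_finiteType.1 hCfg
  let m := Spec.map (CommRingCat.ofHom C.val.toRingHom)
  let z' := PullAff.trans f hW.fromSpec C.val z₁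
  obtain ⟨x, hx, hxc⟩ := H W hW C inferInstance (a := z') (b := m (IsLocalRing.closedPoint R)) (by
    show pullback.snd f (PullAff.base hW.fromSpec C) (PullAff.trans f hW.fromSpec C.val z₁) ⤳ _
    rw [← Scheme.Hom.comp_apply, PullAff.trans_snd, Scheme.Hom.comp_apply]
    erw [hz₁g]
    exact (SubtrVal.gen_specializes R (IsLocalRing.closedPoint R)).map m.continuous)
  have hxW : pullback.fst f (PullAff.base hW.fromSpec C) x ∈ f ⁻¹ᵁ W := by
    show f _ ∈ W
    rw [← Scheme.Hom.comp_apply, pullback.condition]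
    show (pullback.snd f (PullAff.base hW.fromSpec C) ≫ Spec.map (CommRingCat.ofHom (algebraMap Γ(Y, W) C)) ≫ hW.fromSpec) x ∈ W
    rw [← Category.assoc, Scheme.Hom.comp_apply]
    exact hW.range_fromSpec.le ⟨_, rfl⟩
  obtain ⟨U, hU, hxU⟩ := (hmem _).1 hxW
  let u : s := ⟨U, hU⟩
  let P := PullAff.piece f u.1.2.fromSpec hW.fromSpec (hcomm u)
  haveI := PullAff.isOpenImmersion_piece f u.1.2.fromSpec hW.fromSpec (hcomm u) C
  have hz'U : pullback.fst f (PullAff.base hW.fromSpec C) z' ∈ u.1.1 :=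
    (hx.map (pullback.fst f (PullAff.base hW.fromSpec C)).continuous).mem_open u.1.1.isOpen hxU
  obtain ⟨r, rfl⟩ := PullAff.exists_mem_piece f u.1.2.fromSpec hW.fromSpec (hcomm u) C x
    (by rw [IsAffineOpen.range_fromSpec]; exact hxU)
  obtain ⟨R₁, hR₁⟩ := PullAff.exists_mem_piece f u.1.2.fromSpec hW.fromSpec (hcomm u) R z₁ (by
    rw [IsAffineOpen.range_fromSpec]
    have h1 := hz'U
    rw [← Scheme.Hom.comp_apply, PullAff.trans_fst] at h1
    exact h1)
  obtain ⟨R₀, hR₀, hR₀r⟩ := exists_lift_piece f u.1.2.fromSpec hW.fromSpec (hcomm u) C.val r _ hxc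
  subst hR₀r
  obtain ⟨t₀, ht₀, htR⟩ := hF u R₀ hR₀
  obtain ⟨t₁, ht₁⟩ := hS₁ u t₀ ht₀
  let t₂ := Algebra.TensorProduct.map (AlgHom.id Γ(X, u.1.1) Γ(X, u.1.1)) (Subalgebra.inclusion (le_iSup C₁ u)) t₁
  have ht₂ : Algebra.TensorProduct.map (AlgHom.id Γ(X, u.1.1) Γ(X, u.1.1)) C.val t₂ = t₀ := by
    rw [← ht₁]
    clear ht₁
    simp only [t₂]
    induction t₁ using TensorProduct.induction_on with
    | zero => simp
    | tmul b c => simp
    | add p q hp hq => simp only [map_add, hp, hq]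
  have hsp : (Spec.map (CommRingCat.ofHom (Algebra.TensorProduct.map (AlgHom.id Γ(X, u.1.1) Γ(X, u.1.1)) C.val).toRingHom)) R₁ ⤳
      (Spec.map (CommRingCat.ofHom (Algebra.TensorProduct.map (AlgHom.id Γ(X, u.1.1) Γ(X, u.1.1)) C.val).toRingHom)) R₀ := by
    refine (PullAff.piece f u.1.2.fromSpec hW.fromSpec (hcomm u) C).isOpenEmbedding.isInducing.specializes_iff.1 ?_
    have h1 : PullAff.trans f hW.fromSpec C.val (PullAff.piece f u.1.2.fromSpec hW.fromSpec (hcomm u) R R₁) ⤳ _ :=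
      (show PullAff.trans f hW.fromSpec C.val (PullAff.piece f u.1.2.fromSpec hW.fromSpec (hcomm u) R R₁) = z' by rw [hR₁]) ▸ (show z' ⤳ _ from hx)
    rw [← Scheme.Hom.comp_apply, PullAff.piece_trans, Scheme.Hom.comp_apply] at h1
    exact h1
  have h1 : t₀ ∈ (R₁ : PrimeSpectrum (Γ(X, u.1.1) ⊗[Γ(Y, W)] R)).asIdeal := hG u R₁ hR₁ t₀ ht₀
  have h2 : t₂ ∈ (Spec.map (CommRingCat.ofHom (Algebra.TensorProduct.map (AlgHom.id Γ(X, u.1.1) Γ(X, u.1.1)) C.val).toRingHom) R₁ :
      PrimeSpectrum (Γ(X, u.1.1) ⊗[Γ(Y, W)] C)).asIdeal :=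
    show Algebra.TensorProduct.map (AlgHom.id Γ(X, u.1.1) Γ(X, u.1.1)) C.val t₂ ∈ (R₁ : PrimeSpectrum (Γ(X, u.1.1) ⊗[Γ(Y, W)] R)).asIdeal by
      rw [ht₂]; exact h1
  have h3 : t₂ ∈ _ := (PrimeSpectrum.le_iff_specializes (_ : PrimeSpectrum (Γ(X, u.1.1) ⊗[Γ(Y, W)] C)) _).2 hsp h2
  exact htR (ht₂ ▸ h3)

theorem universallyClosed_of_finiteType {X Y : Scheme.{u}} (f : X ⟶ Y) [QuasiCompact f]
    (H : ∀ (W : Y.Opens) (hW : IsAffineOpen W) (C : Type u) [CommRing C] [Algebra Γ(Y, W) C], Algebra.FiniteType Γ(Y, W) C →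
      SpecializingMap (pullback.snd f (PullAff.base hW.fromSpec C))) :
    UniversallyClosed f := by
  rw [universallyClosed_eq_universallySpecializing]
  exact ⟨specializing_of_finiteType f H, inferInstance⟩

end Groth.Agent.H6.SubtrFT
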