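import Groth.Agent.Lib.H6.PullDesc
import Groth.Agent.S0585

/-! Projectivity of sections of quasi-coherent modules: base change and locality. -/

set_option autoImplicit false
set_option linter.all false
set_option maxHeartbeats 1000000
set_option backward.isDefEq.respectTransparency.types false

universe u

open CategoryTheory CategoryTheory.Limits AlgebraicGeometry TopologicalSpace Opposite

namespace Groth.Agent.H6.ProjQCoh
open Groth.Agent PullDesc

variable {X Y : Scheme.{u}}

theorem nonempty_affIso (M : Y.Modules) [M.IsQuasicoherent] {V : Y.Opens} (hV : IsAffineOpen V)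
    {B : CommRingCat.{u}} (φ : Γ(Y, V) ⟶ B) (h : Spec B ⟶ Y) (hh : h = Spec.map φ ≫ hV.fromSpec) :
    Nonempty ((Scheme.Modules.pullback h).obj M ≅ tilde ((ModuleCat.extendScalars.{u, u, u} φ.hom).obj (secMod M hV))) := by
  obtain ⟨e⟩ := nonempty_tildeIso M hV
  exact ⟨(Scheme.Modules.pullbackCongr hh).app M ≪≫ ((Scheme.Modules.pullbackComp (Spec.map φ) hV.fromSpec).app M).symm ≪≫
    (Scheme.Modules.pullback (Spec.map φ)).mapIso e ≪≫ (TildePullback.leftIso φ).app (secMod M hV)⟩

theorem isQCoh_pullback (f : X ⟶ Y) (M : Y.Modules) [M.IsQuasicoherent] :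
    ((Scheme.Modules.pullback f).obj M).IsQuasicoherent := by
  refine H7QCoh.isQCoh_of_local _ fun x => ?_
  obtain ⟨V, hV, hxV, -⟩ := exists_isAffineOpen_mem_and_subset (X := Y) (x := f x) (U := ⊤) trivial
  obtain ⟨W, hW, hxW, hWV⟩ := exists_isAffineOpen_mem_and_subset (X := X) (x := x) (U := f ⁻¹ᵁ V) hxV
  obtain ⟨e⟩ := nonempty_chartIso M f hV (f.appLE V W hWV) hW.fromSpec
    (IsAffineOpen.SpecMap_appLE_fromSpec f hV hW hWV).symm
  refine ⟨Γ(X, W), hW.fromSpec, inferInstance, by rw [hW.range_fromSpec]; exact hxW, ?_⟩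
  exact H7AffineD.qcoh_of_iso (e.symm ≪≫ ((Scheme.Modules.restrictFunctorIsoPullback hW.fromSpec).app _).symm) inferInstance

theorem nonempty_secEquiv (M : X.Modules) {V : X.Opens} (hV : IsAffineOpen V) :
    Nonempty ((secMod M hV : Type u) ≃ₗ[Γ(X, V)] Γ(M, V)) := by
  have hT : hV.fromSpec ''ᵁ ⊤ = V := hV.fromSpec.image_top_eq_opensRange.trans hV.opensRange_fromSpec
  let e : Γ(M, V) ≃ₗ[Γ(X, V)] Γ(M.restrict hV.fromSpec, ⊤) :=
    { toFun := fun s => LQcoh.res M hT.le s
      invFun := fun s => LQcoh.res M hT.ge s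
      map_add' := fun a b => map_add (M.presheaf.map (homOfLE hT.le).op).hom a b
      map_smul' := fun r s => (LQcoh.res_smul M hT.le r s).trans (LQcoh.smul_restrict hV M ⊤ r _).symm
      left_inv := fun s => (LQcoh.res_res M _ _ s).trans (LCech.rs_self M.presheaf le_rfl s)
      right_inv := fun s => (LQcoh.res_res M _ _ s).trans (LCech.rs_self M.presheaf le_rfl _) }
  exact ⟨e.symm⟩

theorem projective_secMod_iff (M : X.Modules) {V : X.Opens} (hV : IsAffineOpen V) :
    Module.Projective Γ(X, V) (secMod M hV) ↔ Module.Projective Γ(X, V) Γ(M, V) := by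
  obtain ⟨e⟩ := nonempty_secEquiv M hV
  exact ⟨fun h => Module.Projective.of_equiv' e, fun h => Module.Projective.of_equiv' e.symm⟩

/-- projectivity is preserved by pullback to an affine open over an affine open. -/
theorem projective_transfer (f : X ⟶ Y) (M : Y.Modules) [M.IsQuasicoherent] (N : X.Modules) [N.IsQuasicoherent]
    (e : (Scheme.Modules.pullback f).obj M ≅ N) {V : Y.Opens} (hV : IsAffineOpen V) {W : X.Opens} (hW : IsAffineOpen W)
    (h : W ≤ f ⁻¹ᵁ V) (hp : Module.Projective Γ(Y, V) (secMod M hV)) : Module.Projective Γ(X, W) (secMod N hW) := by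
  obtain ⟨e₁⟩ := nonempty_chartIso M f hV (f.appLE V W h) hW.fromSpec (IsAffineOpen.SpecMap_appLE_fromSpec f hV hW h).symm
  obtain ⟨e₂⟩ := nonempty_tildeIso N hW
  let e₃ := ((tilde.fullyFaithfulFunctor (R := Γ(X, W))).preimageIso
    (e₁.symm ≪≫ (Scheme.Modules.pullback hW.fromSpec).mapIso e ≪≫ e₂)).toLinearEquiv
  letI := (f.appLE V W h).hom.toAlgebra
  haveI : Module.Projective Γ(X, W) ((ModuleCat.extendScalars.{u, u, u} (f.appLE V W h).hom).obj (secMod M hV)) :=
    inferInstanceAs (Module.Projective Γ(X, W) (TensorProduct Γ(Y, V) Γ(X, W) (secMod M hV)))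
  exact Module.Projective.of_equiv' e₃

theorem projective_pi {A : Type u} [CommRing A] {ι : Type u} [Finite ι] (R : ι → Type u) [∀ i, CommRing (R i)]
    [∀ i, Algebra A (R i)] (N : Type u) [AddCommGroup N] [Module A N]
    (h : ∀ i, Module.Projective (R i) (TensorProduct A (R i) N)) :
    Module.Projective (∀ i, R i) (TensorProduct A (∀ i, R i) N) := by
  classical
  haveI := Fintype.ofFinite ι
  letI : ∀ i, Algebra (∀ j, R j) (R i) := fun i => (Pi.evalRingHom R i).toAlgebra
  haveI : ∀ i, IsScalarTower A (∀ j, R j) (R i) := fun i => IsScalarTower.of_algebraMap_eq fun _ => rfl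
  haveI : ∀ i, Module.Projective (∀ j, R j) (R i) := fun i => by
    let inc : R i →ₗ[∀ j, R j] (∀ j, R j) :=
      { toFun := fun r => Pi.single i r
        map_add' := fun a b => Pi.single_add i a b
        map_smul' := fun c r => by
          ext j
          by_cases hj : j = i
          · subst hj; simp [RingHom.algebraMap_toAlgebra, Algebra.smul_def]
          · simp [Pi.single_eq_of_ne hj] }
    exact Module.Projective.of_split inc (Algebra.linearMap (∀ j, R j) (R i))
      (LinearMap.ext fun r => by simp [inc, RingHom.algebraMap_toAlgebra])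
  let f : TensorProduct A (∀ i, R i) N →ₗ[∀ i, R i] (∀ i, TensorProduct A (R i) N) :=
    LinearMap.pi fun i => TensorProduct.AlgebraTensorModule.rTensor A N (Algebra.linearMap (∀ j, R j) (R i))
  let g : (∀ i, TensorProduct A (R i) N) →ₗ[A] TensorProduct A (∀ i, R i) N :=
    (TensorProduct.piLeft A N R).symm.toLinearMap
  have hf : ∀ z, f z = TensorProduct.piLeft A N R z := by
    intro z
    induction z with
    | zero => simp
    | add a b ha hb => simp only [map_add, ha, hb]
    | tmul r n => funext i; exact rfl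
  have hbij : Function.Bijective f := by
    rw [show (f : TensorProduct A (∀ i, R i) N → _) = TensorProduct.piLeft A N R from funext hf]
    exact (TensorProduct.piLeft A N R).bijective
  haveI : ∀ i, Module.Projective (∀ j, R j) (TensorProduct A (R i) N) := fun i => by
    haveI := h i
    obtain ⟨s, hs⟩ := Module.projective_def'.mp (h i)
    classical
    haveI : Module.Projective (∀ j, R j) (TensorProduct A (R i) N →₀ R i) :=
      Module.Projective.of_equiv' (finsuppLequivDFinsupp (∀ j, R j)).symm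
    exact Module.Projective.of_split (s.restrictScalars (∀ j, R j))
      ((Finsupp.linearCombination (R i) id).restrictScalars (∀ j, R j)) (LinearMap.ext fun x => LinearMap.congr_fun hs x)
  haveI : Module.Projective (∀ i, R i) (Π₀ i, TensorProduct A (R i) N) := inferInstance
  haveI : Module.Projective (∀ i, R i) (∀ i, TensorProduct A (R i) N) :=
    Module.Projective.of_equiv' (DFinsupp.linearEquivFunOnFintype (R := ∀ i, R i))
  exact Module.Projective.of_equiv' (LinearEquiv.ofBijective f hbij).symm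

/-- projectivity of sections is local. -/
theorem projective_of_cover (M : X.Modules) [M.IsQuasicoherent] {U : X.Opens} (hU : IsAffineOpen U)
    (h : ∀ x ∈ U, ∃ (W : X.Opens) (hW : IsAffineOpen W), x ∈ W ∧ W ≤ U ∧ Module.Projective Γ(X, W) (secMod M hW)) :
    Module.Projective Γ(X, U) (secMod M hU) := by
  choose W hW hxW hWU hp using h
  obtain ⟨t, ht⟩ := hU.isCompact.elim_finite_subcover (fun x : U => (W x.1 x.2 : Set X)) (fun x => (W x.1 x.2).2)
    (fun x hx => Set.mem_iUnion.2 ⟨⟨x, hx⟩, hxW x hx⟩)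
  let R : t → Type u := fun i => Γ(X, W i.1.1 i.1.2)
  let r : ∀ i : t, Γ(X, U) ⟶ Γ(X, W i.1.1 i.1.2) := fun i => (𝟙 X : X ⟶ X).appLE U (W i.1.1 i.1.2) (hWU i.1.1 i.1.2)
  letI : ∀ i, Algebra Γ(X, U) (R i) := fun i => (r i).hom.toAlgebra
  haveI : Module.FaithfullyFlat Γ(X, U) (∀ i, R i) := by
    haveI : ∀ i, Module.Flat Γ(X, U) (R i) := fun i =>
      (HasRingHomProperty.appLE (P := @Flat) (𝟙 X : X ⟶ X) inferInstance ⟨U, hU⟩ ⟨_, hW i.1.1 i.1.2⟩ (hWU i.1.1 i.1.2) :)
    haveI : Module.Flat Γ(X, U) (∀ i, R i) := by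
      classical
      exact Module.Flat.of_linearEquiv (DFinsupp.linearEquivFunOnFintype (R := Γ(X, U)) (M := R)).symm
    refine Module.FaithfullyFlat.of_comap_surjective fun p => ?_
    have hp' : hU.fromSpec p ∈ U := by rw [← SetLike.mem_coe, ← hU.range_fromSpec]; exact ⟨p, rfl⟩
    obtain ⟨i, hi, hxi⟩ := Set.mem_iUnion₂.1 (ht hp')
    obtain ⟨q, hq⟩ : hU.fromSpec p ∈ Set.range (hW i.1 i.2).fromSpec := by rw [(hW i.1 i.2).range_fromSpec]; exact hxi
    refine ⟨PrimeSpectrum.comap (Pi.evalRingHom R ⟨i, hi⟩) q, hU.fromSpec.injective ?_⟩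
    rw [← hq, ← PrimeSpectrum.comap_comp_apply]
    have := IsAffineOpen.SpecMap_appLE_fromSpec (𝟙 X : X ⟶ X) hU (hW i.1 i.2) (hWU i.1 i.2)
    rw [Category.comp_id] at this
    conv_rhs => rw [← this]
    rfl
  haveI : Module.Projective (∀ i, R i) (TensorProduct Γ(X, U) (∀ i, R i) (secMod M hU)) := by
    refine projective_pi R (secMod M hU) fun i => ?_
    obtain ⟨e₁⟩ := nonempty_affIso M hU (r i) (hW i.1.1 i.1.2).fromSpec (by
      rw [IsAffineOpen.SpecMap_appLE_fromSpec (𝟙 X : X ⟶ X) hU (hW i.1.1 i.1.2) (hWU i.1.1 i.1.2), Category.comp_id])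
    obtain ⟨e₂⟩ := nonempty_tildeIso M (hW i.1.1 i.1.2)
    haveI := hp i.1.1 i.1.2
    exact Module.Projective.of_equiv' ((tilde.fullyFaithfulFunctor (R := Γ(X, W i.1.1 i.1.2))).preimageIso (e₂.symm ≪≫ e₁)).toLinearEquiv
  exact S0585.result Γ(X, U) (∀ i, R i) (secMod M hU)

end Groth.Agent.H6.ProjQCoh
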