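import Groth.Agent.Lib.H6.EtaScheme
import Mathlib.RingTheory.TensorProduct.Maps
import Mathlib.FieldTheory.IsAlgClosed.AlgebraicClosure

set_option linter.all false
set_option autoImplicit false

/-! Existence of the absolute weak normalization of a ring. -/

namespace Groth.Agent.H6.AWN

universe u

open AlgebraicGeometry CategoryTheory TensorProduct

variable {A C : Type u} [CommRing A] [CommRing C]

/-- field-point form of a universal homeomorphism -/
structure Uh (ψ : A →+* C) : Prop where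
  int : ψ.IsIntegral
  surj : Function.Surjective (PrimeSpectrum.comap ψ)
  inj : ∀ (K : Type u) [Field K] (u v : C →+* K), u.comp ψ = v.comp ψ → u = v

theorem uh_iff (ψ : A →+* C) : FlatMor.IsUnivHomeo (Spec.map (CommRingCat.ofHom ψ)) ↔ Uh ψ := by
  rw [Groth.Agent.S0415.result]
  constructor
  · rintro ⟨h1, h2, h3⟩
    refine ⟨IsIntegralHom.SpecMap_iff.1 h1, h3.surj, fun K _ u v huv => ?_⟩
    have e := (tfae_universallyInjective (Spec.map (CommRingCat.ofHom ψ))).out 0 1
    have h := e.1 h2 K (a₁ := Spec.map (CommRingCat.ofHom u)) (a₂ := Spec.map (CommRingCat.ofHom v)) (by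
      change Spec.map _ ≫ _ = Spec.map _ ≫ _
      rw [← Spec.map_comp, ← Spec.map_comp, ← CommRingCat.ofHom_comp, ← CommRingCat.ofHom_comp, huv])
    exact congrArg CommRingCat.Hom.hom (Spec.map_injective h)
  · intro h
    refine ⟨IsIntegralHom.SpecMap_iff.2 h.int, ?_, ⟨h.surj⟩⟩
    have e := (tfae_universallyInjective (Spec.map (CommRingCat.ofHom ψ))).out 1 0
    refine e.1 fun K _ g₁ g₂ hg => ?_
    obtain ⟨u, rfl⟩ := Spec.map_surjective g₁
    obtain ⟨v, rfl⟩ := Spec.map_surjective g₂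
    change Spec.map u ≫ _ = Spec.map v ≫ _ at hg
    rw [← Spec.map_comp, ← Spec.map_comp] at hg
    congr 1
    exact CommRingCat.hom_ext (h.inj K _ _ (congrArg CommRingCat.Hom.hom (Spec.map_injective hg)))

theorem uh_id : Uh (RingHom.id A) :=
  ⟨RingHom.isIntegral_of_surjective _ Function.surjective_id, fun p => ⟨p, rfl⟩, fun _ _ _ _ h => h⟩

theorem exists_point {ψ : A →+* C} (h : Uh ψ) {L : Type u} [Field L] [IsAlgClosed L] (φ : A →+* L) :
    ∃ u : C →+* L, u.comp ψ = φ :=
  Eta.exists_alg_point ψ h.int h.surj φ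

theorem uh_tensor {C₁ C₂ : Type u} [CommRing C₁] [CommRing C₂] [Algebra A C₁] [Algebra A C₂]
    (h₁ : Uh (algebraMap A C₁)) (h₂ : Uh (algebraMap A C₂)) : Uh (algebraMap A (C₁ ⊗[A] C₂)) := by
  refine ⟨?_, fun p => ?_, fun K _ u v huv => ?_⟩
  · haveI : Algebra.IsIntegral A C₁ := ⟨h₁.int⟩
    haveI : Algebra.IsIntegral A C₂ := ⟨h₂.int⟩
    haveI : Algebra.IsIntegral A (C₁ ⊗[A] C₂) := Algebra.IsIntegral.trans C₁
    exact fun x => Algebra.IsIntegral.isIntegral x
  · let L := AlgebraicClosure p.asIdeal.ResidueField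
    let φ : A →+* L := (algebraMap p.asIdeal.ResidueField L).comp (algebraMap A _)
    obtain ⟨u₁, hu₁⟩ := exists_point h₁ φ
    obtain ⟨u₂, hu₂⟩ := exists_point h₂ φ
    letI := φ.toAlgebra
    let w : C₁ ⊗[A] C₂ →ₐ[A] L := Algebra.TensorProduct.productMap
      ({ u₁ with commutes' := fun a => RingHom.congr_fun hu₁ a } : C₁ →ₐ[A] L)
      ({ u₂ with commutes' := fun a => RingHom.congr_fun hu₂ a } : C₂ →ₐ[A] L)
    refine ⟨⟨RingHom.ker w.toRingHom, RingHom.ker_isPrime _⟩, PrimeSpectrum.ext ?_⟩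
    change (RingHom.ker w.toRingHom).comap (algebraMap A (C₁ ⊗[A] C₂)) = p.asIdeal
    rw [RingHom.comap_ker, AlgHom.toRingHom_eq_coe, AlgHom.comp_algebraMap]
    ext a
    rw [RingHom.mem_ker]
    exact ((map_eq_zero_iff _ (algebraMap p.asIdeal.ResidueField L).injective).trans
      Ideal.algebraMap_residueField_eq_zero)
  · apply Algebra.TensorProduct.ringHom_ext
    · refine h₁.inj K _ _ ?_
      rw [RingHom.comp_assoc, RingHom.comp_assoc]
      exact RingHom.ext fun a => by
        simpa using RingHom.congr_fun huv a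
    · refine h₂.inj K _ _ ?_
      refine RingHom.ext fun a => ?_
      have := RingHom.congr_fun huv a
      simp only [RingHom.comp_apply] at this ⊢
      simpa [Algebra.TensorProduct.algebraMap_apply'] using this

/-- the product of algebraic closures of all residue fields -/
abbrev Big (A : Type u) [CommRing A] : Type u :=
  ∀ p : PrimeSpectrum A, AlgebraicClosure p.asIdeal.ResidueField

/-- the diagonal -/
noncomputable def diag (A : Type u) [CommRing A] : A →+* Big A :=
  Pi.ringHom fun p => (algebraMap p.asIdeal.ResidueField _).comp (algebraMap A _)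

theorem lift_big {ψ : A →+* C} (h : Uh ψ) : ∃ χ : C →+* Big A, χ.comp ψ = diag A := by
  choose u hu using fun p : PrimeSpectrum A =>
    exists_point h ((algebraMap p.asIdeal.ResidueField (AlgebraicClosure p.asIdeal.ResidueField)).comp
      (algebraMap A p.asIdeal.ResidueField))
  exact ⟨Pi.ringHom u, RingHom.ext fun a => funext fun p => RingHom.congr_fun (hu p) a⟩

theorem lift_big_unique {ψ : A →+* C} (h : Uh ψ) {χ χ' : C →+* Big A}
    (e : χ.comp ψ = χ'.comp ψ) : χ = χ' :=
  RingHom.ext fun c => funext fun p => RingHom.congr_fun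
    (h.inj _ ((Pi.evalRingHom _ p).comp χ) ((Pi.evalRingHom _ p).comp χ')
      (by rw [RingHom.comp_assoc, RingHom.comp_assoc, e])) c

/-- elements coming from universal homeomorphisms -/
def Mem (A : Type u) [CommRing A] (x : Big A) : Prop :=
  ∃ (C : Type u) (_ : CommRing C) (ψ : A →+* C) (χ : C →+* Big A),
    Uh ψ ∧ χ.comp ψ = diag A ∧ x ∈ χ.range

theorem mem_pair {x y : Big A} (hx : Mem A x) (hy : Mem A y) :
    ∃ (C : Type u) (_ : CommRing C) (ψ : A →+* C) (χ : C →+* Big A),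
      Uh ψ ∧ χ.comp ψ = diag A ∧ x ∈ χ.range ∧ y ∈ χ.range := by
  obtain ⟨C₁, i₁, ψ₁, χ₁, h₁, e₁, c₁, hc₁⟩ := hx
  obtain ⟨C₂, i₂, ψ₂, χ₂, h₂, e₂, c₂, hc₂⟩ := hy
  letI := ψ₁.toAlgebra
  letI := ψ₂.toAlgebra
  have ht := uh_tensor (A := A) (C₁ := C₁) (C₂ := C₂) h₁ h₂
  obtain ⟨χ, hχ⟩ := lift_big ht
  refine ⟨C₁ ⊗[A] C₂, inferInstance, _, χ, ht, hχ, ⟨c₁ ⊗ₜ 1, ?_⟩, ⟨1 ⊗ₜ c₂, ?_⟩⟩
  · have e : χ.comp (Algebra.TensorProduct.includeLeft (R := A) (S := A) (A := C₁) (B := C₂)).toRingHom = χ₁ :=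
      lift_big_unique h₁ (RingHom.ext fun a => by
        refine (congrArg χ ((Algebra.TensorProduct.includeLeft (R := A) (S := A) (A := C₁) (B := C₂)).commutes a)).trans ?_
        exact (RingHom.congr_fun hχ a).trans (RingHom.congr_fun e₁ a).symm)
    rw [← hc₁, ← e]; rfl
  · have e : χ.comp (Algebra.TensorProduct.includeRight (R := A) (A := C₁) (B := C₂)).toRingHom = χ₂ :=
      lift_big_unique h₂ (RingHom.ext fun a => by
        refine (congrArg χ ((Algebra.TensorProduct.includeRight (R := A) (A := C₁) (B := C₂)).commutes a)).trans ?_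
        exact (RingHom.congr_fun hχ a).trans (RingHom.congr_fun e₂ a).symm)
    rw [← hc₂, ← e]; rfl

theorem mem_diag (a : A) : Mem A (diag A a) :=
  ⟨A, inferInstance, RingHom.id A, diag A, uh_id, RingHom.comp_id _, a, rfl⟩

/-- the absolute weak normalization -/
noncomputable def awn (A : Type u) [CommRing A] : Subring (Big A) where
  carrier := {x | Mem A x}
  one_mem' := by simpa using mem_diag (A := A) 1
  zero_mem' := by simpa using mem_diag (A := A) 0
  mul_mem' hx hy := by
    obtain ⟨C, i, ψ, χ, h, e, hx', hy'⟩ := mem_pair hx hy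
    exact ⟨C, i, ψ, χ, h, e, mul_mem hx' hy'⟩
  add_mem' hx hy := by
    obtain ⟨C, i, ψ, χ, h, e, hx', hy'⟩ := mem_pair hx hy
    exact ⟨C, i, ψ, χ, h, e, add_mem hx' hy'⟩
  neg_mem' := by
    rintro x ⟨C, i, ψ, χ, h, e, hx⟩
    exact ⟨C, i, ψ, χ, h, e, neg_mem hx⟩

/-- the structure map -/
noncomputable def toAwn (A : Type u) [CommRing A] : A →+* awn A :=
  (diag A).codRestrict (awn A) mem_diag

theorem uh_toAwn (A : Type u) [CommRing A] : Uh (toAwn A) := by
  refine ⟨fun x => ?_, fun p => ?_, fun K _ u v huv => RingHom.ext fun x => ?_⟩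
  · obtain ⟨C, i, ψ, χ, h, e, c, hc⟩ := x.2
    obtain ⟨P, hP, hP0⟩ := h.int c
    refine ⟨P, hP, Subtype.ext ?_⟩
    change (awn A).subtype (Polynomial.eval₂ (toAwn A) x P) = 0
    rw [Polynomial.hom_eval₂, show (awn A).subtype.comp (toAwn A) = χ.comp ψ from e.symm,
      show (awn A).subtype x = χ c from hc.symm, ← Polynomial.hom_eval₂, hP0, map_zero]
  · refine ⟨⟨RingHom.ker ((Pi.evalRingHom _ p).comp (awn A).subtype), RingHom.ker_isPrime _⟩,
      PrimeSpectrum.ext ?_⟩
    change (RingHom.ker _).comap (toAwn A) = p.asIdeal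
    rw [RingHom.comap_ker]
    ext a
    rw [RingHom.mem_ker]
    exact ((map_eq_zero_iff _ (algebraMap p.asIdeal.ResidueField _).injective).trans
      Ideal.algebraMap_residueField_eq_zero)
  · obtain ⟨C, i, ψ, χ, h, e, c, hc⟩ := x.2
    let χ' : C →+* awn A := χ.codRestrict (awn A) fun c' => ⟨C, i, ψ, χ, h, e, c', rfl⟩
    have hχ' : χ'.comp ψ = toAwn A := RingHom.ext fun a => Subtype.ext (RingHom.congr_fun e a)
    have := h.inj K (u.comp χ') (v.comp χ') (by rw [RingHom.comp_assoc, RingHom.comp_assoc, hχ', huv])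
    have hx : χ' c = x := Subtype.ext hc
    rw [← hx]
    exact RingHom.congr_fun this c

theorem exists_awn (A : Type u) [CommRing A] :
    ∃ (B : Type u) (_ : CommRing B) (φ : A →+* B), HTop.IsRingAWN φ := by
  refine ⟨awn A, inferInstance, toAwn A, (uh_iff _).2 (uh_toAwn A), fun C i ψ hψ => ?_⟩
  have h := (uh_iff ψ).1 hψ
  obtain ⟨χ, hχ⟩ := lift_big h
  refine ⟨χ.codRestrict (awn A) fun c => ⟨C, i, ψ, χ, h, hχ, c, rfl⟩,
    RingHom.ext fun a => Subtype.ext (RingHom.congr_fun hχ a), fun χ'' hc => ?_⟩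
  refine RingHom.ext fun c => Subtype.ext ?_
  exact RingHom.congr_fun (lift_big_unique h (χ := (awn A).subtype.comp χ'') (χ' := χ)
    (RingHom.ext fun a => (congrArg Subtype.val (RingHom.congr_fun hc a)).trans
      (RingHom.congr_fun hχ a).symm)) c

end Groth.Agent.H6.AWN
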