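import Groth.Agent.Lib.H6.UhTower2
import Groth.Prelude.Def_HTop2
import Mathlib.RingTheory.Localization.Away.Basic
import Mathlib.RingTheory.Ideal.Quotient.Operations
import Mathlib.Algebra.CharP.Lemmas
import Mathlib.RingTheory.Nilpotent.Lemmas

set_option linter.all false
set_option autoImplicit false

/-! Seminormal and absolutely weakly normal rings: basic theory. -/

namespace Groth.Agent.H6.AWN

universe u

open Groth.Agent.H6

/-- two elements of a reduced ring agreeing in all fields are equal -/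
theorem ext_fields {R : Type u} [CommRing R] [IsReduced R] {a b : R}
    (h : ∀ (K : Type u) [Field K] (f : R →+* K), f a = f b) : a = b := by
  rw [← sub_eq_zero]
  refine IsNilpotent.eq_zero (nilpotent_iff_mem_prime.2 fun P hP => ?_)
  rw [← Ideal.algebraMap_residueField_eq_zero (I := P), map_sub, sub_eq_zero]
  exact h _ _

theorem sq_eq_field {K : Type u} [Field K] {a b : K} (h2 : a ^ 2 = b ^ 2) (h3 : a ^ 3 = b ^ 3) :
    a = b := by
  by_cases hb : b = 0
  · rw [hb] at h2 ⊢
    exact eq_zero_of_pow_eq_zero (h2.trans (zero_pow two_ne_zero))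
  · refine mul_right_cancel₀ (pow_ne_zero 2 hb) ?_
    calc a * b ^ 2 = a ^ 3 := by rw [← h2]; ring
      _ = b * b ^ 2 := by rw [h3]; ring

theorem p_eq_field {K : Type u} [Field K] {p : ℕ} (hp : p.Prime) {a b : K}
    (h1 : (p : K) * a = p * b) (h2 : a ^ p = b ^ p) : a = b := by
  by_cases hp0 : (p : K) = 0
  · haveI := Fact.mk hp
    haveI : CharP K p := (CharP.charP_iff_prime_eq_zero hp).2 hp0
    haveI : ExpChar K p := expChar_prime K p
    exact frobenius_inj K p h2
  · exact mul_left_cancel₀ hp0 h1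

theorem sq_eq {R : Type u} [CommRing R] [IsReduced R] {a b : R} (h2 : a ^ 2 = b ^ 2)
    (h3 : a ^ 3 = b ^ 3) : a = b :=
  ext_fields fun K _ f => sq_eq_field (by rw [← map_pow, ← map_pow, h2])
    (by rw [← map_pow, ← map_pow, h3])

theorem p_eq {R : Type u} [CommRing R] [IsReduced R] {p : ℕ} (hp : p.Prime) {a b : R}
    (h1 : (p : R) * a = p * b) (h2 : a ^ p = b ^ p) : a = b :=
  ext_fields fun K _ f => p_eq_field hp (by rw [← map_natCast f, ← map_mul, h1, map_mul])
    (by rw [← map_pow, ← map_pow, h2])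

theorem seminormal_of {R : Type u} [CommRing R] [IsReduced R]
    (h : ∀ x y : R, x ^ 3 = y ^ 2 → ∃ a, x = a ^ 2 ∧ y = a ^ 3) : HTop.IsSeminormalRing R :=
  fun x y e => by
    obtain ⟨a, ha⟩ := h x y e
    exact ⟨a, ha, fun b hb => sq_eq (hb.1 ▸ ha.1) (hb.2 ▸ ha.2)⟩

theorem awn_of {R : Type u} [CommRing R] [IsReduced R]
    (h : ∀ x y : R, x ^ 3 = y ^ 2 → ∃ a, x = a ^ 2 ∧ y = a ^ 3)
    (h' : ∀ p : ℕ, p.Prime → ∀ x y : R, (p : R) ^ p * x = y ^ p →
      ∃ a, x = a ^ p ∧ y = (p : R) * a) : HTop.IsAWNRing R :=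
  ⟨seminormal_of h, fun p hp x y e => by
    obtain ⟨a, ha⟩ := h' p hp x y e
    exact ⟨a, ha, fun b hb => p_eq hp (hb.2 ▸ ha.2) (hb.1 ▸ ha.1)⟩⟩

theorem isReduced_of_seminormal {R : Type u} [CommRing R] (h : HTop.IsSeminormalRing R) :
    IsReduced R := by
  refine (isReduced_iff_pow_one_lt 2 one_lt_two).2 fun x hx => ?_
  obtain ⟨a, -, huniq⟩ := h 0 0 (by rw [zero_pow (by omega), zero_pow (by omega)])
  exact (huniq x ⟨hx.symm, by rw [pow_succ, hx, zero_mul]⟩).trans
    (huniq 0 ⟨(zero_pow two_ne_zero).symm, (zero_pow (by omega)).symm⟩).symm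

theorem seminormal_equiv {R S : Type u} [CommRing R] [CommRing S] (e : R ≃+* S)
    (h : HTop.IsSeminormalRing R) : HTop.IsSeminormalRing S := by
  haveI := isReduced_of_seminormal h
  haveI : IsReduced S := isReduced_of_injective e.symm e.symm.injective
  refine seminormal_of fun x y hxy => ?_
  obtain ⟨a, ⟨h1, h2⟩, -⟩ := h (e.symm x) (e.symm y) (by rw [← map_pow, ← map_pow, hxy])
  exact ⟨e a, by rw [← map_pow, ← h1, e.apply_symm_apply], by rw [← map_pow, ← h2, e.apply_symm_apply]⟩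

theorem awn_equiv {R S : Type u} [CommRing R] [CommRing S] (e : R ≃+* S)
    (h : HTop.IsAWNRing R) : HTop.IsAWNRing S := by
  refine ⟨seminormal_equiv e h.1, fun p hp x y hxy => ?_⟩
  haveI := isReduced_of_seminormal (seminormal_equiv e h.1)
  obtain ⟨a, ⟨h1, h2⟩, -⟩ := h.2 p hp (e.symm x) (e.symm y)
    (by rw [← map_natCast e.symm, ← map_pow, ← map_pow, ← map_mul, hxy])
  refine ⟨e a, ⟨?_, ?_⟩, fun b hb => p_eq hp ?_ ?_⟩
  · rw [← map_pow, ← h1, e.apply_symm_apply]
  · rw [← map_natCast e, ← map_mul, ← h2, e.apply_symm_apply]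
  · rw [← hb.2, ← map_natCast e, ← map_mul, ← h2, e.apply_symm_apply]
  · rw [← hb.1, ← map_pow, ← h1, e.apply_symm_apply]

/-! localizations -/

section away

variable {R : Type u} [CommRing R] (f : R) (S : Type u) [CommRing S] [Algebra R S]
  [IsLocalization.Away f S]

include f in
theorem away_seminormal (h : HTop.IsSeminormalRing R) : HTop.IsSeminormalRing S := by
  have h' := isReduced_of_seminormal h
  haveI : IsReduced S := isReduced_localizationPreserves (Submonoid.powers f) S h'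
  refine seminormal_of fun x y hxy => ?_
  obtain ⟨n, x₀, hx⟩ := IsLocalization.Away.surj f x
  obtain ⟨m, y₀, hy⟩ := IsLocalization.Away.surj f y
  let N := n + m
  have hu : IsUnit (algebraMap R S f) := IsLocalization.Away.algebraMap_isUnit f
  have hx' : x * algebraMap R S f ^ (2 * N) = algebraMap R S (x₀ * f ^ (2 * N - n)) := by
    rw [map_mul, map_pow, ← hx, mul_assoc, ← pow_add]; congr 2; omega
  have hy' : y * algebraMap R S f ^ (3 * N) = algebraMap R S (y₀ * f ^ (3 * N - m)) := by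
    rw [map_mul, map_pow, ← hy, mul_assoc, ← pow_add]; congr 2; omega
  generalize x₀ * f ^ (2 * N - n) = a at hx'
  generalize y₀ * f ^ (3 * N - m) = b at hy'
  have he : algebraMap R S (a ^ 3) = algebraMap R S (b ^ 2) := by
    rw [map_pow, map_pow, ← hx', ← hy', mul_pow, mul_pow, hxy, ← pow_mul, ← pow_mul]; ring
  obtain ⟨k, hk⟩ := IsLocalization.Away.exists_of_eq f he
  obtain ⟨c, ⟨hc1, hc2⟩, -⟩ := h (a * f ^ (2 * k)) (b * f ^ (3 * k)) (by
    calc (a * f ^ (2 * k)) ^ 3 = f ^ (5 * k) * (f ^ k * a ^ 3) := by ring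
      _ = f ^ (5 * k) * (f ^ k * b ^ 2) := by rw [hk]
      _ = (b * f ^ (3 * k)) ^ 2 := by ring)
  obtain ⟨v, hv⟩ := (hu.pow (N + k)).exists_right_inv
  refine ⟨algebraMap R S c * v, ?_, ?_⟩
  · rw [mul_pow, ← map_pow, ← hc1, map_mul, map_pow, ← hx']
    linear_combination (-x * ((algebraMap R S f ^ (N + k) * v) + 1)) * hv
  · rw [mul_pow, ← map_pow, ← hc2, map_mul, map_pow, ← hy']
    linear_combination (-y * ((algebraMap R S f ^ (N + k) * v) ^ 2 + (algebraMap R S f ^ (N + k) * v) + 1)) * hv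

include f in
theorem away_awn (h : HTop.IsAWNRing R) : HTop.IsAWNRing S := by
  refine ⟨away_seminormal f S h.1, fun p hp x y hxy => ?_⟩
  haveI := isReduced_of_seminormal (away_seminormal f S h.1)
  obtain ⟨n, x₀, hx⟩ := IsLocalization.Away.surj f x
  obtain ⟨m, y₀, hy⟩ := IsLocalization.Away.surj f y
  let N := n + m
  have hp1 := hp.one_le
  have hN : n ≤ p * N := le_trans (by omega) (Nat.le_mul_of_pos_left N hp.pos)
  have hu : IsUnit (algebraMap R S f) := IsLocalization.Away.algebraMap_isUnit f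
  have hx' : x * algebraMap R S f ^ (p * N) = algebraMap R S (x₀ * f ^ (p * N - n)) := by
    rw [map_mul, map_pow, ← hx, mul_assoc, ← pow_add]; congr 2; omega
  have hy' : y * algebraMap R S f ^ N = algebraMap R S (y₀ * f ^ (N - m)) := by
    rw [map_mul, map_pow, ← hy, mul_assoc, ← pow_add]; congr 2; omega
  generalize x₀ * f ^ (p * N - n) = a at hx'
  generalize y₀ * f ^ (N - m) = b at hy'
  have he : algebraMap R S ((p : R) ^ p * a) = algebraMap R S (b ^ p) := by
    rw [map_mul, map_pow, map_pow, map_natCast, ← hx', ← hy', mul_pow, ← mul_assoc, hxy, ← pow_mul,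
      mul_comm N p]
  obtain ⟨k, hk⟩ := IsLocalization.Away.exists_of_eq f he
  obtain ⟨c, ⟨hc1, hc2⟩, -⟩ := h.2 p hp (a * f ^ (p * k)) (b * f ^ k) (by
    have e : f ^ (p * k) = f ^ ((p - 1) * k) * f ^ k := by
      rw [← pow_add, ← Nat.succ_mul, Nat.succ_eq_add_one, Nat.sub_add_cancel hp1]
    calc (p : R) ^ p * (a * f ^ (p * k)) = f ^ ((p - 1) * k) * (f ^ k * ((p : R) ^ p * a)) := by
          rw [e]; ring
      _ = f ^ ((p - 1) * k) * (f ^ k * b ^ p) := by rw [hk]
      _ = b ^ p * f ^ (p * k) := by rw [e]; ring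
      _ = (b * f ^ k) ^ p := by rw [mul_pow, ← pow_mul, mul_comm p k])
  obtain ⟨v, hv⟩ := (hu.pow (N + k)).exists_right_inv
  have key : algebraMap R S f ^ (p * N) * algebraMap R S f ^ (p * k) * v ^ p = 1 := by
    rw [← pow_add, ← mul_add, mul_comm p, pow_mul, ← mul_pow, hv, one_pow]
  have h1 : x = (algebraMap R S c * v) ^ p := by
    rw [mul_pow, ← map_pow, ← hc1, map_mul, map_pow, ← hx']
    linear_combination (-x) * key
  have h2 : y = (p : S) * (algebraMap R S c * v) := by
    rw [← mul_assoc, ← map_natCast (algebraMap R S), ← map_mul, ← hc2, map_mul, map_pow, ← hy']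
    linear_combination (-y) * hv
  exact ⟨algebraMap R S c * v, ⟨h1, h2⟩, fun d hd => p_eq hp (hd.2 ▸ h2) (hd.1 ▸ h1)⟩

end away

section span

variable {R : Type u} [CommRing R] (s : Set R) (hs : Ideal.span s = ⊤)

include hs in
theorem reduced_of_span (h : ∀ f ∈ s, IsReduced (Localization.Away f)) : IsReduced R := by
  haveI : ∀ a : s, IsReduced (Localization.Away (a : R)) := fun a => h a a.2
  exact isReduced_of_injective (Pi.ringHom fun a : s => algebraMap R (Localization.Away (a : R)))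
    (fun x y e => Localization.algebraMap_injective_of_span_eq_top s hs (funext fun a => congr_fun e a))

include hs in
theorem glue [IsReduced R] (P : ∀ {S : Type u} [CommRing S], (R →+* S) → S → Prop)
    (hmap : ∀ {S T : Type u} [CommRing S] [CommRing T] (φ : R →+* S) (g : S →+* T) (a : S),
      P φ a → P (g.comp φ) (g a))
    (huniq : ∀ {S : Type u} [CommRing S] [IsReduced S] (φ : R →+* S) (a b : S), P φ a → P φ b → a = b)
    (hloc : ∀ f ∈ s, ∃ a, P (algebraMap R (Localization.Away f)) a)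
    (hinj : ∀ r, (∀ f ∈ s, P (algebraMap R (Localization.Away f)) (algebraMap R _ r)) →
      P (RingHom.id R) r) :
    ∃ r, P (RingHom.id R) r := by
  choose a ha using fun f : s => hloc f.1 f.2
  obtain ⟨r, hr, -⟩ := Localization.existsUnique_algebraMap_eq_of_span_eq_top s hs a fun f g => by
    haveI : IsReduced (Localization.Away (f.1 * g.1 : R)) :=
      isReduced_localizationPreserves (Submonoid.powers (f.1 * g.1)) _ ‹IsReduced R›
    have h1 := hmap _ (IsLocalization.Away.awayToAwayRight (P := Localization.Away (f.1 * g.1 : R)) f.1 g.1) _ (ha f)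
    have h2 := hmap _ (IsLocalization.Away.awayToAwayLeft (P := Localization.Away (f.1 * g.1 : R)) g.1 f.1) _ (ha g)
    have e1 : (IsLocalization.Away.awayToAwayRight (P := Localization.Away (f.1 * g.1 : R)) (S := Localization.Away f.1) f.1 g.1).comp
        (algebraMap R _) = algebraMap R _ :=
      RingHom.ext fun x => IsLocalization.Away.awayToAwayRight_eq f.1 g.1 x
    have e2 : (IsLocalization.Away.awayToAwayLeft (P := Localization.Away (f.1 * g.1 : R)) (S := Localization.Away g.1) g.1 f.1).comp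
        (algebraMap R _) = algebraMap R _ :=
      RingHom.ext fun x => IsLocalization.Away.awayToAwayLeft_eq g.1 f.1 x
    rw [e1] at h1
    rw [e2] at h2
    exact huniq _ _ _ h1 h2
  exact ⟨r, hinj r fun f hf => (hr ⟨f, hf⟩).symm ▸ ha ⟨f, hf⟩⟩

include hs in
theorem eq_of_span {x y : R} (h : ∀ f ∈ s, algebraMap R (Localization.Away f) x = algebraMap R _ y) :
    x = y :=
  Localization.algebraMap_injective_of_span_eq_top s hs (funext fun a => h a.1 a.2)

include hs in
theorem seminormal_span (h : ∀ f ∈ s, HTop.IsSeminormalRing (Localization.Away f)) :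
    HTop.IsSeminormalRing R := by
  haveI := reduced_of_span s hs fun f hf => isReduced_of_seminormal (h f hf)
  refine seminormal_of fun x y hxy => ?_
  obtain ⟨r, hr⟩ := glue s hs (fun {S} _ φ a => φ x = a ^ 2 ∧ φ y = a ^ 3)
    (fun φ g a ha => ⟨by rw [RingHom.comp_apply, ha.1, map_pow], by rw [RingHom.comp_apply, ha.2, map_pow]⟩)
    (fun φ a b ha hb => sq_eq (ha.1.symm.trans hb.1) (ha.2.symm.trans hb.2))
    (fun f hf => (h f hf _ _ (by rw [← map_pow, ← map_pow, hxy])).exists)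
    (fun r hr => ⟨eq_of_span s hs fun f hf => by rw [RingHom.id_apply, (hr f hf).1, map_pow],
      eq_of_span s hs fun f hf => by rw [RingHom.id_apply, (hr f hf).2, map_pow]⟩)
  exact ⟨r, hr⟩

include hs in
theorem awn_span (h : ∀ f ∈ s, HTop.IsAWNRing (Localization.Away f)) : HTop.IsAWNRing R := by
  haveI := reduced_of_span s hs fun f hf => isReduced_of_seminormal (h f hf).1
  refine awn_of (fun x y e => (seminormal_span s hs (fun f hf => (h f hf).1) x y e).exists)
    fun p hp x y hxy => ?_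
  obtain ⟨r, hr⟩ := glue s hs (fun {S} _ φ a => φ x = a ^ p ∧ φ y = (p : S) * a)
    (fun φ g a ha => ⟨by rw [RingHom.comp_apply, ha.1, map_pow],
      by rw [RingHom.comp_apply, ha.2, map_mul, map_natCast]⟩)
    (fun φ a b ha hb => p_eq hp (ha.2.symm.trans hb.2) (ha.1.symm.trans hb.1))
    (fun f hf => ((h f hf).2 p hp _ _ (by
      rw [← map_natCast (algebraMap R (Localization.Away f)), ← map_pow, ← map_pow, ← map_mul, hxy])).exists)
    (fun r hr => ⟨eq_of_span s hs fun f hf => by rw [RingHom.id_apply, (hr f hf).1, map_pow],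
      eq_of_span s hs fun f hf => by
        rw [RingHom.id_apply, (hr f hf).2, map_mul, map_natCast]⟩)
  exact ⟨r, hr⟩

end span

/-! universal homeomorphisms -/

variable {A B C D : Type u} [CommRing A] [CommRing B] [CommRing C] [CommRing D]

theorem uh_comp {ψ : A →+* B} {χ : B →+* C} (h : Uh ψ) (h' : Uh χ) : Uh (χ.comp ψ) := by
  refine ⟨h.int.trans ψ χ h'.int, ?_, fun K _ u v e => h'.inj K u v (h.inj K _ _ e)⟩
  rw [PrimeSpectrum.comap_comp]
  exact h.surj.comp h'.surj

theorem uh_cancel {ψ : A →+* B} {χ : B →+* C} (h : Uh ψ) (hc : Uh (χ.comp ψ)) : Uh χ := by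
  refine ⟨RingHom.IsIntegral.tower_top ψ χ hc.int, fun q => ?_,
    fun K _ u v e => hc.inj K u v (by rw [← RingHom.comp_assoc, ← RingHom.comp_assoc, e])⟩
  obtain ⟨r, hr⟩ := hc.surj (PrimeSpectrum.comap ψ q)
  exact ⟨r, (Eta.univHomeo_integral ψ ((uh_iff ψ).2 h)).2.1
    ((PrimeSpectrum.comap_comp_apply ψ χ r).symm.trans hr)⟩

theorem uh_inj_reduced [IsReduced A] {ψ : A →+* B} (h : Uh ψ) : Function.Injective ψ := by
  refine (injective_iff_map_eq_zero ψ).2 fun a ha => ?_
  refine IsNilpotent.eq_zero (nilpotent_iff_mem_prime.2 fun P hP => ?_)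
  obtain ⟨Q, hQ⟩ := h.surj ⟨P, hP⟩
  rw [show P = Q.asIdeal.comap ψ from (congrArg PrimeSpectrum.asIdeal hQ).symm]
  rw [Ideal.mem_comap, ha]
  exact zero_mem _

/-- a universal homeomorphism from an AWN ring to a reduced ring is an isomorphism -/
theorem bij_of_awn (hA : HTop.IsAWNRing A) [IsReduced B] {ψ : A →+* B} (h : Uh ψ) :
    Function.Bijective ψ := by
  haveI := isReduced_of_seminormal hA.1
  have hinj := uh_inj_reduced h
  refine ⟨hinj, fun w => ?_⟩
  letI := ψ.toAlgebra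
  obtain ⟨l, hl, hok⟩ := (Tower.any_iff (A := A) (B := B) hinj).1 h {w}
  refine RingHom.mem_range.1 (Tower.ok_good (A := A) (fun y => y ∈ ψ.range)
    (fun T hT y hy => ?_) (fun S b hS hb => ?_) hok w (hl (by simp)))
  · exact (Algebra.adjoin_le (S := (Algebra.ofId A B).range) hT) hy
  · rcases hb with ⟨h2, h3⟩ | ⟨p, hp, h1, h2⟩
    · obtain ⟨x, hx⟩ := hS _ h2
      obtain ⟨y, hy⟩ := hS _ h3
      obtain ⟨a, ⟨ha, ha'⟩, -⟩ := hA.1 x y (hinj (by rw [map_pow, map_pow, hx, hy]; ring))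
      exact ⟨a, sq_eq (by rw [← map_pow, ← ha, hx]) (by rw [← map_pow, ← ha', hy])⟩
    · obtain ⟨y, hy⟩ := hS _ h1
      obtain ⟨x, hx⟩ := hS _ h2
      obtain ⟨a, ⟨ha, ha'⟩, -⟩ := hA.2 p hp x y
        (hinj (by rw [map_mul, map_pow, map_pow, map_natCast, hx, hy, mul_pow]))
      exact ⟨a, p_eq hp (by rw [← map_natCast ψ, ← map_mul, ← ha', hy, map_natCast])
        (by rw [← map_pow, ← ha, hx])⟩

theorem bij_of_seminormal (hA : HTop.IsSeminormalRing A) [IsReduced B] {ψ : A →+* B} (h : Uh ψ)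
    (hr : ∀ (Q : Ideal B) [Q.IsPrime], Function.Surjective (Ideal.ResidueField.map (Q.comap ψ) Q ψ rfl)) :
    Function.Bijective ψ := by
  haveI := isReduced_of_seminormal hA
  have hinj := uh_inj_reduced h
  refine ⟨hinj, fun w => ?_⟩
  letI := ψ.toAlgebra
  obtain ⟨l, hl, hok⟩ := (Tower.sq_iff (A := A) (B := B) hinj).1 ⟨h, hr⟩ {w}
  refine RingHom.mem_range.1 (Tower.ok_good (A := A) (fun y => y ∈ ψ.range)
    (fun T hT y hy => ?_) (fun S b hS hb => ?_) hok w (hl (by simp)))
  · exact (Algebra.adjoin_le (S := (Algebra.ofId A B).range) hT) hy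
  · obtain ⟨x, hx⟩ := hS _ hb.1
    obtain ⟨y, hy⟩ := hS _ hb.2
    obtain ⟨a, ⟨ha, ha'⟩, -⟩ := hA x y (hinj (by rw [map_pow, map_pow, hx, hy]; ring))
    exact ⟨a, sq_eq (by rw [← map_pow, ← ha, hx]) (by rw [← map_pow, ← ha', hy])⟩

/-! the concrete absolute weak normalization is absolutely weakly normal -/

theorem exists_field_sq {K : Type u} [Field K] (x y : K) (h : x ^ 3 = y ^ 2) :
    ∃ a, x = a ^ 2 ∧ y = a ^ 3 := by
  by_cases hx : x = 0
  · subst hx
    rw [zero_pow (by omega)] at h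
    obtain rfl : y = 0 := eq_zero_of_pow_eq_zero h.symm
    exact ⟨0, by simp, by simp⟩
  · refine ⟨y / x, ?_, ?_⟩
    · rw [div_pow, ← h, eq_div_iff (pow_ne_zero 2 hx)]; ring
    · rw [div_pow, eq_div_iff (pow_ne_zero 3 hx), h]; ring

theorem exists_field_p {K : Type u} [Field K] [IsAlgClosed K] {p : ℕ} (hp : p.Prime) (x y : K)
    (h : (p : K) ^ p * x = y ^ p) : ∃ a, x = a ^ p ∧ y = (p : K) * a := by
  by_cases hp0 : (p : K) = 0
  · obtain ⟨a, ha⟩ := IsAlgClosed.exists_pow_nat_eq x hp.pos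
    rw [hp0, zero_pow hp.ne_zero, zero_mul] at h
    exact ⟨a, ha.symm, by rw [hp0, zero_mul, eq_zero_of_pow_eq_zero h.symm]⟩
  · refine ⟨y / p, ?_, by rw [mul_div_cancel₀ _ hp0]⟩
    rw [div_pow, ← h, mul_div_cancel_left₀ _ (pow_ne_zero p hp0)]

theorem step_mem (A : Type u) [CommRing A] (a : Big A)
    (ha : Tower.AnyStep (awn A : Set (Big A)) a) : a ∈ awn A := by
  let C : Subalgebra (awn A) (Big A) := Algebra.adjoin (awn A) {a}
  have hinj : Function.Injective (algebraMap (awn A) C) := fun x y e =>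
    Subtype.ext (congrArg (fun c : C => (c : Big A)) e)
  have hC : Uh (algebraMap (awn A) C) := by
    refine Tower.uh_of_cover hinj (fun _ _ h => h) (P := Tower.AnyStep) fun E =>
      ⟨[⟨a, Algebra.subset_adjoin rfl⟩], ?_, ?_⟩
    · rintro ⟨x, hx⟩ -
      have := Algebra.adjoin_le (S := (Algebra.adjoin (awn A)
        {b : C | b ∈ [(⟨a, Algebra.subset_adjoin rfl⟩ : C)]}).map C.val)
        (s := {a}) (fun z hz => ⟨⟨a, Algebra.subset_adjoin rfl⟩,
          Algebra.subset_adjoin (List.mem_singleton.2 rfl), (Set.mem_singleton_iff.1 hz).symm⟩) hx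
      obtain ⟨z, hz, e⟩ := this
      obtain rfl : z = ⟨x, hx⟩ := Subtype.ext e
      exact hz
    · intro i
      have hi : ([(⟨a, Algebra.subset_adjoin rfl⟩ : C)]).get i = ⟨a, Algebra.subset_adjoin rfl⟩ :=
        List.mem_singleton.1 (List.get_mem _ _)
      rw [hi]
      have hin : ∀ c : C, (c : Big A) ∈ awn A →
          c ∈ (Tower.pre (awn A) [(⟨a, Algebra.subset_adjoin rfl⟩ : C)] i : Set C) := fun c hc => by
        have e : c = algebraMap (awn A) C ⟨c, hc⟩ := Subtype.ext rfl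
        rw [e]
        exact Subalgebra.algebraMap_mem _ _
      rcases ha with ⟨h2, h3⟩ | ⟨p, hp, h1, h2⟩
      · exact Or.inl ⟨hin _ h2, hin _ h3⟩
      · exact Or.inr ⟨p, hp, hin _ (by simpa using h1), hin _ h2⟩
  exact ⟨C, inferInstance, _, C.val.toRingHom, uh_comp (uh_toAwn A) hC,
    RingHom.ext fun _ => rfl, ⟨a, Algebra.subset_adjoin rfl⟩, rfl⟩

instance isReduced_awn (A : Type u) [CommRing A] : IsReduced (awn A) := by
  haveI : IsReduced (Big A) := ⟨fun x ⟨n, hn⟩ => funext fun q => eq_zero_of_pow_eq_zero (congrFun hn q)⟩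
  exact isReduced_of_injective (awn A).subtype Subtype.val_injective

theorem isAWN_awn (A : Type u) [CommRing A] : HTop.IsAWNRing (awn A) := by
  refine awn_of (fun x y h => ?_) fun p hp x y h => ?_
  · have h' : ∀ q, ((x : Big A) q) ^ 3 = ((y : Big A) q) ^ 2 := fun q =>
      congrFun (congrArg Subtype.val h) q
    choose a ha hb using fun q => exists_field_sq _ _ (h' q)
    have e1 : (x : Big A) = (fun q => a q) ^ 2 := funext ha
    have e2 : (y : Big A) = (fun q => a q) ^ 3 := funext hb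
    exact ⟨⟨_, step_mem A _ (Or.inl ⟨e1 ▸ x.2, e2 ▸ y.2⟩)⟩, Subtype.ext e1, Subtype.ext e2⟩
  · have h' : ∀ q, (p : AlgebraicClosure q.asIdeal.ResidueField) ^ p * ((x : Big A) q) =
        ((y : Big A) q) ^ p := fun q => congrFun (congrArg Subtype.val h) q
    choose a ha hb using fun q => exists_field_p hp _ _ (h' q)
    have e1 : (x : Big A) = (fun q => a q) ^ p := funext ha
    have e2 : (y : Big A) = (p : Big A) * (fun q => a q) := funext hb
    exact ⟨⟨_, step_mem A _ (Or.inr ⟨p, hp, e2 ▸ y.2, e1 ▸ x.2⟩)⟩, Subtype.ext e1, Subtype.ext e2⟩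

theorem isRingAWN_toAwn (A : Type u) [CommRing A] : HTop.IsRingAWN (toAwn A) := by
  refine ⟨(uh_iff _).2 (uh_toAwn A), fun C i ψ hψ => ?_⟩
  have h := (uh_iff ψ).1 hψ
  obtain ⟨χ, hχ⟩ := lift_big h
  refine ⟨χ.codRestrict (awn A) fun c => ⟨C, i, ψ, χ, h, hχ, c, rfl⟩,
    RingHom.ext fun a => Subtype.ext (RingHom.congr_fun hχ a), fun χ'' hc => ?_⟩
  exact RingHom.ext fun c => Subtype.ext (RingHom.congr_fun (lift_big_unique h
    (χ := (awn A).subtype.comp χ'') (χ' := χ)
    (RingHom.ext fun a => (congrArg Subtype.val (RingHom.congr_fun hc a)).trans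
      (RingHom.congr_fun hχ a).symm)) c)

theorem isAWN_of_isRingAWN {φ : A →+* B} (h : HTop.IsRingAWN φ) : HTop.IsAWNRing B := by
  obtain ⟨χ, hχ, -⟩ := h.2 _ (toAwn A) (isRingAWN_toAwn A).1
  obtain ⟨χ', hχ', -⟩ := (isRingAWN_toAwn A).2 _ φ h.1
  have e1 : χ.comp χ' = RingHom.id B := (h.2 B φ h.1).unique
    (by rw [RingHom.comp_assoc, hχ', hχ]) (RingHom.id_comp φ)
  have e2 : χ'.comp χ = RingHom.id _ := ((isRingAWN_toAwn A).2 _ (toAwn A) (isRingAWN_toAwn A).1).unique
    (by rw [RingHom.comp_assoc, hχ, hχ']) (RingHom.id_comp _)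
  exact awn_equiv (RingEquiv.ofRingHom χ χ' e1 e2) (isAWN_awn A)

/-- recognition of the absolute weak normalization -/
theorem isRingAWN_of {φ : A →+* B} (h : Uh φ) (hB : HTop.IsAWNRing B) : HTop.IsRingAWN φ := by
  obtain ⟨χ, hχ, -⟩ := (isRingAWN_toAwn A).2 B φ ((uh_iff φ).2 h)
  have hb := bij_of_awn hB (uh_cancel h (hχ.symm ▸ uh_toAwn A))
  let e := RingEquiv.ofBijective χ hb
  refine ⟨(uh_iff φ).2 h, fun C i ψ hψ => ?_⟩
  obtain ⟨g, hg, hg'⟩ := (isRingAWN_toAwn A).2 C ψ hψ
  refine ⟨e.symm.toRingHom.comp g, RingHom.ext fun a => ?_, fun g' hg'' => RingHom.ext fun c => ?_⟩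
  · apply hb.1
    exact (e.apply_symm_apply _).trans ((RingHom.congr_fun hg a).trans (RingHom.congr_fun hχ a).symm)
  · apply hb.1
    refine (RingHom.congr_fun (hg' (χ.comp g') ?_) c).trans (e.apply_symm_apply _).symm
    exact (RingHom.comp_assoc ..).trans ((congrArg χ.comp hg'').trans hχ)

end Groth.Agent.H6.AWN
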