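import Groth.Agent.Lib.H6.AWNSn

set_option linter.all false
set_option autoImplicit false
set_option backward.isDefEq.respectTransparency.types false

/-! Morphisms out of a universal homeomorphism factor through finite universal homeomorphisms. -/

namespace Groth.Agent.H6.AWNSch

universe u

open CategoryTheory Limits AlgebraicGeometry
open Groth.Agent.H6

theorem uinj_of_comp_surj {A B C : Scheme.{u}} (f : A ⟶ B) (g : B ⟶ C) [Surjective f]
    [UniversallyInjective (f ≫ g)] : UniversallyInjective g := by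
  have e := (tfae_universallyInjective g).out 2 0
  have e' := (tfae_universallyInjective (f ≫ g)).out 0 2
  obtain ⟨hinj, hres⟩ := e'.1 ‹_›
  refine e.1 ⟨fun b b' hb => ?_, fun b => ?_⟩
  · obtain ⟨a, rfl⟩ := f.surjective b
    obtain ⟨a', rfl⟩ := f.surjective b'
    exact congrArg f.base (hinj (by simpa using hb))
  · obtain ⟨a, rfl⟩ := f.surjective b
    have h := hres a
    rw [Scheme.residueFieldMap_comp] at h
    replace h : ((f.residueFieldMap a).hom.comp (g.residueFieldMap (f.base a)).hom).IsPurelyInseparable := h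
    letI := ((f.residueFieldMap a).hom.comp (g.residueFieldMap (f.base a)).hom).toAlgebra
    letI := (g.residueFieldMap (f.base a)).hom.toAlgebra
    haveI : IsPurelyInseparable (C.residueField (g.base (f.base a))) (A.residueField a) := h
    refine (isPurelyInseparable_iff_pow_mem (C.residueField (g.base (f.base a)))
      (ringExpChar (C.residueField (g.base (f.base a))))).2 fun x => ?_
    obtain ⟨n, c, hc⟩ := IsPurelyInseparable.pow_mem (C.residueField (g.base (f.base a)))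
      (ringExpChar (C.residueField (g.base (f.base a)))) ((f.residueFieldMap a).hom x)
    exact ⟨n, c, (f.residueFieldMap a).hom.injective (by rw [map_pow]; exact hc)⟩

theorem res_of_comp_surj {A B C : Scheme.{u}} (f : A ⟶ B) (g : B ⟶ C) [Surjective f]
    (h : HTop.ResidueFieldsIso (f ≫ g)) : HTop.ResidueFieldsIso g := fun b => by
  obtain ⟨a, rfl⟩ := f.surjective b
  have hh := h a
  rw [Scheme.residueFieldMap_comp] at hh
  have hb := (ConcreteCategory.isIso_iff_bijective _).1 hh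
  refine (ConcreteCategory.isIso_iff_bijective _).2 ⟨(g.residueFieldMap (f.base a)).hom.injective, fun x => ?_⟩
  obtain ⟨c, hc⟩ := hb.2 (f.residueFieldMap a x)
  exact ⟨c, (f.residueFieldMap a).hom.injective hc⟩

theorem uhm_finite_of_factor {A B C : Scheme.{u}} (f : A ⟶ B) (g : B ⟶ C) [Surjective f]
    [LocallyOfFiniteType g] (h : FlatMor.IsUnivHomeo (f ≫ g)) :
    IsFinite g ∧ FlatMor.IsUnivHomeo g := by
  obtain ⟨_, _, hs⟩ := uh_cases h
  haveI : UniversallyInjective g := uinj_of_comp_surj f g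
  haveI : Surjective g := ⟨fun c => by
    obtain ⟨a, ha⟩ := hs.surj c
    exact ⟨f.base a, by simpa using ha⟩⟩
  haveI : UniversallyClosed g := .of_comp_surjective f g
  haveI : IsAffineHom g := isAffineHom_of_isInducing g
    ((Topology.IsClosedEmbedding.of_continuous_injective_isClosedMap g.continuous g.injective
      g.isClosedMap).isInducing) g.isClosedMap.isClosed_range
  haveI : IsIntegralHom g := IsIntegralHom.iff_universallyClosed_and_isAffineHom.2 ⟨‹_›, ‹_›⟩
  exact ⟨(IsFinite.iff_isIntegralHom_and_locallyOfFiniteType g).2 ⟨‹_›, ‹_›⟩, uhm⟩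

theorem exists_finite_factor {S X T T' : Scheme.{u}} [X.IsSeparated] (fX : X ⟶ S)
    [LocallyOfFiniteType fX] (fT : T ⟶ S) (ν : T' ⟶ T) (hν : FlatMor.IsUnivHomeo ν)
    (g : T' ⟶ X) (hg : g ≫ fX = ν ≫ fT) :
    ∃ (T₁ : Scheme.{u}) (π : T₁ ⟶ T) (g₁ : T₁ ⟶ X) (h : T' ⟶ T₁), IsFinite π ∧
      FlatMor.IsUnivHomeo π ∧ (HTop.ResidueFieldsIso ν → HTop.ResidueFieldsIso π) ∧
      h ≫ π = ν ∧ g₁ ≫ fX = π ≫ fT ∧ h ≫ g₁ = g := by
  obtain ⟨_, _, _⟩ := uh_cases hν
  let j : T' ⟶ pullback fX fT := pullback.lift g ν hg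
  haveI : IsSeparated fX := .of_comp fX (terminal.from S)
  haveI : QuasiCompact j := by
    haveI : QuasiCompact (j ≫ pullback.snd fX fT) := by rw [pullback.lift_snd]; infer_instance
    exact .of_comp j (pullback.snd fX fT)
  haveI : UniversallyClosed j := by
    haveI : UniversallyClosed (j ≫ pullback.snd fX fT) := by rw [pullback.lift_snd]; infer_instance
    exact MorphismProperty.of_postcomp (W := @UniversallyClosed) (W' := @IsSeparated) j (pullback.snd fX fT)
      inferInstance ‹_›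
  haveI : Surjective j.toImage := ⟨fun w => by
    have hw : j.imageι.base w ∈ j.ker.support := by
      rw [← SetLike.mem_coe, ← Scheme.IdealSheafData.range_subschemeι]
      exact ⟨w, rfl⟩
    rw [← SetLike.mem_coe, Scheme.Hom.support_ker, IsClosed.closure_eq j.isClosedMap.isClosed_range] at hw
    obtain ⟨a, ha⟩ := hw
    refine ⟨a, j.imageι.isEmbedding.injective ?_⟩
    refine Eq.trans ?_ ha
    rw [← Scheme.Hom.comp_apply, j.toImage_imageι]⟩
  have hfac : j.toImage ≫ j.imageι ≫ pullback.snd fX fT = ν := by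
    rw [j.toImage_imageι_assoc, pullback.lift_snd]
  obtain ⟨h1, h2⟩ := uhm_finite_of_factor j.toImage (j.imageι ≫ pullback.snd fX fT) (hfac ▸ hν)
  refine ⟨_, j.imageι ≫ pullback.snd fX fT, j.imageι ≫ pullback.fst fX fT, j.toImage, h1, h2,
    fun hr => res_of_comp_surj j.toImage _ (hfac.symm ▸ hr), hfac, ?_, ?_⟩
  · rw [Category.assoc, Category.assoc, pullback.condition]
  · rw [j.toImage_imageι_assoc, pullback.lift_fst]

theorem exists_finite_eq {S X T T' : Scheme.{u}} [X.IsSeparated] (fX : X ⟶ S) (fT : T ⟶ S)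
    (ν : T' ⟶ T) (hν : FlatMor.IsUnivHomeo ν) {T₁ T₂ : Scheme.{u}} (π₁ : T₁ ⟶ T) (π₂ : T₂ ⟶ T)
    [IsFinite π₁] [IsFinite π₂] (hπ₁ : FlatMor.IsUnivHomeo π₁) (hπ₂ : FlatMor.IsUnivHomeo π₂)
    (g₁ : T₁ ⟶ X) (g₂ : T₂ ⟶ X) (h₁ : T' ⟶ T₁) (h₂ : T' ⟶ T₂)
    (e₁ : g₁ ≫ fX = π₁ ≫ fT) (e₂ : g₂ ≫ fX = π₂ ≫ fT) (f₁ : h₁ ≫ π₁ = ν) (f₂ : h₂ ≫ π₂ = ν)
    (he : h₁ ≫ g₁ = h₂ ≫ g₂) :
    ∃ (T₃ : Scheme.{u}) (π₃ : T₃ ⟶ T) (a₁ : T₃ ⟶ T₁) (a₂ : T₃ ⟶ T₂), IsFinite π₃ ∧
      FlatMor.IsUnivHomeo π₃ ∧ (HTop.ResidueFieldsIso ν → HTop.ResidueFieldsIso π₃) ∧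
      a₁ ≫ π₁ = π₃ ∧ a₂ ≫ π₂ = π₃ ∧ a₁ ≫ g₁ = a₂ ≫ g₂ := by
  obtain ⟨_, _, hs⟩ := uh_cases hν
  haveI : IsSeparated fX := .of_comp fX (terminal.from S)
  have hsq : (pullback.fst π₁ π₂ ≫ g₁) ≫ fX = (pullback.snd π₁ π₂ ≫ g₂) ≫ fX := by
    rw [Category.assoc, e₁, Category.assoc, e₂, pullback.condition_assoc]
  let k := pullback.lift (pullback.fst π₁ π₂ ≫ g₁) (pullback.snd π₁ π₂ ≫ g₂) hsq
  let i := pullback.fst k (pullback.diagonal fX)
  have heq : i ≫ pullback.fst π₁ π₂ ≫ g₁ = i ≫ pullback.snd π₁ π₂ ≫ g₂ := by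
    have hc := pullback.condition (f := k) (g := pullback.diagonal fX)
    have c1 := congrArg (· ≫ pullback.fst fX fX) hc
    have c2 := congrArg (· ≫ pullback.snd fX fX) hc
    simp only [Category.assoc, pullback.lift_fst, pullback.diagonal_fst, k] at c1
    simp only [Category.assoc, pullback.lift_snd, pullback.diagonal_snd, k] at c2
    exact c1.trans c2.symm
  let l : T' ⟶ pullback π₁ π₂ := pullback.lift h₁ h₂ (f₁.trans f₂.symm)
  have hl : l ≫ k = (h₁ ≫ g₁) ≫ pullback.diagonal fX := by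
    apply pullback.hom_ext
    · simp only [l, k, Category.assoc]
      erw [pullback.lift_fst, pullback.diagonal_fst, Category.comp_id, pullback.lift_fst_assoc]
    · simp only [l, k, Category.assoc]
      erw [pullback.lift_snd, pullback.diagonal_snd, Category.comp_id, pullback.lift_snd_assoc, he]
  let h := pullback.lift l (h₁ ≫ g₁) hl
  let π₃ := (i ≫ pullback.fst π₁ π₂) ≫ π₁
  have hh : h ≫ π₃ = ν := by
    simp only [π₃, i, h, l, Category.assoc, pullback.lift_fst_assoc, f₁]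
  obtain ⟨_, _, _⟩ := uh_cases (uhm_comp (uhm_pullback_fst (f := π₁) hπ₂) hπ₁)
  haveI : Surjective π₃ := ⟨fun t => by
    obtain ⟨a, ha⟩ := hs.surj t
    exact ⟨h.base a, (congrArg (fun φ : T' ⟶ T => φ.base a) hh).trans ha⟩⟩
  haveI : IsFinite π₃ := inferInstance
  haveI : UniversallyInjective π₃ := by
    haveI : UniversallyInjective (i ≫ pullback.fst π₁ π₂ ≫ π₁) :=
      MorphismProperty.comp_mem (W := @UniversallyInjective) _ _ inferInstance ‹_›
    simpa [π₃] using this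
  refine ⟨_, π₃, i ≫ pullback.fst π₁ π₂, i ≫ pullback.snd π₁ π₂, ‹_›, uhm, fun hr => ?_, rfl, ?_, ?_⟩
  · haveI : Surjective h := ⟨fun w => by
      obtain ⟨a, ha⟩ := hs.surj (π₃.base w)
      exact ⟨a, π₃.injective ((congrArg (fun φ : T' ⟶ T => φ.base a) hh).trans ha)⟩⟩
    exact res_of_comp_surj h π₃ (hh.symm ▸ hr)
  · simp only [π₃, Category.assoc, pullback.condition]
  · simpa only [Category.assoc] using heq

end Groth.Agent.H6.AWNSch
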