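import Groth.Agent.Lib.H6.AWNSn2
import Groth.Prelude.Def_Pi1
import Mathlib.AlgebraicGeometry.Morphisms.SchemeTheoreticallyDominant
import Mathlib.RingTheory.IntegralClosure.IntegrallyClosed

set_option linter.all false
set_option autoImplicit false
set_option backward.isDefEq.respectTransparency.types false

namespace Groth.Agent.H6.AWNSch

universe u

open CategoryTheory Limits AlgebraicGeometry Opposite
open Groth.Agent.H6 Groth.Agent.H6.AWN

theorem seminormal_of_primes {R : Type u} [CommRing R]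
    (h : ∀ P : Ideal R, ∀ _ : P.IsPrime, IsDomain (Localization.AtPrime P) ∧
      IsIntegrallyClosed (Localization.AtPrime P)) : HTop.IsSeminormalRing R := by
  classical
  haveI : _root_.IsReduced R := ⟨fun x hx => by
    refine eq_zero_of_localization x fun J hJ => ?_
    haveI := (h J hJ.isPrime).1
    exact IsReduced.eq_zero _ (hx.map _)⟩
  refine AWN.seminormal_of fun x y hxy => ?_
  let s : Set R := {f | ∃ a : Localization.Away f,
    algebraMap R _ x = a ^ 2 ∧ algebraMap R _ y = a ^ 3}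
  have hs : Ideal.span s = ⊤ := by
    by_contra hne
    obtain ⟨P, hP, hle⟩ := Ideal.exists_le_maximal _ hne
    haveI := (h P hP.isPrime).1
    haveI := (h P hP.isPrime).2
    let L := Localization.AtPrime P
    let K := FractionRing L
    obtain ⟨a, ha, ha'⟩ := AWN.exists_field_sq (algebraMap L K (algebraMap R L x))
      (algebraMap L K (algebraMap R L y)) (by rw [← map_pow, ← map_pow, ← map_pow, ← map_pow, hxy])
    obtain ⟨b, hb⟩ := IsIntegrallyClosed.isIntegral_iff.1
      (IsIntegral.of_pow two_pos (ha ▸ isIntegral_algebraMap) : IsIntegral L a)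
    have e1 : algebraMap R L x = b ^ 2 := IsFractionRing.injective L K (by rw [ha, map_pow, hb])
    have e2 : algebraMap R L y = b ^ 3 := IsFractionRing.injective L K (by rw [ha', map_pow, hb])
    obtain ⟨⟨r, t⟩, hrt⟩ := IsLocalization.surj P.primeCompl b
    have e1' : algebraMap R L (x * (t : R) ^ 2) = algebraMap R L (r ^ 2) := by
      rw [map_mul, map_pow, map_pow, e1, ← mul_pow, hrt]
    have e2' : algebraMap R L (y * (t : R) ^ 3) = algebraMap R L (r ^ 3) := by
      rw [map_mul, map_pow, map_pow, e2, ← mul_pow, hrt]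
    obtain ⟨c, hc⟩ := (IsLocalization.eq_iff_exists P.primeCompl L).1 e1'
    obtain ⟨d, hd⟩ := (IsLocalization.eq_iff_exists P.primeCompl L).1 e2'
    let f : R := (t : R) * c * d
    have hfP : f ∉ P := ((t * c * d : P.primeCompl)).2
    refine hfP (hle (Ideal.subset_span ?_))
    let φ := algebraMap R (Localization.Away f)
    have hu : IsUnit (φ f) := IsLocalization.Away.algebraMap_isUnit f
    simp only [f, map_mul] at hu
    obtain ⟨v, hv⟩ := (isUnit_of_mul_isUnit_left (isUnit_of_mul_isUnit_left hu)).exists_right_inv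
    have c1 : φ (x * (t : R) ^ 2) = φ (r ^ 2) :=
      (isUnit_of_mul_isUnit_right (isUnit_of_mul_isUnit_left hu)).mul_left_cancel
        (by rw [← map_mul, ← map_mul, hc])
    have c2 : φ (y * (t : R) ^ 3) = φ (r ^ 3) :=
      (isUnit_of_mul_isUnit_right hu).mul_left_cancel (by rw [← map_mul, ← map_mul, hd])
    refine ⟨φ r * v, ?_, ?_⟩
    · rw [mul_pow, ← map_pow φ r, ← c1, map_mul, map_pow]
      linear_combination (-(φ x) * (φ t * v + 1)) * hv
    · rw [mul_pow, ← map_pow φ r, ← c2, map_mul, map_pow]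
      linear_combination (-(φ y) * ((φ t * v) ^ 2 + φ t * v + 1)) * hv
  obtain ⟨r, hr⟩ := AWN.glue s hs (fun {S} _ φ a => φ x = a ^ 2 ∧ φ y = a ^ 3)
    (fun φ g a ha => ⟨by rw [RingHom.comp_apply, ha.1, map_pow], by rw [RingHom.comp_apply, ha.2, map_pow]⟩)
    (fun φ a b ha hb => AWN.sq_eq (ha.1.symm.trans hb.1) (ha.2.symm.trans hb.2))
    (fun f hf => hf)
    (fun r hr => ⟨AWN.eq_of_span s hs fun f hf => by rw [RingHom.id_apply, (hr f hf).1, map_pow],
      AWN.eq_of_span s hs fun f hf => by rw [RingHom.id_apply, (hr f hf).2, map_pow]⟩)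
  exact ⟨r, hr⟩

theorem seminormal_of_normal {X : Scheme.{u}} (h : Pi1.IsNormalScheme X) : HTop.IsSeminormal X := by
  intro x
  obtain ⟨_, ⟨U, hU, rfl⟩, hx, -⟩ := X.isBasis_affineOpens.exists_subset_of_mem_open
    (Set.mem_univ x) isOpen_univ
  let W : X.affineOpens := ⟨U, hU⟩
  refine ⟨W, hx, seminormal_of_primes fun P hP => ?_⟩
  let q : Spec Γ(X, U) := ⟨P, hP⟩
  let z : X := hU.fromSpec.base q
  have hz : z ∈ U := by
    show z ∈ (U : Set X)
    rw [← hU.range_fromSpec]
    exact Set.mem_range_self q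
  letI := X.presheaf.algebra_section_stalk ⟨z, hz⟩
  haveI := hU.isLocalization_stalk ⟨z, hz⟩
  have hp : (hU.primeIdealOf ⟨z, hz⟩).asIdeal = P := by
    have e : hU.fromSpec.base (hU.primeIdealOf ⟨z, hz⟩) = hU.fromSpec.base q := hU.fromSpec_primeIdealOf ⟨z, hz⟩
    exact congrArg PrimeSpectrum.asIdeal (hU.fromSpec.injective e)
  have key : ∀ (Q : Ideal Γ(X, U)) [Q.IsPrime], (hU.primeIdealOf ⟨z, hz⟩).asIdeal = Q →
      IsDomain (Localization.AtPrime Q) ∧ IsIntegrallyClosed (Localization.AtPrime Q) := by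
    rintro Q _ rfl
    let e := IsLocalization.algEquiv (hU.primeIdealOf ⟨z, hz⟩).asIdeal.primeCompl
      (X.presheaf.stalk z) (Localization.AtPrime (hU.primeIdealOf ⟨z, hz⟩).asIdeal)
    haveI := (h z).1
    haveI := (h z).2
    exact ⟨e.toRingEquiv.symm.injective.isDomain, IsIntegrallyClosed.of_equiv e.toRingEquiv⟩
  exact key P hp

theorem exists_factor {S Sn X' : Scheme.{u}} (π : Sn ⟶ S) (hn : Pi1.IsNormalScheme Sn)
    (ν : X' ⟶ S) (hν : HTop.IsSeminormalization ν) : ∃ g : Sn ⟶ X', g ≫ ν = π := by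
  let P := pullback π ν
  haveI := red_reduced P
  haveI : IsIso (P.nilradical.subschemeι ≫ pullback.fst π ν) :=
    iso_of_uhm_sn (seminormal_of_normal hn) (uhm_comp (uhm_red P) (uhm_pullback_fst hν.1.1))
      (res_comp (res_preimm _) (res_pullback_fst hν.1.1 hν.1.2))
  refine ⟨inv (P.nilradical.subschemeι ≫ pullback.fst π ν) ≫ P.nilradical.subschemeι ≫ pullback.snd π ν, ?_⟩
  rw [Category.assoc, Category.assoc, ← pullback.condition, ← Category.assoc _ (pullback.fst π ν),
    ← Category.assoc, IsIso.inv_hom_id, Category.id_comp]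

theorem dominant_finite {S Sn X' : Scheme.{u}} [IsNoetherian S] [AlgebraicGeometry.IsReduced S]
    (π : Sn ⟶ S) [IsIntegralHom π]
    (hbir : ∃ U : S.Opens, Dense (U : Set S) ∧ Dense ((π ⁻¹ᵁ U : Sn.Opens) : Set Sn) ∧ IsIso (π ∣_ U))
    (ν : X' ⟶ S) (hν : HTop.IsSeminormalization ν) (hX' : HTop.IsSeminormal X')
    (g : Sn ⟶ X') (hg : g ≫ ν = π) :
    (IsSchemeTheoreticallyDominant ν ∧ IsSchemeTheoreticallyDominant g) ∧
      (IsFinite π → IsFinite ν ∧ IsFinite g) := by
  haveI := reduced_of_seminormal hX'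
  obtain ⟨_, _, hs⟩ := uh_cases hν.1.1
  have hπs : Function.Surjective π.base := by
    obtain ⟨U, hU, -, hi⟩ := hbir
    have h1 : (U : Set S) ⊆ Set.range π.base := fun s hs' => by
      obtain ⟨w, hw⟩ := (π ∣_ U).surjective ⟨s, hs'⟩
      exact ⟨w.1, by simpa using congrArg Subtype.val hw⟩
    intro s
    have h2 := closure_minimal h1 π.isClosedMap.isClosed_range
    exact h2 (hU.closure_eq.symm ▸ Set.mem_univ s)
  haveI : Surjective g := ⟨fun x => by
    obtain ⟨w, hw⟩ := hπs (ν.base x)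
    refine ⟨w, ν.injective ?_⟩
    rw [← hw, ← hg]
    rfl⟩
  haveI hgd : IsSchemeTheoreticallyDominant g := .of_isDominant g
  refine ⟨⟨.of_isDominant ν, hgd⟩, fun hf => ?_⟩
  haveI := hf
  haveI : IsFinite (g ≫ ν) := hg.symm ▸ hf
  haveI hgf : IsFinite g := MorphismProperty.of_postcomp (W := @IsFinite) (W' := @IsSeparated) g ν inferInstance ‹_›
  refine ⟨⟨fun U hU => ?_⟩, hgf⟩
  haveI : IsNoetherianRing Γ(S, U) := IsLocallyNoetherian.component_noetherian ⟨U, hU⟩
  have h1 : ((g ≫ ν).app U).hom.Finite := IsFinite.finite_app (g ≫ ν) U hU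
  have hinj : Function.Injective (g.app (ν ⁻¹ᵁ U)) := g.app_injective _
  rw [Scheme.Hom.comp_app] at h1
  replace h1 : ((g.app (ν ⁻¹ᵁ U)).hom.comp (ν.app U).hom).Finite := h1
  letI := (ν.app U).hom.toAlgebra
  letI := ((g.app (ν ⁻¹ᵁ U)).hom.comp (ν.app U).hom).toAlgebra
  haveI : Module.Finite Γ(S, U) Γ(Sn, g ⁻¹ᵁ ν ⁻¹ᵁ U) := h1
  exact Module.Finite.of_injective
    ({ (g.app (ν ⁻¹ᵁ U)).hom with commutes' := fun r => rfl } :
      Γ(X', ν ⁻¹ᵁ U) →ₐ[Γ(S, U)] Γ(Sn, g ⁻¹ᵁ ν ⁻¹ᵁ U)).toLinearMap hinj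

end Groth.Agent.H6.AWNSch
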