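import Groth.Agent.Lib.H6.AWN2
import Groth.Agent.Lib.H6.Misc
import Mathlib.AlgebraicGeometry.Sites.SmallAffineZariski
import Mathlib.AlgebraicGeometry.Morphisms.ClosedImmersion
import Mathlib.RingTheory.Localization.Integral

set_option linter.all false
set_option autoImplicit false
set_option backward.isDefEq.respectTransparency.types false

/-! Seminormal and absolutely weakly normal schemes. -/

namespace Groth.Agent.H6.AWNSch

universe u

open CategoryTheory Limits AlgebraicGeometry Opposite
open Groth.Agent.H6 Groth.Agent.H6.AWN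

variable {X Y Z : Scheme.{u}}

theorem uh_cases {f : X ⟶ Y} (h : FlatMor.IsUnivHomeo f) :
    IsIntegralHom f ∧ UniversallyInjective f ∧ Surjective f := (Groth.Agent.S0415.result f).1 h

theorem uhm {f : X ⟶ Y} [IsIntegralHom f] [UniversallyInjective f] [Surjective f] :
    FlatMor.IsUnivHomeo f := (Groth.Agent.S0415.result f).2 ⟨‹_›, ‹_›, ‹_›⟩

theorem uhm_iso (f : X ⟶ Y) [IsIso f] : FlatMor.IsUnivHomeo f := uhm

theorem uhm_comp {f : X ⟶ Y} {g : Y ⟶ Z} (hf : FlatMor.IsUnivHomeo f) (hg : FlatMor.IsUnivHomeo g) :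
    FlatMor.IsUnivHomeo (f ≫ g) := by
  obtain ⟨_, _, _⟩ := uh_cases hf
  obtain ⟨_, _, _⟩ := uh_cases hg
  haveI : UniversallyInjective (f ≫ g) :=
    MorphismProperty.comp_mem (W := @UniversallyInjective) f g ‹_› ‹_›
  exact uhm

theorem uhm_cancel {f : X ⟶ Y} {g : Y ⟶ Z} (hfg : FlatMor.IsUnivHomeo (f ≫ g))
    (hg : FlatMor.IsUnivHomeo g) : FlatMor.IsUnivHomeo f := by
  obtain ⟨h1, h2, h3⟩ := uh_cases hfg
  obtain ⟨_, _, _⟩ := uh_cases hg
  haveI : IsIntegralHom f := IsIntegralHom.of_comp f g
  haveI : UniversallyInjective f := by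
    have e' := (tfae_universallyInjective f).out 1 0
    refine e'.1 fun K _ a b hab => ?_
    have e := (tfae_universallyInjective (f ≫ g)).out 0 1
    refine e.1 h2 K ?_
    change a ≫ f ≫ g = b ≫ f ≫ g
    rw [← Category.assoc, ← Category.assoc]
    exact congrArg (· ≫ g) hab
  haveI : Surjective f := ⟨fun y => by
    obtain ⟨x, hx⟩ := h3.surj (g.base y)
    exact ⟨x, g.injective (by simpa using hx)⟩⟩
  exact uhm

theorem uhm_pullback_fst {f : X ⟶ Z} {g : Y ⟶ Z} (hg : FlatMor.IsUnivHomeo g) :
    FlatMor.IsUnivHomeo (pullback.fst f g) := by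
  obtain ⟨_, _, _⟩ := uh_cases hg
  haveI : UniversallyInjective (pullback.fst f g) :=
    MorphismProperty.pullback_fst (P := @UniversallyInjective) f g ‹_›
  exact uhm

theorem red_reduced (X : Scheme.{u}) : AlgebraicGeometry.IsReduced X.nilradical.subscheme :=
  (Groth.Agent.H6.red_sub X _ X.support_nilradical).mpr rfl

theorem uhm_red (X : Scheme.{u}) : FlatMor.IsUnivHomeo X.nilradical.subschemeι := by
  haveI : Surjective X.nilradical.subschemeι := ⟨fun x => by
    have hx : x ∈ Set.range X.nilradical.subschemeι := by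
      rw [Scheme.IdealSheafData.range_subschemeι, Scheme.support_nilradical]; trivial
    exact hx⟩
  exact uhm

/-- morphisms from a reduced scheme lift to the reduction -/
theorem exists_lift_red {S X : Scheme.{u}} [AlgebraicGeometry.IsReduced S] (g : S ⟶ X) :
    ∃ l : S ⟶ X.nilradical.subscheme, l ≫ X.nilradical.subschemeι = g := by
  obtain ⟨-, -, _⟩ := uh_cases (uhm_red X)
  haveI : IsIso (pullback.fst g X.nilradical.subschemeι) :=
    isIso_of_isClosedImmersion_of_surjective _
  exact ⟨inv (pullback.fst g X.nilradical.subschemeι) ≫ pullback.snd _ _,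
    by rw [Category.assoc, ← pullback.condition, IsIso.inv_hom_id_assoc]⟩

theorem restrict_eq (π : Y ⟶ X) [IsAffineHom π] {U : X.Opens} (hU : IsAffineOpen U) :
    π ∣_ U = (hU.preimage π).isoSpec.hom ≫ Spec.map (π.app U) ≫ hU.isoSpec.inv := by
  rw [← cancel_mono U.ι, morphismRestrict_ι, Category.assoc, Category.assoc,
    IsAffineOpen.isoSpec_inv_ι, ← Iso.inv_comp_eq, IsAffineOpen.isoSpec_inv_ι_assoc]
  have := hU.SpecMap_appLE_fromSpec π (hU.preimage π) le_rfl
  rw [Scheme.Hom.app_eq_appLE]
  exact this.symm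

theorem uh_app {π : Y ⟶ X} (h : FlatMor.IsUnivHomeo π) {U : X.Opens} (hU : IsAffineOpen U) :
    Uh (π.app U).hom := by
  obtain ⟨_, _, _⟩ := uh_cases h
  have hr : FlatMor.IsUnivHomeo (π ∣_ U) := by
    haveI : UniversallyInjective (π ∣_ U) :=
      MorphismProperty.of_isPullback (P := @UniversallyInjective) (isPullback_morphismRestrict π U).flip ‹_›
    haveI : Surjective (π ∣_ U) :=
      MorphismProperty.of_isPullback (P := @Surjective) (isPullback_morphismRestrict π U).flip ‹_›
    exact uhm
  rw [← AWN.uh_iff]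
  have e : Spec.map (π.app U) =
      (hU.preimage π).isoSpec.inv ≫ (π ∣_ U) ≫ hU.isoSpec.hom := by
    rw [restrict_eq π hU]; simp
  change FlatMor.IsUnivHomeo (Spec.map (π.app U))
  rw [e]
  exact uhm_comp (uhm_iso _) (uhm_comp hr (uhm_iso _))

theorem isIso_restrict (π : Y ⟶ X) [IsAffineHom π] {U : X.Opens} (hU : IsAffineOpen U)
    (hb : Function.Bijective (π.app U)) : IsIso (π ∣_ U) := by
  haveI : IsIso (π.app U) := (ConcreteCategory.isIso_iff_bijective _).2 hb
  rw [restrict_eq π hU]
  infer_instance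

theorem isIso_of_cover (π : Y ⟶ X) {ι : Type u} (U : ι → X.Opens) (hU : ⨆ i, U i = ⊤)
    (h : ∀ i, IsIso (π ∣_ U i)) : IsIso π :=
  (IsZariskiLocalAtTarget.iff_of_iSup_eq_top (P := MorphismProperty.isomorphisms Scheme.{u}) U hU).2 h

theorem iso_of_uhm [AlgebraicGeometry.IsReduced Y] (hX : HTop.IsAWN X) {π : Y ⟶ X}
    (h : FlatMor.IsUnivHomeo π) : IsIso π := by
  obtain ⟨_, _, _⟩ := uh_cases h
  choose U hxU hU using hX
  refine isIso_of_cover π (fun x => (U x : X.Opens)) ?_ fun x => ?_
  · exact eq_top_iff.2 fun x _ => TopologicalSpace.Opens.mem_iSup.2 ⟨x, hxU x⟩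
  · exact isIso_restrict π (U x).2 (AWN.bij_of_awn (hU x) (uh_app h (U x).2))

theorem awn_of_iso (e : X ≅ Y) (h : HTop.IsAWN X) : HTop.IsAWN Y := fun y => by
  obtain ⟨U, hx, hU⟩ := h (e.inv.base y)
  refine ⟨⟨e.hom ''ᵁ (U : X.Opens), U.2.image_of_isOpenImmersion e.hom⟩, ⟨_, hx, ?_⟩, ?_⟩
  · exact congrFun (congrArg (fun f : Y ⟶ Y => (f.base : Y → Y)) e.inv_hom_id) y
  · exact AWN.awn_equiv (e.hom.appIso U).symm.commRingCatIsoToRingEquiv hU

theorem reduced_of_seminormal (h : HTop.IsSeminormal X) : AlgebraicGeometry.IsReduced X := by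
  haveI : ∀ x : X, _root_.IsReduced (X.presheaf.stalk x) := fun x => by
    obtain ⟨U, hxU, hU⟩ := h x
    haveI : _root_.IsReduced (CommRingCat.of Γ(X, U)) := AWN.isReduced_of_seminormal hU
    haveI : AlgebraicGeometry.IsReduced (U : X.Opens).toScheme :=
      isReduced_of_isOpenImmersion U.2.isoSpec.hom
    exact isReduced_of_injective
      ((U : X.Opens).stalkIso ⟨x, hxU⟩).inv.hom (ConcreteCategory.bijective_of_isIso _).1
  exact isReduced_of_isReduced_stalk X

theorem seminormal_of_awn (h : HTop.IsAWN X) : HTop.IsSeminormal X := fun x =>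
  let ⟨U, hx, hU⟩ := h x; ⟨U, hx, hU.1⟩

/-- a universal homeomorphism with absolutely weakly normal source is the normalization -/
theorem isAWNormalization_of {X' : Scheme.{u}} {ν : X' ⟶ X} (hν : FlatMor.IsUnivHomeo ν)
    (hX' : HTop.IsAWN X') : HTop.IsAWNormalization ν := by
  haveI := reduced_of_seminormal (seminormal_of_awn hX')
  refine ⟨hν, fun Y π hπ => ?_⟩
  let P := pullback ν π
  haveI := red_reduced P
  haveI : IsIso (P.nilradical.subschemeι ≫ pullback.fst ν π) :=
    iso_of_uhm hX' (uhm_comp (uhm_red P) (uhm_pullback_fst hπ))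
  let s := inv (P.nilradical.subschemeι ≫ pullback.fst ν π)
  refine ⟨s ≫ P.nilradical.subschemeι ≫ pullback.snd ν π, ?_, fun h (hh : h ≫ π = ν) => ?_⟩
  · change (s ≫ P.nilradical.subschemeι ≫ pullback.snd ν π) ≫ π = ν
    rw [Category.assoc, Category.assoc, ← pullback.condition, ← Category.assoc _ (pullback.fst ν π),
      ← Category.assoc, IsIso.inv_hom_id, Category.id_comp]
  · obtain ⟨l, hl⟩ := exists_lift_red (pullback.lift (𝟙 X') h (by rw [Category.id_comp, hh]))
    have : l = s := IsIso.eq_inv_of_inv_hom_id (by rw [reassoc_of% hl, pullback.lift_fst])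
    rw [← this, reassoc_of% hl, pullback.lift_snd]

/-! functoriality of the absolute weak normalization of rings -/

variable {A B C : Type u} [CommRing A] [CommRing B] [CommRing C]

theorem awn_hom_ext {D : Type u} [CommRing D] {ψ : A →+* D} (hψ : Uh ψ) {u v : D →+* awn B}
    (h : u.comp ψ = v.comp ψ) : u = v :=
  RingHom.ext fun d => Subtype.ext (funext fun q => RingHom.congr_fun
    (hψ.inj _ (((Pi.evalRingHom _ q).comp (awn B).subtype).comp u)
      (((Pi.evalRingHom _ q).comp (awn B).subtype).comp v)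
      (by rw [RingHom.comp_assoc, RingHom.comp_assoc, RingHom.comp_assoc, RingHom.comp_assoc, h])) d)

theorem uh_baseChange {D : Type u} [CommRing D] [Algebra A D] {W : Type u} [CommRing W] [Algebra A W]
    (h : Uh (algebraMap A W)) : Uh (algebraMap D (TensorProduct A D W)) := by
  rw [← AWN.uh_iff]
  have e := CommRingCat.isPushout_tensorProduct A D W
  obtain ⟨h1, h2, h3⟩ := uh_cases ((AWN.uh_iff _).2 h)
  have hp := (isPullback_SpecMap_of_isPushout _ _ _ _ e).flip
  haveI := MorphismProperty.of_isPullback (P := @IsIntegralHom) hp h1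
  haveI := MorphismProperty.of_isPullback (P := @UniversallyInjective) hp h2
  haveI := MorphismProperty.of_isPullback (P := @Surjective) hp h3
  exact uhm

theorem exists_awnMap (g : A →+* B) :
    ∃ G : awn A →+* awn B, G.comp (toAwn A) = (toAwn B).comp g := by
  letI := g.toAlgebra
  letI := (toAwn A).toAlgebra
  have h := uh_baseChange (A := A) (D := B) (W := awn A) (uh_toAwn A)
  obtain ⟨χ, hχ, -⟩ := (isRingAWN_toAwn B).2 _ _ ((AWN.uh_iff _).2 h)
  refine ⟨χ.comp (Algebra.TensorProduct.includeRight (R := A) (A := B) (B := awn A)).toRingHom,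
    RingHom.ext fun a => ?_⟩
  refine (congrArg χ ((Algebra.TensorProduct.includeRight (R := A) (A := B) (B := awn A)).commutes a)).trans ?_
  rw [Algebra.TensorProduct.algebraMap_apply]
  exact RingHom.congr_fun hχ (g a)

/-- functoriality -/
noncomputable def awnMap (g : A →+* B) : awn A →+* awn B := (exists_awnMap g).choose

theorem awnMap_comm (g : A →+* B) : (awnMap g).comp (toAwn A) = (toAwn B).comp g :=
  (exists_awnMap g).choose_spec

theorem awnMap_id : awnMap (RingHom.id A) = RingHom.id (awn A) :=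
  awn_hom_ext (uh_toAwn A) (by rw [awnMap_comm, RingHom.comp_id, RingHom.id_comp])

theorem awnMap_comp (g : A →+* B) (k : B →+* C) : awnMap (k.comp g) = (awnMap k).comp (awnMap g) :=
  awn_hom_ext (uh_toAwn A) (RingHom.ext fun a => (RingHom.congr_fun (awnMap_comm _) a).trans
    ((congrArg (awnMap k) (RingHom.congr_fun (awnMap_comm g) a)).trans
      (RingHom.congr_fun (awnMap_comm k) (g a))).symm)

theorem awnMap_away (g : A →+* B) (f : A) (hB : letI := g.toAlgebra; IsLocalization.Away f B) :
    letI := (awnMap g).toAlgebra; IsLocalization.Away (toAwn A f) (awn B) := by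
  letI := g.toAlgebra
  let L := Localization.Away (toAwn A f)
  haveI : IsLocalization.Away f B := hB
  have hunit : IsUnit (((algebraMap (awn A) L).comp (toAwn A)) f) :=
    IsLocalization.Away.algebraMap_isUnit (toAwn A f)
  let σ : B →+* L := IsLocalization.Away.lift f hunit
  have hσ : σ.comp g = (algebraMap (awn A) L).comp (toAwn A) :=
    IsLocalization.Away.lift_comp f hunit
  have hgf : ∀ n : ℕ, IsUnit (algebraMap (awn A) L (toAwn A (f ^ n))) := fun n => by
    rw [map_pow, map_pow]; exact (IsLocalization.Away.algebraMap_isUnit (toAwn A f)).pow n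
  have hext : ∀ {K : Type u} [CommRing K] (u v : L →+* K),
      u.comp (algebraMap (awn A) L) = v.comp (algebraMap (awn A) L) → u = v := fun u v h =>
    IsLocalization.ringHom_ext (Submonoid.powers (toAwn A f)) h
  have hU : Uh σ := by
    refine ⟨fun l => ?_, fun q => ?_, fun K _ u v huv => hext u v ?_⟩
    · obtain ⟨n, w, hw⟩ := IsLocalization.Away.surj (toAwn A f) l
      obtain ⟨P, hP, hP0⟩ := (uh_toAwn A).int w
      have h1 : σ.IsIntegralElem (algebraMap (awn A) L w) := by
        refine ⟨P.map g, hP.map g, ?_⟩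
        rw [Polynomial.eval₂_map, hσ, ← Polynomial.hom_eval₂, hP0, map_zero]
      obtain ⟨c, hc⟩ := (IsLocalization.Away.algebraMap_isUnit (S := B) f).pow n |>.exists_right_inv
      have : l = algebraMap (awn A) L w * σ c := by
        have e : algebraMap (awn A) L (toAwn A f) ^ n = σ (algebraMap A B f ^ n) := by
          rw [map_pow]; exact (congrArg (· ^ n) (RingHom.congr_fun hσ f)).symm
        rw [← hw, e, mul_assoc, ← map_mul, hc, map_one, mul_one]
      rw [this]
      exact RingHom.IsIntegralElem.mul σ h1 σ.isIntegralElem_map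
    · obtain ⟨Q, hQ⟩ := (uh_toAwn A).surj (PrimeSpectrum.comap g q)
      have hf : f ∉ q.asIdeal.comap g := fun h => q.isPrime.ne_top
        (Ideal.eq_top_of_isUnit_mem _ h (IsLocalization.Away.algebraMap_isUnit f))
      have hfQ : toAwn A f ∉ Q.asIdeal := fun h => hf
        ((congrArg PrimeSpectrum.asIdeal hQ).le h)
      have hr : Q ∈ Set.range (PrimeSpectrum.comap (algebraMap (awn A) L)) := by
        rw [PrimeSpectrum.localization_away_comap_range L (toAwn A f)]; exact hfQ
      obtain ⟨r, hr⟩ := hr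
      refine ⟨r, PrimeSpectrum.localization_comap_injective B (Submonoid.powers f) ?_⟩
      change PrimeSpectrum.comap g (PrimeSpectrum.comap σ r) = PrimeSpectrum.comap g q
      rw [← PrimeSpectrum.comap_comp_apply, hσ, PrimeSpectrum.comap_comp_apply, hr, hQ]
    · refine (uh_toAwn A).inj K _ _ ?_
      rw [RingHom.comp_assoc, RingHom.comp_assoc, ← hσ, ← RingHom.comp_assoc, ← RingHom.comp_assoc, huv]
  have hL : HTop.IsAWNRing L := AWN.away_awn (toAwn A f) L (AWN.isAWN_awn A)
  haveI := AWN.isReduced_of_seminormal hL.1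
  obtain ⟨χ, hχ, -⟩ := (isRingAWN_toAwn B).2 L σ ((AWN.uh_iff σ).2 hU)
  have hb := AWN.bij_of_awn hL (AWN.uh_cancel hU (hχ.symm ▸ uh_toAwn B))
  have hcomp : χ.comp (algebraMap (awn A) L) = awnMap g := awn_hom_ext (uh_toAwn A) (by
    rw [awnMap_comm, RingHom.comp_assoc, ← hσ, ← RingHom.comp_assoc, hχ])
  letI := (awnMap g).toAlgebra
  exact IsLocalization.isLocalization_of_algEquiv (Submonoid.powers (toAwn A f))
    (AlgEquiv.ofBijective ({ χ with commutes' := fun a => RingHom.congr_fun hcomp a } : L →ₐ[awn A] awn B) hb)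

/-- the diagram of absolute weak normalizations -/
noncomputable def diagram (X : Scheme.{u}) : X.AffineZariskiSiteᵒᵖ ⥤ CommRingCat.{u} where
  obj U := .of (awn Γ(X, U.unop.toOpens))
  map i := CommRingCat.ofHom (awnMap
    (((Scheme.AffineZariskiSite.toOpensFunctor X).op ⋙ X.presheaf).map i).hom)
  map_id U := CommRingCat.hom_ext ((congrArg awnMap (congrArg CommRingCat.Hom.hom
    (CategoryTheory.Functor.map_id _ U))).trans awnMap_id)
  map_comp i j := CommRingCat.hom_ext ((congrArg awnMap (congrArg CommRingCat.Hom.hom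
    (CategoryTheory.Functor.map_comp _ i j))).trans (awnMap_comp _ _))

/-- the structure map of the diagram -/
noncomputable def diagramMap (X : Scheme.{u}) :
    (Scheme.AffineZariskiSite.toOpensFunctor X).op ⋙ X.presheaf ⟶ diagram X where
  app U := CommRingCat.ofHom (toAwn _)
  naturality U V i := CommRingCat.hom_ext (awnMap_comm _).symm

theorem coequifibered (X : Scheme.{u}) : (diagramMap X).Coequifibered :=
  Scheme.AffineZariskiSite.coequifibered_iff_forall_isLocalizationAway.2 fun U f =>
    awnMap_away _ f (U.2.isLocalization_basicOpen f)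

theorem exists_awnormalization (X : Scheme.{u}) :
    ∃ (X' : Scheme.{u}) (ν : X' ⟶ X), FlatMor.IsUnivHomeo ν ∧ HTop.IsAWN X' := by
  let d := Scheme.AffineZariskiSite.relativeGluingData (coequifibered X)
  haveI : (d.functor ⋙ Scheme.forget).IsLocallyDirected :=
    Scheme.Cover.RelativeGluingData.instIsLocallyDirectedI₀CompFunctorForgetOfIsThin ..
  refine ⟨d.glued, d.toBase, ?_, fun x => ?_⟩
  · have hU : ∀ U : X.AffineZariskiSite, FlatMor.IsUnivHomeo (d.toBase ∣_ U.toOpens) := fun U => by
      have hn : FlatMor.IsUnivHomeo (d.natTrans.app U) := by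
        change FlatMor.IsUnivHomeo (Spec.map ((diagramMap X).app (op U)) ≫ (Scheme.AffineZariskiSite.restrictIsoSpec X).inv.app U)
        exact uhm_comp ((AWN.uh_iff _).2 (uh_toAwn _)) (uhm_iso _)
      have hp : IsPullback (d.natTrans.app U) (colimit.ι d.functor U) U.toOpens.ι d.toBase :=
        d.isPullback_natTrans_ι_toBase U
      have hp' : IsPullback (d.toBase ∣_ U.toOpens) (d.toBase ⁻¹ᵁ U.toOpens).ι U.toOpens.ι d.toBase :=
        isPullback_morphismRestrict _ _
      rw [← hp'.isoIsPullback_hom_fst _ _ hp]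
      exact uhm_comp (uhm_iso _) hn
    have htop : ⨆ U : X.AffineZariskiSite, U.toOpens = ⊤ := iSup_affineOpens_eq_top X
    haveI : IsIntegralHom d.toBase := (IsZariskiLocalAtTarget.iff_of_iSup_eq_top
      (P := @IsIntegralHom) _ htop).2 fun U => (uh_cases (hU U)).1
    haveI : UniversallyInjective d.toBase := (IsZariskiLocalAtTarget.iff_of_iSup_eq_top
      (P := @UniversallyInjective) _ htop).2 fun U => (uh_cases (hU U)).2.1
    haveI : Surjective d.toBase := (IsZariskiLocalAtTarget.iff_of_iSup_eq_top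
      (P := @Surjective) _ htop).2 fun U => (uh_cases (hU U)).2.2
    exact uhm
  · obtain ⟨U, y, rfl⟩ := Scheme.IsLocallyDirected.ι_jointly_surjective d.functor x
    let g : Spec ((diagram X).obj (op U)) ⟶ d.glued := colimit.ι d.functor U
    haveI : IsOpenImmersion g := d.cover.map_prop U
    refine ⟨⟨g ''ᵁ ⊤, (isAffineOpen_top _).image_of_isOpenImmersion g⟩, ⟨y, trivial, rfl⟩, ?_⟩
    exact AWN.awn_equiv ((g.appIso ⊤ ≪≫ Scheme.ΓSpecIso _).symm.commRingCatIsoToRingEquiv)
      (AWN.isAWN_awn _)

end Groth.Agent.H6.AWNSch
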