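import Groth.Agent.Lib.H6.AWNScheme

set_option linter.all false
set_option autoImplicit false
set_option backward.isDefEq.respectTransparency.types false

namespace Groth.Agent.H6.AWNSch

universe u

open CategoryTheory Limits AlgebraicGeometry Opposite
open Groth.Agent.H6 Groth.Agent.H6.AWN

variable {X Y Z : Scheme.{u}}

theorem res_comp {f : X ⟶ Y} {g : Y ⟶ Z} (hf : HTop.ResidueFieldsIso f) (hg : HTop.ResidueFieldsIso g) :
    HTop.ResidueFieldsIso (f ≫ g) := fun x => by
  rw [Scheme.residueFieldMap_comp]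
  exact IsIso.comp_isIso' (hg (f.base x)) (hf x)

theorem res_cancel {f : X ⟶ Y} {g : Y ⟶ Z} (hfg : HTop.ResidueFieldsIso (f ≫ g)) (hg : HTop.ResidueFieldsIso g) :
    HTop.ResidueFieldsIso f := fun x => by
  have hh := hfg x
  rw [Scheme.residueFieldMap_comp] at hh
  haveI := hg (f.base x)
  haveI : IsIso (g.residueFieldMap (f.base x) ≫ f.residueFieldMap x) := hh
  exact IsIso.of_isIso_comp_left (g.residueFieldMap (f.base x)) _

theorem res_open (f : X ⟶ Y) [IsOpenImmersion f] : HTop.ResidueFieldsIso f := fun x => inferInstance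

theorem res_preimm (f : X ⟶ Y) [IsPreimmersion f] : HTop.ResidueFieldsIso f := fun x => by
  refine (ConcreteCategory.isIso_iff_bijective _).2 ⟨(f.residueFieldMap x).hom.injective, fun y => ?_⟩
  obtain ⟨s, rfl⟩ := X.residue_surjective x y
  obtain ⟨t, rfl⟩ := f.stalkMap_surjective x s
  exact ⟨Y.residue (f.base x) t, ConcreteCategory.congr_hom (Scheme.residue_residueFieldMap f x) t⟩

theorem res_app {π : Y ⟶ X} [IsAffineHom π] (h : HTop.ResidueFieldsIso π) {U : X.Opens}
    (hU : IsAffineOpen U) (Q : Ideal Γ(Y, π ⁻¹ᵁ U)) [Q.IsPrime] :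
    Function.Surjective (Ideal.ResidueField.map (Q.comap (π.app U).hom) Q (π.app U).hom rfl) := by
  have h1 : HTop.ResidueFieldsIso (π ∣_ U) := by
    refine res_cancel (g := U.ι) ?_ (res_open _)
    rw [morphismRestrict_ι]
    exact res_comp (res_open _) h
  have e : Spec.map (π.app U) = (hU.preimage π).isoSpec.inv ≫ (π ∣_ U) ≫ hU.isoSpec.hom := by
    rw [restrict_eq π hU]; simp
  have h2 : HTop.ResidueFieldsIso (Spec.map (π.app U)) := by
    rw [e]
    exact res_comp (res_open _) (res_comp h1 (res_open _))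
  have h3 : HTop.ResidueFieldsIso (Spec.map (CommRingCat.ofHom (π.app U).hom)) := h2
  exact (Tower.residueFieldMap_surj_iff (π.app U).hom ⟨Q, inferInstance⟩).1
    (haveI := h3 ⟨Q, inferInstance⟩; (ConcreteCategory.bijective_of_isIso _).2)

theorem iso_of_uhm_sn [AlgebraicGeometry.IsReduced Y] (hX : HTop.IsSeminormal X) {π : Y ⟶ X}
    (h : FlatMor.IsUnivHomeo π) (hr : HTop.ResidueFieldsIso π) : IsIso π := by
  obtain ⟨_, _, _⟩ := uh_cases h
  choose U hxU hU using hX
  refine isIso_of_cover π (fun x => (U x : X.Opens)) ?_ fun x => ?_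
  · exact eq_top_iff.2 fun x _ => TopologicalSpace.Opens.mem_iSup.2 ⟨x, hxU x⟩
  · exact isIso_restrict π (U x).2
      (AWN.bij_of_seminormal (hU x) (uh_app h (U x).2) fun Q _ => res_app hr (U x).2 Q)

theorem isIso_of_seminormalization {X' : Scheme.{u}} {ν : X' ⟶ X} (hν : HTop.IsSeminormalization ν)
    (hX : HTop.IsSeminormal X) : IsIso ν := by
  haveI := red_reduced X'
  haveI := iso_of_uhm_sn hX (uhm_comp (uhm_red X') hν.1.1) (res_comp (res_preimm _) hν.1.2)
  let s := inv (X'.nilradical.subschemeι ≫ ν) ≫ X'.nilradical.subschemeι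
  have hs : s ≫ ν = 𝟙 X := by simp [s]
  exact ⟨s, (hν.2 X' ν hν.1.1 hν.1.2).unique (by rw [Category.assoc, hs, Category.comp_id])
    (Category.id_comp ν), hs⟩

theorem affine_iff (P : ∀ (A : Type u) [CommRing A], Prop)
    (he : ∀ {A B : Type u} [CommRing A] [CommRing B], A ≃+* B → P A → P B)
    (hl : ∀ {A : Type u} [CommRing A] (f : A), P A → P (Localization.Away f))
    (hs : ∀ {A : Type u} [CommRing A] (s : Set A), Ideal.span s = ⊤ →
      (∀ f ∈ s, P (Localization.Away f)) → P A) :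
    (∀ x : X, ∃ U : X.affineOpens, x ∈ (U : X.Opens) ∧ P Γ(X, U)) ↔ ∀ U : X.affineOpens, P Γ(X, U) := by
  have key : ∀ (U : X.affineOpens) (f : Γ(X, U)), Nonempty (Localization.Away f ≃+* Γ(X, X.basicOpen f)) :=
    fun U f => by
      haveI := U.2.isLocalization_basicOpen f
      exact ⟨(IsLocalization.algEquiv (Submonoid.powers f) (Localization.Away f) Γ(X, X.basicOpen f)).toRingEquiv⟩
  refine ⟨fun h V => ?_, fun h x => ?_⟩
  · choose U hxU hU using h
    refine of_affine_open_cover (P := fun U => P Γ(X, U)) U ?_ V ?_ ?_ hU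
    · exact eq_top_iff.2 fun x _ => TopologicalSpace.Opens.mem_iSup.2 ⟨x, hxU x⟩
    · intro U f hU
      obtain ⟨e⟩ := key U f
      exact he e (hl f hU)
    · intro U s hs' h'
      refine hs (s : Set _) hs' fun f hf => ?_
      obtain ⟨e⟩ := key U f
      exact he e.symm (h' ⟨f, hf⟩)
  · obtain ⟨_, ⟨V, hV, rfl⟩, hx, -⟩ := X.isBasis_affineOpens.exists_subset_of_mem_open
      (Set.mem_univ x) isOpen_univ
    let W : X.affineOpens := ⟨V, hV⟩
    exact ⟨W, hx, h W⟩

end Groth.Agent.H6.AWNSch
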