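import Groth.Agent.Lib.H6.AWNSn
import Mathlib.FieldTheory.Perfect
import Mathlib.Algebra.Algebra.ZMod

set_option linter.all false
set_option autoImplicit false
set_option backward.isDefEq.respectTransparency.types false

namespace Groth.Agent.H6.AWNSch

universe u

open CategoryTheory Limits AlgebraicGeometry Opposite
open Groth.Agent.H6 Groth.Agent.H6.AWN

variable {X Y Z : Scheme.{u}}

theorem res_bij_of_section {W : Scheme.{u}} (f : W ⟶ X) (hinj : Function.Injective f.base) (p : W)
    (s : Spec (X.residueField (f.base p)) ⟶ W) (hs : s ≫ f = X.fromSpecResidueField (f.base p)) :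
    Function.Bijective (f.residueFieldMap p) := by
  refine ⟨(f.residueFieldMap p).hom.injective, ?_⟩
  obtain ⟨⟨q, j⟩, e⟩ := (Scheme.SpecToEquivOfField (X.residueField (f.base p)) W).symm.surjective s
  replace e : Spec.map j ≫ W.fromSpecResidueField q = s := e
  have hq : q = p := by
    refine hinj ?_
    have h1 : f.base ((Spec.map j ≫ W.fromSpecResidueField q).base default) = f.base p := by
      rw [e]
      exact (congrArg (fun g : Spec (X.residueField (f.base p)) ⟶ X => g.base default) hs).trans
        (X.fromSpecResidueField_apply (f.base p) default)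
    simpa using h1
  subst hq
  have e2 : Spec.map (f.residueFieldMap q ≫ j) ≫ X.fromSpecResidueField (f.base q) =
      X.fromSpecResidueField (f.base q) := by
    rw [Spec.map_comp, Category.assoc, Scheme.Hom.SpecMap_residueFieldMap_fromSpecResidueField,
      ← Category.assoc, e, hs]
  have e3 : f.residueFieldMap q ≫ j = 𝟙 _ := by
    apply Spec.map_injective
    rw [Spec.map_id, ← cancel_mono (X.fromSpecResidueField (f.base q)), e2]
    exact (Category.id_comp _).symm
  intro y
  refine ⟨j y, j.hom.injective ?_⟩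
  exact ConcreteCategory.congr_hom e3 (j y)

theorem res_pullback_fst {f : X ⟶ Z} {g : Y ⟶ Z} (hg : FlatMor.IsUnivHomeo g)
    (hr : HTop.ResidueFieldsIso g) : HTop.ResidueFieldsIso (pullback.fst f g) := fun p => by
  obtain ⟨_, _, _⟩ := uh_cases (uhm_pullback_fst (f := f) hg)
  obtain ⟨_, _, h3⟩ := uh_cases hg
  refine (ConcreteCategory.isIso_iff_bijective _).2 ?_
  obtain ⟨y, hy⟩ := h3.surj (f.base ((pullback.fst f g).base p))
  haveI := hr y
  let i : Y.residueField y ⟶ X.residueField ((pullback.fst f g).base p) :=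
    inv (g.residueFieldMap y) ≫ (Z.residueFieldCongr hy).hom ≫ f.residueFieldMap _
  refine res_bij_of_section _ (pullback.fst f g).injective p
    (pullback.lift (X.fromSpecResidueField _) (Spec.map i ≫ Y.fromSpecResidueField y) ?_)
    (pullback.lift_fst _ _ _)
  rw [Category.assoc, ← Scheme.Hom.SpecMap_residueFieldMap_fromSpecResidueField,
    ← Scheme.Hom.SpecMap_residueFieldMap_fromSpecResidueField, ← Category.assoc (Spec.map i),
    ← Spec.map_comp]
  simp [i]

theorem isSeminormalization_of {X' : Scheme.{u}} {ν : X' ⟶ X} (hν : FlatMor.IsUnivHomeo ν)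
    (hr : HTop.ResidueFieldsIso ν) (hX' : HTop.IsSeminormal X') : HTop.IsSeminormalization ν := by
  haveI := reduced_of_seminormal hX'
  refine ⟨⟨hν, hr⟩, fun Y π hπ hπr => ?_⟩
  let P := pullback ν π
  haveI := red_reduced P
  haveI : IsIso (P.nilradical.subschemeι ≫ pullback.fst ν π) :=
    iso_of_uhm_sn hX' (uhm_comp (uhm_red P) (uhm_pullback_fst hπ))
      (res_comp (res_preimm _) (res_pullback_fst hπ hπr))
  let s := inv (P.nilradical.subschemeι ≫ pullback.fst ν π)
  refine ⟨s ≫ P.nilradical.subschemeι ≫ pullback.snd ν π, ?_, fun h (hh : h ≫ π = ν) => ?_⟩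
  · change (s ≫ P.nilradical.subschemeι ≫ pullback.snd ν π) ≫ π = ν
    rw [Category.assoc, Category.assoc, ← pullback.condition, ← Category.assoc _ (pullback.fst ν π),
      ← Category.assoc, IsIso.inv_hom_id, Category.id_comp]
  · obtain ⟨l, hl⟩ := exists_lift_red (pullback.lift (𝟙 X') h (by rw [Category.id_comp, hh]))
    have : l = s := IsIso.eq_inv_of_inv_hom_id (by rw [reassoc_of% hl, pullback.lift_fst])
    rw [← this, reassoc_of% hl, pullback.lift_snd]

theorem seminormal_open (h : HTop.IsSeminormal X) (U : X.Opens) : HTop.IsSeminormal U.toScheme := by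
  have h' := (affine_iff (fun A _ => HTop.IsSeminormalRing A)
    (fun e h => AWN.seminormal_equiv e h) (fun f h => AWN.away_seminormal f _ h)
    (fun s hs h => AWN.seminormal_span s hs h)).1 h
  intro x
  obtain ⟨_, ⟨V, hV, rfl⟩, hx, -⟩ := U.toScheme.isBasis_affineOpens.exists_subset_of_mem_open
    (Set.mem_univ x) isOpen_univ
  let W : U.toScheme.affineOpens := ⟨V, hV⟩
  refine ⟨W, hx, AWN.seminormal_equiv (U.ι.appIso V).commRingCatIsoToRingEquiv ?_⟩
  exact h' ⟨U.ι ''ᵁ V, hV.image_of_isOpenImmersion U.ι⟩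

theorem restrict_seminormalization {X' : Scheme.{u}} {ν : X' ⟶ X} (hν : HTop.IsSeminormalization ν)
    (hX' : HTop.IsSeminormal X') (U : X.Opens) : HTop.IsSeminormalization (ν ∣_ U) := by
  obtain ⟨_, _, _⟩ := uh_cases hν.1.1
  refine isSeminormalization_of ?_ (res_cancel (g := U.ι) ?_ (res_open _)) (seminormal_open hX' _)
  · haveI : UniversallyInjective (ν ∣_ U) :=
      MorphismProperty.of_isPullback (P := @UniversallyInjective) (isPullback_morphismRestrict ν U).flip ‹_›
    haveI : Surjective (ν ∣_ U) :=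
      MorphismProperty.of_isPullback (P := @Surjective) (isPullback_morphismRestrict ν U).flip ‹_›
    exact uhm
  · rw [morphismRestrict_ι]
    exact res_comp (res_open _) hν.1.2

/-- perfect rings of prime characteristic are absolutely weakly normal -/
theorem awn_of_perfect {R : Type u} [CommRing R] (p : ℕ) [hpf : Fact p.Prime] [CharP R p]
    (hb : Function.Bijective fun x : R => x ^ p) : HTop.IsAWNRing R := by
  have hp : p.Prime := hpf.out
  have hroot : ∀ x : R, ∃ a : R, a ^ p = x := hb.2
  have hinj : ∀ {a b : R}, a ^ p = b ^ p → a = b := fun {a b} h => hb.1 h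
  haveI : IsReduced R := (isReduced_iff_pow_one_lt 2 one_lt_two).2 fun x hx => hinj (by
    obtain ⟨k, hk⟩ : ∃ k, p = k + 2 := ⟨p - 2, by have := hp.two_le; omega⟩
    rw [zero_pow hp.ne_zero, show x ^ p = x ^ (k + 2) from congrArg (x ^ ·) hk, pow_add, hx, mul_zero])
  refine AWN.awn_of (fun x y h => ?_) fun q hq x y h => ?_
  · rcases hp.eq_two_or_odd with hp2 | hodd
    · obtain ⟨a, ha⟩ := hroot x
      subst hp2
      exact ⟨a, ha.symm, hinj (by rw [← h, ← ha]; ring)⟩
    · obtain ⟨k, hk⟩ : ∃ k, p = 2 * k + 3 := ⟨(p - 3) / 2, by have := hp.two_le; omega⟩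
      obtain ⟨a, ha⟩ := hroot (x ^ k * y)
      refine ⟨a, hinj ?_, hinj ?_⟩
      · have : (a ^ 2) ^ p = (a ^ p) ^ 2 := by ring
        rw [this, ha, mul_pow, ← h, show x ^ p = x ^ (2 * k + 3) from congrArg (x ^ ·) hk]; ring
      · have : (a ^ 3) ^ p = (a ^ p) ^ 3 := by ring
        rw [this, ha, show y ^ p = y ^ (2 * k + 3) from congrArg (y ^ ·) hk]
        calc y ^ (2 * k + 3) = (y ^ 2) ^ k * y ^ 3 := by ring
          _ = (x ^ k * y) ^ 3 := by rw [← h]; ring
  · by_cases hqp : q = p
    · subst hqp
      obtain ⟨a, ha⟩ := hroot x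
      rw [CharP.cast_eq_zero R q, zero_pow hp.ne_zero, zero_mul] at h
      exact ⟨a, ha.symm, by rw [CharP.cast_eq_zero R q, zero_mul, IsReduced.pow_eq_zero h.symm]⟩
    · have hu : IsUnit (q : R) := by
        have := (ZMod.unitOfCoprime q ((Nat.coprime_primes hq hp).2 hqp)).isUnit.map
          (ZMod.castHom (dvd_refl p) R)
        simpa using this
      obtain ⟨w, hw⟩ := hu.exists_right_inv
      refine ⟨y * w, ?_, by linear_combination (-y) * hw⟩
      rw [mul_pow, ← h, mul_comm ((q : R) ^ q) x, mul_assoc, ← mul_pow, hw, one_pow, mul_one]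

end Groth.Agent.H6.AWNSch
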