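import Mathlib

set_option autoImplicit false
set_option linter.all false
set_option backward.isDefEq.respectTransparency.types false

/-! Cofiltered limits of schemes with affine transition maps exist. -/

universe u

open CategoryTheory CategoryTheory.Limits AlgebraicGeometry

namespace Groth.Agent.H6.AffineLim

variable {I : Type u} [SmallCategory I] [IsCofiltered I] (D : I ⥤ Scheme.{u})
  [hD : ∀ {i j : I} (f : i ⟶ j), IsAffineHom (D.map f)] (i₀ : I)

/-- the diagram over `i₀`. -/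
abbrev E : Over i₀ ⥤ Scheme.{u} := Over.forget i₀ ⋙ D

/-- the distinguished index. -/
abbrev top : Over i₀ := Over.mk (𝟙 i₀)

theorem hasLimit_of_affine {J : Type u} [SmallCategory J] (F : J ⥤ Scheme.{u}) [∀ j, IsAffine (F.obj j)] : HasLimit F := by
  let α : F ⟶ (F ⋙ Scheme.Γ.rightOp) ⋙ Scheme.Spec := F.whiskerLeft ΓSpec.adjunction.unit
  haveI : ∀ j, IsIso (α.app j) := fun j => IsAffine.affine
  haveI : IsIso α := NatIso.isIso_of_isIso_app α
  haveI : HasLimit ((F ⋙ Scheme.Γ.rightOp) ⋙ Scheme.Spec) :=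
    HasLimit.mk ⟨_, isLimitOfPreserves Scheme.Spec (limit.isLimit (F ⋙ Scheme.Γ.rightOp))⟩
  exact hasLimit_of_iso (asIso α).symm

theorem exists_chart (U : (D.obj i₀).Opens) (hU : IsAffineOpen U) :
    ∃ (L : Scheme.{u}) (π : ∀ j : Over i₀, L ⟶ D.obj j.left),
      (∀ {j k : Over i₀} (g : j ⟶ k), π j ≫ D.map g.left = π k) ∧
      (∀ p, π (top i₀) p ∈ U) ∧
      (∀ (W : Scheme.{u}) (τ : ∀ j : Over i₀, W ⟶ D.obj j.left),
        (∀ {j k : Over i₀} (g : j ⟶ k), τ j ≫ D.map g.left = τ k) → (∀ p, τ (top i₀) p ∈ U) →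
          ∃! a : W ⟶ L, ∀ j, a ≫ π j = τ j) := by
  let F := opensDiagram D i₀ U
  haveI : ∀ j, IsAffine (F.obj j) := fun j => hU.preimage (D.map j.hom)
  haveI := hasLimit_of_affine F
  let V : ∀ j : Over i₀, (D.obj j.left).Opens := fun j => D.map j.hom ⁻¹ᵁ U
  let r : ∀ j : Over i₀, limit F ⟶ (V j : Scheme.{u}) := fun j => limit.π F j
  have hle : ∀ {j k : Over i₀} (g : j ⟶ k), V j ≤ D.map g.left ⁻¹ᵁ V k := fun {j k} g => by
    show D.map j.hom ⁻¹ᵁ U ≤ D.map g.left ⁻¹ᵁ D.map k.hom ⁻¹ᵁ U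
    rw [← Scheme.Hom.comp_preimage, ← D.map_comp, Over.w g]
  have hrw : ∀ {j k : Over i₀} (g : j ⟶ k), r j ≫ (D.map g.left).resLE (V k) (V j) (hle g) = r k := fun g =>
    limit.w F g
  refine ⟨limit F, fun j => r j ≫ (V j).ι, fun {j k} g => ?_, fun p => ?_, ?_⟩
  · show (r j ≫ (V j).ι) ≫ D.map g.left = r k ≫ (V k).ι
    rw [← hrw g, Category.assoc, Category.assoc, Scheme.Hom.resLE_comp_ι]
  · have h := (r (top i₀) p).2
    show ((V (top i₀)).ι (r (top i₀) p)) ∈ U
    have h' : D.map (𝟙 i₀) ((V (top i₀)).ι (r (top i₀) p)) ∈ U := h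
    rwa [D.map_id] at h'
  · intro W τ hτ htop
    have hr : ∀ j, Set.range (τ j) ⊆ Set.range (V j).ι := fun j => by
      rintro _ ⟨p, rfl⟩
      rw [Scheme.Opens.range_ι]
      show D.map j.hom (τ j p) ∈ U
      have e : τ j ≫ D.map j.hom = τ (top i₀) := hτ (Over.homMk j.hom (Category.comp_id _) : j ⟶ top i₀)
      rw [← Scheme.Hom.comp_apply, e]
      exact htop p
    let l : ∀ j : Over i₀, W ⟶ (V j : Scheme.{u}) := fun j => IsOpenImmersion.lift (V j).ι (τ j) (hr j)
    have hl : ∀ j, l j ≫ (V j).ι = τ j := fun j => IsOpenImmersion.lift_fac _ _ _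
    have hlw : ∀ {j k : Over i₀} (g : j ⟶ k), l j ≫ (D.map g.left).resLE (V k) (V j) (hle g) = l k := fun {j k} g => by
      rw [← cancel_mono (V k).ι, hl, Category.assoc, Scheme.Hom.resLE_comp_ι, ← Category.assoc, hl, hτ g]
    let s : Cone F :=
      { pt := W
        π :=
          { app := l
            naturality := fun j k g => (Category.id_comp _).trans (hlw g).symm } }
    have hs : ∀ j, limit.lift F s ≫ r j = l j := fun j => limit.lift_π s j
    refine ⟨limit.lift F s, fun j => ?_, fun a ha => limit.hom_ext fun j => ?_⟩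
    · show limit.lift F s ≫ r j ≫ (V j).ι = τ j
      rw [← Category.assoc, hs, hl]
    · show a ≫ r j = limit.lift F s ≫ r j
      rw [hs, ← cancel_mono (V j).ι, Category.assoc, hl]
      exact ha j

/-- the chart over an affine open. -/
noncomputable def L (U : (D.obj i₀).affineOpens) : Scheme.{u} := (exists_chart D i₀ U.1 U.2).choose

/-- its projections. -/
noncomputable def π (U : (D.obj i₀).affineOpens) (j : Over i₀) : L D i₀ U ⟶ D.obj j.left :=
  (exists_chart D i₀ U.1 U.2).choose_spec.choose j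

theorem π_w (U : (D.obj i₀).affineOpens) {j k : Over i₀} (g : j ⟶ k) : π D i₀ U j ≫ D.map g.left = π D i₀ U k :=
  (exists_chart D i₀ U.1 U.2).choose_spec.choose_spec.1 g

theorem π_mem (U : (D.obj i₀).affineOpens) (p : L D i₀ U) : π D i₀ U (top i₀) p ∈ U.1 :=
  (exists_chart D i₀ U.1 U.2).choose_spec.choose_spec.2.1 p

theorem univ (U : (D.obj i₀).affineOpens) (W : Scheme.{u}) (τ : ∀ j : Over i₀, W ⟶ D.obj j.left)
    (hτ : ∀ {j k : Over i₀} (g : j ⟶ k), τ j ≫ D.map g.left = τ k) (htop : ∀ p, τ (top i₀) p ∈ U.1) :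
    ∃! a : W ⟶ L D i₀ U, ∀ j, a ≫ π D i₀ U j = τ j :=
  (exists_chart D i₀ U.1 U.2).choose_spec.choose_spec.2.2 W τ @hτ htop

theorem ext {U : (D.obj i₀).affineOpens} {W : Scheme.{u}} {a b : W ⟶ L D i₀ U}
    (h : ∀ j, a ≫ π D i₀ U j = b ≫ π D i₀ U j) : a = b :=
  (univ D i₀ U W (fun j => a ≫ π D i₀ U j) (fun g => by rw [Category.assoc, π_w]) (fun p => π_mem D i₀ U _)).unique
    (fun j => rfl) (fun j => (h j).symm)

/-- lifts into a chart. -/
noncomputable def lift (U : (D.obj i₀).affineOpens) {W : Scheme.{u}} (τ : ∀ j : Over i₀, W ⟶ D.obj j.left)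
    (hτ : ∀ {j k : Over i₀} (g : j ⟶ k), τ j ≫ D.map g.left = τ k) (htop : ∀ p, τ (top i₀) p ∈ U.1) : W ⟶ L D i₀ U :=
  (univ D i₀ U W τ hτ htop).choose

theorem lift_π (U : (D.obj i₀).affineOpens) {W : Scheme.{u}} (τ : ∀ j : Over i₀, W ⟶ D.obj j.left)
    (hτ : ∀ {j k : Over i₀} (g : j ⟶ k), τ j ≫ D.map g.left = τ k) (htop : ∀ p, τ (top i₀) p ∈ U.1) (j : Over i₀) :
    lift D i₀ U τ hτ htop ≫ π D i₀ U j = τ j :=
  (univ D i₀ U W τ hτ htop).choose_spec.1 j

/-- the map to the open. -/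
noncomputable def q (U : (D.obj i₀).affineOpens) : L D i₀ U ⟶ (U.1 : Scheme.{u}) :=
  IsOpenImmersion.lift U.1.ι (π D i₀ U (top i₀)) (by
    rintro _ ⟨p, rfl⟩; rw [Scheme.Opens.range_ι]; exact π_mem D i₀ U p)

theorem q_ι (U : (D.obj i₀).affineOpens) : q D i₀ U ≫ U.1.ι = π D i₀ U (top i₀) := IsOpenImmersion.lift_fac _ _ _

/-- transition maps of charts. -/
noncomputable def ext₂ {U V : (D.obj i₀).affineOpens} (h : U ≤ V) : L D i₀ U ⟶ L D i₀ V :=
  lift D i₀ V (π D i₀ U) (π_w D i₀ U) (fun p => h (π_mem D i₀ U p))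

theorem ext₂_π {U V : (D.obj i₀).affineOpens} (h : U ≤ V) (j : Over i₀) :
    ext₂ D i₀ h ≫ π D i₀ V j = π D i₀ U j := lift_π D i₀ V _ _ _ j

theorem ext₂_q {U V : (D.obj i₀).affineOpens} (h : U ≤ V) :
    ext₂ D i₀ h ≫ q D i₀ V = q D i₀ U ≫ (D.obj i₀).homOfLE (U := U.1) (V := V.1) h := by
  rw [← cancel_mono V.1.ι, Category.assoc, q_ι, ext₂_π, Category.assoc, Scheme.homOfLE_ι, q_ι]

theorem isPullback_ext₂ {U V : (D.obj i₀).affineOpens} (h : U ≤ V) :
    IsPullback (ext₂ D i₀ h) (q D i₀ U) (q D i₀ V) ((D.obj i₀).homOfLE (U := U.1) (V := V.1) h) := by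
  have hmem : ∀ (s : PullbackCone (q D i₀ V) ((D.obj i₀).homOfLE (U := U.1) (V := V.1) h)),
      s.fst ≫ π D i₀ V (top i₀) = s.snd ≫ U.1.ι := fun s => by
    rw [← q_ι, ← Category.assoc, s.condition, Category.assoc]
    exact congrArg (s.snd ≫ ·) ((D.obj i₀).homOfLE_ι h)
  refine ⟨⟨ext₂_q D i₀ h⟩, ⟨PullbackCone.IsLimit.mk _ (fun s => lift D i₀ U (fun j => s.fst ≫ π D i₀ V j)
    (fun g => by rw [Category.assoc, π_w]) (fun p => by rw [hmem]; exact (s.snd p).2))
    (fun s => ext D i₀ fun j => ?_) (fun s => ?_) (fun s m h1 h2 => ext D i₀ fun j => ?_)⟩⟩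
  · rw [Category.assoc, ext₂_π, lift_π]
  · rw [← cancel_mono U.1.ι, Category.assoc, q_ι, lift_π, hmem]
  · rw [lift_π, ← h1, Category.assoc, ext₂_π]

/-- the relative gluing datum. -/
noncomputable def datum : (D.obj i₀).directedAffineCover.RelativeGluingData where
  functor :=
    { obj U := L D i₀ U
      map {U V} h := ext₂ D i₀ (leOfHom h)
      map_id U := ext D i₀ fun j => (ext₂_π D i₀ _ j).trans (Category.id_comp _).symm
      map_comp {U V W} f g := ext D i₀ fun j => (ext₂_π D i₀ _ j).trans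
        (((congrArg (ext₂ D i₀ (leOfHom f) ≫ ·) (ext₂_π D i₀ (leOfHom g) j)).trans (ext₂_π D i₀ (leOfHom f) j)).symm.trans
          (Category.assoc _ _ _).symm) }
  natTrans :=
    { app U := q D i₀ U
      naturality U V h := ext₂_q D i₀ (leOfHom h) }
  equifibered {U V} h := isPullback_ext₂ D i₀ (leOfHom h)

theorem hasLimit : HasLimit D := by
  obtain ⟨i₀⟩ := (IsCofiltered.nonempty : Nonempty I)
  haveI : HasLimit (E D i₀) := by
    let d := datum D i₀
    let p : ∀ j : Over i₀, d.glued ⟶ D.obj j.left := fun j => colimit.desc d.functor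
      { pt := D.obj j.left
        ι :=
          { app U := π D i₀ U j
            naturality U V h := by
              show ext₂ D i₀ (leOfHom h) ≫ π D i₀ V j = π D i₀ U j ≫ 𝟙 _
              rw [ext₂_π, Category.comp_id] } }
    have hp : ∀ U j, colimit.ι d.functor U ≫ p j = π D i₀ U j := fun U j => colimit.ι_desc _ U
    have hpw : ∀ {j k : Over i₀} (g : j ⟶ k), p j ≫ D.map g.left = p k := fun {j k} g =>
      colimit.hom_ext fun U => (Category.assoc _ _ _).symm.trans
        ((congrArg (· ≫ D.map g.left) (hp U j)).trans ((π_w D i₀ U g).trans (hp U k).symm))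
    have hpb : p (top i₀) = d.toBase := colimit.hom_ext fun U => by
      rw [hp, d.ι_toBase]; exact (q_ι D i₀ U).symm
    have huniq : ∀ (W : Scheme.{u}) (a b : W ⟶ d.glued), (∀ j, a ≫ p j = b ≫ p j) → a = b := by
      intro W a b hab
      have hb : a ≫ d.toBase = b ≫ d.toBase := by rw [← hpb]; exact hab _
      refine Scheme.Cover.hom_ext (Scheme.openCoverOfIsOpenCover W (fun U : (D.obj i₀).affineOpens => (a ≫ d.toBase) ⁻¹ᵁ U.1)
        (TopologicalSpace.IsOpenCover.mk (eq_top_iff.2 fun w _ => ?_))) _ _ fun U => ?_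
      · obtain ⟨U, hU, hwU, -⟩ := exists_isAffineOpen_mem_and_subset (X := D.obj i₀) (x := (a ≫ d.toBase) w) (U := ⊤) trivial
        exact TopologicalSpace.Opens.mem_iSup.2 ⟨⟨U, hU⟩, hwU⟩
      · let W' : W.Opens := (a ≫ d.toBase) ⁻¹ᵁ U.1
        have key : ∀ (c : W ⟶ d.glued), c ≫ d.toBase = a ≫ d.toBase → Set.range (W'.ι ≫ c) ⊆ Set.range (colimit.ι d.functor U) := by
          intro c hc
          rintro _ ⟨w, rfl⟩
          rw [← d.preimage_toBase_eq_range_ι]
          refine ⟨⟨(a ≫ d.toBase) w.1, w.2⟩, ?_⟩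
          show (a ≫ d.toBase) w.1 = d.toBase ((W'.ι ≫ c) w)
          rw [← hc]
          rfl
        have h1 := IsOpenImmersion.lift_fac (colimit.ι d.functor U) _ (key a rfl)
        have h2 := IsOpenImmersion.lift_fac (colimit.ι d.functor U) _ (key b hb.symm)
        show W'.ι ≫ a = W'.ι ≫ b
        rw [← h1, ← h2]
        congr 1
        refine ext D i₀ (U := U) fun j => ?_
        refine (congrArg _ (hp U j)).symm.trans ?_
        refine Eq.trans ?_ (congrArg _ (hp U j))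
        exact ((Category.assoc _ _ _).symm.trans (congrArg (· ≫ p j) h1)).trans
          (((Category.assoc _ _ _).trans ((congrArg (W'.ι ≫ ·) (hab j)).trans (Category.assoc _ _ _).symm)).trans
            ((congrArg (· ≫ p j) h2).symm.trans (Category.assoc _ _ _)))
    refine HasLimit.mk ⟨{ pt := d.glued, π := { app := p, naturality := fun j k g => (Category.id_comp _).trans (hpw g).symm } }, ?_⟩
    refine IsLimit.ofExistsUnique fun s => ?_
    let τ : ∀ j : Over i₀, s.pt ⟶ D.obj j.left := fun j => s.π.app j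
    have hs : ∀ {j k : Over i₀} (g : j ⟶ k), τ j ≫ D.map g.left = τ k := fun g => s.w g
    let 𝒰 := Scheme.openCoverOfIsOpenCover s.pt (fun U : (D.obj i₀).affineOpens => (τ (top i₀)) ⁻¹ᵁ U.1)
      (TopologicalSpace.IsOpenCover.mk (eq_top_iff.2 fun w _ => by
        obtain ⟨U, hU, hwU, -⟩ := exists_isAffineOpen_mem_and_subset (X := D.obj i₀) (x := τ (top i₀) w) (U := ⊤) trivial
        exact TopologicalSpace.Opens.mem_iSup.2 ⟨⟨U, hU⟩, hwU⟩))
    let a : ∀ U, 𝒰.X U ⟶ d.glued := fun U =>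
      lift D i₀ U (fun j => 𝒰.f U ≫ τ j) (fun g => by rw [Category.assoc, hs g]) (fun w => w.2) ≫ colimit.ι d.functor U
    have ha : ∀ U j, a U ≫ p j = 𝒰.f U ≫ τ j := fun U j =>
      ((Category.assoc _ _ _).trans (congrArg (lift D i₀ U (fun j => 𝒰.f U ≫ τ j) _ _ ≫ ·) (hp U j))).trans
        (lift_π D i₀ U _ _ _ j)
    refine ⟨𝒰.glueMorphisms a fun U V => huniq _ _ _ fun j => ?_, fun j => ?_, fun m hm => ?_⟩
    · exact ((Category.assoc _ _ _).trans (congrArg (pullback.fst _ _ ≫ ·) (ha U j))).trans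
        (((Category.assoc _ _ _).symm.trans ((congrArg (· ≫ τ j) pullback.condition).trans (Category.assoc _ _ _))).trans
          ((Category.assoc _ _ _).trans (congrArg (pullback.snd _ _ ≫ ·) (ha V j))).symm)
    · refine Scheme.Cover.hom_ext 𝒰 _ _ fun U => ?_
      rw [← Category.assoc, Scheme.Cover.ι_glueMorphisms]
      exact ha U j
    · refine Scheme.Cover.hom_ext 𝒰 _ _ fun U => ?_
      rw [Scheme.Cover.ι_glueMorphisms]
      exact huniq _ _ _ fun j => ((Category.assoc _ _ _).trans (congrArg (𝒰.f U ≫ ·) (hm j))).trans (ha U j).symm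
  exact Functor.Initial.hasLimit_of_comp (Over.forget i₀)

end Groth.Agent.H6.AffineLim
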