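import Mathlib
import Groth.Agent.S19232

set_option autoImplicit false
set_option linter.all false

namespace Groth.Agent.H6SigLin
universe u v

theorem main (k : Type u) [Field k] (σ : k →+* k)
    (V : Type v) [AddCommGroup V] [Module k V] [FiniteDimensional k V] (T : V →ₛₗ[σ] V)
    (h1 : Submodule.span k (Set.range ⇑T) = ⊤)
    (h2 : ∀ (n : ℕ) (b : Fin (n + 1) → k), b ≠ 0 →
      ∃ x : k, x ≠ 0 ∧ x = ∑ i : Fin (n + 1), (⇑σ)^[i.val + 1] x * (⇑σ)^[i.val] (b (Fin.rev i)))
    (h3 : ∀ c : k, ∃ y : k, σ y - y + c = 0) :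
    (∃ b : Module.Basis (Fin (Module.finrank k V)) k V, ∀ i, T (b i) = b i) ∧
    Function.Surjective (fun v : V => v - T v) := by
  classical
  set F : Submodule k V := Submodule.span k {v | T v = v} with hF
  have hsol' : ∀ f ∈ F, ∀ c : k, ∃ w ∈ F, w - T w = c • f := by
    intro f hf
    induction hf using Submodule.span_induction with
    | mem x hx =>
      intro c
      obtain ⟨y, hy⟩ := h3 c
      refine ⟨y • x, Submodule.smul_mem _ _ (Submodule.subset_span hx), ?_⟩
      rw [LinearMap.map_smulₛₗ, show T x = x from hx, ← sub_smul, show y - σ y = c by linear_combination -hy]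
    | zero => exact fun c => ⟨0, zero_mem _, by simp⟩
    | add x y _ _ hx hy =>
      intro c
      obtain ⟨a, ha, ha'⟩ := hx c
      obtain ⟨b, hb, hb'⟩ := hy c
      exact ⟨a + b, add_mem ha hb, by rw [map_add, smul_add, ← ha', ← hb']; abel⟩
    | smul d x _ hx =>
      intro c
      obtain ⟨a, ha, ha'⟩ := hx (c * d)
      exact ⟨a, ha, by rw [ha', mul_smul]⟩
  have hsol : ∀ f ∈ F, ∃ w ∈ F, w - T w = f := fun f hf => by
    simpa using hsol' f hf 1
  have hFT : F ≤ Submodule.comap T F := by
    rw [hF, Submodule.span_le]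
    intro x hx
    rw [SetLike.mem_coe, Submodule.mem_comap, show T x = x from hx]
    exact Submodule.subset_span hx
  have htop : F = ⊤ := by
    by_contra hne
    haveI : Nontrivial (V ⧸ F) := Submodule.Quotient.nontrivial_iff.2 hne
    set Tb := F.mapQ F T hFT with hTb
    have hsurj : ∀ z : V ⧸ F, z ∈ Submodule.span k (Set.range ⇑Tb) := by
      intro z
      obtain ⟨v, rfl⟩ := Submodule.mkQ_surjective F z
      have hv : v ∈ Submodule.span k (Set.range ⇑T) := by rw [h1]; trivial
      induction hv using Submodule.span_induction with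
      | mem x hx => obtain ⟨w, rfl⟩ := hx; exact Submodule.subset_span ⟨Submodule.Quotient.mk w, rfl⟩
      | zero => simp
      | add x y _ _ hx hy => rw [map_add]; exact add_mem hx hy
      | smul c x _ hx => rw [map_smul]; exact Submodule.smul_mem _ _ hx
    let B := Module.finBasis k (V ⧸ F)
    have hli : LinearIndependent k (fun i => Tb (B i)) := by
      refine linearIndependent_of_top_le_span_of_card_eq_finrank ?_ (by simp)
      intro z _
      refine Submodule.span_le.2 ?_ (hsurj z)
      rintro _ ⟨w, rfl⟩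
      rw [← B.sum_repr w, map_sum]
      exact Submodule.sum_mem _ fun i _ => by
        rw [LinearMap.map_smulₛₗ]
        exact Submodule.smul_mem _ _ (Submodule.subset_span ⟨i, rfl⟩)
    have hinj : ∀ w, Tb w = 0 → w = 0 := by
      intro w hw
      rw [← B.sum_repr w, map_sum] at hw
      simp only [LinearMap.map_smulₛₗ] at hw
      have := Fintype.linearIndependent_iff.1 hli _ hw
      rw [← B.sum_repr w]
      refine Finset.sum_eq_zero fun i _ => ?_
      rw [(map_eq_zero σ).1 (this i), zero_smul]
    obtain ⟨e, he⟩ := exists_ne (0 : V ⧸ F)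
    have hit : ∀ m : ℕ, (⇑Tb)^[m] e ≠ 0 := by
      intro m
      induction m with
      | zero => simpa using he
      | succ m ih => rw [Function.iterate_succ_apply']; exact fun h => ih (hinj _ h)
    obtain ⟨v, -, hv0, hv⟩ := Groth.Agent.S19232.result k σ (V ⧸ F) Tb h2 e hit
    obtain ⟨u, rfl⟩ := Submodule.mkQ_surjective F v
    apply hv0
    rw [Submodule.mkQ_apply, Submodule.Quotient.mk_eq_zero]
    have hf : T u - u ∈ F := (Submodule.Quotient.eq F).1 hv
    obtain ⟨w, hw, hw'⟩ := hsol _ hf
    have : T (u + w) = u + w := by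
      rw [map_add, show T w = w - (T u - u) by rw [← hw']; abel]
      abel
    have h5 : u + w ∈ F := Submodule.subset_span this
    simpa using F.sub_mem h5 hw
  refine ⟨?_, fun v => ?_⟩
  · obtain ⟨s, hs, hsp, hli⟩ := exists_linearIndependent k {v : V | T v = v}
    rw [← hF, htop] at hsp
    let b := Module.Basis.mk hli (by rw [Subtype.range_coe_subtype, Set.setOf_mem_eq, hsp])
    refine ⟨b.reindex (b.indexEquiv (Module.finBasis k V)), fun i => ?_⟩
    rw [Module.Basis.reindex_apply, Module.Basis.mk_apply]
    exact hs ((b.indexEquiv (Module.finBasis k V)).symm i).2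
  · obtain ⟨w, -, hw⟩ := hsol v (htop ▸ Submodule.mem_top)
    exact ⟨w, hw⟩

end Groth.Agent.H6SigLin
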