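import Mathlib
import Groth.Agent.Lib.H6.SigLin

set_option autoImplicit false
set_option linter.all false

namespace Groth.Agent.H6AS
open Polynomial
universe u

theorem iterate_pow (k : Type u) [Field k] (σ : k →+* k) (q : ℕ) (hσ : ∀ x, σ x = x ^ q) :
    ∀ (j : ℕ) (x : k), (⇑σ)^[j] x = x ^ (q ^ j) := by
  intro j
  induction j with
  | zero => simp
  | succ j ih => intro x; rw [Function.iterate_succ_apply', ih, hσ, ← pow_mul, pow_succ]

theorem h3 (k : Type u) [Field k] [IsSepClosed k] (σ : k →+* k) (q : ℕ) (hq : 1 < q) (hq0 : (q : k) = 0)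
    (hσ : ∀ x, σ x = x ^ q) (c : k) : ∃ y : k, σ y - y + c = 0 := by
  have hsep : (X ^ q + (-X + C c) : k[X]).Separable := by
    refine (Polynomial.separable_def' _).2 ⟨0, -1, ?_⟩
    simp [derivative_X_pow, hq0]
  have hdeg : (X ^ q + (-X + C c) : k[X]).degree ≠ 0 := by
    rw [degree_add_eq_left_of_degree_lt, degree_X_pow]
    · exact_mod_cast Nat.ne_zero_of_lt hq
    · rw [degree_X_pow]
      refine lt_of_le_of_lt ((degree_add_le _ _).trans (max_le (by rw [degree_neg]; exact degree_X_le) (degree_C_le.trans zero_le_one))) ?_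
      exact_mod_cast hq
  obtain ⟨y, hy⟩ := IsSepClosed.exists_root _ hdeg hsep
  exact ⟨y, by rw [hσ]; simp only [IsRoot, eval_add, eval_pow, eval_X, eval_neg, eval_C] at hy; linear_combination hy⟩

theorem h2 (k : Type u) [Field k] [IsSepClosed k] (σ : k →+* k) (q : ℕ) (hq : 1 < q) (hq0 : (q : k) = 0)
    (hσ : ∀ x, σ x = x ^ q) (n : ℕ) (b : Fin (n + 1) → k) (hb : b ≠ 0) :
    ∃ x : k, x ≠ 0 ∧ x = ∑ i : Fin (n + 1), (⇑σ)^[i.val + 1] x * (⇑σ)^[i.val] (b (Fin.rev i)) := by
  classical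
  set P : k[X] := (∑ i : Fin (n + 1), C ((⇑σ)^[i.val] (b (Fin.rev i))) * X ^ (q ^ (i.val + 1))) - X with hP
  have hsep : P.Separable := by
    refine (Polynomial.separable_def' _).2 ⟨0, -1, ?_⟩
    simp [hP, derivative_sum, derivative_X_pow, hq0]
  obtain ⟨i₀, hi₀⟩ : ∃ i : Fin (n + 1), b (Fin.rev i) ≠ 0 := by
    obtain ⟨j, hj⟩ := Function.ne_iff.1 hb
    exact ⟨Fin.rev j, by simpa using hj⟩
  have hcoef : P.coeff (q ^ (i₀.val + 1)) ≠ 0 := by
    rw [hP, coeff_sub, finsetSum_coeff, Finset.sum_eq_single i₀, coeff_X, if_neg, sub_zero]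
    · rw [coeff_C_mul, coeff_X_pow, if_pos rfl, mul_one, iterate_pow k σ q hσ]
      exact pow_ne_zero _ hi₀
    · exact (Nat.one_lt_pow (Nat.succ_ne_zero _) hq).ne
    · intro j _ hj
      rw [coeff_C_mul, coeff_X_pow, if_neg, mul_zero]
      exact fun h => hj (Fin.ext (Nat.succ_injective (Nat.pow_right_injective hq h)).symm)
    · simp
  have hd : 2 ≤ P.natDegree := le_trans (Nat.one_lt_pow (Nat.succ_ne_zero _) hq) (le_natDegree_of_ne_zero hcoef)
  have hsp : P.Splits := IsSepClosed.splits_of_separable P hsep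
  have hcard : P.roots.card = P.natDegree := (Polynomial.splits_iff_card_roots).1 hsp
  have hnd := Polynomial.nodup_roots hsep
  obtain ⟨x, hx, hx0⟩ : ∃ x ∈ P.roots, x ≠ 0 := by
    by_contra h
    push Not at h
    have : P.roots.toFinset ⊆ {0} := fun x hx => Finset.mem_singleton.2 (h x (Multiset.mem_toFinset.1 hx))
    have h4 := Finset.card_le_card this
    rw [Multiset.toFinset_card_of_nodup hnd, hcard, Finset.card_singleton] at h4
    omega
  refine ⟨x, hx0, ?_⟩
  have h5 := (mem_roots'.1 hx).2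
  simp only [hP, IsRoot, eval_sub, eval_finsetSum, eval_mul, eval_C, eval_pow, eval_X, sub_eq_zero] at h5
  conv_lhs => rw [← h5]
  exact Finset.sum_congr rfl fun i _ => by rw [iterate_pow k σ q hσ (i.val + 1), mul_comm]

end Groth.Agent.H6AS
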