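import Groth.Agent.Lib.H6.SubtrVal2
import Mathlib.Topology.Constructible
import Mathlib.Topology.LocallyClosed

set_option linter.all false
set_option autoImplicit false
set_option backward.isDefEq.respectTransparency.types false

/-! Closures of images under quasi-compact morphisms. -/

namespace Groth.Agent.H6.SubtrVal

universe u

open CategoryTheory CategoryTheory.Limits AlgebraicGeometry

variable {X Y : Scheme.{u}}

theorem exists_mem_specializes_of_mem_closure_affine (f : X ⟶ Y) {W : Y.Opens} (hW : IsAffineOpen W)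
    {U : X.Opens} (hU : IsAffineOpen U) (hUW : U ≤ f ⁻¹ᵁ W) {K : Set X} (hK : IsClosed K) {z : Y} (hzW : z ∈ W)
    (hz : z ∈ closure (f '' (K ∩ U))) : ∃ x ∈ K ∩ (U : Set X), f x ⤳ z := by
  obtain ⟨J, hJ⟩ := (PrimeSpectrum.isClosed_iff_zeroLocus_ideal _).1 (hK.preimage hU.fromSpec.continuous)
  obtain ⟨p, rfl⟩ : z ∈ Set.range hW.fromSpec := hW.range_fromSpec ▸ hzW
  have he := hW.SpecMap_appLE_fromSpec f hU hUW
  have h5 : ∀ r : Spec Γ(X, U), hW.fromSpec (PrimeSpectrum.comap (f.appLE W U hUW).hom r) = f (hU.fromSpec r) := fun r =>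
    congrArg (fun g : Spec Γ(X, U) ⟶ Y => g r) he
  have hr0 : ∀ r : Spec Γ(X, U), hU.fromSpec r ∈ K ↔
      (r : PrimeSpectrum Γ(X, U)) ∈ Set.range (PrimeSpectrum.comap (Ideal.Quotient.mk J)) := fun r => by
    rw [range_comap_of_surjective _ _ Ideal.Quotient.mk_surjective, Ideal.mk_ker, ← hJ]
    rfl
  have hp : (p : PrimeSpectrum Γ(Y, W)) ∈
      closure (Set.range (PrimeSpectrum.comap ((Ideal.Quotient.mk J).comp (f.appLE W U hUW).hom))) := by
    have h3 : p ∈ hW.fromSpec ⁻¹' closure (f '' (K ∩ U)) := hz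
    rw [hW.fromSpec.isOpenEmbedding.isOpenMap.preimage_closure_eq_closure_preimage hW.fromSpec.continuous] at h3
    refine closure_mono ?_ h3
    rintro q ⟨x, ⟨hxK, hxU⟩, hxq⟩
    obtain ⟨r, rfl⟩ : x ∈ Set.range hU.fromSpec := hU.range_fromSpec ▸ hxU
    obtain ⟨r', rfl⟩ := (hr0 r).1 hxK
    exact ⟨r', hW.fromSpec.isOpenEmbedding.injective (by rw [← hxq, ← h5]; rfl)⟩
  obtain ⟨_, ⟨r, rfl⟩, hr⟩ := exists_le_of_mem_closure_range_comap _ hp
  refine ⟨hU.fromSpec (PrimeSpectrum.comap (Ideal.Quotient.mk J) r),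
    ⟨(hr0 _).2 ⟨r, rfl⟩, hU.range_fromSpec.le ⟨_, rfl⟩⟩, ?_⟩
  rw [← h5]
  exact hr.map hW.fromSpec.continuous

/-- closure of the image of a retrocompact locally closed set: specialisations of the image -/
theorem exists_mem_specializes_of_mem_closure_image (f : X ⟶ Y) [QuasiCompact f] {C : Set X}
    (hC : IsLocallyClosed C) (hC' : IsRetrocompact C) {z : Y} (hz : z ∈ closure (f '' C)) :
    ∃ x ∈ C, f x ⤳ z := by
  obtain ⟨W, hW, hzW, -⟩ := exists_isAffineOpen_mem_and_subset (X := Y) (x := z) (U := ⊤) trivial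
  let O : X.Opens := ⟨coborder C, hC.isOpen_coborder⟩ ⊓ f ⁻¹ᵁ W
  have hcpt : IsCompact (C ∩ (f ⁻¹ᵁ W : Set X)) :=
    hC' (QuasiCompact.isCompact_preimage (f := f) (W : Set Y) W.isOpen hW.isCompact) (f ⁻¹ᵁ W).isOpen
  choose U hU hxU hUO using fun x : {x : X // x ∈ C ∧ x ∈ f ⁻¹ᵁ W} =>
    exists_isAffineOpen_mem_and_subset (X := X) (x := x.1) (U := O) ⟨subset_coborder x.2.1, x.2.2⟩
  obtain ⟨t, ht⟩ := hcpt.elim_finite_subcover (fun x => (U x : Set X)) (fun x => (U x).isOpen)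
    fun x hx => Set.mem_iUnion.2 ⟨⟨x, hx.1, hx.2⟩, hxU _⟩
  have h1 : z ∈ closure (⋃ x ∈ (↑t : Set _), f '' (closure C ∩ (U x : Set X))) := by
    have h2 : z ∈ closure (f '' C ∩ W) := by rw [Set.inter_comm]; exact W.isOpen.inter_closure ⟨hzW, hz⟩
    refine closure_mono ?_ h2
    rintro _ ⟨⟨x, hx, rfl⟩, hxW⟩
    obtain ⟨i, hi, hxi⟩ := Set.mem_iUnion₂.1 (ht ⟨hx, hxW⟩)
    exact Set.mem_iUnion₂.2 ⟨i, hi, x, ⟨subset_closure hx, hxi⟩, rfl⟩
  rw [t.finite_toSet.closure_biUnion, Set.mem_iUnion₂] at h1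
  obtain ⟨i, -, hi⟩ := h1
  obtain ⟨x, ⟨hx, hxi⟩, hs⟩ := exists_mem_specializes_of_mem_closure_affine f hW (hU i)
    (fun a ha => (hUO i ha).2) isClosed_closure hzW hi
  exact ⟨x, closure_inter_coborder.subset ⟨hx, (hUO i hxi).1⟩, hs⟩

theorem isRetrocompact_of_isClosed {C : Set X} (hC : IsClosed C) : IsRetrocompact C := fun U hU _ =>
  hU.inter_left hC

theorem exists_mem_specializes_of_isClosed (f : X ⟶ Y) [QuasiCompact f] {C : Set X} (hC : IsClosed C) {z : Y}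
    (hz : z ∈ closure (f '' C)) : ∃ x ∈ C, f x ⤳ z :=
  exists_mem_specializes_of_mem_closure_image f hC.isLocallyClosed (isRetrocompact_of_isClosed hC) hz

end Groth.Agent.H6.SubtrVal
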