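import Mathlib
import Groth.Prelude.Def_ZClos
import Groth.Agent.Lib.H6.SubtrTop
import Groth.Agent.Lib.H7StalkDetect

set_option autoImplicit false
set_option linter.all false
set_option maxHeartbeats 800000
set_option backward.isDefEq.respectTransparency.types false

/-! Z-closure: sections over quasi-compact opens. -/

universe u

open CategoryTheory CategoryTheory.Limits AlgebraicGeometry TopologicalSpace Opposite

namespace Groth.Agent.H6.ZBasic

variable {X : Scheme.{u}}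

/-! ## restriction of sections -/

/-- restriction of sections. -/
noncomputable abbrev res (F : X.Modules) {V W : X.Opens} (h : V ≤ W) :
    F.presheaf.obj (op W) →+ F.presheaf.obj (op V) := (F.presheaf.map (homOfLE h).op).hom

theorem res_self (F : X.Modules) {V : X.Opens} (h : V ≤ V) (s : F.presheaf.obj (op V)) : res F h s = s := by
  show (F.presheaf.map (𝟙 (op V))) s = s
  rw [F.presheaf.map_id]; rfl

theorem res_res (F : X.Modules) {U V W : X.Opens} (h : U ≤ V) (h' : V ≤ W) (s : F.presheaf.obj (op W)) :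
    res F h (res F h' s) = res F (h.trans h') s := by
  show (F.presheaf.map _ ≫ F.presheaf.map _) s = _
  rw [← F.presheaf.map_comp, ← op_comp]
  rfl

theorem res_naturality {F G : X.Modules} (φ : F ⟶ G) {V W : X.Opens} (h : V ≤ W) (s : F.presheaf.obj (op W)) :
    φ.app V (res F h s) = res G h (φ.app W s) :=
  ConcreteCategory.congr_hom ((Scheme.Modules.Hom.mapPresheaf φ).naturality (homOfLE h).op) s

theorem res_injective_of_eq (F : X.Modules) {V W : X.Opens} (h : V ≤ W) (e : V = W) : Function.Bijective (res F h) := by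
  subst e
  exact ⟨fun a b hab => by rwa [res_self, res_self] at hab, fun a => ⟨a, res_self _ _ _⟩⟩

theorem ext_cover (F : X.Modules) {ι : Type u} {V : X.Opens} (W : ι → X.Opens) (hW : ∀ i, W i ≤ V)
    (hcov : V ≤ iSup W) {s t : F.presheaf.obj (op V)} (h : ∀ i, res F (hW i) s = res F (hW i) t) : s = t :=
  TopCat.Sheaf.eq_of_locally_eq' ⟨F.presheaf, F.isSheaf⟩ W V (fun i => homOfLE (hW i)) hcov s t h

theorem glue (F : X.Modules) {ι : Type u} {V : X.Opens} (W : ι → X.Opens) (hW : ∀ i, W i ≤ V)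
    (hcov : V ≤ iSup W) (s : ∀ i, F.presheaf.obj (op (W i)))
    (h : ∀ i j, res F (inf_le_left : W i ⊓ W j ≤ W i) (s i) = res F (inf_le_right : W i ⊓ W j ≤ W j) (s j)) :
    ∃ t : F.presheaf.obj (op V), ∀ i, res F (hW i) t = s i :=
  (TopCat.Sheaf.existsUnique_gluing' ⟨F.presheaf, F.isSheaf⟩ W V (fun i => homOfLE (hW i)) hcov s h).exists

theorem exists_res_eq_zero_of_germ (F : X.Modules) {V : X.Opens} {x : X} (hx : x ∈ V) {s : F.presheaf.obj (op V)}
    (h : F.presheaf.germ V x hx s = 0) : ∃ (W : X.Opens) (hW : W ≤ V), x ∈ W ∧ res F hW s = 0 := by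
  obtain ⟨W, hxW, i, j, e⟩ := F.presheaf.germ_eq x hx hx s 0 (h.trans (map_zero _).symm)
  exact ⟨W, i.le, hxW, e.trans (map_zero _)⟩

/-! ## topology -/

variable [IsLocallyNoetherian X]

theorem isCompact_of_subset {V : X.Opens} (hV : IsCompact (V : Set X)) {S : Set X} (hS : S ⊆ V) : IsCompact S := by
  haveI : IsLocallyNoetherian (V : Scheme.{u}) := inferInstance
  haveI : CompactSpace (V : Scheme.{u}) := isCompact_iff_compactSpace.mp hV
  haveI : IsNoetherian (V : Scheme.{u}) := { }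
  haveI : NoetherianSpace (V : Scheme.{u}) := inferInstance
  have h1 : IsCompact (V.ι ⁻¹' S) := NoetherianSpace.isCompact _
  have h2 := h1.image V.ι.continuous
  rwa [Set.image_preimage_eq_inter_range, Scheme.Opens.range_ι, Set.inter_eq_left.2 hS] at h2

/-- on a locally Noetherian scheme the closure of a locally closed subset is its set of specializations. -/
theorem exists_specializes_of_mem_closure {S : Set X} (hS : IsLocallyClosed S) {z : X} (hz : z ∈ closure S) :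
    ∃ x ∈ S, x ⤳ z := by
  have hr : IsRetrocompact S := fun U hU hUo => isCompact_of_subset (V := ⟨U, hUo⟩) hU Set.inter_subset_right
  obtain ⟨x, hx, hxz⟩ := H6.SubtrVal.exists_mem_specializes_of_mem_closure_image (𝟙 X) hS hr (by simpa using hz)
  exact ⟨x, hx, by simpa using hxz⟩

variable {Z : Set X}

/-- a locally closed subset of `Z` is contained in a member of the index. -/
theorem exists_cl (hZ : StableUnderSpecialization Z) {S : Set X} (hS : IsLocallyClosed S) (hSZ : S ⊆ Z) :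
    ∃ T : ZClos.Cl Z, S ⊆ (T.1 : Set X) :=
  ⟨⟨⟨closure S, isClosed_closure⟩, fun z hz => by
    obtain ⟨x, hx, hxz⟩ := exists_specializes_of_mem_closure hS hz
    exact hZ hxz (hSZ hx)⟩, subset_closure⟩

omit [IsLocallyNoetherian X] in
theorem mem_U {T : ZClos.Cl Z} {x : X} : x ∈ T.U ↔ x ∉ (T.1 : Set X) := Iff.rfl

omit [IsLocallyNoetherian X] in
theorem not_mem_Z {T : ZClos.Cl Z} {x : X} (hx : x ∉ Z) : x ∈ T.U := fun h => hx (T.2 h)

omit [IsLocallyNoetherian X] in
theorem bot_U : (⊥ : ZClos.Cl Z).U = ⊤ := by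
  ext x
  exact iff_of_true (fun h => (h : x ∈ (∅ : Set X))) trivial

/-! ## the open `T.U ∩ V` as used by the direct images -/

variable (Z) in
/-- `(X ∖ T) ∩ V`. -/
abbrev P (T : ZClos.Cl Z) (V : X.Opens) : X.Opens := T.U.ι ''ᵁ T.U.ι ⁻¹ᵁ V

omit [IsLocallyNoetherian X] in
theorem P_eq (T : ZClos.Cl Z) (V : X.Opens) : P Z T V = T.U ⊓ V := ZClos.ι_image_preimage _ _

omit [IsLocallyNoetherian X] in
theorem mem_P {T : ZClos.Cl Z} {V : X.Opens} {x : X} : x ∈ P Z T V ↔ x ∈ T.U ∧ x ∈ V := by rw [P_eq]; rfl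

omit [IsLocallyNoetherian X] in
theorem P_le (T : ZClos.Cl Z) (V : X.Opens) : P Z T V ≤ V := fun _ h => (mem_P.1 h).2

omit [IsLocallyNoetherian X] in
theorem P_mono {T T' : ZClos.Cl Z} (hT : T ≤ T') {V V' : X.Opens} (hV : V ≤ V') : P Z T' V ≤ P Z T V' := fun _ h =>
  mem_P.2 ⟨ZClos.Cl.U_anti hT (mem_P.1 h).1, hV (mem_P.1 h).2⟩

/-! ## the colimit injections on sections -/

variable (F : X.Modules)

/-- the class in `H⁰` of a section over `V ∖ T`. -/
noncomputable def mk (T : ZClos.Cl Z) (V : X.Opens) :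
    F.presheaf.obj (op (P Z T V)) →+ ((ZClos.H0 Z).obj F).presheaf.obj (op V) :=
  ((colimit.ι ((ZClos.diagram Z).obj F) T : (ZClos.resPush T.U).obj F ⟶ (ZClos.H0 Z).obj F).app V).hom

omit [IsLocallyNoetherian X] in
theorem mk_res {T : ZClos.Cl Z} {V V' : X.Opens} (h : V' ≤ V) (s : F.presheaf.obj (op (P Z T V))) :
    res ((ZClos.H0 Z).obj F) h (mk F T V s) = mk F T V' (res F (P_mono le_rfl h) s) :=
  (res_naturality (colimit.ι ((ZClos.diagram Z).obj F) T : (ZClos.resPush T.U).obj F ⟶ (ZClos.H0 Z).obj F) h s).symm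

omit [IsLocallyNoetherian X] in
theorem mk_trans {T T' : ZClos.Cl Z} (hT : T ≤ T') {V : X.Opens} (s : F.presheaf.obj (op (P Z T V))) :
    mk F T' V (res F (P_mono hT le_rfl) s) = mk F T V s := by
  have h := congrArg (fun φ : (ZClos.resPush T.U).obj F ⟶ (ZClos.H0 Z).obj F => φ.app V)
    (colimit.w ((ZClos.diagram Z).obj F) (homOfLE hT))
  have h2 : (ZClos.resPushMapApp (ZClos.Cl.U_anti hT) F).app V s = res F (P_mono hT le_rfl) s := by
    rw [ZClos.resPushMapApp_app]; rfl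
  show (colimit.ι ((ZClos.diagram Z).obj F) T' : (ZClos.resPush T'.U).obj F ⟶ (ZClos.H0 Z).obj F).app V _ = _
  rw [← h2]
  exact ConcreteCategory.congr_hom h s

omit [IsLocallyNoetherian X] in
theorem rho_eq (T : ZClos.Cl Z) (V : X.Opens) (s : F.presheaf.obj (op V)) :
    (ZClos.rhoApp Z F).app V s = mk F T V (res F (P_le T V) s) := by
  rw [ZClos.rhoApp_eq Z F T]
  rfl

omit [IsLocallyNoetherian X] in
theorem exists_mk_of_germ {x : X} (y : ((ZClos.H0 Z).obj F).presheaf.stalk x) :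
    ∃ (T : ZClos.Cl Z) (W : X.Opens) (hx : x ∈ W) (s : F.presheaf.obj (op (P Z T W))),
      ((ZClos.H0 Z).obj F).presheaf.germ W x hx (mk F T W s) = y := by
  have hc := isColimitOfPreserves (DerSch.stalkFunctor X x) (colimit.isColimit ((ZClos.diagram Z).obj F))
  obtain ⟨T, z, hz⟩ := Concrete.isColimit_exists_rep _ hc y
  obtain ⟨W, hx, s, hs⟩ := ((ZClos.resPush T.U).obj F).presheaf.exists_germ_eq (x := x) z
  refine ⟨T, W, hx, s, ?_⟩
  rw [← hz, ← hs]
  exact (DerSch.stalkFunctor_map_germ x (colimit.ι ((ZClos.diagram Z).obj F) T : (ZClos.resPush T.U).obj F ⟶ (ZClos.H0 Z).obj F) W hx s).symm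

omit [IsLocallyNoetherian X] in
theorem exists_of_germ_mk_eq_zero {T : ZClos.Cl Z} {V : X.Opens} {x : X} (hx : x ∈ V) {s : F.presheaf.obj (op (P Z T V))}
    (h : ((ZClos.H0 Z).obj F).presheaf.germ V x hx (mk F T V s) = 0) :
    ∃ (T' : ZClos.Cl Z) (hT : T ≤ T') (W : X.Opens) (hW : W ≤ V), x ∈ W ∧ res F (P_mono hT hW) s = 0 := by
  have hc := isColimitOfPreserves (DerSch.stalkFunctor X x) (colimit.isColimit ((ZClos.diagram Z).obj F))
  have h0 : ((DerSch.stalkFunctor X x).mapCocone (colimit.cocone ((ZClos.diagram Z).obj F))).ι.app T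
      (((ZClos.resPush T.U).obj F).presheaf.germ V x hx s) = 0 :=
    (DerSch.stalkFunctor_map_germ x (colimit.ι ((ZClos.diagram Z).obj F) T : (ZClos.resPush T.U).obj F ⟶ (ZClos.H0 Z).obj F) V hx s).trans h
  obtain ⟨T', f, g, hfg⟩ := (Concrete.isColimit_rep_eq_iff_exists _ hc _ _).1 (h0.trans (map_zero (((DerSch.stalkFunctor X x).mapCocone (colimit.cocone ((ZClos.diagram Z).obj F))).ι.app T).hom).symm)
  have hf := hfg.trans (map_zero (((ZClos.diagram Z).obj F ⋙ DerSch.stalkFunctor X x).map g).hom)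
  have h2 : (ZClos.resPushMapApp (ZClos.Cl.U_anti f.le) F).app V s = res F (P_mono f.le le_rfl) s := by
    rw [ZClos.resPushMapApp_app]; rfl
  have h1 : ((ZClos.resPush T'.U).obj F).presheaf.germ V x hx ((ZClos.resPushMapApp (ZClos.Cl.U_anti f.le) F).app V s) = 0 :=
    (DerSch.stalkFunctor_map_germ x (ZClos.resPushMapApp (ZClos.Cl.U_anti f.le) F) V hx s).symm.trans hf
  obtain ⟨W, hW, hxW, hW0⟩ := exists_res_eq_zero_of_germ ((ZClos.resPush T'.U).obj F) hx h1
  refine ⟨T', f.le, W, hW, hxW, ?_⟩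
  rw [h2] at hW0
  exact (res_res F (P_mono le_rfl hW) (P_mono f.le le_rfl) s).symm.trans hW0

/-- `H⁰` over a quasi-compact open: injectivity of the colimit. -/
theorem exists_of_mk_eq_zero {T : ZClos.Cl Z} {V : X.Opens} (hV : IsCompact (V : Set X))
    {s : F.presheaf.obj (op (P Z T V))} (h : mk F T V s = 0) :
    ∃ (T' : ZClos.Cl Z) (hT : T ≤ T'), res F (P_mono hT (le_refl V)) s = 0 := by
  classical
  choose T1 hT1 W hW hxW hW0 using fun x : (V : Set X) => exists_of_germ_mk_eq_zero F x.2 (s := s) (by rw [h, map_zero])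
  obtain ⟨t, ht⟩ := hV.elim_finite_subcover (fun x => (W x : Set X)) (fun x => (W x).isOpen) fun x hx =>
    Set.mem_iUnion.2 ⟨⟨x, hx⟩, hxW _⟩
  refine ⟨T ⊔ t.sup T1, le_sup_left, ext_cover F (fun i : {x // x ∈ t} => P Z (T ⊔ t.sup T1) (W i.1)) (fun i => P_mono le_rfl (hW i.1)) ?_ fun i => ?_⟩
  · intro y hy
    obtain ⟨i, hi, hyi⟩ := Set.mem_iUnion₂.1 (ht (mem_P.1 hy).2)
    exact Opens.mem_iSup.2 ⟨⟨i, hi⟩, mem_P.2 ⟨(mem_P.1 hy).1, hyi⟩⟩
  · rw [res_res, map_zero,
      ← res_res F (P_mono ((Finset.le_sup (f := T1) i.2).trans le_sup_right) le_rfl) (P_mono (hT1 i.1) (hW i.1)) s, hW0, map_zero]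

/-- `H⁰` over a quasi-compact open: surjectivity of the colimit. -/
theorem exists_mk {V : X.Opens} (hV : IsCompact (V : Set X)) (σ : ((ZClos.H0 Z).obj F).presheaf.obj (op V)) :
    ∃ (T : ZClos.Cl Z) (s : F.presheaf.obj (op (P Z T V))), mk F T V s = σ := by
  classical
  have hloc : ∀ x : (V : Set X), ∃ (T : ZClos.Cl Z) (W : X.Opens) (hW : W ≤ V), (x : X) ∈ W ∧
      ∃ s : F.presheaf.obj (op (P Z T W)), mk F T W s = res _ hW σ := by
    intro x
    obtain ⟨T, W, hx, s, hs⟩ := exists_mk_of_germ F (((ZClos.H0 Z).obj F).presheaf.germ V x x.2 σ)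
    obtain ⟨W', hxW', i, j, e⟩ := ((ZClos.H0 Z).obj F).presheaf.germ_eq (x : X) hx x.2 _ _ hs
    exact ⟨T, W', j.le, hxW', res F (P_mono le_rfl i.le) s, (mk_res F i.le s).symm.trans e⟩
  choose T1 W hW hxW s hs using hloc
  obtain ⟨t, ht⟩ := hV.elim_finite_subcover (fun x => (W x : Set X)) (fun x => (W x).isOpen) fun x hx =>
    Set.mem_iUnion.2 ⟨⟨x, hx⟩, hxW _⟩
  let T0 := t.sup T1
  have hpair : ∀ p : {x // x ∈ t} × {x // x ∈ t}, ∃ (T' : ZClos.Cl Z) (hT' : T0 ≤ T'),
      res F (P_mono hT' (le_refl (W p.1.1 ⊓ W p.2.1)))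
        (res F (P_mono (Finset.le_sup (f := T1) p.1.2) inf_le_left) (s p.1.1) -
          res F (P_mono (Finset.le_sup (f := T1) p.2.2) inf_le_right) (s p.2.1)) = 0 := by
    rintro ⟨⟨i, hi⟩, ⟨j, hj⟩⟩
    refine exists_of_mk_eq_zero F (isCompact_of_subset hV (show ((W i ⊓ W j : X.Opens) : Set X) ⊆ V from fun y hy => hW i hy.1)) ?_
    have key : ∀ k (hk : k ∈ t) (hle : W i ⊓ W j ≤ W k),
        mk F T0 (W i ⊓ W j) (res F (P_mono (Finset.le_sup (f := T1) hk) hle) (s k)) = res _ (hle.trans (hW k)) σ := by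
      intro k hk hle
      rw [← res_res F (P_mono (Finset.le_sup (f := T1) hk) le_rfl) (P_mono le_rfl hle) (s k),
        mk_trans F (T := T1 k) (T' := T0) (Finset.le_sup (f := T1) hk), ← mk_res F hle, hs, res_res]
    rw [map_sub, key i hi inf_le_left, key j hj inf_le_right, sub_self]
  choose T2 hT2 hT2' using hpair
  let T : ZClos.Cl Z := T0 ⊔ Finset.univ.sup T2
  have hT1 : ∀ i : {x // x ∈ t}, T1 i.1 ≤ T := fun i => (Finset.le_sup i.2).trans le_sup_left
  have hcov : P Z T V ≤ ⨆ i : {x // x ∈ t}, P Z T (W i.1) := by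
    intro y hy
    obtain ⟨i, hi, hyi⟩ := Set.mem_iUnion₂.1 (ht (mem_P.1 hy).2)
    exact Opens.mem_iSup.2 ⟨⟨i, hi⟩, mem_P.2 ⟨(mem_P.1 hy).1, hyi⟩⟩
  obtain ⟨g, hg⟩ := glue F (fun i : {x // x ∈ t} => P Z T (W i.1)) (fun i => P_mono le_rfl (hW i.1)) hcov
    (fun i => res F (P_mono (hT1 i) le_rfl) (s i.1)) (fun i j => by
      have h := hT2' (i, j)
      rw [map_sub, sub_eq_zero, res_res, res_res] at h
      have hle : P Z T (W i.1) ⊓ P Z T (W j.1) ≤ P Z (T2 (i, j)) (W i.1 ⊓ W j.1) := fun y hy =>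
        mem_P.2 ⟨ZClos.Cl.U_anti ((Finset.le_sup (Finset.mem_univ (i, j))).trans le_sup_right) (mem_P.1 hy.1).1,
          (mem_P.1 hy.1).2, (mem_P.1 hy.2).2⟩
      have h2 := congrArg (res F hle) h
      rw [res_res, res_res] at h2
      rw [res_res, res_res]
      exact h2)
  refine ⟨T, g, ext_cover _ (fun i : {x // x ∈ t} => W i.1) (fun i => hW i.1) ?_ fun i => ?_⟩
  · intro y hy
    obtain ⟨i, hi, hyi⟩ := Set.mem_iUnion₂.1 (ht hy)
    exact Opens.mem_iSup.2 ⟨⟨i, hi⟩, hyi⟩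
  · rw [mk_res, hg, mk_trans F (hT1 i), hs]

end Groth.Agent.H6.ZBasic
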