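import Mathlib
import Groth.Prelude.Def_ZClos
import Groth.Prelude.Def_CAlg
import Groth.Agent.Lib.H6.ZBasic
import Groth.Agent.Lib.H7Stalk
import Groth.Agent.Lib.LQcqs
import Groth.Agent.Lib.LQFin

set_option autoImplicit false
set_option linter.all false
set_option maxHeartbeats 800000
set_option backward.isDefEq.respectTransparency.types false

/-! Stalks of quasi-coherent modules at points of an affine open. -/

universe u

open CategoryTheory CategoryTheory.Limits AlgebraicGeometry TopologicalSpace Opposite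

namespace Groth.Agent.H6.ZStalk

open ZBasic

variable {X : Scheme.{u}} (F : X.Modules) {V : X.Opens}

/-- germ of a function. -/
noncomputable abbrev gO {x : X} (hx : x ∈ V) : Γ(X, V) →+* X.presheaf.stalk x := (X.presheaf.germ V x hx).hom

/-- germ of a section. -/
noncomputable abbrev gM {x : X} (hx : x ∈ V) : Γ(F, V) →+ F.presheaf.stalk x := (F.presheaf.germ V x hx).hom

theorem gM_smul {x : X} (hx : x ∈ V) (r : Γ(X, V)) (s : Γ(F, V)) : gM F hx (r • s) = gO hx r • gM F hx s :=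
  H7Stalk.germ_smul' x V hx r s

theorem gM_res {W : X.Opens} (h : W ≤ V) {x : X} (hx : x ∈ W) (s : Γ(F, V)) : gM F hx (res F h s) = gM F (h hx) s :=
  TopCat.Presheaf.germ_res_apply F.presheaf (homOfLE h) x hx s

variable {F}

theorem res_smul {W : X.Opens} (h : W ≤ V) (r : Γ(X, V)) (s : Γ(F, V)) :
    (res F h (r • s) : Γ(F, W)) = (X.presheaf.map (homOfLE h).op).hom r • (res F h s : Γ(F, W)) :=
  Scheme.Modules.map_smul F _ r s

theorem isUnit_res_of_le (g : Γ(X, V)) {W : X.Opens} (h : W ≤ X.basicOpen g) :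
    IsUnit ((X.presheaf.map (homOfLE (h.trans (X.basicOpen_le g))).op).hom g) := by
  have h1 := (RingedSpace.isUnit_res_basicOpen _ g).map (X.presheaf.map (homOfLE h).op).hom
  change IsUnit ((X.presheaf.map _ ≫ X.presheaf.map _).hom g) at h1
  rw [← Functor.map_comp] at h1
  exact h1

variable [F.IsQuasicoherent] (hV : IsAffineOpen V)
include hV

theorem exists_eq_smul {x : X} (hx : x ∈ V) (y : F.presheaf.stalk x) :
    ∃ (u : Γ(X, V)) (s : Γ(F, V)), x ∈ X.basicOpen u ∧ gO hx u • y = gM F hx s := by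
  obtain ⟨W, hxW, t, rfl⟩ := F.presheaf.exists_germ_eq (x := x) y
  obtain ⟨g, hgW, hxg⟩ := hV.exists_basicOpen_le (V := W) ⟨x, hxW⟩ hx
  obtain ⟨N, s, hs⟩ := (LQcoh.locAt_of_qcoh F hV g).1 (res F hgW t)
  refine ⟨g ^ N, s, ?_, ?_⟩
  · rcases Nat.eq_zero_or_pos N with rfl | hN
    · rw [pow_zero, X.basicOpen_of_isUnit isUnit_one]; exact hx
    · rw [X.basicOpen_pow _ hN]; exact hxg
  · have h1 := congrArg (gM F (V := X.basicOpen g) hxg) hs
    have h2 := gM_res F (X.basicOpen_le g) hxg s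
    refine ((h2.symm.trans h1).trans ?_).symm
    rw [gM_smul, gM_res F hgW hxg t]
    congr 1
    exact TopCat.Presheaf.germ_res_apply X.presheaf (homOfLE (X.basicOpen_le g)) x hxg (g ^ N)

theorem exists_smul_eq_zero {x : X} (hx : x ∈ V) {s : Γ(F, V)} (h : gM F hx s = 0) :
    ∃ u : Γ(X, V), x ∈ X.basicOpen u ∧ u • s = 0 := by
  obtain ⟨W, hW, hxW, h0⟩ := exists_res_eq_zero_of_germ F hx h
  obtain ⟨g, hgW, hxg⟩ := hV.exists_basicOpen_le (V := W) ⟨x, hxW⟩ hx
  obtain ⟨N, hN⟩ := (LQcoh.locAt_of_qcoh F hV g).2 s (by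
    show res F _ s = 0
    rw [← res_res F hgW hW s, h0, map_zero])
  refine ⟨g ^ (N + 1), ?_, ?_⟩
  · rw [X.basicOpen_pow _ N.succ_pos]; exact hxg
  · rw [pow_succ', mul_smul, hN, smul_zero]

omit [F.IsQuasicoherent] hV in
theorem isUnit_gO {x : X} (hx : x ∈ V) {u : Γ(X, V)} (hu : x ∈ X.basicOpen u) : IsUnit (gO hx u) :=
  (X.mem_basicOpen u x hx).1 hu

omit [F.IsQuasicoherent] in
theorem mem_primeIdeal_iff {x : X} (hx : x ∈ V) {u : Γ(X, V)} :
    u ∈ (hV.primeIdealOf ⟨x, hx⟩).asIdeal ↔ x ∉ X.basicOpen u := by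
  have h := hV.fromSpec_preimage_basicOpen u
  constructor
  · intro hu hxu
    have h2 : hV.fromSpec (hV.primeIdealOf ⟨x, hx⟩) ∈ X.basicOpen u := by rw [hV.fromSpec_primeIdealOf]; exact hxu
    exact (h.le h2 : _ ∈ PrimeSpectrum.basicOpen u) hu
  · intro hxu
    by_contra hu
    have h2 : hV.primeIdealOf ⟨x, hx⟩ ∈ hV.fromSpec ⁻¹ᵁ X.basicOpen u := h.ge hu
    have h3 : hV.fromSpec (hV.primeIdealOf ⟨x, hx⟩) ∈ X.basicOpen u := h2
    rw [hV.fromSpec_primeIdealOf] at h3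
    exact hxu h3

omit [F.IsQuasicoherent] in
theorem specializes_iff {x y : X} (hx : x ∈ V) (hy : y ∈ V) :
    x ⤳ y ↔ (hV.primeIdealOf ⟨x, hx⟩).asIdeal ≤ (hV.primeIdealOf ⟨y, hy⟩).asIdeal := by
  constructor
  · intro h u hu
    rw [mem_primeIdeal_iff hV] at hu ⊢
    exact fun hyu => hu (h.mem_open (X.basicOpen u).2 hyu)
  · intro h
    have h1 := ((PrimeSpectrum.le_iff_specializes _ _).1 h).map hV.fromSpec.continuous
    rwa [hV.fromSpec_primeIdealOf, hV.fromSpec_primeIdealOf] at h1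

omit [F.IsQuasicoherent] in
/-- the point of a prime. -/
theorem exists_point (q : Ideal Γ(X, V)) (hq : q.IsPrime) :
    ∃ (x : X) (hx : x ∈ V), (hV.primeIdealOf ⟨x, hx⟩).asIdeal = q := by
  let pt : PrimeSpectrum Γ(X, V) := ⟨q, hq⟩
  have hx : hV.fromSpec pt ∈ V := by
    have : hV.fromSpec pt ∈ Set.range hV.fromSpec := ⟨pt, rfl⟩
    rwa [hV.range_fromSpec] at this
  refine ⟨_, hx, ?_⟩
  have : hV.primeIdealOf ⟨hV.fromSpec pt, hx⟩ = pt := hV.fromSpec.isOpenEmbedding.injective (hV.fromSpec_primeIdealOf _)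
  rw [this]

theorem gM_eq_zero_iff {x : X} (hx : x ∈ V) (s : Γ(F, V)) :
    gM F hx s = 0 ↔ ∃ u ∉ (hV.primeIdealOf ⟨x, hx⟩).asIdeal, u • s = 0 := by
  constructor
  · intro h
    obtain ⟨u, hu, h0⟩ := exists_smul_eq_zero hV hx h
    exact ⟨u, fun h' => (mem_primeIdeal_iff hV hx).1 h' hu, h0⟩
  · rintro ⟨u, hu, h0⟩
    have hu' : x ∈ X.basicOpen u := by_contra fun h => hu ((mem_primeIdeal_iff hV hx).2 h)
    have := congrArg (gM F hx) h0
    rw [gM_smul, map_zero] at this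
    exact (isUnit_gO hx hu').smul_eq_zero.1 this

theorem annihilator_le {x : X} (hx : x ∈ V) {s : Γ(F, V)} (h : gM F hx s ≠ 0) {u : Γ(X, V)} (hu : u • s = 0) :
    u ∈ (hV.primeIdealOf ⟨x, hx⟩).asIdeal := by
  by_contra hu'
  exact h ((gM_eq_zero_iff hV hx s).2 ⟨u, hu', hu⟩)

theorem exists_ass_le {x : X} (hx : x ∈ V) [IsNoetherianRing Γ(X, V)] {s : Γ(F, V)} (h : gM F hx s ≠ 0) :
    ∃ q ∈ associatedPrimes Γ(X, V) Γ(F, V), q ≤ (hV.primeIdealOf ⟨x, hx⟩).asIdeal ∧ ∀ u : Γ(X, V), u • s = 0 → u ∈ q := by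
  let N : Submodule Γ(X, V) Γ(F, V) := Submodule.span Γ(X, V) {s}
  have hle : Module.annihilator Γ(X, V) N ≤ (hV.primeIdealOf ⟨x, hx⟩).asIdeal := fun u hu =>
    annihilator_le hV hx h (congrArg Subtype.val (Module.mem_annihilator.1 hu ⟨s, Submodule.mem_span_singleton_self s⟩))
  obtain ⟨q, hq, hqp⟩ := Ideal.exists_minimalPrimes_le hle
  refine ⟨q, associatedPrimes.subset_of_injective N.injective_subtype
    (Module.associatedPrimes.minimalPrimes_annihilator_subset_associatedPrimes Γ(X, V) N hq), hqp, fun u hu => hq.1.2 ?_⟩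
  rw [Module.mem_annihilator]
  rintro ⟨w, hw⟩
  obtain ⟨c, rfl⟩ := Submodule.mem_span_singleton.1 hw
  refine Subtype.ext ?_
  show u • c • s = 0
  rw [smul_comm, hu, smul_zero]

/-- a regular element on the stalk. -/
theorem regular_gM {x : X} (hx : x ∈ V) [IsNoetherianRing Γ(X, V)] {a : Γ(X, V)}
    (ha : ∀ q ∈ associatedPrimes Γ(X, V) Γ(F, V), q ≤ (hV.primeIdealOf ⟨x, hx⟩).asIdeal → a ∉ q) :
    IsSMulRegular (F.presheaf.stalk x) (gO hx a) := by
  rw [isSMulRegular_iff_right_eq_zero_of_smul]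
  intro y hy
  obtain ⟨u, s, hu, hus⟩ := exists_eq_smul hV hx y
  have h0 : gM F hx (a • s) = 0 := by rw [gM_smul, ← hus, smul_comm, hy, smul_zero]
  obtain ⟨v, hv, hv0⟩ := (gM_eq_zero_iff hV hx (a • s)).1 h0
  have hs : gM F hx s = 0 := by
    by_contra hne
    have hvs : gM F hx (v • s) ≠ 0 := by
      rw [gM_smul]
      exact fun h => hne ((isUnit_gO hx (by_contra fun h' => hv ((mem_primeIdeal_iff hV hx).2 h'))).smul_eq_zero.1 h)
    obtain ⟨q, hq, hqp, hq'⟩ := exists_ass_le hV hx hvs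
    exact ha q hq hqp (hq' a (by rw [smul_comm]; exact hv0))
  rw [hs] at hus
  exact (isUnit_gO hx hu).smul_eq_zero.1 hus

end Groth.Agent.H6.ZStalk
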