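import Mathlib
import Groth.Prelude.Def_FDesc
import Groth.Agent.Lib.H6.ZStalk
import Groth.Agent.Lib.LQcqs

/-! Associated points of quasi-coherent modules on locally Noetherian schemes. -/

set_option autoImplicit false
set_option linter.all false
set_option maxHeartbeats 800000
set_option backward.isDefEq.respectTransparency.types false

universe u

open CategoryTheory AlgebraicGeometry TopologicalSpace Opposite

namespace Groth.Agent.H6.AssPts

open ZBasic ZStalk

variable {X : Scheme.{u}} {F : X.Modules} [F.IsQuasicoherent] {V : X.Opens} (hV : IsAffineOpen V)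

theorem smul_eq_zero_iff_mem {A : Type*} {M : Type*} [CommRing A] [AddCommGroup M] [Module A M] (s : M) (a : A) :
    a ∈ (⊥ : Submodule A M).colon {s} ↔ a • s = 0 := by
  rw [Submodule.mem_colon_singleton, Submodule.mem_bot]

include hV in
theorem mem_ass_iff {x : X} (hx : x ∈ V) [IsNoetherianRing Γ(X, V)] [IsNoetherianRing (X.presheaf.stalk x)] :
    x ∈ AssSch.Ass F ↔ (hV.primeIdealOf ⟨x, hx⟩).asIdeal ∈ associatedPrimes Γ(X, V) Γ(F, V) := by
  classical
  set p := (hV.primeIdealOf ⟨x, hx⟩).asIdeal with hp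
  have hmax : ∀ c : Γ(X, V), gO hx c ∈ IsLocalRing.maximalIdeal (X.presheaf.stalk x) ↔ c ∈ p := by
    intro c
    rw [hp, mem_primeIdeal_iff hV hx, X.mem_basicOpen c x hx]
    exact Iff.rfl
  constructor
  · intro h
    obtain ⟨-, ξ, hξ⟩ := (isAssociatedPrime_iff).1 h
    obtain ⟨u, s, hu, hus⟩ := exists_eq_smul (F := F) hV hx ξ
    have hne : gM F hx s ≠ 0 := fun h0 => by
      rw [← hus, (isUnit_gO hx hu).smul_eq_zero] at h0
      have h1 : (1 : X.presheaf.stalk x) ∈ (⊥ : Submodule (X.presheaf.stalk x) (F.presheaf.stalk x)).colon {ξ} := by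
        rw [smul_eq_zero_iff_mem, one_smul, h0]
      rw [← hξ] at h1
      exact (IsLocalRing.maximalIdeal.isMaximal _).ne_top ((Ideal.eq_top_iff_one _).2 h1)
    have hann : ∀ a ∈ p, ∃ w ∉ p, w • a • s = 0 := fun a ha => by
      refine (gM_eq_zero_iff hV hx (a • s)).1 ?_
      rw [gM_smul F hx, ← hus, smul_comm, (smul_eq_zero_iff_mem ξ _).1 (hξ ▸ (hmax a).2 ha), smul_zero]
    obtain ⟨T, hT⟩ := (IsNoetherian.noetherian p : p.FG)
    have hW : ∀ T' : Finset Γ(X, V), (∀ a ∈ T', a ∈ p) → ∃ w ∉ p, ∀ a ∈ T', w • a • s = 0 := by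
      intro T'
      induction T' using Finset.induction_on with
      | empty => exact fun _ => ⟨1, (hV.primeIdealOf ⟨x, hx⟩).isPrime.one_notMem, by simp⟩
      | insert a T' _ ih =>
        intro hm
        obtain ⟨w, hw, hw'⟩ := ih fun b hb => hm b (Finset.mem_insert_of_mem hb)
        obtain ⟨v, hv, hv'⟩ := hann a (hm a (Finset.mem_insert_self _ _))
        refine ⟨v * w, (hV.primeIdealOf ⟨x, hx⟩).isPrime.mul_notMem hv hw, fun b hb => ?_⟩
        rcases Finset.mem_insert.1 hb with rfl | hb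
        · rw [mul_comm, mul_smul, hv', smul_zero]
        · rw [mul_smul, hw' b hb, smul_zero]
    obtain ⟨w, hw, hwT⟩ := hW T fun a ha => hT ▸ Submodule.subset_span ha
    refine (isAssociatedPrime_iff).2 ⟨(hV.primeIdealOf ⟨x, hx⟩).isPrime, w • s, le_antisymm ?_ ?_⟩
    · rw [← hT, Submodule.span_le]
      intro a ha
      show a ∈ (⊥ : Submodule Γ(X, V) Γ(F, V)).colon {w • s}
      rw [smul_eq_zero_iff_mem, smul_comm]
      exact hwT a ha
    · intro a ha
      rw [smul_eq_zero_iff_mem, ← mul_smul] at ha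
      exact ((hV.primeIdealOf ⟨x, hx⟩).isPrime.mem_or_mem (annihilator_le hV hx hne ha)).resolve_right hw
  · intro h
    obtain ⟨-, s, hs⟩ := (isAssociatedPrime_iff).1 h
    have hne : gM F hx s ≠ 0 := fun h0 => by
      obtain ⟨v, hv, hvs⟩ := (gM_eq_zero_iff hV hx s).1 h0
      exact hv (hp ▸ hs ▸ (smul_eq_zero_iff_mem s v).2 hvs)
    refine (isAssociatedPrime_iff).2 ⟨inferInstance, gM F hx s, le_antisymm (fun r hr => ?_) ?_⟩
    · rw [smul_eq_zero_iff_mem]
      letI : Algebra Γ(X, V) (X.presheaf.stalk x) := (X.presheaf.germ V x hx).hom.toAlgebra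
      haveI : IsLocalization.AtPrime (X.presheaf.stalk x) p := hV.isLocalization_stalk ⟨x, hx⟩
      obtain ⟨⟨c, u⟩, hcu⟩ := IsLocalization.surj p.primeCompl r
      have hu : IsUnit (gO hx u.1) := IsLocalization.map_units (X.presheaf.stalk x) u
      have hc : c ∈ p := (hmax c).1 (by
        rw [show gO hx c = r * gO hx u.1 from hcu.symm]
        exact Ideal.mul_mem_right _ _ hr)
      have h0 : c • s = 0 := (smul_eq_zero_iff_mem s c).1 (hs ▸ hc)
      rw [← hu.smul_eq_zero, ← mul_smul, mul_comm, show r * gO hx u.1 = gO hx c from hcu, ← gM_smul F hx, h0, map_zero]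
    · refine IsLocalRing.le_maximalIdeal fun htop => hne ?_
      have h1 := (smul_eq_zero_iff_mem (gM F hx s) (1 : X.presheaf.stalk x)).1 (htop ▸ Submodule.mem_top)
      rwa [one_smul] at h1

theorem point_eq {X : Scheme.{u}} {V : X.Opens} (hV : IsAffineOpen V) {x y : X} (hx : x ∈ V) (hy : y ∈ V)
    (h : (hV.primeIdealOf ⟨x, hx⟩).asIdeal = (hV.primeIdealOf ⟨y, hy⟩).asIdeal) : x = y :=
  (hV.fromSpec_primeIdealOf ⟨x, hx⟩).symm.trans
    ((congrArg hV.fromSpec (PrimeSpectrum.ext h)).trans (hV.fromSpec_primeIdealOf ⟨y, hy⟩))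

theorem prime_comap {X Y : Scheme.{u}} (f : X ⟶ Y) {W : X.Opens} {V : Y.Opens} (hW : IsAffineOpen W)
    (hV : IsAffineOpen V) (e : W ≤ f ⁻¹ᵁ V) {x : X} (hx : x ∈ W) :
    (hW.primeIdealOf ⟨x, hx⟩).asIdeal.comap (f.appLE V W e).hom = (hV.primeIdealOf ⟨f x, e hx⟩).asIdeal :=
  congrArg PrimeSpectrum.asIdeal (IsAffineOpen.comap_primeIdealOf_appLE V hV W hW e hx)

/-- associated points of a direct image lie in the image of the associated points -/
theorem exists_ass_of_ass_push {X Y : Scheme.{u}} [IsLocallyNoetherian X] [IsLocallyNoetherian Y]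
    (f : X ⟶ Y) [QuasiCompact f] [QuasiSeparated f] (M : X.Modules) [M.IsQuasicoherent] {y : Y}
    (hy : y ∈ AssSch.Ass ((Coh.push f).obj M)) : ∃ x ∈ AssSch.Ass M, f x = y := by
  classical
  haveI : ((Coh.push f).obj M).IsQuasicoherent := LQcoh.isQuasicoherent_push f M
  obtain ⟨V, hV, hyV, -⟩ := exists_isAffineOpen_mem_and_subset (X := Y) (x := y) (U := ⊤) trivial
  haveI : IsNoetherianRing Γ(Y, V) := IsLocallyNoetherian.component_noetherian ⟨V, hV⟩
  obtain ⟨-, s, hs⟩ := (isAssociatedPrime_iff).1 ((mem_ass_iff hV hyV).1 hy)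
  set p := (hV.primeIdealOf ⟨y, hyV⟩).asIdeal with hp
  obtain ⟨ι, hι, A, hA, hsup⟩ := LQcoh.exists_affine_cover (f ⁻¹ᵁ V) (f.isCompact_preimage hV.isCompact)
  haveI := Fintype.ofFinite ι
  let s' : Γ(M, f ⁻¹ᵁ V) := s
  have hle : ∀ i, A i ≤ f ⁻¹ᵁ V := fun i => (le_iSup A i).trans hsup.le
  let t : ∀ i, Γ(M, A i) := fun i => res M (hle i) s'
  have hsm : ∀ i (a : Γ(Y, V)), (res M (hle i) (@id Γ(M, f ⁻¹ᵁ V) (a • s)) : Γ(M, A i)) =
      (f.appLE V (A i) (hle i)).hom a • t i := fun i a =>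
    ZStalk.res_smul (F := M) (hle i) (f.app V a) s'
  let I : ι → Ideal Γ(Y, V) := fun i =>
    ((⊥ : Submodule Γ(X, A i) Γ(M, A i)).colon {t i}).comap (f.appLE V (A i) (hle i)).hom
  have hinf : Finset.univ.inf I ≤ p := by
    intro a ha
    rw [hs, smul_eq_zero_iff_mem]
    have h0 : ∀ i, (res M (hle i) (@id Γ(M, f ⁻¹ᵁ V) (a • s)) : Γ(M, A i)) = 0 := fun i => by
      have := (Finset.inf_le (Finset.mem_univ i) : Finset.univ.inf I ≤ I i) ha
      rw [hsm i a]
      exact (smul_eq_zero_iff_mem (t i) _).1 this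
    exact LQcoh.eq_of_cover M A hsup (s := @id Γ(M, f ⁻¹ᵁ V) (a • s)) (t := 0) fun i =>
      (h0 i).trans (map_zero _).symm
  obtain ⟨i, -, hi⟩ := (Ideal.IsPrime.inf_le' (hV.primeIdealOf ⟨y, hyV⟩).isPrime).1 hinf
  have hIp : I i = p := le_antisymm hi fun a ha => by
    rw [hs, smul_eq_zero_iff_mem] at ha
    show (f.appLE V (A i) (hle i)).hom a ∈ (⊥ : Submodule Γ(X, A i) Γ(M, A i)).colon {t i}
    rw [smul_eq_zero_iff_mem, ← hsm i a, ha]
    exact map_zero _
  haveI : IsNoetherianRing Γ(X, A i) := IsLocallyNoetherian.component_noetherian ⟨A i, hA i⟩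
  let N : Submodule Γ(X, A i) Γ(M, A i) := Submodule.span Γ(X, A i) {t i}
  have hN : Module.annihilator Γ(X, A i) N = (⊥ : Submodule Γ(X, A i) Γ(M, A i)).colon {t i} := by
    ext a
    rw [smul_eq_zero_iff_mem, Module.mem_annihilator]
    refine ⟨fun h => congrArg Subtype.val (h ⟨t i, Submodule.mem_span_singleton_self _⟩), fun h => ?_⟩
    rintro ⟨w, hw⟩
    obtain ⟨c, rfl⟩ := Submodule.mem_span_singleton.1 hw
    refine Subtype.ext ?_
    show a • c • t i = 0
    rw [smul_comm, h, smul_zero]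
  have hpI : p ∈ (((⊥ : Submodule Γ(X, A i) Γ(M, A i)).colon {t i}).comap (f.appLE V (A i) (hle i)).hom).minimalPrimes := by
    change p ∈ (I i).minimalPrimes
    haveI : p.IsPrime := (hV.primeIdealOf ⟨y, hyV⟩).isPrime
    rw [hIp, Ideal.minimalPrimes_eq_subsingleton_self]
    rfl
  obtain ⟨q, hq, hqp⟩ := Ideal.exists_minimalPrimes_comap_eq _ p hpI
  rw [← hN] at hq
  have hqa : q ∈ associatedPrimes Γ(X, A i) Γ(M, A i) := associatedPrimes.subset_of_injective N.injective_subtype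
    (Module.associatedPrimes.minimalPrimes_annihilator_subset_associatedPrimes Γ(X, A i) N hq)
  obtain ⟨x, hx, hxq⟩ := exists_point (hA i) q hqa.isPrime
  refine ⟨x, (mem_ass_iff (hA i) hx).2 (hxq ▸ hqa), point_eq hV (hle i hx) hyV ?_⟩
  rw [← prime_comap f (hA i) hV (hle i) hx, hxq, hqp]

/-- the image of an associated point over which the morphism is affine -/
theorem ass_push_of_affine {X Y : Scheme.{u}} [IsLocallyNoetherian X] [IsLocallyNoetherian Y]
    (f : X ⟶ Y) [QuasiCompact f] [QuasiSeparated f] (M : X.Modules) [M.IsQuasicoherent] {x : X}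
    (hx : x ∈ AssSch.Ass M) {V : Y.Opens} (hV : IsAffineOpen V) (hxV : f x ∈ V) (hW : IsAffineOpen (f ⁻¹ᵁ V)) :
    f x ∈ AssSch.Ass ((Coh.push f).obj M) := by
  haveI : ((Coh.push f).obj M).IsQuasicoherent := LQcoh.isQuasicoherent_push f M
  haveI : IsNoetherianRing Γ(Y, V) := IsLocallyNoetherian.component_noetherian ⟨V, hV⟩
  haveI : IsNoetherianRing Γ(X, f ⁻¹ᵁ V) := IsLocallyNoetherian.component_noetherian ⟨_, hW⟩
  obtain ⟨-, s, hs⟩ := (isAssociatedPrime_iff).1 ((mem_ass_iff hW hxV).1 hx)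
  rw [mem_ass_iff hV hxV]
  refine (isAssociatedPrime_iff).2 ⟨(hV.primeIdealOf ⟨f x, hxV⟩).isPrime, @id Γ((Coh.push f).obj M, V) s, ?_⟩
  rw [← prime_comap f hW hV le_rfl hxV, hs]
  ext a
  rw [Ideal.mem_comap, smul_eq_zero_iff_mem, smul_eq_zero_iff_mem, Scheme.Hom.appLE_eq_app]
  exact Iff.rfl

end Groth.Agent.H6.AssPts
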