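import Mathlib

set_option autoImplicit false
set_option backward.isDefEq.respectTransparency.types false
set_option backward.isDefEq.respectTransparency false

universe u
open CategoryTheory
open scoped FintypeCatDiscrete
open CategoryTheory.PreGaloisCategory

namespace Groth.Agent.H6AutForgetCont

variable (G : Type u) [Group G] [TopologicalSpace G]

abbrev Fgt : ContAction FintypeCat.{u} G ⥤ FintypeCat.{u} :=
  forget₂ (ContAction FintypeCat.{u} G) FintypeCat.{u}

variable {G}

noncomputable def regAct {Q : Type u} [Group Q] [Finite Q] (π : G →* Q) : Action FintypeCat.{u} G where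
  V := FintypeCat.of Q
  ρ :=
    { toFun := fun g => FintypeCat.homMk fun q => π g * q
      map_one' := by apply FintypeCat.hom_ext; intro q; show π 1 * (show Q from q) = (show Q from q); simp
      map_mul' := fun g h => by
        apply FintypeCat.hom_ext; intro q
        show π (g * h) * (show Q from q) = π g * (π h * (show Q from q)); simp [mul_assoc] }

noncomputable def reg [IsTopologicalGroup G] {Q : Type u} [Group Q] [Finite Q] (π : G →* Q)
    (hπ : ∀ c : Q, IsOpen (π ⁻¹' {c})) : ContAction FintypeCat.{u} G :=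
  ⟨regAct π, by
    constructor
    have : DiscreteTopology ((forget₂ (Action FintypeCat G) TopCat).obj (regAct π)) := ⟨rfl⟩
    rw [continuous_prod_of_discrete_right]
    intro q
    rw [continuous_discrete_rng]
    intro c
    let c' : Q := c
    let q' : Q := q
    refine (congrArg IsOpen ?_).mpr (hπ (c' * q'⁻¹))
    ext g
    show π g * q' = c' ↔ π g = c' * q'⁻¹
    exact eq_mul_inv_iff_mul_eq.symm⟩

noncomputable def ι : G →* Aut (Fgt G) where
  toFun g := NatIso.ofComponents (fun X => X.obj.ρAut g) (fun f => (f.hom.comm g).symm)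
  map_one' := by
    refine Iso.ext (NatTrans.ext (funext fun X => ?_))
    show X.obj.ρ 1 = 𝟙 _
    rw [map_one]; rfl
  map_mul' g h := by
    refine Iso.ext (NatTrans.ext (funext fun X => ?_))
    show X.obj.ρ (g * h) = _
    rw [map_mul]; rfl

theorem ι_app (g : G) (X : ContAction FintypeCat.{u} G) (x : X.obj.V) :
    (ι g).hom.app X x = (X.obj.ρ g).hom x := rfl

theorem isOpen_smul_eq (X : ContAction FintypeCat.{u} G) (x y : X.obj.V) :
    IsOpen {g : G | (X.obj.ρ g).hom x = y} := by
  have h := (Action.isContinuous_def X.obj).1 X.2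
  have h2 : Continuous fun g : G => (forget₂ FintypeCat TopCat).map (X.obj.ρ g) x :=
    h.comp (continuous_id.prodMk continuous_const)
  exact (isOpen_discrete {y}).preimage h2

theorem isOpen_ρ_eq (X : ContAction FintypeCat.{u} G) (σ : X.obj.V → X.obj.V) :
    IsOpen {g : G | ∀ x, (X.obj.ρ g).hom x = σ x} := by
  rw [Set.setOf_forall]
  exact isOpen_iInter_of_finite fun x => isOpen_smul_eq X x (σ x)

theorem continuous_ι : Continuous (ι (G := G)) := by
  refine continuous_induced_rng.2 (continuous_pi fun X => ?_)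
  rw [continuous_discrete_rng]
  intro σ
  have e : (fun g => ((autEmbedding (Fgt G)) ∘ ι) g X) ⁻¹' {σ} =
      {g : G | ∀ x : X.obj.V, (X.obj.ρ g).hom x = σ.hom x} := by
    ext g
    constructor
    · intro h x
      have h' : (autEmbedding (Fgt G)) (ι g) X = σ := h
      rw [← h']
      rfl
    · intro h
      show (autEmbedding (Fgt G)) (ι g) X = σ
      refine Iso.ext ?_
      apply FintypeCat.hom_ext
      intro x
      exact h x
  exact e ▸ isOpen_ρ_eq X _

variable [IsTopologicalGroup G]

theorem app_reg {Q : Type u} [Group Q] [Finite Q] (π : G →* Q) (hπ : ∀ c : Q, IsOpen (π ⁻¹' {c}))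
    (τ : Aut (Fgt G)) (q : Q) :
    (τ.hom.app (reg π hπ) q : Q) = (show Q from τ.hom.app (reg π hπ) (1 : Q)) * q := by
  let f : (regAct π) ⟶ (regAct π) :=
    ⟨FintypeCat.homMk fun r => (show Q from r) * q, fun g => by
      apply FintypeCat.hom_ext
      intro r
      show π g * (show Q from r) * q = π g * ((show Q from r) * q)
      rw [mul_assoc]⟩
  have h := ConcreteCategory.congr_hom
    (τ.hom.naturality (ObjectProperty.homMk f : reg π hπ ⟶ reg π hπ)) (1 : Q)
  have h2 : τ.hom.app (reg π hπ) ((1 : Q) * q : Q) =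
      (show Q from τ.hom.app (reg π hπ) (1 : Q)) * q := h
  rwa [one_mul] at h2

theorem denseRange_ι : DenseRange (ι (G := G)) := by
  intro τ
  rw [mem_closure_iff]
  intro O hO hτ
  obtain ⟨O', hO', rfl⟩ := isOpen_induced_iff.1 hO
  rw [isOpen_pi_iff] at hO'
  obtain ⟨S, U, hU, hsub⟩ := hO' _ hτ
  let K : Subgroup G := ⨅ X : S, (X.1.obj.ρ).ker
  have hKn : K.Normal := Subgroup.normal_iInf_normal fun X => inferInstance
  have hK : IsOpen (K : Set G) := by
    rw [Subgroup.coe_iInf]
    refine isOpen_iInter_of_finite fun X => ?_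
    have e : ((X.1.obj.ρ).ker : Set G) = {g : G | ∀ x : X.1.obj.V, (X.1.obj.ρ g).hom x = x} := by
      ext g
      constructor
      · intro h x
        have h' : X.1.obj.ρ g = 1 := h
        rw [h']; rfl
      · intro h
        show X.1.obj.ρ g = 1
        apply FintypeCat.hom_ext
        intro x
        exact h x
    exact e ▸ isOpen_ρ_eq X.1 id
  have hfi : ∀ X : S, (X.1.obj.ρ).ker.FiniteIndex := by
    intro X
    let T : G →* Equiv.Perm X.1.obj.V :=
      MonoidHom.toHomPerm
        ({ toFun := fun g x => (X.1.obj.ρ g).hom x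
           map_one' := by funext x; show (X.1.obj.ρ 1).hom x = x; rw [map_one]; rfl
           map_mul' := fun g h => by funext x; show (X.1.obj.ρ (g * h)).hom x = _; rw [map_mul]; rfl } :
          G →* Function.End X.1.obj.V)
    have e : T.ker ≤ (X.1.obj.ρ).ker := by
      intro g h
      show X.1.obj.ρ g = 1
      apply FintypeCat.hom_ext
      intro x
      exact congrArg (fun p : Equiv.Perm X.1.obj.V => p x) h
    exact Subgroup.finiteIndex_of_le e
  have : K.FiniteIndex := Subgroup.finiteIndex_iInf hfi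
  have hπ : ∀ c : G ⧸ K, IsOpen (QuotientGroup.mk' K ⁻¹' {c}) := by
    intro c
    have := QuotientGroup.discreteTopology hK
    exact (isOpen_discrete ({c} : Set (G ⧸ K))).preimage QuotientGroup.continuous_mk
  obtain ⟨g, hg⟩ := QuotientGroup.mk_surjective
    (show G ⧸ K from τ.hom.app (reg (QuotientGroup.mk' K) hπ) (1 : G ⧸ K))
  refine ⟨ι g, hsub ?_, g, rfl⟩
  intro X hX
  have key : (autEmbedding (Fgt G)) (ι g) X = (autEmbedding (Fgt G)) τ X := by
    refine Iso.ext ?_
    apply FintypeCat.hom_ext
    intro x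
    have hw : ∀ a b : G, QuotientGroup.leftRel K a b → (X.obj.ρ a).hom x = (X.obj.ρ b).hom x := by
      intro a b hab
      rw [QuotientGroup.leftRel_apply] at hab
      have h0 : X.obj.ρ (a⁻¹ * b) = 1 := (Subgroup.mem_iInf.1 hab) ⟨X, hX⟩
      have : X.obj.ρ b = X.obj.ρ a := by
        rw [← mul_inv_cancel_left a b, map_mul, h0, mul_one]
      rw [this]
    let m : G ⧸ K → X.obj.V := Quotient.lift (fun a => (X.obj.ρ a).hom x) hw
    let f : regAct (QuotientGroup.mk' K) ⟶ X.obj :=
      ⟨FintypeCat.homMk m, fun a => by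
        apply FintypeCat.hom_ext
        intro r
        obtain ⟨r, rfl⟩ := QuotientGroup.mk_surjective (show G ⧸ K from r)
        show (X.obj.ρ (a * r)).hom x = _
        rw [map_mul]; rfl⟩
    have h := ConcreteCategory.congr_hom
      (τ.hom.naturality (ObjectProperty.homMk f : reg (QuotientGroup.mk' K) hπ ⟶ X)) (1 : G ⧸ K)
    have h2 : τ.hom.app X ((X.obj.ρ 1).hom x) =
        m (τ.hom.app (reg (QuotientGroup.mk' K) hπ) (1 : G ⧸ K)) := h
    have h1 : (X.obj.ρ 1).hom x = x := by rw [map_one]; rfl
    have h3 : τ.hom.app X x = (X.obj.ρ g).hom x := by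
      rw [← h1, h2]
      show m _ = _
      exact (congrArg m hg.symm).trans (congrArg (fun y => (X.obj.ρ g).hom y) h1).symm
    exact h3.symm
  rw [key]
  exact (hU X hX).2

theorem main :
    ∃ ι : G →* Aut (Fgt G),
      Continuous ι ∧
      (∀ (g : G) (X : ContAction FintypeCat.{u} G) (x : X.obj.V),
        (ι g).hom.app X x = (X.obj.ρ g).hom x) ∧
      DenseRange ι ∧
      ∀ (Q : Type u) [Group Q] [Finite Q] [TopologicalSpace Q] [DiscreteTopology Q] (π : G →* Q),
        Continuous π → ∃! ψ : Aut (Fgt G) →* Q, Continuous ψ ∧ ψ.comp ι = π := by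
  refine ⟨ι, continuous_ι, ι_app, denseRange_ι, ?_⟩
  intro Q _ _ _ _ π hπc
  have hπ : ∀ c : Q, IsOpen (π ⁻¹' {c}) := fun c => (isOpen_discrete _).preimage hπc
  let e : Aut (Fgt G) → Q := fun τ => τ.hom.app (reg π hπ) (1 : Q)
  have he : ∀ σ τ, e (σ * τ) = e σ * e τ := fun σ τ => app_reg π hπ σ (e τ)
  let ψ : Aut (Fgt G) →* Q := MonoidHom.mk' e he
  have hψc : Continuous ψ := by
    let ev : Aut ((Fgt G).obj (reg π hπ)) → Q := fun a => a.hom (1 : Q)
    have h1 : Continuous ev := continuous_of_discreteTopology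
    exact h1.comp ((continuous_apply (reg π hπ)).comp
      (continuous_induced_dom (f := autEmbedding (Fgt G))))
  have hψι : ψ.comp ι = π := MonoidHom.ext fun g => mul_one (π g)
  refine ⟨ψ, ⟨hψc, hψι⟩, ?_⟩
  rintro ψ' ⟨h1, h2⟩
  apply DFunLike.coe_injective
  refine denseRange_ι.equalizer h1 hψc ?_
  exact congrArg DFunLike.coe (h2.trans hψι.symm)

end Groth.Agent.H6AutForgetCont
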