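import Mathlib

set_option autoImplicit false
set_option maxHeartbeats 1000000

universe u

namespace Groth.Agent.H6BasicElt

variable {A : Type u} [CommRing A] {M : Type u} [AddCommGroup M] [Module A M]

noncomputable def psi (p : Ideal A) [p.IsPrime] {r : ℕ}
    (e : LocalizedModule p.primeCompl M ≃ₗ[Localization.AtPrime p] (Fin r → Localization.AtPrime p)) :
    M →ₗ[A] (Fin r → p.ResidueField) :=
  LinearMap.pi fun l => (IsScalarTower.toAlgHom A (Localization.AtPrime p) p.ResidueField).toLinearMap ∘ₗ
    (LinearMap.proj l) ∘ₗ (e.restrictScalars A).toLinearMap ∘ₗ LocalizedModule.mkLinearMap p.primeCompl M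

theorem psi_apply (p : Ideal A) [p.IsPrime] {r : ℕ}
    (e : LocalizedModule p.primeCompl M ≃ₗ[Localization.AtPrime p] (Fin r → Localization.AtPrime p)) (m : M) (l : Fin r) :
    psi p e m l = algebraMap (Localization.AtPrime p) p.ResidueField (e (LocalizedModule.mkLinearMap p.primeCompl M m) l) := rfl

theorem notMem_iff (p : Ideal A) [p.IsPrime] (a : A) : algebraMap A p.ResidueField a ≠ 0 ↔ a ∉ p := by
  rw [Ne, Ideal.algebraMap_residueField_eq_zero]

theorem span_psi (p : Ideal A) [p.IsPrime] {r : ℕ}
    (e : LocalizedModule p.primeCompl M ≃ₗ[Localization.AtPrime p] (Fin r → Localization.AtPrime p)) :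
    Submodule.span p.ResidueField (Set.range (psi p e)) = ⊤ := by
  classical
  rw [eq_top_iff, ← (Pi.basisFun p.ResidueField (Fin r)).span_eq, Submodule.span_le]
  rintro _ ⟨l, rfl⟩
  obtain ⟨⟨m, s⟩, hms⟩ := IsLocalizedModule.surj p.primeCompl
    (LocalizedModule.mkLinearMap p.primeCompl M) (e.symm (Pi.single l 1))
  have h : psi p e m = algebraMap A p.ResidueField s • Pi.basisFun p.ResidueField (Fin r) l := by
    funext j
    have h' : e (LocalizedModule.mkLinearMap p.primeCompl M m) = (s : A) • Pi.single l 1 := by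
      rw [← hms]
      exact ((e.restrictScalars A).map_smul (s : A) _).trans (congrArg _ (e.apply_symm_apply _))
    rw [psi_apply, h', Pi.smul_apply, Pi.smul_apply,
      Pi.basisFun_apply, Algebra.smul_def, smul_eq_mul, map_mul, ← IsScalarTower.algebraMap_apply]
    congr 1
    rcases eq_or_ne j l with rfl | hj
    · rw [Pi.single_eq_same, Pi.single_eq_same, map_one]
    · rw [Pi.single_eq_of_ne hj, Pi.single_eq_of_ne hj, map_zero]
  have hs : algebraMap A p.ResidueField s ≠ 0 := (notMem_iff p s).2 s.2
  have := Submodule.smul_mem (Submodule.span p.ResidueField (Set.range (psi p e)))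
    (algebraMap A p.ResidueField s)⁻¹ (Submodule.subset_span ⟨m, h⟩)
  simp only [smul_smul, inv_mul_cancel₀ hs, one_smul] at this
  exact this

theorem residue_eq_sum (p : Ideal A) [p.IsPrime] {r : ℕ}
    (e : LocalizedModule p.primeCompl M ≃ₗ[Localization.AtPrime p] (Fin r → Localization.AtPrime p)) (f : M →ₗ[A] A) :
    ∃ w : Fin r → p.ResidueField, ∀ m, algebraMap A p.ResidueField (f m) = ∑ l, w l * psi p e m l := by
  classical
  let f' : LocalizedModule p.primeCompl M →ₗ[A] Localization.AtPrime p :=
    IsLocalizedModule.lift p.primeCompl (LocalizedModule.mkLinearMap p.primeCompl M)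
      ((Algebra.linearMap A (Localization.AtPrime p)).comp f) (fun s => by
        rw [Module.End.isUnit_iff]
        have hu : IsUnit (algebraMap A (Localization.AtPrime p) s) := IsLocalization.map_units _ s
        constructor
        · intro x y hxy
          simp only [Module.algebraMap_end_apply, Algebra.smul_def] at hxy
          exact hu.mul_left_cancel hxy
        · intro y
          refine ⟨hu.unit⁻¹ * y, ?_⟩
          simp [Module.algebraMap_end_apply, Algebra.smul_def, ← mul_assoc])
  let F := f'.extendScalarsOfIsLocalization p.primeCompl (Localization.AtPrime p)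
  refine ⟨fun l => algebraMap _ p.ResidueField (F (e.symm (Pi.single l 1))), fun m => ?_⟩
  have h1 : algebraMap A (Localization.AtPrime p) (f m) = F (LocalizedModule.mkLinearMap p.primeCompl M m) := by
    show _ = f' _
    simp only [f', IsLocalizedModule.lift_apply]
    rfl
  rw [IsScalarTower.algebraMap_apply A (Localization.AtPrime p) p.ResidueField, h1]
  conv_lhs => rw [← e.symm_apply_apply (LocalizedModule.mkLinearMap p.primeCompl M m),
    pi_eq_sum_univ' (e (LocalizedModule.mkLinearMap p.primeCompl M m))]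
  simp only [map_sum, map_smul, smul_eq_mul, map_mul, psi_apply]
  exact Finset.sum_congr rfl fun l _ => mul_comm _ _

theorem linearIndependent_of_det (p : Ideal A) [p.IsPrime] {r t : ℕ}
    (e : LocalizedModule p.primeCompl M ≃ₗ[Localization.AtPrime p] (Fin r → Localization.AtPrime p))
    (v : Fin t → M) (f : Fin t → M →ₗ[A] A) (hdet : (Matrix.of fun a b => f a (v b)).det ∉ p) :
    LinearIndependent p.ResidueField fun b => psi p e (v b) := by
  choose w hw using fun a => residue_eq_sum p e (f a)
  rw [Fintype.linearIndependent_iff]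
  intro c hc
  have hd : ((Matrix.of fun a b => f a (v b)).map (algebraMap A p.ResidueField)).det ≠ 0 := by
    rw [← RingHom.mapMatrix_apply, ← RingHom.map_det]
    exact (notMem_iff p _).2 hdet
  have hmv : ((Matrix.of fun a b => f a (v b)).map (algebraMap A p.ResidueField)).mulVec c = 0 := by
    funext a
    simp only [Matrix.mulVec, dotProduct, Matrix.map_apply, Matrix.of_apply, hw, Finset.sum_mul, Pi.zero_apply]
    rw [Finset.sum_comm]
    refine Finset.sum_eq_zero fun l _ => ?_
    have := congrFun hc l
    simp only [Finset.sum_apply, Pi.smul_apply, smul_eq_mul, Pi.zero_apply] at this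
    calc ∑ b, w a l * psi p e (v b) l * c b = w a l * ∑ b, c b * psi p e (v b) l := by
          rw [Finset.mul_sum]; exact Finset.sum_congr rfl fun b _ => by ring
      _ = 0 := by rw [this, mul_zero]
  exact fun b => congrFun (Matrix.eq_zero_of_mulVec_eq_zero hd hmv) b

theorem exists_det_of_linearIndependent [Module.FinitePresentation A M] (p : Ideal A) [p.IsPrime] {r t : ℕ}
    (e : LocalizedModule p.primeCompl M ≃ₗ[Localization.AtPrime p] (Fin r → Localization.AtPrime p))
    (v : Fin t → M) (hv : LinearIndependent p.ResidueField fun b => psi p e (v b)) :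
    ∃ f : Fin t → M →ₗ[A] A, (Matrix.of fun a b => f a (v b)).det ∉ p := by
  classical
  let K := p.ResidueField
  let T : (Fin t → K) →ₗ[K] (Fin r → K) := Fintype.linearCombination K fun b => psi p e (v b)
  obtain ⟨L, hL⟩ := LinearMap.exists_leftInverse_of_injective T
    (LinearMap.ker_eq_bot'.2 fun c hc => funext (Fintype.linearIndependent_iff.1 hv c (by simpa [T, Fintype.linearCombination_apply] using hc)))
  have hL' : ∀ a b, L (psi p e (v b)) a = if a = b then 1 else 0 := by
    intro a b
    have := LinearMap.congr_fun hL (Pi.single b 1)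
    rw [LinearMap.comp_apply, Fintype.linearCombination_apply_single, one_smul] at this
    rw [this]
    exact Pi.single_apply b (1 : K) a
  have hres : Function.Surjective (algebraMap (Localization.AtPrime p) K) := IsLocalRing.residue_surjective
  choose W hW using fun (a : Fin t) (l : Fin r) => hres (L (Pi.single l 1) a)
  let g : Fin t → M →ₗ[A] Localization.AtPrime p := fun a =>
    ((∑ l, W a l • LinearMap.proj l : (Fin r → Localization.AtPrime p) →ₗ[Localization.AtPrime p] Localization.AtPrime p).restrictScalars A) ∘ₗ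
      (e.restrictScalars A).toLinearMap ∘ₗ LocalizedModule.mkLinearMap p.primeCompl M
  have hg : ∀ a m, algebraMap (Localization.AtPrime p) K (g a m) = L (psi p e m) a := by
    intro a m
    conv_rhs => rw [pi_eq_sum_univ' (psi p e m)]
    simp only [map_sum, map_smul, Finset.sum_apply, Pi.smul_apply, smul_eq_mul, ← hW, psi_apply]
    simp [g, map_sum, mul_comm]
    rfl
  choose f s hf using fun a => Module.FinitePresentation.exists_lift_of_isLocalizedModule p.primeCompl
    (Algebra.linearMap A (Localization.AtPrime p)) (g a)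
  refine ⟨f, (notMem_iff p _).1 ?_⟩
  rw [RingHom.map_det, RingHom.mapMatrix_apply]
  have : (Matrix.of fun a b => f a (v b)).map (algebraMap A K) = Matrix.diagonal fun a => algebraMap A K (s a) := by
    ext a b
    have h := LinearMap.congr_fun (hf a) (v b)
    rw [LinearMap.comp_apply, Algebra.linearMap_apply, LinearMap.smul_apply, Submonoid.smul_def, Algebra.smul_def] at h
    rw [Matrix.map_apply, Matrix.of_apply, IsScalarTower.algebraMap_apply A (Localization.AtPrime p) K, h,
      map_mul, hg, hL', Matrix.diagonal_apply, ← IsScalarTower.algebraMap_apply]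
    by_cases hab : a = b <;> simp [hab]
  rw [this, Matrix.det_diagonal]
  exact Finset.prod_ne_zero_iff.2 fun a _ => (notMem_iff p _).2 (s a).2

noncomputable def rk (p : Ideal A) [p.IsPrime] {r n : ℕ}
    (e : LocalizedModule p.primeCompl M ≃ₗ[Localization.AtPrime p] (Fin r → Localization.AtPrime p))
    (x : Fin n → M) : ℕ :=
  Module.finrank p.ResidueField (Submodule.span p.ResidueField (Set.range fun i => psi p e (x i)))

/-- ideal of minors of size `t + 1` -/
def minors {n : ℕ} (x : Fin n → M) (t : ℕ) : Ideal A :=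
  Ideal.span {d | ∃ (σ : Fin (t + 1) → Fin n) (f : Fin (t + 1) → M →ₗ[A] A),
    d = (Matrix.of fun a b => f a (x (σ b))).det}

theorem rk_le_iff [Module.FinitePresentation A M] (p : Ideal A) [p.IsPrime] {r n : ℕ}
    (e : LocalizedModule p.primeCompl M ≃ₗ[Localization.AtPrime p] (Fin r → Localization.AtPrime p))
    (x : Fin n → M) (t : ℕ) : rk p e x ≤ t ↔ minors x t ≤ p := by
  constructor
  · intro h
    refine Ideal.span_le.2 ?_
    rintro _ ⟨σ, f, rfl⟩
    by_contra hdet
    have hli := linearIndependent_of_det p e (fun b => x (σ b)) f hdet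
    have h1 := finrank_span_eq_card hli
    have h2 : Submodule.span p.ResidueField (Set.range fun b => psi p e (x (σ b))) ≤
        Submodule.span p.ResidueField (Set.range fun i => psi p e (x i)) :=
      Submodule.span_mono (by rintro _ ⟨b, rfl⟩; exact ⟨σ b, rfl⟩)
    have h3 := Submodule.finrank_mono h2
    rw [h1, Fintype.card_fin] at h3
    change Module.finrank _ _ ≤ t at h
    omega
  · intro h
    by_contra ht
    obtain ⟨v, hv, -, hli⟩ := Submodule.exists_fun_fin_finrank_span_eq p.ResidueField
      (Set.range fun i => psi p e (x i))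
    choose σ hσ using hv
    have hle : t + 1 ≤ rk p e x := by omega
    obtain ⟨f, hf⟩ := exists_det_of_linearIndependent p e (fun b => x (σ (Fin.castLE hle b)))
      (by
        have := hli.comp _ (Fin.castLE_injective hle)
        have heq : (fun b => psi p e (x (σ (Fin.castLE hle b)))) = v ∘ Fin.castLE hle :=
          funext fun b => hσ (Fin.castLE hle b)
        rw [heq]; exact this)
    exact hf (h (Ideal.subset_span ⟨_, f, rfl⟩))

variable [IsNoetherianRing A] [Module.Finite A M] {k r : ℕ}
  (e : ∀ p : PrimeSpectrum A, p.asIdeal.height ≤ (k : ℕ∞) →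
    LocalizedModule p.asIdeal.primeCompl M ≃ₗ[Localization.AtPrime p.asIdeal] (Fin r → Localization.AtPrime p.asIdeal))

/-- the invariant of the reduction -/
def Basic {n : ℕ} (x : Fin n → M) : Prop :=
  ∀ (p : PrimeSpectrum A) (h : ℕ) (hh : p.asIdeal.height = h) (hk : h ≤ k),
    min n (k - h + 1) ≤ rk p.asIdeal (e p (by rw [hh]; exact_mod_cast hk)) x

theorem exists_adjust {n : ℕ} (x : Fin (n + 1) → M) (B : Finset {p : PrimeSpectrum A // p.asIdeal.height ≤ (k : ℕ∞)}) :
    ∃ a : Fin n → A, ∀ p ∈ B, rk p.1.asIdeal (e p.1 p.2) x ≤ n →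
      psi p.1.asIdeal (e p.1 p.2) (x (Fin.last n)) ∈ Submodule.span p.1.asIdeal.ResidueField
        (Set.range fun i => psi p.1.asIdeal (e p.1 p.2) (x i.castSucc + a i • x (Fin.last n))) := by
  classical
  induction B using Finset.strongInduction with
  | _ B ih =>
    rcases B.eq_empty_or_nonempty with rfl | hne
    · exact ⟨0, fun p hp => by simp at hp⟩
    obtain ⟨p, hpB, hmin⟩ := B.exists_min_image (fun q => q.1.asIdeal.height) hne
    obtain ⟨a, ha⟩ := ih (B.erase p) (Finset.erase_ssubset hpB)
    by_cases hgood : rk p.1.asIdeal (e p.1 p.2) x ≤ n →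
      psi p.1.asIdeal (e p.1 p.2) (x (Fin.last n)) ∈ Submodule.span p.1.asIdeal.ResidueField
        (Set.range fun i => psi p.1.asIdeal (e p.1 p.2) (x i.castSucc + a i • x (Fin.last n)))
    · exact ⟨a, fun q hq => (eq_or_ne q p).elim (fun h => h ▸ hgood) fun h => ha q (Finset.mem_erase.2 ⟨h, hq⟩)⟩
    obtain ⟨hrk, hnot⟩ := Classical.not_imp.1 hgood
    have hc : ∀ q ∈ B.erase p, ∃ c, c ∈ q.1.asIdeal ∧ c ∉ p.1.asIdeal := by
      intro q hq
      obtain ⟨hqp, hqB⟩ := Finset.mem_erase.1 hq
      have hnle : ¬ q.1.asIdeal ≤ p.1.asIdeal := by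
        intro hle
        have hne' : q.1.asIdeal ≠ p.1.asIdeal := fun h => hqp (Subtype.ext (PrimeSpectrum.ext h))
        have hfin : q.1.asIdeal.FiniteHeight := ⟨Or.inr (ne_top_of_le_ne_top (ENat.natCast_ne_top k) q.2)⟩
        exact (hmin q hqB).not_gt (Ideal.height_strict_mono_of_isPrime_of_isPrime (lt_of_le_of_ne hle hne'))
      exact SetLike.not_le_iff_exists.1 hnle
    choose! c hcq hcp using hc
    set C := ∏ q ∈ B.erase p, c q with hC
    have hCp : C ∉ p.1.asIdeal := by
      rw [hC, p.1.isPrime.prod_mem_iff]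
      rintro ⟨q, hq, h⟩
      exact hcp q hq h
    let K := p.1.asIdeal.ResidueField
    set ψ := psi p.1.asIdeal (e p.1 p.2)
    set y := fun i : Fin n => ψ (x i.castSucc + a i • x (Fin.last n)) with hy
    have hdep : ¬ LinearIndependent K y := by
      intro hli
      have h1 : Submodule.span K (Set.range y) < Submodule.span K (Set.range fun i => ψ (x i)) := by
        refine lt_of_le_of_ne (Submodule.span_le.2 ?_) (fun h => hnot (h ▸ Submodule.subset_span ⟨Fin.last n, rfl⟩))
        rintro _ ⟨i, rfl⟩
        simp only [hy, map_add, map_smul]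
        rw [← algebraMap_smul K (a i)]
        exact Submodule.add_mem _ (Submodule.subset_span ⟨_, rfl⟩) (Submodule.smul_mem _ _ (Submodule.subset_span ⟨_, rfl⟩))
      have h2 := Submodule.finrank_lt_finrank_of_lt h1
      rw [finrank_span_eq_card hli, Fintype.card_fin] at h2
      change n < rk p.1.asIdeal (e p.1 p.2) x at h2
      omega
    obtain ⟨g, hg, i, hi⟩ := Fintype.not_linearIndependent_iff.1 hdep
    refine ⟨a + Pi.single i C, fun q hq hrkq => ?_⟩
    by_cases hqp : q = p
    · subst hqp
      have hsum : ∑ j, g j • ψ (x j.castSucc + (a + Pi.single i C : Fin n → A) j • x (Fin.last n)) =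
          (g i * algebraMap A K C) • ψ (x (Fin.last n)) := by
        calc ∑ j, g j • ψ (x j.castSucc + (a + Pi.single i C : Fin n → A) j • x (Fin.last n))
            = ∑ j, (g j • y j + (g j * algebraMap A K ((Pi.single i C : Fin n → A) j)) • ψ (x (Fin.last n))) := by
              refine Finset.sum_congr rfl fun j _ => ?_
              rw [Pi.add_apply, add_smul, ← add_assoc, map_add, smul_add, map_smul, ← algebraMap_smul K ((Pi.single i C : Fin n → A) j), smul_smul]
          _ = _ := by
              rw [Finset.sum_add_distrib, hg, zero_add, Finset.sum_eq_single i]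
              · rw [Pi.single_eq_same]
              · intro j _ hj; rw [Pi.single_eq_of_ne hj, map_zero, mul_zero, zero_smul]
              · simp
      have hmem : (g i * algebraMap A K C) • ψ (x (Fin.last n)) ∈ Submodule.span K
          (Set.range fun j => ψ (x j.castSucc + (a + Pi.single i C : Fin n → A) j • x (Fin.last n))) := by
        rw [← hsum]
        exact Submodule.sum_mem _ fun j _ => Submodule.smul_mem _ _ (Submodule.subset_span ⟨j, rfl⟩)
      exact (Submodule.smul_mem_iff _ (mul_ne_zero hi ((notMem_iff _ C).2 hCp))).1 hmem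
    · have hq' := Finset.mem_erase.2 ⟨hqp, hq⟩
      have hz : algebraMap A q.1.asIdeal.ResidueField C = 0 := by
        rw [Ideal.algebraMap_residueField_eq_zero, hC]
        exact Ideal.mem_of_dvd _ (Finset.dvd_prod_of_mem c hq') (hcq q hq')
      convert ha q hq' hrkq using 3
      ext j
      simp only [Pi.add_apply, map_add, map_smul, Pi.single_apply]
      by_cases hj : j = i
      · rw [if_pos hj, ← algebraMap_smul q.1.asIdeal.ResidueField (a j + C), map_add, hz, add_zero, algebraMap_smul]
      · rw [if_neg hj, add_zero]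

theorem exists_reduce {n : ℕ} (x : Fin (n + 1) → M) (hx : Basic e x) :
    ∃ y : Fin n → M, Basic e y := by
  classical
  haveI : Module.FinitePresentation A M := Module.finitePresentation_of_finite A M
  let Bset : Set {p : PrimeSpectrum A // p.asIdeal.height ≤ (k : ℕ∞)} :=
    {p | ∃ t ≤ n, p.1.asIdeal ∈ (minors x t).minimalPrimes}
  have hB : Bset.Finite := by
    have : Bset ⊆ (fun p => p.1.asIdeal) ⁻¹' (⋃ t ∈ Set.Iic n, (minors x t).minimalPrimes) := by
      rintro p ⟨t, ht, hp⟩
      exact Set.mem_biUnion ht hp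
    refine Set.Finite.subset (Set.Finite.preimage ?_ ((Set.finite_Iic n).biUnion fun t _ => Ideal.finite_minimalPrimes_of_isNoetherianRing A _)) this
    intro a _ b _ h
    exact Subtype.ext (PrimeSpectrum.ext h)
  obtain ⟨a, ha⟩ := exists_adjust e x hB.toFinset
  refine ⟨fun i => x i.castSucc + a i • x (Fin.last n), fun p h hh hk => ?_⟩
  have hp : p.asIdeal.height ≤ (k : ℕ∞) := by rw [hh]; exact_mod_cast hk
  have h0 := hx p h hh hk
  set t := rk p.asIdeal (e p hp) x with ht
  let K := p.asIdeal.ResidueField
  set ψ := psi p.asIdeal (e p hp)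
  have hsup : Submodule.span K (Set.range fun i => ψ (x i)) ≤
      Submodule.span K (Set.range fun i : Fin n => ψ (x i.castSucc + a i • x (Fin.last n))) ⊔ Submodule.span K {ψ (x (Fin.last n))} := by
    refine Submodule.span_le.2 ?_
    rintro _ ⟨i, rfl⟩
    refine Fin.lastCases ?_ (fun j => ?_) i
    · exact Submodule.mem_sup_right (Submodule.mem_span_singleton_self _)
    · have : ψ (x j.castSucc) = ψ (x j.castSucc + a j • x (Fin.last n)) + (-algebraMap A K (a j)) • ψ (x (Fin.last n)) := by
        rw [map_add, map_smul, neg_smul, algebraMap_smul, add_neg_cancel_right]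
      show ψ (x j.castSucc) ∈ _
      rw [this]
      exact Submodule.add_mem_sup (Submodule.subset_span ⟨j, rfl⟩) (Submodule.smul_mem _ _ (Submodule.mem_span_singleton_self _))
  have hdrop : t ≤ rk p.asIdeal (e p hp) (fun i => x i.castSucc + a i • x (Fin.last n)) + 1 := by
    refine (Submodule.finrank_mono hsup).trans ((Submodule.finrank_add_le_finrank_add_finrank _ _).trans ?_)
    refine Nat.add_le_add_left ?_ _
    simpa using finrank_span_le_card (R := K) ({ψ (x (Fin.last n))} : Set (Fin r → K))
  show min n (k - h + 1) ≤ rk p.asIdeal (e p hp) _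
  by_cases hcase : t ≤ n ∧ t = k - h + 1
  · have hpB : (⟨p, hp⟩ : {p : PrimeSpectrum A // p.asIdeal.height ≤ (k : ℕ∞)}) ∈ hB.toFinset := by
      rw [Set.Finite.mem_toFinset]
      refine ⟨t, hcase.1, ⟨p.isPrime, (rk_le_iff _ _ x t).1 le_rfl⟩, ?_⟩
      rintro Q ⟨hQ, hQle⟩ hQp
      by_contra hne
      have hfinp : p.asIdeal.FiniteHeight := ⟨Or.inr (by rw [hh]; exact ENat.natCast_ne_top h)⟩
      have : Q.FiniteHeight := Ideal.finiteHeight_of_le hQp p.isPrime.ne_top
      have hlt := Ideal.height_strict_mono_of_isPrime_of_isPrime (lt_of_le_not_ge hQp hne)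
      rw [hh] at hlt
      obtain ⟨q, hq⟩ := ENat.ne_top_iff_exists.1 (ne_top_of_lt hlt)
      rw [← hq] at hlt
      have hqh : q < h := by exact_mod_cast hlt
      have h1 := hx ⟨Q, hQ⟩ q hq.symm (by omega)
      have h2 := (rk_le_iff Q (e ⟨Q, hQ⟩ (by rw [← hq]; exact_mod_cast (by omega : q ≤ k))) x t).2 hQle
      change min (n + 1) (k - q + 1) ≤ rk Q _ x at h1
      omega
    have hmem := ha ⟨p, hp⟩ hpB hcase.1
    have hle : t ≤ rk p.asIdeal (e p hp) (fun i => x i.castSucc + a i • x (Fin.last n)) :=
      Submodule.finrank_mono (hsup.trans (sup_le le_rfl ((Submodule.span_singleton_le_iff_mem _ _).2 hmem)))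
    omega
  · omega

include e in
theorem exists_basic_element (hkr : k < r) :
    ∃ m : M, ∀ (p : PrimeSpectrum A), p.asIdeal.height ≤ (k : ℕ∞) → ∃ f : M →ₗ[A] A, f m ∉ p.asIdeal := by
  classical
  haveI : Module.FinitePresentation A M := Module.finitePresentation_of_finite A M
  obtain ⟨s, hs⟩ := Module.Finite.fg_top (R := A) (M := M)
  let x₀ : Fin (s.card + 1) → M := Fin.cons 0 fun i => (s.equivFin.symm i : M)
  have hx₀ : Submodule.span A (Set.range x₀) = ⊤ := by
    rw [eq_top_iff, ← hs, Submodule.span_le]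
    intro v hv
    exact Submodule.subset_span ⟨(s.equivFin ⟨v, hv⟩).succ, by simp [x₀]⟩
  have hb : Basic e x₀ := by
    intro p h hh hk
    have hp : p.asIdeal.height ≤ (k : ℕ∞) := by rw [hh]; exact_mod_cast hk
    have htop : Submodule.span p.asIdeal.ResidueField (Set.range fun i => psi p.asIdeal (e p hp) (x₀ i)) = ⊤ := by
      rw [eq_top_iff, ← span_psi p.asIdeal (e p hp), Submodule.span_le]
      rintro _ ⟨v, rfl⟩
      have hv : psi p.asIdeal (e p hp) v ∈ (Submodule.span A (Set.range x₀)).map (psi p.asIdeal (e p hp)) :=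
        ⟨v, hx₀ ▸ Submodule.mem_top, rfl⟩
      rw [Submodule.map_span, ← Set.range_comp] at hv
      exact Submodule.span_le_restrictScalars A _ _ hv
    show _ ≤ Module.finrank _ _
    rw [htop, finrank_top, Module.finrank_fin_fun]
    omega
  have key : ∀ n (x : Fin (n + 1) → M), Basic e x → ∃ y : Fin 1 → M, Basic e y := by
    intro n
    induction n with
    | zero => exact fun x hx => ⟨x, hx⟩
    | succ n ih =>
      intro x hx
      obtain ⟨y, hy⟩ := exists_reduce e x hx
      exact ih y hy
  obtain ⟨y, hy⟩ := key _ x₀ hb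
  refine ⟨y 0, fun p hp => ?_⟩
  obtain ⟨h, hh⟩ := ENat.ne_top_iff_exists.1 (ne_top_of_le_ne_top (ENat.natCast_ne_top k) hp)
  have h1 := hy p h hh.symm (by rw [← hh] at hp; exact_mod_cast hp)
  by_contra hno
  push Not at hno
  have h2 : rk p.asIdeal (e p hp) y ≤ 0 := (rk_le_iff _ _ y 0).2 (Ideal.span_le.2 (by
    rintro _ ⟨σ, f, rfl⟩
    show Matrix.det _ ∈ _
    haveI : Unique (Fin (0 + 1)) := inferInstanceAs (Unique (Fin 1))
    rw [Matrix.det_unique, Matrix.of_apply]
    have hs0 : ∀ z : Fin 1, z = 0 := fun z => Subsingleton.elim z 0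
    have hall : ∀ (g : M →ₗ[A] A) (z : Fin 1), g (y z) ∈ p.asIdeal := fun g z => by rw [hs0 z]; exact hno g
    exact hall _ _))
  omega

omit [IsNoetherianRing A] [Module.Finite A M] in
theorem quotient_free {p : Ideal A} [p.IsPrime] {d : ℕ}
    (e : LocalizedModule p.primeCompl M ≃ₗ[Localization.AtPrime p] (Fin (d + 1) → Localization.AtPrime p))
    (m : M) (f : M →ₗ[A] A) (hfm : f m ∉ p) :
    Nonempty (LocalizedModule p.primeCompl (M ⧸ A ∙ m) ≃ₗ[Localization.AtPrime p] (Fin d → Localization.AtPrime p)) := by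
  classical
  let R := Localization.AtPrime p
  let mk := LocalizedModule.mkLinearMap p.primeCompl M
  obtain ⟨w, hw⟩ := residue_eq_sum p e f
  obtain ⟨l, hl⟩ : ∃ l, IsUnit (e (mk m) l) := by
    by_contra hno
    push Not at hno
    refine (notMem_iff p _).2 hfm ?_
    rw [hw]
    refine Finset.sum_eq_zero fun l _ => ?_
    rw [psi_apply]
    have : IsLocalRing.residue R (e (mk m) l) = 0 := (IsLocalRing.residue_eq_zero_iff _).2 (hno l)
    exact mul_eq_zero_of_right _ this
  obtain ⟨u, hu⟩ := hl
  let Φ : (Fin (d + 1) → R) →ₗ[R] (Fin d → R) :=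
    LinearMap.pi fun j => LinearMap.proj (l.succAbove j) -
      (e (mk m) (l.succAbove j) * (↑u⁻¹ : R)) • LinearMap.proj l
  have hΦ : Function.Surjective Φ := fun z => by
    refine ⟨Fin.insertNth l 0 z, funext fun j => ?_⟩
    simp [Φ]
  have hker : ∀ y, Φ y = 0 ↔ ∃ c : R, y = c • e (mk m) := by
    intro y
    constructor
    · intro h
      refine ⟨y l * ↑u⁻¹, funext fun i => ?_⟩
      rcases Fin.eq_self_or_eq_succAbove l i with hi | ⟨j, hi⟩ <;> subst hi
      · rw [Pi.smul_apply, smul_eq_mul, ← hu, Units.inv_mul_cancel_right]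
      · have := congrFun h j
        simp only [Φ, LinearMap.pi_apply, LinearMap.sub_apply, LinearMap.smul_apply, LinearMap.proj_apply, Pi.zero_apply, sub_eq_zero, smul_eq_mul] at this
        rw [this, Pi.smul_apply, smul_eq_mul]; ring
    · rintro ⟨c, rfl⟩
      funext j
      simp only [Φ, LinearMap.pi_apply, LinearMap.sub_apply, LinearMap.smul_apply, LinearMap.proj_apply, Pi.zero_apply, sub_eq_zero, smul_eq_mul, Pi.smul_apply, ← hu]
      rw [mul_comm c (u : R), mul_assoc (e (mk m) _), Units.inv_mul_cancel_left, mul_comm]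
  let π : LocalizedModule p.primeCompl M →ₗ[R] LocalizedModule p.primeCompl (M ⧸ A ∙ m) :=
    LocalizedModule.map p.primeCompl (A ∙ m).mkQ
  have hπ : ∀ (v : M) (s : p.primeCompl), π (LocalizedModule.mk v s) = LocalizedModule.mk ((A ∙ m).mkQ v) s :=
    fun v s => LocalizedModule.map_mk ..
  have hπs : Function.Surjective π := by
    intro z
    induction z using LocalizedModule.induction_on with
    | _ v s =>
      obtain ⟨v, rfl⟩ := Submodule.mkQ_surjective _ v
      exact ⟨LocalizedModule.mk v s, hπ v s⟩
  have hkeq : LinearMap.ker (Φ.comp e.toLinearMap) = LinearMap.ker π := by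
    ext y
    simp only [LinearMap.mem_ker, LinearMap.comp_apply, LinearEquiv.coe_coe, hker]
    constructor
    · rintro ⟨c, hc⟩
      rw [← e.map_smul] at hc
      rw [e.injective hc, map_smul]
      have : π (mk m) = 0 := by
        rw [LocalizedModule.mkLinearMap_apply, hπ, Submodule.mkQ_apply, (Submodule.Quotient.mk_eq_zero _).2 (Submodule.mem_span_singleton_self m), LocalizedModule.zero_mk]
      rw [this, smul_zero]
    · induction y using LocalizedModule.induction_on with
      | _ v s =>
        intro h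
        rw [hπ, ← LocalizedModule.zero_mk 1, LocalizedModule.mk_eq] at h
        obtain ⟨t, ht⟩ := h
        simp only [one_smul, smul_zero, Submonoid.smul_def, ← map_smul, Submodule.mkQ_apply, Submodule.Quotient.mk_eq_zero] at ht
        rw [← Submodule.Quotient.mk_smul, Submodule.Quotient.mk_eq_zero] at ht
        obtain ⟨b, hb⟩ := Submodule.mem_span_singleton.1 ht
        refine ⟨IsLocalization.mk' R b (s * t), ?_⟩
        rw [← e.map_smul]
        congr 1
        rw [← Localization.mk_eq_mk', LocalizedModule.mkLinearMap_apply, LocalizedModule.mk_smul_mk, hb, mul_one, mul_comm s t]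
        exact (LocalizedModule.mk_cancel_common_left t s v).symm
  exact ⟨(π.quotKerEquivOfSurjective hπs).symm.trans ((Submodule.quotEquivOfEq _ _ hkeq.symm).trans
    ((Φ.comp e.toLinearMap).quotKerEquivOfSurjective (hΦ.comp e.surjective)))⟩

end Groth.Agent.H6BasicElt

namespace Groth.Agent.H6BasicElt

theorem main {A : Type u} [CommRing A] [IsNoetherianRing A] {k : ℕ}
    (hAss : ∀ p ∈ associatedPrimes A A, p.height ≤ k) :
    ∀ (d : ℕ) (M : Type u) [AddCommGroup M] [Module A M] [Module.Finite A M],
    (∀ p : PrimeSpectrum A, p.asIdeal.height ≤ k →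
      Nonempty (LocalizedModule p.asIdeal.primeCompl M ≃ₗ[Localization.AtPrime p.asIdeal]
        (Fin (k + d) → Localization.AtPrime p.asIdeal))) →
    ∃ N : Submodule A M, Nonempty (N ≃ₗ[A] (Fin d → A)) ∧
      ∀ p : PrimeSpectrum A, p.asIdeal.height ≤ k →
        Nonempty (LocalizedModule p.asIdeal.primeCompl (M ⧸ N) ≃ₗ[Localization.AtPrime p.asIdeal]
          (Fin k → Localization.AtPrime p.asIdeal)) := by
  intro d
  induction d with
  | zero =>
    intro M _ _ _ hM
    refine ⟨⊥, ⟨?_⟩, fun p hp => ?_⟩
    · exact LinearEquiv.ofSubsingleton (⊥ : Submodule A M) (Fin 0 → A)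
    · obtain ⟨e⟩ := hM p hp
      exact ⟨(IsLocalizedModule.mapEquiv p.asIdeal.primeCompl
        (LocalizedModule.mkLinearMap _ (M ⧸ (⊥ : Submodule A M))) (LocalizedModule.mkLinearMap _ M)
        (Localization.AtPrime p.asIdeal) (Submodule.quotEquivOfEqBot ⊥ rfl)).trans e⟩
  | succ d ih =>
    intro M _ _ _ hM
    classical
    obtain ⟨m, hm⟩ := exists_basic_element (fun p hp => (hM p hp).some) (by omega : k < k + (d + 1))
    have htors : ∀ a : A, a • m = 0 → a = 0 := by
      intro a ha
      by_contra ha0
      obtain ⟨p, hp, hle⟩ := exists_le_isAssociatedPrime_of_isNoetherianRing A a ha0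
      obtain ⟨f, hf⟩ := hm ⟨p, hp.isPrime⟩ (hAss p hp)
      refine hf (hle ?_)
      rw [Submodule.mem_colon_singleton, Submodule.mem_bot, smul_eq_mul, mul_comm, ← smul_eq_mul, ← map_smul, ha, map_zero]
    obtain ⟨N', ⟨b'⟩, hN'⟩ := ih (M ⧸ A ∙ m) fun p hp => by
      obtain ⟨f, hf⟩ := hm p hp
      exact quotient_free (hM p hp).some m f hf
    let N := Submodule.comap (A ∙ m).mkQ N'
    choose y hy using fun i => Submodule.mkQ_surjective (A ∙ m) (b'.symm (Pi.single i 1)).1
    have hyN : ∀ i, y i ∈ N := fun i => by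
      show (A ∙ m).mkQ (y i) ∈ N'
      rw [hy i]; exact Submodule.coe_mem _
    have hmN : m ∈ N := by
      show (A ∙ m).mkQ m ∈ N'
      rw [Submodule.mkQ_apply, (Submodule.Quotient.mk_eq_zero _).2 (Submodule.mem_span_singleton_self m)]
      exact Submodule.zero_mem _
    let L : (Fin (d + 1) → A) →ₗ[A] N :=
      Fintype.linearCombination A (Fin.cons ⟨m, hmN⟩ fun i => ⟨y i, hyN i⟩)
    have hL : ∀ c, ((L c : N) : M) = c 0 • m + ∑ i, c i.succ • y i := by
      intro c
      simp [L, Fintype.linearCombination_apply, Fin.sum_univ_succ]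
    have hq : ∀ c : Fin d → A, (∑ i, c i • (b'.symm (Pi.single i 1)).1) = (b'.symm c).1 := by
      intro c
      conv_rhs => rw [pi_eq_sum_univ' c]
      simp [map_sum, map_smul]
    have hinj : Function.Injective L := by
      rw [← LinearMap.ker_eq_bot, LinearMap.ker_eq_bot']
      intro c hc
      have h0 : c 0 • m + ∑ i, c i.succ • y i = 0 := by rw [← hL, hc]; rfl
      have h1 := congrArg (A ∙ m).mkQ h0
      simp only [map_add, map_smul, map_sum, hy, map_zero, hq, Submodule.mkQ_apply,
        (Submodule.Quotient.mk_eq_zero _).2 (Submodule.mem_span_singleton_self m), smul_zero, zero_add] at h1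
      have h2 : (fun i : Fin d => c i.succ) = 0 :=
        b'.symm.injective (Subtype.ext (by rw [h1, map_zero]; rfl))
      have h3 : ∀ i : Fin d, c i.succ = 0 := congrFun h2
      simp only [h3, zero_smul, Finset.sum_const_zero, add_zero] at h0
      funext i
      exact Fin.cases (htors _ h0) h3 i
    have hsurj : Function.Surjective L := by
      rintro ⟨v, hv⟩
      let c := b' ⟨(A ∙ m).mkQ v, hv⟩
      have h : v - ∑ i, c i • y i ∈ A ∙ m := by
        rw [← Submodule.Quotient.mk_eq_zero]
        show (A ∙ m).mkQ _ = 0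
        simp only [map_sub, map_sum, map_smul, hy, hq, c, b'.symm_apply_apply, sub_self]
      obtain ⟨a, ha⟩ := Submodule.mem_span_singleton.1 h
      refine ⟨Fin.cons a c, Subtype.ext ?_⟩
      rw [hL]
      simp [ha]
    refine ⟨N, ⟨(LinearEquiv.ofBijective L ⟨hinj, hsurj⟩).symm⟩, fun p hp => ?_⟩
    obtain ⟨e⟩ := hN' p hp
    let E : (M ⧸ N) ≃ₗ[A] (M ⧸ A ∙ m) ⧸ N' :=
      (Submodule.quotEquivOfEq N (LinearMap.ker (N'.mkQ.comp (A ∙ m).mkQ)) (by
        rw [LinearMap.ker_comp, Submodule.ker_mkQ])).trans
      ((N'.mkQ.comp (A ∙ m).mkQ).quotKerEquivOfSurjective (N'.mkQ_surjective.comp (Submodule.mkQ_surjective _)))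
    exact ⟨(IsLocalizedModule.mapEquiv p.asIdeal.primeCompl
        (LocalizedModule.mkLinearMap _ _) (LocalizedModule.mkLinearMap _ _)
        (Localization.AtPrime p.asIdeal) E).trans e⟩

end Groth.Agent.H6BasicElt
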