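import Mathlib
import Groth.Agent.Lib.H6.BasicElt

set_option autoImplicit false
set_option maxHeartbeats 1000000

universe u

namespace Groth.Agent.H6BassCancel
open H6BasicElt

variable {A : Type u} [CommRing A] {M : Type u} [AddCommGroup M] [Module A M]
variable [IsNoetherianRing A] [Module.Finite A M] {k r : ℕ}
  (e : ∀ p : PrimeSpectrum A, p.asIdeal.height ≤ (k : ℕ∞) →
    LocalizedModule p.asIdeal.primeCompl M ≃ₗ[Localization.AtPrime p.asIdeal] (Fin r → Localization.AtPrime p.asIdeal))

theorem exists_adjust' {n : ℕ} (c₀ : A) (x : Fin (n + 2) → M)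
    (hu : ∀ (p : PrimeSpectrum A) (hp : p.asIdeal.height ≤ (k : ℕ∞)), c₀ ∈ p.asIdeal → psi p.asIdeal (e p hp) (x 0) ≠ 0)
    (B : Finset {p : PrimeSpectrum A // p.asIdeal.height ≤ (k : ℕ∞)}) :
    ∃ a : Fin (n + 1) → A, c₀ ∣ a 0 ∧ ∀ p ∈ B, rk p.1.asIdeal (e p.1 p.2) x ≤ n + 1 →
      psi p.1.asIdeal (e p.1 p.2) (x (Fin.last (n + 1))) ∈ Submodule.span p.1.asIdeal.ResidueField
        (Set.range fun i => psi p.1.asIdeal (e p.1 p.2) (x i.castSucc + a i • x (Fin.last (n + 1)))) := by
  classical
  induction B using Finset.strongInduction with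
  | _ B ih =>
    rcases B.eq_empty_or_nonempty with rfl | hne
    · exact ⟨0, dvd_zero _, fun p hp => by simp at hp⟩
    obtain ⟨p, hpB, hmin⟩ := B.exists_min_image (fun q => q.1.asIdeal.height) hne
    obtain ⟨a, ha0, ha⟩ := ih (B.erase p) (Finset.erase_ssubset hpB)
    by_cases hgood : rk p.1.asIdeal (e p.1 p.2) x ≤ n + 1 →
      psi p.1.asIdeal (e p.1 p.2) (x (Fin.last (n + 1))) ∈ Submodule.span p.1.asIdeal.ResidueField
        (Set.range fun i => psi p.1.asIdeal (e p.1 p.2) (x i.castSucc + a i • x (Fin.last (n + 1))))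
    · exact ⟨a, ha0, fun q hq => (eq_or_ne q p).elim (fun h => h ▸ hgood) fun h => ha q (Finset.mem_erase.2 ⟨h, hq⟩)⟩
    obtain ⟨hrk, hnot⟩ := Classical.not_imp.1 hgood
    have hc : ∀ q ∈ B.erase p, ∃ c, c ∈ q.1.asIdeal ∧ c ∉ p.1.asIdeal := by
      intro q hq
      obtain ⟨hqp, hqB⟩ := Finset.mem_erase.1 hq
      have hnle : ¬ q.1.asIdeal ≤ p.1.asIdeal := by
        intro hle
        have hne' : q.1.asIdeal ≠ p.1.asIdeal := fun h => hqp (Subtype.ext (PrimeSpectrum.ext h))
        have hfin : q.1.asIdeal.FiniteHeight := ⟨Or.inr (ne_top_of_le_ne_top (ENat.natCast_ne_top k) q.2)⟩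
        exact (hmin q hqB).not_gt (Ideal.height_strict_mono_of_isPrime_of_isPrime (lt_of_le_of_ne hle hne'))
      exact SetLike.not_le_iff_exists.1 hnle
    choose! c hcq hcp using hc
    let K := p.1.asIdeal.ResidueField
    set ψ := psi p.1.asIdeal (e p.1 p.2)
    set y := fun i : Fin (n + 1) => ψ (x i.castSucc + a i • x (Fin.last (n + 1))) with hy
    have hdep : ¬ LinearIndependent K y := by
      intro hli
      have h1 : Submodule.span K (Set.range y) < Submodule.span K (Set.range fun i => ψ (x i)) := by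
        refine lt_of_le_of_ne (Submodule.span_le.2 ?_) (fun h => hnot (h ▸ Submodule.subset_span ⟨Fin.last (n + 1), rfl⟩))
        rintro _ ⟨i, rfl⟩
        simp only [hy, map_add, map_smul]
        rw [← algebraMap_smul K (a i)]
        exact Submodule.add_mem _ (Submodule.subset_span ⟨_, rfl⟩) (Submodule.smul_mem _ _ (Submodule.subset_span ⟨_, rfl⟩))
      have h2 := Submodule.finrank_lt_finrank_of_lt h1
      rw [finrank_span_eq_card hli, Fintype.card_fin] at h2
      change n + 1 < rk p.1.asIdeal (e p.1 p.2) x at h2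
      omega
    obtain ⟨g, hg, i₀, hi₀⟩ := Fintype.not_linearIndependent_iff.1 hdep
    -- choose a coordinate which is not the first, unless c₀ is invertible at p
    obtain ⟨i, hi, hic⟩ : ∃ i, g i ≠ 0 ∧ (i = 0 → c₀ ∉ p.1.asIdeal) := by
      by_contra hno
      push Not at hno
      obtain ⟨h0, hc0⟩ := hno i₀ hi₀
      have hg0 : ∀ j, j ≠ 0 → g j = 0 := fun j hj => by
        by_contra h; exact hj (hno j h).1
      rw [Finset.sum_eq_single 0 (fun j _ hj => by rw [hg0 j hj, zero_smul]) (by simp), ← h0] at hg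
      have hz : algebraMap A K (a i₀) = 0 := by
        rw [Ideal.algebraMap_residueField_eq_zero]
        obtain ⟨t, ht⟩ := ha0
        rw [h0, ht]
        exact Ideal.mul_mem_right _ _ hc0
      have := (smul_eq_zero.1 hg).resolve_left hi₀
      simp only [hy, map_add, map_smul] at this
      rw [← algebraMap_smul K (a i₀), hz, zero_smul, add_zero, h0, Fin.castSucc_zero] at this
      exact hu p.1 p.2 hc0 this
    set C := (∏ q ∈ B.erase p, c q) * (if i = 0 then c₀ else 1) with hC
    have hCp : C ∉ p.1.asIdeal := by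
      rw [hC, p.1.isPrime.mul_mem_iff_mem_or_mem, p.1.isPrime.prod_mem_iff]
      rintro (⟨q, hq, h⟩ | h)
      · exact hcp q hq h
      · by_cases hi0 : i = 0
        · rw [if_pos hi0] at h; exact hic hi0 h
        · rw [if_neg hi0] at h; exact p.1.isPrime.ne_top ((Ideal.eq_top_iff_one _).2 h)
    refine ⟨a + Pi.single i C, ?_, fun q hq hrkq => ?_⟩
    · rw [Pi.add_apply]
      refine dvd_add ha0 ?_
      by_cases hi0 : i = 0
      · rw [hC, hi0, Pi.single_eq_same, if_pos rfl]; exact dvd_mul_left _ _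
      · rw [Pi.single_eq_of_ne (Ne.symm hi0)]; exact dvd_zero _
    by_cases hqp : q = p
    · subst hqp
      have hsum : ∑ j, g j • ψ (x j.castSucc + (a + Pi.single i C : Fin (n + 1) → A) j • x (Fin.last (n + 1))) =
          (g i * algebraMap A K C) • ψ (x (Fin.last (n + 1))) := by
        calc ∑ j, g j • ψ (x j.castSucc + (a + Pi.single i C : Fin (n + 1) → A) j • x (Fin.last (n + 1)))
            = ∑ j, (g j • y j + (g j * algebraMap A K ((Pi.single i C : Fin (n + 1) → A) j)) • ψ (x (Fin.last (n + 1)))) := by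
              refine Finset.sum_congr rfl fun j _ => ?_
              rw [Pi.add_apply, add_smul, ← add_assoc, map_add, smul_add, map_smul, ← algebraMap_smul K ((Pi.single i C : Fin (n + 1) → A) j), smul_smul]
          _ = _ := by
              rw [Finset.sum_add_distrib, hg, zero_add, Finset.sum_eq_single i]
              · rw [Pi.single_eq_same]
              · intro j _ hj; rw [Pi.single_eq_of_ne hj, map_zero, mul_zero, zero_smul]
              · simp
      have hmem : (g i * algebraMap A K C) • ψ (x (Fin.last (n + 1))) ∈ Submodule.span K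
          (Set.range fun j => ψ (x j.castSucc + (a + Pi.single i C : Fin (n + 1) → A) j • x (Fin.last (n + 1)))) := by
        rw [← hsum]
        exact Submodule.sum_mem _ fun j _ => Submodule.smul_mem _ _ (Submodule.subset_span ⟨j, rfl⟩)
      exact (Submodule.smul_mem_iff _ (mul_ne_zero hi ((notMem_iff _ C).2 hCp))).1 hmem
    · have hq' := Finset.mem_erase.2 ⟨hqp, hq⟩
      have hz : algebraMap A q.1.asIdeal.ResidueField C = 0 := by
        rw [Ideal.algebraMap_residueField_eq_zero, hC]
        exact Ideal.mul_mem_right _ _ (Ideal.mem_of_dvd _ (Finset.dvd_prod_of_mem c hq') (hcq q hq'))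
      convert ha q hq' hrkq using 3
      ext j
      simp only [Pi.add_apply, map_add, map_smul, Pi.single_apply]
      by_cases hj : j = i
      · rw [if_pos hj, ← algebraMap_smul q.1.asIdeal.ResidueField (a j + C), map_add, hz, add_zero, algebraMap_smul]
      · rw [if_neg hj, add_zero]

theorem exists_reduce' {n : ℕ} (c₀ : A) (x : Fin (n + 2) → M) (hx : Basic e x)
    (hu : ∀ (p : PrimeSpectrum A) (hp : p.asIdeal.height ≤ (k : ℕ∞)), c₀ ∈ p.asIdeal → psi p.asIdeal (e p hp) (x 0) ≠ 0) :
    ∃ y : Fin (n + 1) → M, Basic e y ∧ ∃ w : M, y 0 = x 0 + c₀ • w := by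
  classical
  haveI : Module.FinitePresentation A M := Module.finitePresentation_of_finite A M
  let Bset : Set {p : PrimeSpectrum A // p.asIdeal.height ≤ (k : ℕ∞)} :=
    {p | ∃ t ≤ n + 1, p.1.asIdeal ∈ (minors x t).minimalPrimes}
  have hB : Bset.Finite := by
    have : Bset ⊆ (fun p => p.1.asIdeal) ⁻¹' (⋃ t ∈ Set.Iic (n + 1), (minors x t).minimalPrimes) := by
      rintro p ⟨t, ht, hp⟩
      exact Set.mem_biUnion ht hp
    refine Set.Finite.subset (Set.Finite.preimage ?_ ((Set.finite_Iic (n + 1)).biUnion fun t _ => Ideal.finite_minimalPrimes_of_isNoetherianRing A _)) this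
    intro a _ b _ h
    exact Subtype.ext (PrimeSpectrum.ext h)
  obtain ⟨a, ⟨t₀, ht₀⟩, ha⟩ := exists_adjust' e c₀ x hu hB.toFinset
  refine ⟨fun i => x i.castSucc + a i • x (Fin.last (n + 1)), fun p h hh hk => ?_,
    ⟨t₀ • x (Fin.last (n + 1)), by simp [ht₀, mul_smul]⟩⟩
  have hp : p.asIdeal.height ≤ (k : ℕ∞) := by rw [hh]; exact_mod_cast hk
  have h0 := hx p h hh hk
  set t := rk p.asIdeal (e p hp) x with ht
  let K := p.asIdeal.ResidueField
  set ψ := psi p.asIdeal (e p hp)
  have hsup : Submodule.span K (Set.range fun i => ψ (x i)) ≤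
      Submodule.span K (Set.range fun i : Fin (n + 1) => ψ (x i.castSucc + a i • x (Fin.last (n + 1)))) ⊔ Submodule.span K {ψ (x (Fin.last (n + 1)))} := by
    refine Submodule.span_le.2 ?_
    rintro _ ⟨i, rfl⟩
    refine Fin.lastCases ?_ (fun j => ?_) i
    · exact Submodule.mem_sup_right (Submodule.mem_span_singleton_self _)
    · have : ψ (x j.castSucc) = ψ (x j.castSucc + a j • x (Fin.last (n + 1))) + (-algebraMap A K (a j)) • ψ (x (Fin.last (n + 1))) := by
        rw [map_add, map_smul, neg_smul, algebraMap_smul, add_neg_cancel_right]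
      show ψ (x j.castSucc) ∈ _
      rw [this]
      exact Submodule.add_mem_sup (Submodule.subset_span ⟨j, rfl⟩) (Submodule.smul_mem _ _ (Submodule.mem_span_singleton_self _))
  have hdrop : t ≤ rk p.asIdeal (e p hp) (fun i => x i.castSucc + a i • x (Fin.last (n + 1))) + 1 := by
    refine (Submodule.finrank_mono hsup).trans ((Submodule.finrank_add_le_finrank_add_finrank _ _).trans ?_)
    refine Nat.add_le_add_left ?_ _
    simpa using finrank_span_le_card (R := K) ({ψ (x (Fin.last (n + 1)))} : Set (Fin r → K))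
  show min (n + 1) (k - h + 1) ≤ rk p.asIdeal (e p hp) _
  by_cases hcase : t ≤ n + 1 ∧ t = k - h + 1
  · have hpB : (⟨p, hp⟩ : {p : PrimeSpectrum A // p.asIdeal.height ≤ (k : ℕ∞)}) ∈ hB.toFinset := by
      rw [Set.Finite.mem_toFinset]
      refine ⟨t, hcase.1, ⟨p.isPrime, (rk_le_iff _ _ x t).1 le_rfl⟩, ?_⟩
      rintro Q ⟨hQ, hQle⟩ hQp
      by_contra hne
      have hfinp : p.asIdeal.FiniteHeight := ⟨Or.inr (by rw [hh]; exact ENat.natCast_ne_top h)⟩
      have : Q.FiniteHeight := Ideal.finiteHeight_of_le hQp p.isPrime.ne_top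
      have hlt := Ideal.height_strict_mono_of_isPrime_of_isPrime (lt_of_le_not_ge hQp hne)
      rw [hh] at hlt
      obtain ⟨q, hq⟩ := ENat.ne_top_iff_exists.1 (ne_top_of_lt hlt)
      rw [← hq] at hlt
      have hqh : q < h := by exact_mod_cast hlt
      have h1 := hx ⟨Q, hQ⟩ q hq.symm (by omega)
      have h2 := (rk_le_iff Q (e ⟨Q, hQ⟩ (by rw [← hq]; exact_mod_cast (by omega : q ≤ k))) x t).2 hQle
      change min (n + 1 + 1) (k - q + 1) ≤ rk Q _ x at h1
      omega
    have hmem := ha ⟨p, hp⟩ hpB hcase.1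
    have hle : t ≤ rk p.asIdeal (e p hp) (fun i => x i.castSucc + a i • x (Fin.last (n + 1))) :=
      Submodule.finrank_mono (hsup.trans (sup_le le_rfl ((Submodule.span_singleton_le_iff_mem _ _).2 hmem)))
    omega
  · omega

include e in
/-- Eisenbud–Evans: a unimodular `(v, c)` can be moved to a basic `v + c • w`. -/
theorem exists_basic_translate (hkr : k < r) (v : M) (c₀ : A)
    (hv : ∀ (p : PrimeSpectrum A), p.asIdeal.height ≤ (k : ℕ∞) → c₀ ∈ p.asIdeal → ∃ f : M →ₗ[A] A, f v ∉ p.asIdeal) :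
    ∃ w : M, ∀ (p : PrimeSpectrum A), p.asIdeal.height ≤ (k : ℕ∞) → ∃ f : M →ₗ[A] A, f (v + c₀ • w) ∉ p.asIdeal := by
  classical
  haveI : Module.FinitePresentation A M := Module.finitePresentation_of_finite A M
  obtain ⟨s, hs⟩ := Module.Finite.fg_top (R := A) (M := M)
  let x₀ : Fin (s.card + 1) → M := Fin.cons v fun i => (s.equivFin.symm i : M)
  have hx₀ : Submodule.span A (Set.range x₀) = ⊤ := by
    rw [eq_top_iff, ← hs, Submodule.span_le]
    intro z hz
    exact Submodule.subset_span ⟨(s.equivFin ⟨z, hz⟩).succ, by simp [x₀]⟩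
  have hb : Basic e x₀ := by
    intro p h hh hk
    have hp : p.asIdeal.height ≤ (k : ℕ∞) := by rw [hh]; exact_mod_cast hk
    have htop : Submodule.span p.asIdeal.ResidueField (Set.range fun i => psi p.asIdeal (e p hp) (x₀ i)) = ⊤ := by
      rw [eq_top_iff, ← span_psi p.asIdeal (e p hp), Submodule.span_le]
      rintro _ ⟨z, rfl⟩
      have hz : psi p.asIdeal (e p hp) z ∈ (Submodule.span A (Set.range x₀)).map (psi p.asIdeal (e p hp)) :=
        ⟨z, hx₀ ▸ Submodule.mem_top, rfl⟩
      rw [Submodule.map_span, ← Set.range_comp] at hz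
      exact Submodule.span_le_restrictScalars A _ _ hz
    show _ ≤ Module.finrank _ _
    rw [htop, finrank_top, Module.finrank_fin_fun]
    omega
  have hψ : ∀ (p : PrimeSpectrum A) (hp : p.asIdeal.height ≤ (k : ℕ∞)) (u : M),
      (∃ f : M →ₗ[A] A, f u ∉ p.asIdeal) → psi p.asIdeal (e p hp) u ≠ 0 := by
    rintro p hp u ⟨f, hf⟩ h0
    obtain ⟨w, hw⟩ := residue_eq_sum p.asIdeal (e p hp) f
    refine (notMem_iff p.asIdeal _).2 hf ?_
    rw [hw, h0]
    simp
  have key : ∀ n (x : Fin (n + 1) → M), Basic e x →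
      (∀ (p : PrimeSpectrum A) (hp : p.asIdeal.height ≤ (k : ℕ∞)), c₀ ∈ p.asIdeal → psi p.asIdeal (e p hp) (x 0) ≠ 0) →
      ∃ y : Fin 1 → M, Basic e y ∧ ∃ w, y 0 = x 0 + c₀ • w := by
    intro n
    induction n with
    | zero => exact fun x hx _ => ⟨x, hx, 0, by simp⟩
    | succ n ih =>
      intro x hx hu
      obtain ⟨y, hy, w, hw⟩ := exists_reduce' e c₀ x hx hu
      obtain ⟨z, hz, w', hw'⟩ := ih y hy (fun p hp hc => by
        rw [hw, map_add, map_smul, ← algebraMap_smul p.asIdeal.ResidueField c₀,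
          Ideal.algebraMap_residueField_eq_zero.2 hc, zero_smul, add_zero]
        exact hu p hp hc)
      exact ⟨z, hz, w + w', by rw [hw', hw, smul_add, add_assoc]⟩
  obtain ⟨y, hy, w, hw⟩ := key _ x₀ hb (fun p hp hc => by
    simp only [x₀, Fin.cons_zero]
    exact hψ p hp v (hv p hp hc))
  refine ⟨w, fun p hp => ?_⟩
  obtain ⟨h, hh⟩ := ENat.ne_top_iff_exists.1 (ne_top_of_le_ne_top (ENat.natCast_ne_top k) hp)
  have h1 := hy p h hh.symm (by rw [← hh] at hp; exact_mod_cast hp)
  by_contra hno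
  push Not at hno
  have hall : ∀ (g : M →ₗ[A] A) (z : Fin 1), g (y z) ∈ p.asIdeal := fun g z => by
    rw [Subsingleton.elim z 0, hw]
    simp only [x₀, Fin.cons_zero]
    exact hno g
  have h2 : rk p.asIdeal (e p hp) y ≤ 0 := (rk_le_iff _ _ y 0).2 (Ideal.span_le.2 (by
    rintro _ ⟨σ, f, rfl⟩
    show Matrix.det _ ∈ _
    haveI : Unique (Fin (0 + 1)) := inferInstanceAs (Unique (Fin 1))
    rw [Matrix.det_unique, Matrix.of_apply]
    exact hall _ _))
  omega

end Groth.Agent.H6BassCancel

namespace Groth.Agent.H6BassCancel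
open H6BasicElt

variable (R : Type u) [CommRing R] [IsNoetherianRing R] (d n : ℕ)

theorem locFree (hdim : ringKrullDim R = d) (P : Type u) [AddCommGroup P] [Module R P]
    [Module.Finite R P] [Module.Projective R P]
    (hrk : ∀ p : PrimeSpectrum R, Module.rankAtStalk (R := R) P p = n) (p : PrimeSpectrum R) :
    p.asIdeal.height ≤ (d : ℕ∞) ∧ Nonempty (LocalizedModule p.asIdeal.primeCompl P ≃ₗ[Localization.AtPrime p.asIdeal]
      (Fin n → Localization.AtPrime p.asIdeal)) := by
  refine ⟨?_, ?_⟩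
  · have := Ideal.height_le_ringKrullDim_of_isPrime (I := p.asIdeal)
    rw [hdim] at this
    exact_mod_cast this
  · have : Module.Free (Localization.AtPrime p.asIdeal) (LocalizedModule p.asIdeal.primeCompl P) :=
      Module.free_of_flat_of_isLocalRing
    exact ⟨(Module.finBasisOfFinrankEq (Localization.AtPrime p.asIdeal) _ (hrk p)).equivFun⟩

theorem split (hdim : ringKrullDim R = d) (P : Type u) [AddCommGroup P] [Module R P]
    [Module.Finite R P] [Module.Projective R P]
    (hrk : ∀ p : PrimeSpectrum R, Module.rankAtStalk (R := R) P p = n) (hnd : d < n) :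
    ∃ (P₀ Q : Submodule R P), IsCompl P₀ Q ∧ Nonempty (Q ≃ₗ[R] (Fin (n - d) → R)) := by
  obtain ⟨j, rfl⟩ : ∃ j, n = d + j := ⟨n - d, by omega⟩
  have hAss : ∀ p ∈ associatedPrimes R R, p.height ≤ d := fun p hp =>
    (locFree R d (d + j) hdim P hrk ⟨p, hp.isPrime⟩).1
  obtain ⟨N, hN, hq⟩ := main hAss j P fun p _ => (locFree R d (d + j) hdim P hrk p).2
  haveI : Module.FinitePresentation R (P ⧸ N) := Module.finitePresentation_of_finite R _
  haveI : Module.Projective R (P ⧸ N) := Module.projective_of_localization_maximal fun I hI => by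
    obtain ⟨e⟩ := hq ⟨I, hI.isPrime⟩ (locFree R d (d + j) hdim P hrk ⟨I, hI.isPrime⟩).1
    exact Module.Projective.of_equiv e.symm
  obtain ⟨s, hs⟩ := Module.projective_lifting_property N.mkQ LinearMap.id N.mkQ_surjective
  refine ⟨LinearMap.range s, N, ?_, ?_⟩
  · constructor
    · rw [Submodule.disjoint_def]
      rintro _ ⟨z, rfl⟩ hz
      have : z = 0 := by
        rw [← LinearMap.id_apply (R := R) z, ← hs, LinearMap.comp_apply, Submodule.mkQ_apply, Submodule.Quotient.mk_eq_zero]
        exact hz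
      rw [this, map_zero]
    · rw [codisjoint_iff, eq_top_iff]
      intro x _
      rw [show x = s (N.mkQ x) + (x - s (N.mkQ x)) by abel]
      refine Submodule.add_mem_sup ⟨_, rfl⟩ ?_
      rw [← Submodule.Quotient.mk_eq_zero, ← Submodule.mkQ_apply, map_sub]
      rw [show N.mkQ (s (N.mkQ x)) = N.mkQ x from LinearMap.congr_fun hs _, sub_self]
  · rwa [Nat.add_sub_cancel_left]

theorem cancel_one (hdim : ringKrullDim R = d) (P P' : Type u) [AddCommGroup P] [Module R P]
    [Module.Finite R P] [Module.Projective R P] [AddCommGroup P'] [Module R P']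
    (hrk : ∀ p : PrimeSpectrum R, Module.rankAtStalk (R := R) P p = n) (hnd : d < n)
    (E : (P' × R) ≃ₗ[R] (P × R)) : Nonempty (P' ≃ₗ[R] P) := by
  set v := (E (0, 1)).1 with hv
  set c := (E (0, 1)).2 with hc
  let G : (P × R) →ₗ[R] R := (LinearMap.snd R P' R).comp E.symm.toLinearMap
  have hG : G (v, c) = 1 := by simp [G, v, c]
  have hu : ∀ (p : PrimeSpectrum R), p.asIdeal.height ≤ (d : ℕ∞) → c ∈ p.asIdeal → ∃ f : P →ₗ[R] R, f v ∉ p.asIdeal := by
    intro p _ hcp
    refine ⟨G.comp (LinearMap.inl R P R), fun hf => p.isPrime.ne_top ((Ideal.eq_top_iff_one _).2 ?_)⟩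
    rw [← hG, show ((v, c) : P × R) = LinearMap.inl R P R v + c • (0, 1) by simp, map_add, map_smul]
    exact Ideal.add_mem _ hf (Ideal.mul_mem_right _ _ hcp)
  obtain ⟨w, hw⟩ := exists_basic_translate (k := d)
    (fun p _ => (locFree R d n hdim P hrk p).2.some) hnd v c hu
  set v' := v + c • w
  obtain ⟨φ, hφ⟩ : ∃ φ : P →ₗ[R] R, φ v' = 1 := by
    suffices LinearMap.range (Module.Dual.eval R P v') = ⊤ by
      have h1 : (1 : R) ∈ LinearMap.range (Module.Dual.eval R P v') := this ▸ Submodule.mem_top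
      exact h1
    by_contra hne
    obtain ⟨m, hm, hle⟩ := Ideal.exists_le_maximal _ hne
    obtain ⟨f, hf⟩ := hw ⟨m, hm.isPrime⟩ (locFree R d n hdim P hrk ⟨m, hm.isPrime⟩).1
    exact hf (hle ⟨f, rfl⟩)
  let T : (P × R) ≃ₗ[R] (P × R) :=
    { toFun := fun z => (z.1 + z.2 • w - (z.2 + (1 - c) * φ (z.1 + z.2 • w)) • v', z.2 + (1 - c) * φ (z.1 + z.2 • w))
      map_add' := fun a b => by
        ext
        · simp only [Prod.fst_add, Prod.snd_add, map_add, map_smul, smul_eq_mul, mul_add, add_smul]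
          abel
        · simp only [Prod.fst_add, Prod.snd_add, map_add, map_smul, smul_eq_mul]
          ring
      map_smul' := fun r a => by
        ext
        · simp only [Prod.smul_fst, Prod.smul_snd, smul_eq_mul, map_add, map_smul, RingHom.id_apply, smul_sub, smul_add, smul_smul]
          ring_nf
        · simp only [Prod.smul_fst, Prod.smul_snd, smul_eq_mul, map_add, map_smul, RingHom.id_apply]
          ring
      invFun := fun z => ((z.1 + z.2 • v') - (z.2 - (1 - c) * φ (z.1 + z.2 • v')) • w, z.2 - (1 - c) * φ (z.1 + z.2 • v'))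
      left_inv := fun z => by
        ext <;> simp
      right_inv := fun z => by
        ext <;> simp }
  have hT : T (v, c) = (0, 1) := by
    show ((v + c • w) - (c + (1 - c) * φ (v + c • w)) • v', c + (1 - c) * φ (v + c • w)) = _
    rw [show v + c • w = v' from rfl, hφ]
    simp
  let E' := E.trans T
  have hE' : E' (0, 1) = (0, 1) := hT
  have key : ∀ (x : P') (t : R), E' (x, t) = E' (x, 0) + t • (0, 1) := by
    intro x t
    rw [← hE', ← map_smul, ← map_add]
    simp
  let L : P' →ₗ[R] P := (LinearMap.fst R P R).comp (E'.toLinearMap.comp (LinearMap.inl R P' R))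
  refine ⟨LinearEquiv.ofBijective L ⟨?_, ?_⟩⟩
  · rw [← LinearMap.ker_eq_bot, LinearMap.ker_eq_bot']
    intro x hx
    have h0 : E' (x, 0) = (E' (x, 0)).2 • (0, 1) := by
      ext
      · simpa [L] using hx
      · simp
    rw [← hE', ← map_smul] at h0
    have := congrArg Prod.fst (E'.injective h0)
    simpa using this
  · intro y
    obtain ⟨⟨x, t⟩, hxt⟩ := E'.surjective (y, 0)
    refine ⟨x, ?_⟩
    rw [key] at hxt
    have := congrArg Prod.fst hxt
    simpa [L] using this

theorem cancel (hdim : ringKrullDim R = d) (hnd : d < n) (m : ℕ) :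
    ∀ (P P' : Type u) [AddCommGroup P] [Module R P] [Module.Finite R P] [Module.Projective R P]
      [AddCommGroup P'] [Module R P'] [Module.Finite R P'] [Module.Projective R P'],
      (∀ p : PrimeSpectrum R, Module.rankAtStalk (R := R) P p = n) →
      ((P × (Fin m → R)) ≃ₗ[R] (P' × (Fin m → R))) → Nonempty (P ≃ₗ[R] P') := by
  induction m generalizing n with
  | zero =>
    intro P P' _ _ _ _ _ _ _ _ _ e
    exact ⟨(LinearEquiv.prodUnique).symm.trans (e.trans LinearEquiv.prodUnique)⟩
  | succ m ih =>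
    intro P P' _ _ _ _ _ _ _ _ hrk e
    let σ : ∀ (Q : Type u) [AddCommGroup Q] [Module R Q],
        (Q × (Fin (m + 1) → R)) ≃ₗ[R] ((Q × R) × (Fin m → R)) := fun Q _ _ =>
      ((LinearEquiv.refl R Q).prodCongr (Fin.consLinearEquiv R (fun _ : Fin (m + 1) => R)).symm).trans
        (LinearEquiv.prodAssoc R Q R (Fin m → R)).symm
    have hrk1 : ∀ p : PrimeSpectrum R, Module.rankAtStalk (R := R) (P × R) p = n + 1 := fun p => by
      rw [Module.rankAtStalk_prod]
      have := p.nontrivial
      simp [hrk p]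
    obtain ⟨E⟩ := ih (n + 1) (by omega) (P × R) (P' × R) hrk1 ((σ P).symm.trans (e.trans (σ P')))
    obtain ⟨F⟩ := cancel_one R d n hdim P P' hrk hnd E.symm
    exact ⟨F.symm⟩

end Groth.Agent.H6BassCancel
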