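import Mathlib
import Groth.Agent.Lib.H6.BirDense

set_option autoImplicit false
set_option linter.all false
set_option maxHeartbeats 1000000
set_option backward.isDefEq.respectTransparency.types false

/-! The pullback of a birational morphism to the local ring of a generic point. -/

universe u

open CategoryTheory CategoryTheory.Limits AlgebraicGeometry TopologicalSpace IsLocalRing

namespace Groth.Agent.H6.BirPullback

theorem isIso_stalkMap_fromSpecStalk (X : Scheme.{u}) (x : X) (c : Spec (X.presheaf.stalk x))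
    (hc : c = closedPoint (X.presheaf.stalk x)) : IsIso ((X.fromSpecStalk x).stalkMap c) := by
  subst hc
  have h := Scheme.stalkClosedPointTo_fromSpecStalk (X := X) x
  rw [Scheme.stalkClosedPointTo] at h
  have h1 : IsIso ((X.fromSpecStalk x).stalkMap (closedPoint (X.presheaf.stalk x)) ≫ (stalkClosedPointIso (X.presheaf.stalk x)).hom) := by
    rw [h]; infer_instance
  exact @IsIso.of_isIso_comp_right _ _ _ _ _ _ (stalkClosedPointIso (X.presheaf.stalk x)).hom inferInstance h1

theorem subsingleton_spec_stalk {Y : Scheme.{u}} {y : Y} (hy : y ∈ genericPoints Y) :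
    ∀ q : Spec (Y.presheaf.stalk y), q = closedPoint (Y.presheaf.stalk y) := by
  intro q
  have h : Y.fromSpecStalk y q = y :=
    BirDense.eq_of_specializes hy ((Scheme.range_fromSpecStalk (X := Y) (x := y)).le ⟨q, rfl⟩)
  exact (Y.fromSpecStalk y).isEmbedding.injective (h.trans Scheme.fromSpecStalk_closedPoint.symm)

theorem main {X Y : Scheme.{u}} (f : X ⟶ Y) (hinj : Set.InjOn f (genericPoints X))
    (hmaps : Set.MapsTo f (genericPoints X) (genericPoints Y)) {x : X} (hx : x ∈ genericPoints X)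
    [IsIso (f.stalkMap x)] : IsIso (pullback.snd f (Y.fromSpecStalk (f x))) := by
  set y := f x
  have hy : y ∈ genericPoints Y := hmaps hx
  have hY1 := subsingleton_spec_stalk hy
  let P := pullback f (Y.fromSpecStalk y)
  let fst : P ⟶ X := pullback.fst f (Y.fromSpecStalk y)
  let snd : P ⟶ Spec (Y.presheaf.stalk y) := pullback.snd f (Y.fromSpecStalk y)
  let β := Spec.map (inv (f.stalkMap x))
  have hcomm : (β ≫ X.fromSpecStalk x) ≫ f = 𝟙 _ ≫ Y.fromSpecStalk y := by
    rw [Category.assoc, ← Scheme.SpecMap_stalkMap_fromSpecStalk, ← Category.assoc, ← Spec.map_comp,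
      IsIso.hom_inv_id, Spec.map_id]
  let s : Spec (Y.presheaf.stalk y) ⟶ P := pullback.lift (β ≫ X.fromSpecStalk x) (𝟙 _) hcomm
  have hs1 : s ≫ fst = β ≫ X.fromSpecStalk x := pullback.lift_fst _ _ _
  have hs2 : s ≫ snd = 𝟙 _ := pullback.lift_snd _ _ _
  haveI : IsPreimmersion fst := MorphismProperty.pullback_fst _ _ (inferInstance : IsPreimmersion (Y.fromSpecStalk y))
  let px : P := s (closedPoint (Y.presheaf.stalk y))
  have hfpx : fst px = x := by
    rw [← Scheme.Hom.comp_apply, hs1, Scheme.Hom.comp_apply, show β (closedPoint (Y.presheaf.stalk y)) = closedPoint (X.presheaf.stalk x) from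
      IsLocalRing.comap_closedPoint (inv (f.stalkMap x)).hom, Scheme.fromSpecStalk_closedPoint]
  have hsp : ∀ p : P, px ⤳ p := by
    intro p
    rw [← fst.isEmbedding.isInducing.specializes_iff, hfpx]
    obtain ⟨g, hg, hgp⟩ := BirDense.exists_generic (fst p)
    have h1 : f (fst p) = y := by
      rw [← Scheme.Hom.comp_apply, pullback.condition, Scheme.Hom.comp_apply, hY1 (pullback.snd f (Y.fromSpecStalk y) p)]
      exact Scheme.fromSpecStalk_closedPoint
    have h2 : f g = y := BirDense.eq_of_specializes hy (h1 ▸ hgp.map f.continuous)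
    rwa [← hinj hg hx h2]
  have hone : ∀ p : P, p = px := by
    intro p
    obtain ⟨W, hW, hpW, -⟩ := exists_isAffineOpen_mem_and_subset (X := P) (x := p) (U := ⊤) trivial
    have hpxW : px ∈ W := (hsp p).mem_open W.2 hpW
    have htop : s ⁻¹ᵁ W = ⊤ := top_unique fun q _ => by
      show s q ∈ W
      rw [hY1 q]; exact hpxW
    let ev : Γ(P, W) →+* Y.presheaf.stalk y :=
      ((Scheme.ΓSpecIso (Y.presheaf.stalk y)).hom.hom).comp (s.appLE W ⊤ htop.ge).hom
    let φ : Y.presheaf.stalk y →+* Γ(P, W) :=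
      (snd.appLE ⊤ W le_top).hom.comp (Scheme.ΓSpecIso (Y.presheaf.stalk y)).inv.hom
    have hev : ∀ a, ev (φ a) = a := by
      intro a
      show (Scheme.ΓSpecIso (Y.presheaf.stalk y)).hom ((snd.appLE ⊤ W le_top ≫ s.appLE W ⊤ htop.ge) ((Scheme.ΓSpecIso (Y.presheaf.stalk y)).inv a)) = a
      rw [Scheme.Hom.appLE_comp_appLE]
      have : ∀ (m : Spec (Y.presheaf.stalk y) ⟶ Spec (Y.presheaf.stalk y)) (hm : m = 𝟙 _) (h : (⊤ : (Spec (Y.presheaf.stalk y)).Opens) ≤ m ⁻¹ᵁ ⊤),
          m.appLE ⊤ ⊤ h = 𝟙 _ := by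
        rintro m rfl h
        simp [Scheme.Hom.appLE]
      rw [this _ hs2, CommRingCat.id_apply]
      exact ConcreteCategory.congr_hom (Scheme.ΓSpecIso (Y.presheaf.stalk y)).inv_hom_id a
    set Q := (hW.primeIdealOf ⟨px, hpxW⟩).asIdeal with hQ
    have hall : ∀ (q : Ideal Γ(P, W)), q.IsPrime → Q ≤ q := by
      intro q hq
      let pt : PrimeSpectrum Γ(P, W) := ⟨q, hq⟩
      have hz : hW.fromSpec pt ∈ W := by
        have : hW.fromSpec pt ∈ Set.range hW.fromSpec := ⟨pt, rfl⟩
        rwa [hW.range_fromSpec] at this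
      have h1 : hW.fromSpec (hW.primeIdealOf ⟨px, hpxW⟩) ⤳ hW.fromSpec pt := by
        rw [hW.fromSpec_primeIdealOf]; exact hsp _
      rw [hW.fromSpec.isOpenEmbedding.isInducing.specializes_iff] at h1
      exact (PrimeSpectrum.le_iff_specializes (hW.primeIdealOf ⟨px, hpxW⟩) pt).2 h1
    have hker : ∀ r, ev r = 0 → r ∈ Q := by
      intro r hr
      by_contra hrQ
      have hmem : px ∈ P.basicOpen r := by
        rw [show px = hW.fromSpec (hW.primeIdealOf ⟨px, hpxW⟩) from (hW.fromSpec_primeIdealOf ⟨px, hpxW⟩).symm]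
        show hW.primeIdealOf ⟨px, hpxW⟩ ∈ hW.fromSpec ⁻¹ᵁ P.basicOpen r
        rw [hW.fromSpec_preimage_basicOpen]
        exact hrQ
      have h0 : s.appLE W ⊤ htop.ge r = 0 := by
        apply (Scheme.ΓSpecIso (Y.presheaf.stalk y)).commRingCatIsoToRingEquiv.injective
        rw [map_zero]
        exact hr
      have h1 : (closedPoint (Y.presheaf.stalk y) : Spec (Y.presheaf.stalk y)) ∈ (Spec (Y.presheaf.stalk y)).basicOpen (s.appLE W ⊤ htop.ge r) := by
        rw [Scheme.basicOpen_appLE]
        exact ⟨trivial, hmem⟩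
      rw [h0, Scheme.basicOpen_zero] at h1
      exact h1
    have hnil : ∀ a : Y.presheaf.stalk y, ¬ IsUnit a → IsNilpotent a := by
      intro a ha
      rw [← mem_nilradical, nilradical_eq_sInf, Submodule.mem_sInf]
      intro q hq
      have h2 : q = maximalIdeal _ := congrArg PrimeSpectrum.asIdeal (hY1 (⟨q, hq⟩ : PrimeSpectrum (Y.presheaf.stalk y)))
      rw [h2]; exact ha
    have hQmax : ∀ r, r ∉ Q → IsUnit r := by
      intro r hr
      have hk : r - φ (ev r) ∈ Q := hker _ (by rw [map_sub, hev, sub_self])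
      have hu : IsUnit (ev r) := by
        by_contra hu
        obtain ⟨n, hn⟩ := hnil _ hu
        exact hr ((hW.primeIdealOf ⟨px, hpxW⟩).2.mem_of_pow_mem n (hker _ (by rw [map_pow, hn])))
      have hnk : IsNilpotent (r - φ (ev r)) := by
        rw [← mem_nilradical, nilradical_eq_sInf, Submodule.mem_sInf]
        exact fun q hq => hall q hq hk
      have := hnk.isUnit_add_left_of_commute (hu.map φ) (Commute.all _ _)
      simpa using this
    have hpQ : (hW.primeIdealOf ⟨p, hpW⟩).asIdeal = Q :=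
      le_antisymm (fun r hr => by_contra fun h => (hW.primeIdealOf ⟨p, hpW⟩).2.ne_top (Ideal.eq_top_of_isUnit_mem _ hr (hQmax r h)))
        (hall _ (hW.primeIdealOf ⟨p, hpW⟩).2)
    exact (hW.fromSpec_primeIdealOf ⟨p, hpW⟩).symm.trans
      ((congrArg hW.fromSpec (PrimeSpectrum.ext hpQ)).trans (hW.fromSpec_primeIdealOf ⟨px, hpxW⟩))
  have hbij : Function.Bijective s := ⟨fun a b _ => (hY1 a).trans (hY1 b).symm, fun p => ⟨_, (hone p).symm⟩⟩
  haveI : IsIso s := by
    rw [isIso_iff_isIso_stalkMap]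
    refine ⟨?_, fun c => ?_⟩
    · haveI : Subsingleton P := ⟨fun a b => (hone a).trans (hone b).symm⟩
      rw [TopCat.isIso_iff_isHomeomorph, isHomeomorph_iff_exists_inverse]
      exact ⟨s.continuous, snd, fun q => (hY1 _).trans (hY1 q).symm, fun p => Subsingleton.elim _ _, snd.continuous⟩
    obtain rfl := hY1 c
    haveI : IsIso β := inferInstance
    have h1 : IsIso ((β ≫ X.fromSpecStalk x).stalkMap (closedPoint (Y.presheaf.stalk y))) := by
      haveI := isIso_stalkMap_fromSpecStalk X x (β (closedPoint _)) (IsLocalRing.comap_closedPoint (inv (f.stalkMap x)).hom)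
      haveI h3 : IsIso (β.stalkMap (closedPoint (Y.presheaf.stalk y))) := inferInstance
      rw [Scheme.Hom.stalkMap_comp]
      exact @IsIso.comp_isIso _ _ _ _ _ _ _ this h3
    have h2 : IsIso ((s ≫ fst).stalkMap (closedPoint (Y.presheaf.stalk y))) := by
      rw [hs1]; exact h1
    rw [Scheme.Hom.stalkMap_comp] at h2
    refine (ConcreteCategory.isIso_iff_bijective _).2 ?_
    have hb := (ConcreteCategory.isIso_iff_bijective _).1 h2
    have hb : Function.Bijective (⇑(s.stalkMap (closedPoint (Y.presheaf.stalk y))) ∘ ⇑(fst.stalkMap (s (closedPoint (Y.presheaf.stalk y))))) := hb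
    exact ⟨hb.1.of_comp_right (fst.stalkMap_surjective _), hb.2.of_comp⟩
  exact IsIso.of_isIso_fac_left hs2

end Groth.Agent.H6.BirPullback
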