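import Mathlib

set_option autoImplicit false
set_option linter.all false
universe u

open MvPolynomial

namespace Groth.Agent.H6.CharTwoParity

variable {R : Type u} [CommRing R]

local notation "P2" => MvPolynomial (Fin 2) R
local notation "E" => MvPolynomial.expand (σ := Fin 2) (R := R) 2

noncomputable def par (a b c e : MvPolynomial (Fin 2) R) : MvPolynomial (Fin 2) R :=
  E a + E b * X 0 + E c * X 1 + E e * (X 0 * X 1)

theorem decomp (p : P2) : ∃ a b c e, p = par a b c e := by
  induction p using MvPolynomial.induction_on with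
  | C r => exact ⟨C r, 0, 0, 0, by simp [par]⟩
  | add p q hp hq =>
    obtain ⟨a, b, c, e, rfl⟩ := hp
    obtain ⟨a', b', c', e', rfl⟩ := hq
    exact ⟨a + a', b + b', c + c', e + e', by simp [par]; ring⟩
  | mul_X p i hp =>
    obtain ⟨a, b, c, e, rfl⟩ := hp
    fin_cases i
    · exact ⟨b * X 0, a, e * X 0, c, by simp [par, expand_X]; ring⟩
    · exact ⟨c * X 1, e * X 1, a, b, by simp [par, expand_X]; ring⟩

theorem uniq {a b c e : P2} (h : par a b c e = 0) : a = 0 ∧ b = 0 ∧ c = 0 ∧ e = 0 := by
  classical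
  let v : ℕ → ℕ → (Fin 2 →₀ ℕ) := fun i j => Finsupp.single 0 i + Finsupp.single 1 j
  have hmon : ∀ i j : ℕ, (X 0 : P2) ^ i * X 1 ^ j = monomial (v i j) 1 := fun i j => by
    simp [X_pow_eq_monomial, monomial_mul, v]
  have key : ∀ (q : P2) (d : Fin 2 →₀ ℕ) (i j i' j' : ℕ), i < 2 → j < 2 → i' < 2 → j' < 2 →
      coeff (2 • d + v i j) (E q * (X 0 ^ i' * X 1 ^ j')) = if i = i' ∧ j = j' then coeff d q else 0 := by
    intro q d i j i' j' hi hj hi' hj'
    rw [hmon]
    by_cases hij : i = i' ∧ j = j'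
    · obtain ⟨rfl, rfl⟩ := hij
      rw [if_pos ⟨rfl, rfl⟩, coeff_mul_monomial, coeff_expand_smul 2 two_ne_zero, mul_one]
    · rw [if_neg hij, coeff_mul_monomial']
      split_ifs with hle
      · have h0 := hle 0
        have h1 := hle 1
        simp [v] at h0 h1
        rcases not_and_or.1 hij with hne | hne
        · rw [coeff_expand_of_not_dvd (i := 0), zero_mul]
          simp [v]
          omega
        · rw [coeff_expand_of_not_dvd (i := 1), zero_mul]
          simp [v]
          omega
      · rfl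
  have h' : E a * (X 0 ^ 0 * X 1 ^ 0) + E b * (X 0 ^ 1 * X 1 ^ 0) + E c * (X 0 ^ 0 * X 1 ^ 1) +
      E e * (X 0 ^ 1 * X 1 ^ 1) = 0 := by
    rw [← h, par]; ring
  have hc : ∀ (d : Fin 2 →₀ ℕ) (i j : ℕ), i < 2 → j < 2 →
      (if i = 0 ∧ j = 0 then coeff d a else 0) + (if i = 1 ∧ j = 0 then coeff d b else 0) +
      (if i = 0 ∧ j = 1 then coeff d c else 0) + (if i = 1 ∧ j = 1 then coeff d e else 0) = 0 := by
    intro d i j hi hj
    have hh := congrArg (coeff (2 • d + v i j)) h'
    rwa [coeff_add, coeff_add, coeff_add, key a d i j 0 0 hi hj (by omega) (by omega),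
      key b d i j 1 0 hi hj (by omega) (by omega), key c d i j 0 1 hi hj (by omega) (by omega),
      key e d i j 1 1 hi hj (by omega) (by omega), coeff_zero] at hh
  refine ⟨?_, ?_, ?_, ?_⟩ <;> ext d
  · simpa using hc d 0 0 (by omega) (by omega)
  · simpa using hc d 1 0 (by omega) (by omega)
  · simpa using hc d 0 1 (by omega) (by omega)
  · simpa using hc d 1 1 (by omega) (by omega)

section CharTwo

variable [CharP R 2]

theorem two_zero : (2 : P2) = 0 := by
  exact_mod_cast CharP.cast_eq_zero (MvPolynomial (Fin 2) R) 2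

theorem eq_of_add_eq_zero {x y : P2} (h : x + y = 0) : x = y := by
  linear_combination h - y * two_zero (R := R)

theorem deriv_expand (f : Fin 2 → P2) (a : P2) : mkDerivation R f (E a) = 0 := by
  induction a using MvPolynomial.induction_on with
  | C r => rw [expand_C, derivation_C]
  | add p q hp hq => rw [map_add, map_add, hp, hq, add_zero]
  | mul_X p i hp =>
    rw [map_mul, expand_X, Derivation.leibniz, hp, smul_zero, add_zero, pow_two, Derivation.leibniz]
    simp only [smul_eq_mul]
    linear_combination (E p * (X i * mkDerivation R f (X i))) * two_zero (R := R)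

theorem deriv_par_eq_zero_iff (L S t : MvPolynomial (Fin 2) R) (f : Fin 2 → P2) (hf0 : f 0 = E L + E t * X 0) (hf1 : f 1 = E S + E t * X 1)
    (a b c e : P2) :
    mkDerivation R f (par a b c e) = 0 ↔
      b * L + c * S = 0 ∧ t * b + e * S = 0 ∧ t * c + e * L = 0 := by
  have hD : mkDerivation R f (par a b c e) = par (b * L + c * S) (t * b + e * S) (t * c + e * L) 0 := by
    simp only [par, map_add, Derivation.leibniz, deriv_expand, smul_zero, add_zero, zero_add,
      mkDerivation_X, hf0, hf1, smul_eq_mul, map_mul, map_zero, zero_mul]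
    linear_combination (E e * E t * X 0 * X 1) * two_zero (R := R)
  rw [hD]
  constructor
  · intro h
    exact ⟨(uniq h).1, (uniq h).2.1, (uniq h).2.2.1⟩
  · rintro ⟨h1, h2, h3⟩
    simp [par, h1, h2, h3]

theorem ker_aeval {τ : R} (hτ : IsUnit τ) (rest Z : P2) (f : MvPolynomial (Fin 3) R)
    (hf : f = X 2 ^ 2 + aeval ![X 0, X 1] rest) (hZ2 : Z ^ 2 = E rest) {b₀ c₀ : P2}
    (hZ : Z = par 0 b₀ c₀ (C τ)) :
    RingHom.ker (aeval (R := R) (S₁ := P2) ![X 0 ^ 2, X 1 ^ 2, Z]) = Ideal.span {f} := by
  let ι : P2 →ₐ[R] MvPolynomial (Fin 3) R := aeval ![X 0, X 1]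
  set Φ := aeval (R := R) (S₁ := P2) ![X 0 ^ 2, X 1 ^ 2, Z] with hΦ
  have hι : ∀ a, Φ (ι a) = E a := by
    intro a
    rw [← AlgHom.comp_apply]
    congr 1
    refine algHom_ext fun i => ?_
    fin_cases i <;> simp [hΦ, ι]
  have hΦf : Φ f = 0 := by
    rw [hf, map_add, map_pow]
    show Φ (X 2) ^ 2 + Φ (ι rest) = 0
    rw [hι, ← hZ2]
    simp [hΦ]
    linear_combination Z ^ 2 * two_zero (R := R)
  have hdiv : ∀ P : MvPolynomial (Fin 3) R, ∃ a b, P - (ι a + ι b * X 2) ∈ Ideal.span {f} := by
    intro P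
    induction P using MvPolynomial.induction_on with
    | C r => exact ⟨C r, 0, by simp [ι]⟩
    | add p q hp hq =>
      obtain ⟨a, b, h⟩ := hp
      obtain ⟨a', b', h'⟩ := hq
      refine ⟨a + a', b + b', ?_⟩
      have := add_mem h h'
      simp only [map_add]
      convert this using 1
      ring
    | mul_X p i hp =>
      obtain ⟨a, b, h⟩ := hp
      fin_cases i
      · refine ⟨a * X 0, b * X 0, ?_⟩
        have := Ideal.mul_mem_right (X 0) _ h
        convert this using 1
        simp [ι]; ring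
      · refine ⟨a * X 1, b * X 1, ?_⟩
        have := Ideal.mul_mem_right (X 1) _ h
        convert this using 1
        simp [ι]; ring
      · refine ⟨-(b * rest), a, ?_⟩
        have h2 := add_mem (Ideal.mul_mem_right (X 2) _ h) (Ideal.mul_mem_left _ (ι b) (Ideal.subset_span (Set.mem_singleton f)))
        convert h2 using 1
        rw [hf, map_neg, map_mul]
        simp only [Fin.reduceFinMk]
        ring
  refine le_antisymm (fun P hP => ?_) ((Ideal.span_singleton_le_iff_mem _).2 hΦf)
  obtain ⟨a, b, hab⟩ := hdiv P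
  obtain ⟨q, hq⟩ := Ideal.mem_span_singleton'.1 hab
  have h : par a (b * b₀) (b * c₀) (b * C τ) = 0 := by
    have := congrArg Φ hq
    rw [map_mul, hΦf, mul_zero, map_sub, RingHom.mem_ker.1 hP, map_add, map_mul, hι, hι, zero_sub, zero_eq_neg] at this
    rw [← this]
    simp [hΦ, hZ, par]
    ring
  obtain ⟨rfl, -, -, h4⟩ := uniq h
  obtain rfl : b = 0 := (hτ.map C).mul_left_eq_zero.1 h4
  simpa using hab

theorem expand_mem (A : Subalgebra R P2) (h0 : X 0 ^ 2 ∈ A) (h1 : X 1 ^ 2 ∈ A) (a : P2) : E a ∈ A := by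
  induction a using MvPolynomial.induction_on with
  | C r => rw [expand_C]; exact A.algebraMap_mem r
  | add p q hp hq => rw [map_add]; exact add_mem hp hq
  | mul_X p i hp =>
    rw [map_mul, expand_X]
    fin_cases i
    · exact mul_mem hp h0
    · exact mul_mem hp h1

end CharTwo

end Groth.Agent.H6.CharTwoParity
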