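import Mathlib

set_option autoImplicit false
set_option linter.all false

/-! Irreducible components through a point whose local ring is a domain. -/

universe u

open CategoryTheory AlgebraicGeometry TopologicalSpace

namespace Groth.Agent.H6.CompDom

variable {X : Scheme.{u}}

theorem eq_of_mem (x : X) [IsDomain (X.presheaf.stalk x)] {Z Z' : Set X} (hZ : Z ∈ irreducibleComponents X)
    (hZ' : Z' ∈ irreducibleComponents X) (hx : x ∈ Z) (hx' : x ∈ Z') : Z = Z' := by
  let b : PrimeSpectrum (X.presheaf.stalk x) := ⊥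
  let ξ : X := (X.fromSpecStalk x) b
  suffices h : ∀ W ∈ irreducibleComponents X, x ∈ W → W = closure {ξ} from (h Z hZ hx).trans (h Z' hZ' hx').symm
  intro W hW hxW
  have hWc := isClosed_of_mem_irreducibleComponents W hW
  obtain ⟨η, hη⟩ := QuasiSober.sober hW.1 hWc
  have hηx : η ⤳ x := hη.specializes hxW
  have : η ∈ Set.range (X.fromSpecStalk x) := by rw [Scheme.range_fromSpecStalk]; exact hηx
  obtain ⟨p, hp⟩ := this
  have hb : b ⤳ (show PrimeSpectrum (X.presheaf.stalk x) from p) := (PrimeSpectrum.le_iff_specializes _ _).1 bot_le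
  have hξ : ξ ⤳ η := hp ▸ hb.map (X.fromSpecStalk x).continuous
  have hsub : W ⊆ closure {ξ} := by
    rw [← hη.def]
    exact closure_minimal (Set.singleton_subset_iff.2 (specializes_iff_mem_closure.1 hξ)) isClosed_closure
  exact subset_antisymm hsub (hW.2 isIrreducible_singleton.closure hsub)

theorem isOpen_of_finite {Z : Set X} (hZ : Z ∈ irreducibleComponents X) (hX : ∀ x : X, IsDomain (X.presheaf.stalk x))
    (U : X.Opens) (hfin : {W ∈ irreducibleComponents X | (W ∩ U).Nonempty}.Finite) : IsOpen (Z ∩ U) := by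
  have : Z ∩ U = (U : Set X) \ ⋃ W ∈ {W ∈ irreducibleComponents X | (W ∩ U).Nonempty} \ {Z}, W := by
    ext x
    constructor
    · rintro ⟨hxZ, hxU⟩
      refine ⟨hxU, fun h => ?_⟩
      obtain ⟨W, ⟨⟨hW, -⟩, hne⟩, hxW⟩ := Set.mem_iUnion₂.1 h
      haveI := hX x
      exact hne (eq_of_mem x hW hZ hxW hxZ)
    · rintro ⟨hxU, hx⟩
      refine ⟨?_, hxU⟩
      by_contra hxZ
      obtain ⟨W, hW, hxW⟩ : ∃ W ∈ irreducibleComponents X, x ∈ W :=
        ⟨irreducibleComponent x, irreducibleComponent_mem_irreducibleComponents x, mem_irreducibleComponent⟩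
      exact hx (Set.mem_iUnion₂.2 ⟨W, ⟨⟨hW, x, hxW, hxU⟩, fun e => hxZ ((Set.mem_singleton_iff.1 e) ▸ hxW)⟩, hxW⟩)
  rw [this]
  exact U.2.sdiff (hfin.sdiff.isClosed_biUnion fun W hW => isClosed_of_mem_irreducibleComponents W hW.1.1)

end Groth.Agent.H6.CompDom
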