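import Mathlib

set_option autoImplicit false
universe u

namespace Groth.Agent.H6CF

open Finset

variable {R : Type u} [CommRing R] (I : Ideal R) {α : Type u}

theorem finsupp_mem_smul_top (J : Ideal R) (w : α →₀ R) :
    w ∈ J • (⊤ : Submodule R (α →₀ R)) ↔ ∀ x, w x ∈ J := by
  classical
  constructor
  · intro h x
    refine Submodule.smul_induction_on (p := fun z : α →₀ R => z x ∈ J) h (fun r hr y _ => ?_) fun y z hy hz => ?_
    · simpa using J.mul_mem_right (y x) hr
    · simpa using J.add_mem hy hz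
  · intro h
    rw [← w.sum_single]
    refine Submodule.sum_mem _ fun x _ => ?_
    show Finsupp.single x (w x) ∈ _
    rw [← Finsupp.smul_single_one]
    exact Submodule.smul_mem_smul (h x) Submodule.mem_top

theorem exists_lift [IsNoetherianRing R] {m s : ℕ} (a : Fin m → Fin s → R) :
    ∃ c : ℕ, ∀ (n : ℕ) (w : Fin m → α →₀ R), (n = 0 ∨ ∀ i x, w i x ∈ I ^ (n + c)) →
      (∀ x, ∃ v : Fin s → R, ∀ i, ∑ j, a i j * v j = w i x) →
      ∃ u : Fin s → α →₀ R, (∀ j x, u j x ∈ I ^ n) ∧ ∀ i, ∑ j, a i j • u j = w i := by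
  classical
  let g := Matrix.mulVecLin (R := R) (Matrix.of a)
  have hg : ∀ v i, g v i = ∑ j, a i j * v j := fun v i => rfl
  obtain ⟨c, hc⟩ := I.exists_pow_inf_eq_pow_smul (LinearMap.range g)
  refine ⟨c, fun n w hn hw => ?_⟩
  have key : ∀ x, ∃ v : Fin s → R, (∀ j, v j ∈ I ^ n) ∧ (∀ i, ∑ j, a i j * v j = w i x) ∧
      ((∀ i, w i x = 0) → v = 0) := by
    intro x
    by_cases h0 : ∀ i, w i x = 0
    · exact ⟨0, fun j => Submodule.zero_mem _, fun i => by simp [h0 i], fun _ => rfl⟩
    obtain ⟨v, hv⟩ := hw x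
    rcases hn with rfl | hn
    · exact ⟨v, fun j => by simp, hv, fun h => (h0 h).elim⟩
    have hmem : g v ∈ I ^ (n + c) • (⊤ : Submodule R (Fin m → R)) ⊓ LinearMap.range g := by
      refine ⟨?_, v, rfl⟩
      rw [← Finset.univ_sum_single (g v)]
      refine Submodule.sum_mem _ fun i _ => ?_
      have : Pi.single i (g v i) = (g v i) • (Pi.single i 1 : Fin m → R) := by
        rw [← Pi.single_smul, smul_eq_mul, mul_one]
      rw [this, hg, hv]
      exact Submodule.smul_mem_smul (hn i x) Submodule.mem_top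
    rw [hc (n + c) (Nat.le_add_left c n), Nat.add_sub_cancel] at hmem
    have h2 : g v ∈ Submodule.map g (I ^ n • ⊤) := by
      rw [Submodule.map_smul'', Submodule.map_top]
      exact Submodule.smul_mono le_rfl inf_le_right hmem
    obtain ⟨v', hv', hvv⟩ := h2
    refine ⟨v', fun j => ?_, fun i => by rw [← hg, hvv, hg, hv], fun h => (h0 h).elim⟩
    refine Submodule.smul_induction_on (p := fun z : Fin s → R => z j ∈ I ^ n) hv'
      (fun r hr y _ => ?_) fun y z hy hz => ?_
    · simpa using (I ^ n).mul_mem_right (y j) hr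
    · simpa using (I ^ n).add_mem hy hz
  choose v hv1 hv2 hv3 using key
  refine ⟨fun j => Finsupp.onFinset (Finset.univ.biUnion fun i => (w i).support) (fun x => v x j) ?_, ?_, ?_⟩
  · intro x hx
    by_contra h
    apply hx
    have h0 : ∀ i, w i x = 0 := fun i => by
      by_contra hi
      exact h (Finset.mem_biUnion.2 ⟨i, Finset.mem_univ _, Finsupp.mem_support_iff.2 hi⟩)
    show v x j = 0
    rw [hv3 x h0]
    rfl
  · intro j x
    exact hv1 x j
  · intro i
    ext x
    simpa [Finsupp.finsetSum_apply] using hv2 x i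

theorem flat_completion [IsNoetherianRing R] (α : Type u) : Module.Flat R (AdicCompletion I (α →₀ R)) := by
  classical
  refine Module.Flat.iff_forall_isTrivialRelation.2 fun {m} {f} {x} hfx => ?_
  let F : (Fin m → R) →ₗ[R] R := Fintype.linearCombination R f
  have hF : ∀ v, F v = ∑ i, v i * f i := fun v => by simp [F, Fintype.linearCombination_apply]
  obtain ⟨s, k, hk⟩ := Submodule.fg_iff_exists_fin_generating_family.1 (IsNoetherian.noetherian (LinearMap.ker F))
  let a : Fin m → Fin s → R := fun i j => k j i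
  have hker : ∀ v, v ∈ LinearMap.ker F → ∃ d : Fin s → R, ∀ i, ∑ j, a i j * d j = v i := by
    intro v hv
    rw [← hk, Submodule.mem_span_range_iff_exists_fun] at hv
    obtain ⟨d, hd⟩ := hv
    exact ⟨d, fun i => by rw [← hd]; simp [a, mul_comm]⟩
  obtain ⟨c₁, hc₁⟩ := exists_lift I (α := α) (m := 1) fun _ i => f i
  obtain ⟨c₂, hc₂⟩ := exists_lift I (α := α) a
  choose X hX using fun i => AdicCompletion.mk_surjective I (α →₀ R) (x i)
  have cauchy : ∀ i {p q : ℕ}, p ≤ q → X i p - X i q ∈ (I ^ p • ⊤ : Submodule R (α →₀ R)) :=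
    fun i {p q} h => SModEq.sub_mem.1 ((X i).property h)
  have hzero : ∀ n z, (∑ i, f i • X i n) z ∈ I ^ n := by
    intro n
    refine (finsupp_mem_smul_top _ _).1 ?_
    have h := congrArg (AdicCompletion.eval I (α →₀ R) n) hfx
    rw [map_sum, map_zero] at h
    simp only [map_smul, ← hX] at h
    refine (Submodule.Quotient.mk_eq_zero _).1 ?_
    rw [← Submodule.mkQ_apply, map_sum]
    simpa using h
  have step1 : ∀ n, ∃ u : Fin m → α →₀ R, (∀ i z, u i z ∈ I ^ n) ∧
      ∑ i, f i • u i = ∑ i, f i • X i (n + c₁) := by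
    intro n
    obtain ⟨u, hu, hu'⟩ := hc₁ n (fun _ => ∑ i, f i • X i (n + c₁)) (Or.inr fun _ z => hzero _ z)
      fun z => ⟨fun i => X i (n + c₁) z, fun _ => by simp [Finsupp.finsetSum_apply]⟩
    exact ⟨u, hu, hu' 0⟩
  choose U hU hU' using step1
  let X' : ℕ → Fin m → α →₀ R := fun n i => X i (n + c₁) - U n i
  have hX'c : ∀ n i, X' (n + 1) i - X' n i ∈ (I ^ n • ⊤ : Submodule R (α →₀ R)) := by
    intro n i
    have h1 := cauchy i (show n + c₁ ≤ n + 1 + c₁ by omega)
    have h2 : (X i (n + c₁) - X i (n + 1 + c₁)) ∈ (I ^ n • ⊤ : Submodule R (α →₀ R)) :=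
      Submodule.smul_mono_left (Ideal.pow_le_pow_right (Nat.le_add_right n c₁)) h1
    have h3 : U n i ∈ (I ^ n • ⊤ : Submodule R (α →₀ R)) := (finsupp_mem_smul_top _ _).2 (hU n i)
    have h4 : U (n + 1) i ∈ (I ^ n • ⊤ : Submodule R (α →₀ R)) :=
      Submodule.smul_mono_left (Ideal.pow_le_pow_right (Nat.le_succ n)) ((finsupp_mem_smul_top _ _).2 (hU (n + 1) i))
    have : X' (n + 1) i - X' n i = -(X i (n + c₁) - X i (n + 1 + c₁)) + U n i - U (n + 1) i := by
      simp only [X']; abel
    rw [this]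
    exact sub_mem (add_mem (neg_mem h2) h3) h4
  have hX'k : ∀ n z, (fun i => X' n i z) ∈ LinearMap.ker F := by
    intro n z
    have h := congrArg (fun w : α →₀ R => w z) (hU' n)
    simp only [Finsupp.finsetSum_apply, Finsupp.smul_apply, smul_eq_mul] at h
    rw [LinearMap.mem_ker, hF]
    simp only [X', Finsupp.sub_apply, sub_mul, Finset.sum_sub_distrib]
    rw [sub_eq_zero]
    refine Eq.trans (Finset.sum_congr rfl fun i _ => mul_comm _ _) (h.symm.trans ?_)
    exact Finset.sum_congr rfl fun i _ => mul_comm _ _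
  have step2 : ∀ n, ∃ e : Fin s → α →₀ R, (∀ j z, e j z ∈ I ^ n) ∧
      ∀ i, ∑ j, a i j • e j = X' (n + 1 + c₂) i - X' (n + c₂) i := by
    intro n
    refine hc₂ n _ (Or.inr fun i z => ?_) fun z => ?_
    · exact (finsupp_mem_smul_top _ _).1 (by
        have := hX'c (n + c₂) i
        rwa [show n + c₂ + 1 = n + 1 + c₂ by omega] at this) z
    · exact hker _ (sub_mem (hX'k (n + 1 + c₂) z) (hX'k (n + c₂) z))
  choose e he he' using step2
  obtain ⟨d₀, -, hd₀⟩ := hc₂ 0 (X' c₂) (Or.inl rfl) fun z => hker _ (hX'k c₂ z)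
  let D : ℕ → Fin s → α →₀ R := fun n => d₀ + ∑ p ∈ range n, e p
  have hD : ∀ n i, ∑ j, a i j • D n j = X' (n + c₂) i := by
    intro n i
    induction n with
    | zero => simpa [D] using hd₀ i
    | succ n ih =>
      have : ∀ j, D (n + 1) j = D n j + e n j := fun j => by
        simp [D, Finset.sum_range_succ, add_assoc]
      simp only [this, smul_add, Finset.sum_add_distrib, ih, he' n i]
      abel
  have hDc : ∀ j n, D n j ≡ D (n + 1) j [SMOD (I ^ n • ⊤ : Submodule R (α →₀ R))] := fun j n => by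
    rw [SModEq.sub_mem]
    have : D n j - D (n + 1) j = - e n j := by simp [D, Finset.sum_range_succ]
    rw [this]
    exact neg_mem ((finsupp_mem_smul_top _ _).2 (he n j))
  refine ⟨s, a, fun j => AdicCompletion.mk I _ (AdicCompletion.AdicCauchySequence.mk I _ (fun n => D n j) (hDc j)),
    fun i => ?_, fun j => ?_⟩
  · refine AdicCompletion.ext fun n => ?_
    show AdicCompletion.eval I _ n (x i) = AdicCompletion.eval I _ n _
    rw [map_sum]
    simp only [map_smul, ← hX]
    show Submodule.mkQ _ (X i n) = ∑ j, a i j • Submodule.mkQ _ (D n j)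
    simp only [← map_smul, ← map_sum, hD]
    refine (Submodule.Quotient.eq _).2 ?_
    have h1 := cauchy i (show n ≤ n + c₂ + c₁ by omega)
    have h3 : U (n + c₂) i ∈ (I ^ n • ⊤ : Submodule R (α →₀ R)) :=
      Submodule.smul_mono_left (Ideal.pow_le_pow_right (Nat.le_add_right n c₂)) ((finsupp_mem_smul_top _ _).2 (hU _ i))
    have : X i n - X' (n + c₂) i = (X i n - X i (n + c₂ + c₁)) + U (n + c₂) i := by
      simp only [X']; abel
    rw [this]
    exact add_mem h1 h3
  · have : k j ∈ LinearMap.ker F := hk ▸ Submodule.subset_span ⟨j, rfl⟩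
    rw [LinearMap.mem_ker, hF] at this
    rw [← this]
    exact Finset.sum_congr rfl fun i _ => mul_comm _ _

end Groth.Agent.H6CF
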