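import Mathlib

/-! index computations for lattices under diagonal maps -/

set_option autoImplicit false
set_option linter.all false
set_option backward.isDefEq.respectTransparency.types false

open Finset

namespace Groth.Agent.H6.CompLat

variable {n : ℕ}

noncomputable abbrev S (n : ℕ) : (Fin n → ℤ) →ₗ[ℤ] ℤ := ∑ i : Fin n, (LinearMap.proj i : (Fin n → ℤ) →ₗ[ℤ] ℤ)
noncomputable abbrev D (δ : Fin n → ℤ) : (Fin n → ℤ) →ₗ[ℤ] (Fin n → ℤ) := Matrix.mulVecLin (Matrix.diagonal δ)

theorem S_apply (x : Fin n → ℤ) : S n x = ∑ i, x i := by simp [S]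
theorem D_apply (δ x : Fin n → ℤ) (i : Fin n) : D δ x i = δ i * x i := by simp [D, Matrix.mulVec_diagonal]

/-- the image of a diagonal map as a product of subgroups -/
theorem range_D (δ : Fin n → ℤ) :
    (D δ).range.toAddSubgroup = AddSubgroup.pi Set.univ fun i => AddSubgroup.zmultiples (δ i) := by
  ext x
  simp only [AddSubgroup.mem_pi, Set.mem_univ, true_implies, Submodule.mem_toAddSubgroup, LinearMap.mem_range,
    AddSubgroup.mem_zmultiples_iff, zsmul_eq_mul, Int.cast_id]
  constructor
  · rintro ⟨y, rfl⟩ i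
    exact ⟨y i, by rw [D_apply, mul_comm]⟩
  · intro h
    choose y hy using h
    exact ⟨y, funext fun i => by rw [D_apply, mul_comm, hy]⟩

theorem index_range_D (δ : Fin n → ℤ) : ((D δ).range.toAddSubgroup).index = (∏ i, δ i).natAbs := by
  rw [range_D, AddSubgroup.index_pi, Finset.prod_congr rfl fun i _ => Int.index_zmultiples (δ i)]
  exact (map_prod Int.natAbsHom δ _).symm

theorem D_injective {δ : Fin n → ℤ} (hδ : ∀ i, δ i ≠ 0) : Function.Injective (D δ) := by
  intro x y h
  funext i
  have := congrFun h i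
  rw [D_apply, D_apply] at this
  exact mul_left_cancel₀ (hδ i) this

/-- main index identity -/
theorem key (hn : 0 < n) {δ : Fin n → ℤ} (hδ : ∀ i, δ i ≠ 0) (R : AddSubgroup (Fin n → ℤ))
    (hR : R ≤ ((S n) ∘ₗ (D δ)).ker.toAddSubgroup) :
    R.relIndex ((S n) ∘ₗ (D δ)).ker.toAddSubgroup * (∏ i, δ i).natAbs =
      (univ.gcd δ).natAbs * (R.map (D δ).toAddMonoidHom).relIndex (S n).ker.toAddSubgroup := by
  set P := (D δ).range.toAddSubgroup with hP
  set K := (S n).ker.toAddSubgroup with hK
  set KD := ((S n) ∘ₗ (D δ)).ker.toAddSubgroup with hKD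
  have hinj : Function.Injective (D δ).toAddMonoidHom := D_injective hδ
  have hKDmap : KD.map (D δ).toAddMonoidHom = P ⊓ K := by
    ext x
    constructor
    · rintro ⟨y, hy, rfl⟩
      exact ⟨⟨y, rfl⟩, hy⟩
    · rintro ⟨⟨y, rfl⟩, hy⟩
      exact ⟨y, hy, rfl⟩
  have h1 : (R.map (D δ).toAddMonoidHom).relIndex K = R.relIndex KD * P.relIndex K := by
    rw [← AddSubgroup.relIndex_map_map_of_injective R KD hinj, hKDmap, ← AddSubgroup.inf_relIndex_right P K,
      AddSubgroup.relIndex_mul_relIndex]
    · rw [← hKDmap]; exact AddSubgroup.map_mono hR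
    · exact inf_le_right
  have h2 : P.relIndex K * (univ.gcd δ).natAbs = (∏ i, δ i).natAbs := by
    have hsup : P ⊔ K = (AddSubgroup.zmultiples (univ.gcd δ)).comap (S n).toAddMonoidHom := by
      apply le_antisymm
      · refine sup_le ?_ fun x hx => ?_
        · rintro _ ⟨y, rfl⟩
          show S n (D δ y) ∈ AddSubgroup.zmultiples _
          rw [Int.mem_zmultiples_iff, S_apply]
          exact Finset.dvd_sum fun i _ => by rw [D_apply]; exact (Finset.gcd_dvd (mem_univ i)).mul_right _
        · show S n x ∈ AddSubgroup.zmultiples _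
          rw [show S n x = 0 from hx]
          exact zero_mem _
      · intro x hx
        obtain ⟨m, hm⟩ : univ.gcd δ ∣ S n x := Int.mem_zmultiples_iff.1 hx
        obtain ⟨c, hc⟩ := Finset.gcd_eq_sum_mul univ δ
        refine AddSubgroup.mem_sup.2 ⟨D δ (fun i => c i * m), ⟨_, rfl⟩, x - D δ (fun i => c i * m), ?_, add_sub_cancel _ _⟩
        show S n (x - D δ (fun i => c i * m)) = 0
        rw [map_sub, hm, hc, sub_eq_zero, Finset.sum_mul, S_apply]
        exact Finset.sum_congr rfl fun i _ => by rw [D_apply]; ring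
    have hS : Function.Surjective (S n).toAddMonoidHom := fun m => ⟨Pi.single ⟨0, hn⟩ m, by
      show S n _ = m
      rw [S_apply]; simp⟩
    have hidx : (P ⊔ K).index = (univ.gcd δ).natAbs := by
      rw [hsup, AddSubgroup.index_comap_of_surjective _ hS, Int.index_zmultiples]
    rw [← AddSubgroup.relIndex_sup_left K P, ← hidx, AddSubgroup.relIndex_mul_index le_sup_left, index_range_D]
  rw [h1, ← h2]
  ring

theorem relIndex_range_comp {m : ℕ} {δ : Fin n → ℤ} (hn : 0 < n) (hδ : ∀ i, δ i ≠ 0) (f : (Fin n → ℤ) →ₗ[ℤ] (Fin m → ℤ))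
    (hrank : Module.finrank ℤ f.range = n - 1) (hf : f δ = 0) :
    (f ∘ₗ D δ).range.toAddSubgroup.relIndex f.range.toAddSubgroup * (univ.gcd δ).natAbs = (∏ i, δ i).natAbs := by
  obtain ⟨c, hc⟩ := Finset.gcd_eq_sum_mul univ δ
  set g := univ.gcd δ with hg
  have hg0 : g ≠ 0 := fun h => hδ ⟨0, hn⟩ (Finset.gcd_eq_zero_iff.1 h _ (mem_univ _))
  choose w hw using fun i => Finset.gcd_dvd (f := δ) (mem_univ i)
  have hcw : ∑ i, w i * c i = 1 := by
    refine mul_left_cancel₀ hg0 ?_
    rw [Finset.mul_sum, mul_one]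
    conv_rhs => rw [hc]
    exact Finset.sum_congr rfl fun i _ => by rw [← mul_assoc, ← hw i]
  have hδw : δ = g • w := funext hw
  have hfw : f w = 0 := by
    rw [hδw, map_smul] at hf
    exact (smul_eq_zero.1 hf).resolve_left hg0
  have hker : f.ker.toAddSubgroup = (zmultiplesHom (Fin n → ℤ) w).range := by
    apply le_antisymm
    · intro v hv
      have h1 : Module.finrank ℤ f.ker = 1 := by
        have h := Submodule.finrank_quotient_add_finrank f.ker
        rw [f.quotKerEquivRange.finrank_eq, hrank, Module.finrank_fin_fun] at h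
        omega
      have hdep : ¬ LinearIndependent ℤ ![(⟨v, hv⟩ : f.ker), ⟨δ, hf⟩] := fun h => by
        have := h.fintype_card_le_finrank
        rw [h1] at this
        simp at this
      obtain ⟨a, b, hab, hne⟩ : ∃ a b : ℤ, a • (⟨v, hv⟩ : f.ker) + b • ⟨δ, hf⟩ = 0 ∧ ¬(a = 0 ∧ b = 0) := by
        by_contra hh
        push Not at hh
        exact hdep (LinearIndependent.pair_iff.2 hh)
      have hab' : ∀ i, a * v i + b * δ i = 0 := fun i => congrFun (congrArg Subtype.val hab) i
      have ha : a ≠ 0 := by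
        intro ha
        have := hab' ⟨0, hn⟩
        rw [ha, zero_mul, zero_add, mul_eq_zero] at this
        exact hne ⟨ha, this.resolve_right (hδ _)⟩
      refine ⟨∑ j, v j * c j, funext fun i => mul_left_cancel₀ ha ?_⟩
      simp only [zmultiplesHom_apply, Pi.smul_apply, smul_eq_mul]
      rw [← mul_assoc, Finset.mul_sum]
      have e : ∀ j ∈ univ, a * (v j * c j) = (-b * g) * (w j * c j) := fun j _ => by
        have := hab' j; rw [hw j] at this; linear_combination c j * this
      rw [Finset.sum_congr rfl e, ← Finset.mul_sum, hcw, mul_one]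
      have := hab' i; rw [hw i] at this; linear_combination -this
    · rintro _ ⟨k, rfl⟩
      show f (k • w) = 0
      rw [map_smul, hfw, smul_zero]
  set P := (D δ).range.toAddSubgroup with hP
  set K := f.ker.toAddSubgroup with hK
  have h2 : P.relIndex K = g.natAbs := by
    rw [hker, ← AddSubgroup.index_comap, ← Int.index_zmultiples g]
    congr 1
    ext k
    rw [Int.mem_zmultiples_iff]
    constructor
    · rintro ⟨y, hy⟩
      refine ⟨∑ i, w i * c i * y i, ?_⟩
      have hy' : ∀ i, δ i * y i = k * w i := fun i => by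
        rw [← D_apply, hy]
        simp [zmultiplesHom_apply]
      rw [Finset.mul_sum]
      calc k = k * ∑ i, w i * c i := by rw [hcw, mul_one]
        _ = ∑ i, g * (w i * c i * y i) := by
          rw [Finset.mul_sum]
          exact Finset.sum_congr rfl fun i _ => by
            have := hy' i; rw [hw i] at this; linear_combination -(c i) * this
    · rintro ⟨q, rfl⟩
      exact ⟨fun _ => q, funext fun i => by rw [D_apply, hw i]; simp [zmultiplesHom_apply]; ring⟩
  have h3 : (f ∘ₗ D δ).range.toAddSubgroup.relIndex f.range.toAddSubgroup = (P ⊔ K).index := by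
    have e1 : (f ∘ₗ D δ).range.toAddSubgroup = P.map f.toAddMonoidHom := by
      ext x; constructor
      · rintro ⟨y, rfl⟩; exact ⟨D δ y, ⟨y, rfl⟩, rfl⟩
      · rintro ⟨_, ⟨y, rfl⟩, rfl⟩; exact ⟨y, rfl⟩
    have e2 : f.range.toAddSubgroup = (⊤ : AddSubgroup (Fin n → ℤ)).map f.toAddMonoidHom := by
      ext x; constructor
      · rintro ⟨y, rfl⟩; exact ⟨y, trivial, rfl⟩
      · rintro ⟨y, -, rfl⟩; exact ⟨y, rfl⟩
    rw [e1, e2, AddSubgroup.relIndex_map_map, top_sup_eq, AddSubgroup.relIndex_top_right]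
    rfl
  rw [h3, ← h2, ← AddSubgroup.relIndex_sup_left K P, mul_comm, AddSubgroup.relIndex_mul_index le_sup_left, index_range_D]

end Groth.Agent.H6.CompLat
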