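import Mathlib

set_option autoImplicit false
set_option linter.all false
universe u v w x

open Function Set Submodule Module

noncomputable section

namespace Groth.Agent.H6.CorootPres

variable {ι : Type u} {R : Type v} {M : Type w} {N : Type x} [CommRing R] [IsDomain R] [CharZero R]
    [AddCommGroup M] [Module R M] [AddCommGroup N] [Module R N] (P : RootPairing ι R M N)
    [Finite ι] [P.IsCrystallographic]

def row (i : ι) : ι → ℚ := fun k => (P.pairingIn ℤ i k : ℚ)

abbrev space : Submodule ℚ (ι → ℚ) := span ℚ (range (row P))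

omit [IsDomain R] [Finite ι] [CharZero R] in
theorem cast_pairingIn (i j : ι) : ((P.pairingIn ℤ i j : ℤ) : R) = P.pairing i j := by
  rw [← P.algebraMap_pairingIn ℤ]; rfl

omit [IsDomain R] [Finite ι] in
theorem pairingIn_two (i : ι) : P.pairingIn ℤ i i = 2 := by
  apply Int.cast_injective (α := R)
  rw [cast_pairingIn]
  simp

omit [IsDomain R] [Finite ι] in
theorem pairingIn_perm_left (i j k : ι) :
    P.pairingIn ℤ (P.reflectionPerm i j) k = P.pairingIn ℤ j k - P.pairingIn ℤ j i * P.pairingIn ℤ i k := by
  apply Int.cast_injective (α := R)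
  push_cast
  simp only [cast_pairingIn]
  show P.toLinearMap (P.root (P.reflectionPerm i j)) (P.coroot k) = _
  rw [P.root_reflectionPerm, P.reflection_apply_root, map_sub, map_smul]
  rfl

omit [IsDomain R] [Finite ι] in
theorem pairingIn_perm_right (i j k : ι) :
    P.pairingIn ℤ k (P.reflectionPerm i j) = P.pairingIn ℤ k j - P.pairingIn ℤ i j * P.pairingIn ℤ k i := by
  apply Int.cast_injective (α := R)
  push_cast
  simp only [cast_pairingIn, RootPairing.pairing, P.coroot_reflectionPerm, P.coreflection_apply]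
  simp [mul_comm]

theorem eq_of_two_two {i j : ι} (h1 : P.pairingIn ℤ i j = 2) (h2 : P.pairingIn ℤ j i = 2) : i = j := by
  haveI : Module.IsReflexive R M := .of_isPerfPair P.toLinearMap
  refine (P.pairing_two_two_iff i j).1 ⟨?_, ?_⟩
  · rw [← cast_pairingIn, h1]; simp
  · rw [← cast_pairingIn, h2]; simp

def proj (j : ι) : Module.Dual ℚ (space P) := (LinearMap.proj j).comp (space P).subtype

def ratPairing : RootPairing ι ℚ (space P) (Module.Dual ℚ (space P)) where
  toLinearMap := Module.Dual.eval ℚ (space P)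
  root := ⟨fun i => ⟨row P i, subset_span (mem_range_self i)⟩, fun i j h => by
    have h' : ∀ k, P.pairingIn ℤ i k = P.pairingIn ℤ j k := fun k => by
      exact Int.cast_injective (α := ℚ) (congrFun (congrArg Subtype.val h) k)
    exact eq_of_two_two P ((h' j).trans (pairingIn_two P j)) ((h' i).symm.trans (pairingIn_two P i))⟩
  coroot := ⟨proj P, fun i j h => by
    have h' : ∀ k, P.pairingIn ℤ k i = P.pairingIn ℤ k j := fun k => by
      exact Int.cast_injective (α := ℚ) (LinearMap.congr_fun h ⟨row P k, subset_span (mem_range_self k)⟩)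
    exact eq_of_two_two P ((h' i).symm.trans (pairingIn_two P i)) ((h' j).trans (pairingIn_two P j))⟩
  root_coroot_two i := by
    show ((P.pairingIn ℤ i i : ℤ) : ℚ) = 2
    rw [pairingIn_two]; norm_num
  reflectionPerm := P.reflectionPerm
  reflectionPerm_root i j := by
    refine Subtype.ext (funext fun k => ?_)
    show ((P.pairingIn ℤ j k : ℤ) : ℚ) - (P.pairingIn ℤ j i : ℚ) * (P.pairingIn ℤ i k : ℚ) =
      ((P.pairingIn ℤ (P.reflectionPerm i j) k : ℤ) : ℚ)
    rw [pairingIn_perm_left]; push_cast; ring
  reflectionPerm_coroot i j := by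
    refine LinearMap.ext_on_range (v := fun k => (⟨row P k, subset_span (mem_range_self k)⟩ : space P)) ?_ fun k => ?_
    · rw [← span_setOfPred_mem_eq_top (s := range (row P))]
      congr 1
      ext ⟨x, hx⟩
      simp
    show ((P.pairingIn ℤ k j : ℤ) : ℚ) - (P.pairingIn ℤ i j : ℚ) * (P.pairingIn ℤ k i : ℚ) =
      ((P.pairingIn ℤ k (P.reflectionPerm i j) : ℤ) : ℚ)
    rw [pairingIn_perm_right]; push_cast; ring

theorem ratPairing_pairing (i j : ι) : (ratPairing P).pairing i j = (P.pairingIn ℤ i j : ℚ) := rfl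

instance : (ratPairing P).IsCrystallographic :=
  ⟨fun i j => ⟨P.pairingIn ℤ i j, by rw [ratPairing_pairing]; rfl⟩⟩

instance [P.IsReduced] : (ratPairing P).IsReduced := by
  haveI : Module.IsReflexive R M := .of_isPerfPair P.toLinearMap
  refine (RootPairing.isReduced_iff _).2 fun i j hdep => ?_
  rcases eq_or_ne i j with rfl | hne
  · exact Or.inl rfl
  have h4 := ((ratPairing P).coxeterWeight_eq_four_iff_not_linearIndependent (i := i) (j := j)).2 hdep
  rw [RootPairing.coxeterWeight, ratPairing_pairing, ratPairing_pairing] at h4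
  have hz : P.pairingIn ℤ i j * P.pairingIn ℤ j i = 4 := by exact_mod_cast h4
  have h4' : P.coxeterWeight i j = 4 := by
    rw [RootPairing.coxeterWeight, ← cast_pairingIn, ← cast_pairingIn, ← Int.cast_mul, hz]; simp
  have hd := (P.coxeterWeight_eq_four_iff_not_linearIndependent (i := i) (j := j)).1 h4'
  have hor : P.root i = -P.root j := by
    by_contra hne'
    exact hd (RootPairing.IsReduced.linearIndependent P hne hne')
  have hperm : i = P.reflectionPerm j j := P.root.injective (by
    rw [hor, P.root_reflectionPerm, P.reflection_apply_self])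
  refine Or.inr ?_
  apply Subtype.ext
  funext k
  show ((P.pairingIn ℤ i k : ℤ) : ℚ) = -((P.pairingIn ℤ j k : ℤ) : ℚ)
  rw [hperm, pairingIn_perm_left, pairingIn_two]
  push_cast
  ring

theorem span_rows : span ℚ (range fun k => (⟨row P k, subset_span (mem_range_self k)⟩ : space P)) = ⊤ := by
  rw [← span_setOfPred_mem_eq_top (s := range (row P))]
  congr 1
  ext ⟨x, hx⟩
  simp

instance : (ratPairing P).IsRootSystem where
  span_root_eq_top := span_rows P
  span_coroot_eq_top := by
    classical
    haveI := Fintype.ofFinite ι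
    refine eq_top_iff.2 fun φ _ => ?_
    obtain ⟨g, hg⟩ := LinearMap.exists_extend φ
    have : φ = ∑ j, g (Pi.single j 1) • (ratPairing P).coroot j := by
      refine LinearMap.ext fun y => ?_
      rw [← hg, LinearMap.sum_apply]
      show g (y : ι → ℚ) = ∑ j, g (Pi.single j 1) • (y : ι → ℚ) j
      conv_lhs => rw [pi_eq_sum_univ' (y : ι → ℚ)]
      rw [map_sum]
      exact Finset.sum_congr rfl fun j _ => by rw [map_smul, smul_eq_mul, smul_eq_mul, mul_comm]
    rw [this]
    exact sum_mem fun j _ => smul_mem _ _ (subset_span ⟨j, rfl⟩)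

theorem coroot_relation (i j : ι) :
    P.coroot (P.reflectionPerm i j) = P.coroot j - (P.pairingIn ℤ i j) • P.coroot i := by
  rw [P.coroot_reflectionPerm, P.coreflection_apply]
  congr 1
  rw [← Int.cast_smul_eq_zsmul R, cast_pairingIn]
  rfl

theorem ker_eq_span [P.IsReduced] :
    LinearMap.ker (Finsupp.linearCombination ℤ (fun i : ι => (P.coroot i : N))) =
      Submodule.span ℤ (Set.range fun p : ι × ι =>
        Finsupp.single (P.reflectionPerm p.1 p.2) (1 : ℤ) - Finsupp.single p.2 1 +
          P.pairingIn ℤ p.1 p.2 • Finsupp.single p.1 1) := by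
  set S := Submodule.span ℤ (Set.range fun p : ι × ι =>
        Finsupp.single (P.reflectionPerm p.1 p.2) (1 : ℤ) - Finsupp.single p.2 1 +
          P.pairingIn ℤ p.1 p.2 • Finsupp.single p.1 1) with hS
  have hle : S ≤ LinearMap.ker (Finsupp.linearCombination ℤ (fun i : ι => (P.coroot i : N))) := by
    rw [hS, span_le]
    rintro _ ⟨⟨a, c⟩, rfl⟩
    simp only [SetLike.mem_coe, LinearMap.mem_ker, map_add, map_sub, map_smul, Finsupp.linearCombination_single,
      one_smul, coroot_relation]
    abel
  refine le_antisymm (fun x hx => ?_) hle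
  obtain ⟨b⟩ := (ratPairing P).nonempty_base
  set T := Finsupp.supported ℤ ℤ (b.support : Set ι)
  have hstep : ∀ a c, Finsupp.single a (1 : ℤ) ∈ S ⊔ T → Finsupp.single c (1 : ℤ) ∈ S ⊔ T →
      Finsupp.single (P.reflectionPerm a c) (1 : ℤ) ∈ S ⊔ T := fun a c ha hc => by
    have hr : Finsupp.single (P.reflectionPerm a c) (1 : ℤ) - Finsupp.single c 1 +
        P.pairingIn ℤ a c • Finsupp.single a 1 ∈ S ⊔ T :=
      le_sup_left (a := S) (subset_span ⟨(a, c), rfl⟩)
    have := sub_mem (add_mem hr hc) (smul_mem _ (P.pairingIn ℤ a c) ha)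
    have e : Finsupp.single (P.reflectionPerm a c) (1 : ℤ) - Finsupp.single c 1 +
        P.pairingIn ℤ a c • Finsupp.single a 1 + Finsupp.single c 1 - P.pairingIn ℤ a c • Finsupp.single a 1 =
        Finsupp.single (P.reflectionPerm a c) (1 : ℤ) := by abel
    rwa [e] at this
  have hall : ∀ i, Finsupp.single i (1 : ℤ) ∈ S ⊔ T := fun i =>
    b.induction_reflect i (p := fun i => Finsupp.single i (1 : ℤ) ∈ S ⊔ T)
      (fun i hi => hstep i i hi hi)
      (fun i hi => le_sup_right (a := S) (Finsupp.single_mem_supported ℤ 1 hi))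
      (fun i j hi hj => hstep j i (le_sup_right (a := S) (Finsupp.single_mem_supported ℤ 1 hj)) hi)
  have hx' : x ∈ S ⊔ T := by
    rw [← Finsupp.sum_single x]
    refine Submodule.sum_mem _ fun i _ => ?_
    rw [← Finsupp.smul_single_one]
    exact smul_mem _ _ (hall i)
  obtain ⟨s, hs, t, ht, rfl⟩ := mem_sup.1 hx'
  suffices t = 0 by rw [this, add_zero]; exact hs
  have ht0 : Finsupp.linearCombination ℤ (fun i : ι => (P.coroot i : N)) t = 0 := by
    have := hx
    rwa [LinearMap.mem_ker, map_add, LinearMap.mem_ker.1 (hle hs), zero_add] at this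
  classical
  let l : ι →₀ ℚ := t.mapRange (fun z : ℤ => (z : ℚ)) (by simp)
  have hl : l ∈ Finsupp.supported ℚ ℚ (b.support : Set ι) := fun i hi =>
    ht (Finsupp.support_mapRange hi)
  have hl0 : Finsupp.linearCombination ℚ (ratPairing P).coroot l = 0 := by
    refine LinearMap.ext_on_range (v := fun k => (⟨row P k, subset_span (mem_range_self k)⟩ : space P)) ?_ fun k => ?_
    · rw [← span_setOfPred_mem_eq_top (s := range (row P))]
      congr 1
      ext ⟨x, hx⟩
      simp
    have h := congrArg (P.toLinearMap (P.root k)) ht0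
    rw [Finsupp.linearCombination_apply, Finsupp.sum, map_sum, map_zero] at h
    have h' : ((∑ i ∈ t.support, t i * P.pairingIn ℤ k i : ℤ) : R) = 0 := by
      rw [← h]
      push_cast
      refine Finset.sum_congr rfl fun i _ => ?_
      rw [map_zsmul, zsmul_eq_mul, cast_pairingIn]
      rfl
    have h'' : (∑ i ∈ t.support, t i * P.pairingIn ℤ k i) = 0 := by exact_mod_cast h'
    rw [Finsupp.linearCombination_apply, Finsupp.sum_mapRange_index (by simp), Finsupp.sum,
      LinearMap.sum_apply, LinearMap.zero_apply]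
    calc (∑ i ∈ t.support, ((t i : ℚ) • (ratPairing P).coroot i) ⟨row P k, subset_span (mem_range_self k)⟩)
        = ((∑ i ∈ t.support, t i * P.pairingIn ℤ k i : ℤ) : ℚ) := by
          push_cast
          rfl
      _ = 0 := by rw [h'']; simp
  have := (linearIndepOn_iff.1 b.linearIndepOn_coroot) l hl hl0
  refine Finsupp.ext fun i => ?_
  have h := DFunLike.congr_fun this i
  simpa [l] using h

end Groth.Agent.H6.CorootPres
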