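import Mathlib
import Groth.Prelude.Def_Found
import Groth.Agent.S4562
import Groth.Agent.Lib.JapaneseLocal

set_option autoImplicit false
set_option linter.all false
set_option maxHeartbeats 800000

/-! Finiteness of normalisation for finitely generated domains over a field. -/

universe u

namespace Groth.Agent.H6.FieldNormFinite

open MvPolynomial

theorem core (k k' : Type u) [Field k] [Field k'] [Algebra k k'] [FiniteDimensional k k'] (n : ℕ) (F : Type u) [Field F]
    [Algebra (MvPolynomial (Fin n) k) F] [Algebra (FractionRing (MvPolynomial (Fin n) k)) F]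
    [IsScalarTower (MvPolynomial (Fin n) k) (FractionRing (MvPolynomial (Fin n) k)) F]
    [FiniteDimensional (FractionRing (MvPolynomial (Fin n) k)) F] (p : ℕ) [ExpChar k p] (N : ℕ) (s : Finset F)
    (hs : IntermediateField.adjoin (FractionRing (MvPolynomial (Fin n) k)) (s : Set F) = ⊤)
    (a b : F → MvPolynomial (Fin n) k)
    (hab : ∀ x ∈ s, x ^ (p ^ N) = algebraMap (FractionRing (MvPolynomial (Fin n) k)) F
      (algebraMap _ (FractionRing (MvPolynomial (Fin n) k)) (a x) / algebraMap _ (FractionRing (MvPolynomial (Fin n) k)) (b x)))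
    (C : Finset k) (hCa : ∀ x ∈ s, ∀ m ∈ (a x).support, (a x).coeff m ∈ C) (hCb : ∀ x ∈ s, ∀ m ∈ (b x).support, (b x).coeff m ∈ C)
    (hroots : ∀ c ∈ C, ∃ r : k', r ^ (p ^ N) = algebraMap k k' c) :
    Module.Finite (MvPolynomial (Fin n) k) (integralClosure (MvPolynomial (Fin n) k) F) := by
  classical
  let P := MvPolynomial (Fin n) k
  let K₀ := FractionRing P
  let q := p ^ N
  have hq0 : 0 < q := pow_pos (expChar_pos k p) _
  haveI : ExpChar P p := expChar_of_injective_algebraMap (FaithfulSMul.algebraMap_injective k P) p
  haveI : ExpChar K₀ p := expChar_of_injective_algebraMap (IsFractionRing.injective P K₀) p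
  haveI : ExpChar k' p := expChar_of_injective_algebraMap (algebraMap k k').injective p
  choose! r hr using hroots
  let P' := MvPolynomial (Fin n) k'
  haveI : ExpChar P' p := expChar_of_injective_algebraMap (FaithfulSMul.algebraMap_injective k' P') p
  let φ : P →+* P' := MvPolynomial.eval₂Hom (MvPolynomial.C.comp (algebraMap k k')) (fun i => X i ^ q)
  have hφC : ∀ c, φ (MvPolynomial.C c) = MvPolynomial.C (algebraMap k k' c) := fun c => eval₂_C _ _ c
  have hφX : ∀ i, φ (X i) = X i ^ q := fun i => eval₂_X _ _ i
  have hroot : ∀ f : P, (∀ m ∈ f.support, f.coeff m ∈ C) → ∃ f' : P', f' ^ q = φ f := by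
    intro f hf
    refine ⟨∑ m ∈ f.support.attach, monomial m.1 (r (f.coeff m.1)), ?_⟩
    rw [← iterateFrobenius_def p, map_sum]
    conv_rhs => rw [f.as_sum, map_sum, ← Finset.sum_attach]
    refine Finset.sum_congr rfl fun m _ => ?_
    rw [iterateFrobenius_def, monomial_pow]
    have hc : (r (f.coeff m.1)) ^ q = algebraMap k k' (f.coeff m.1) :=
      hr _ (hf _ m.2)
    show monomial (q • m.1) (_ ^ q) = φ _
    rw [hc]
    conv_rhs => rw [monomial_eq]
    rw [monomial_eq, map_mul, map_finsuppProd, Finsupp.prod_of_support_subset (q • m.1) Finsupp.support_smul _ (fun i _ => pow_zero _)]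
    simp only [hφC, hφX, map_pow, ← pow_mul, Finsupp.prod, Finsupp.smul_apply, smul_eq_mul]
  letI : Algebra P P' := φ.toAlgebra
  haveI : IsScalarTower k P P' := IsScalarTower.of_algebraMap_eq fun c => by
    show MvPolynomial.C (algebraMap k k' c) = φ (MvPolynomial.C c)
    exact (hφC c).symm
  have hφ : Function.Injective φ := by
    have : φ = ((MvPolynomial.expand q).toRingHom).comp (MvPolynomial.map (algebraMap k k')) := by
      refine MvPolynomial.ringHom_ext (fun c => by rw [hφC]; simp) (fun i => by rw [hφX]; simp)
    rw [this]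
    exact (MvPolynomial.expand_injective hq0).comp (MvPolynomial.map_injective _ (algebraMap k k').injective)
  haveI : FaithfulSMul P P' := (faithfulSMul_iff_algebraMap_injective _ _).2 hφ
  haveI : Algebra.IsIntegral P P' := ⟨fun f => by
    induction f using MvPolynomial.induction_on with
    | C c => exact (Algebra.IsIntegral.isIntegral (R := k) c).map (IsScalarTower.toAlgHom k k' P') |>.tower_top
    | add f g hf hg => exact hf.add hg
    | mul_X f i hf =>
      refine hf.mul ⟨Polynomial.X ^ q - Polynomial.C (X i), Polynomial.monic_X_pow_sub_C _ hq0.ne', ?_⟩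
      rw [Polynomial.eval₂_sub, Polynomial.eval₂_pow, Polynomial.eval₂_X, Polynomial.eval₂_C]
      exact sub_eq_zero.2 (hφX i).symm⟩
  haveI : Algebra.FiniteType P P' := by
    haveI : Algebra.FiniteType k P' := Algebra.FiniteType.trans (S := k') inferInstance inferInstance
    exact Algebra.FiniteType.of_restrictScalars_finiteType k P P'
  haveI : Module.Finite P P' := Algebra.IsIntegral.finite
  let K' := FractionRing P'
  letI : Algebra K₀ K' := FractionRing.liftAlgebra P K'
  haveI : IsScalarTower P K₀ K' := FractionRing.isScalarTower_liftAlgebra P K'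
  haveI : ExpChar K' p := expChar_of_injective_algebraMap (algebraMap K₀ K').injective p
  have hsplit : ∀ x ∈ (s : Set F), IsIntegral K₀ x ∧ ((minpoly K₀ x).map (algebraMap K₀ K')).Splits := by
    intro x hx
    refine ⟨Algebra.IsIntegral.isIntegral x, ?_⟩
    obtain ⟨a', ha'⟩ := hroot (a x) (hCa x hx)
    obtain ⟨b', hb'⟩ := hroot (b x) (hCb x hx)
    let c := algebraMap P K₀ (a x) / algebraMap P K₀ (b x)
    let R := algebraMap P' K' a' / algebraMap P' K' b'
    have hR : R ^ q = algebraMap K₀ K' c := by
      simp only [R, c, div_pow, ← map_pow, ha', hb', map_div₀, ← IsScalarTower.algebraMap_apply P K₀ K']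
      rw [IsScalarTower.algebraMap_apply P P' K', IsScalarTower.algebraMap_apply P P' K']
      rfl
    have hdvd : minpoly K₀ x ∣ (Polynomial.X ^ q - Polynomial.C c) := minpoly.dvd _ _ (by
      rw [map_sub, map_pow, Polynomial.aeval_X, Polynomial.aeval_C]
      exact sub_eq_zero.2 (hab x hx))
    have hpow : ((Polynomial.X : Polynomial K') - Polynomial.C R) ^ q = (Polynomial.X ^ q - Polynomial.C c).map (algebraMap K₀ K') := by
      rw [sub_pow_expChar_pow, Polynomial.map_sub, Polynomial.map_pow, Polynomial.map_X, Polynomial.map_C, ← map_pow, hR]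
    refine (hpow ▸ (Polynomial.Splits.X_sub_C R).pow q).of_dvd ?_ (Polynomial.map_dvd _ hdvd)
    exact (Polynomial.monic_X_pow_sub_C c hq0.ne').map _ |>.ne_zero
  obtain ⟨j⟩ := IntermediateField.nonempty_algHom_adjoin_of_splits hsplit
  let j' : F →ₐ[K₀] K' := j.comp ((IntermediateField.equivOfEq hs).symm.toAlgHom.comp IntermediateField.topEquiv.symm.toAlgHom)
  let J : F →ₐ[P] K' := j'.restrictScalars P
  have hfin' : Module.Finite P (integralClosure P K') := by
    let ι : P' →ₐ[P] integralClosure P K' := (IsScalarTower.toAlgHom P P' K').codRestrict _ fun x =>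
      (Algebra.IsIntegral.isIntegral x).map (IsScalarTower.toAlgHom P P' K')
    refine Module.Finite.of_surjective ι.toLinearMap fun z => ?_
    obtain ⟨y, hy⟩ := IsIntegrallyClosed.algebraMap_eq_of_integral (R := P') (K := K') (z.2.tower_top (A := P'))
    exact ⟨y, Subtype.ext hy⟩
  exact Module.Finite.of_injective J.mapIntegralClosure.toLinearMap fun x y hxy => Subtype.ext (j'.toRingHom.injective
    (congrArg Subtype.val hxy))

/-- `k[t]` is Japanese. -/
theorem isN2_mvPolynomial (k : Type u) [Field k] (n : ℕ) : CAlg.IsN2 (MvPolynomial (Fin n) k) := by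
  classical
  refine Groth.Agent.S4562.result _ ?_
  intro F _ _ _ _ hfin hpi
  let P := MvPolynomial (Fin n) k
  let K₀ := FractionRing P
  haveI := hfin
  haveI := hpi
  obtain ⟨p, hk⟩ := ExpChar.exists k
  haveI : ExpChar P p := expChar_of_injective_algebraMap (FaithfulSMul.algebraMap_injective k P) p
  haveI : ExpChar K₀ p := expChar_of_injective_algebraMap (IsFractionRing.injective P K₀) p
  obtain ⟨s, hs⟩ : ∃ s : Finset F, IntermediateField.adjoin K₀ (s : Set F) = ⊤ :=
    IntermediateField.fg_def.1 (IntermediateField.fg_of_noetherian _) |>.elim fun t ht => ⟨ht.1.toFinset, by rw [Set.Finite.coe_toFinset]; exact ht.2⟩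
  let e : F → ℕ := fun x => (IsPurelyInseparable.pow_mem K₀ p x).choose
  let q := p ^ (∑ x ∈ s, e x)
  have hq : ∀ x ∈ s, ∃ a b : P, b ≠ 0 ∧ x ^ q = algebraMap K₀ F (algebraMap P K₀ a / algebraMap P K₀ b) := by
    intro x hx
    obtain ⟨c, hc⟩ := (IsPurelyInseparable.pow_mem K₀ p x).choose_spec
    obtain ⟨d, hd⟩ : ∃ d, (∑ y ∈ s, e y) = e x + d := Nat.exists_eq_add_of_le (Finset.single_le_sum (fun _ _ => Nat.zero_le _) hx)
    obtain ⟨a, b, hb, hab⟩ := IsFractionRing.div_surjective P (c ^ p ^ d)
    refine ⟨a, b, nonZeroDivisors.ne_zero hb, ?_⟩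
    rw [hab, map_pow, hc]
    simp only [q, hd, pow_add, pow_mul]
    rfl
  choose! a b hb hab using hq
  -- the finitely many coefficients
  let C : Finset k := s.biUnion fun x => ((a x).support.image fun m => (a x).coeff m) ∪ ((b x).support.image fun m => (b x).coeff m)
  have hq0 : 0 < q := pow_pos (expChar_pos k p) _
  choose r hr using fun c : k => IsAlgClosed.exists_pow_nat_eq (algebraMap k (AlgebraicClosure k) c) hq0
  let k' := IntermediateField.adjoin k (r '' (C : Set k))
  haveI : FiniteDimensional k k' := IntermediateField.finiteDimensional_adjoin (fun x _ => Algebra.IsIntegral.isIntegral x)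
  haveI : ExpChar k' p := expChar_of_injective_algebraMap (algebraMap k k').injective p
  exact core k k' n F p (∑ x ∈ s, e x) s hs a b (fun x hx => hab x hx) C
    (fun x hx m hm => Finset.mem_biUnion.2 ⟨x, hx, Finset.mem_union_left _ (Finset.mem_image.2 ⟨m, hm, rfl⟩)⟩)
    (fun x hx m hm => Finset.mem_biUnion.2 ⟨x, hx, Finset.mem_union_right _ (Finset.mem_image.2 ⟨m, hm, rfl⟩)⟩)
    (fun c hc => ⟨⟨r c, IntermediateField.subset_adjoin _ _ ⟨c, hc, rfl⟩⟩, Subtype.ext (hr c)⟩)

theorem finite_frac (P A K : Type u) [CommRing P] [IsDomain P] [CommRing A] [IsDomain A] [Field K] [Algebra P A] [Algebra A K]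
    [Algebra P K] [IsScalarTower P A K] [IsFractionRing A K] [FaithfulSMul P A] [Module.Finite P A]
    [Algebra (FractionRing P) K] [IsScalarTower P (FractionRing P) K] : FiniteDimensional (FractionRing P) K := by
  obtain ⟨G, hG⟩ := (Module.Finite.fg_top (R := P) (M := A))
  haveI := IntermediateField.finiteDimensional_adjoin (K := FractionRing P) (S := (algebraMap A K) '' (G : Set A))
    (fun x hx => by obtain ⟨g, -, rfl⟩ := hx; exact ((Algebra.IsIntegral.isIntegral (R := P) g).map (IsScalarTower.toAlgHom P A K)).tower_top)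
  let S := IntermediateField.adjoin (FractionRing P) ((algebraMap A K) '' (G : Set A))
  have hA : ∀ a : A, algebraMap A K a ∈ S := fun a => by
    have ha : a ∈ Submodule.span P (G : Set A) := hG ▸ Submodule.mem_top
    induction ha using Submodule.span_induction with
    | mem x hx => exact IntermediateField.subset_adjoin _ _ ⟨x, hx, rfl⟩
    | zero => rw [map_zero]; exact zero_mem _
    | add x y _ _ hx hy => rw [map_add]; exact add_mem hx hy
    | smul c x _ hx =>
      rw [Algebra.smul_def, map_mul, ← IsScalarTower.algebraMap_apply P A K, IsScalarTower.algebraMap_apply P (FractionRing P) K]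
      exact mul_mem (S.algebraMap_mem _) hx
  have htop : S = ⊤ := eq_top_iff.2 fun z _ => by
    obtain ⟨x, y, -, rfl⟩ := IsFractionRing.div_surjective A z
    exact div_mem (hA x) (hA y)
  have : FiniteDimensional (FractionRing P) S := inferInstance
  rw [htop] at this
  exact Module.Finite.equiv (IntermediateField.topEquiv (F := FractionRing P) (E := K)).toLinearEquiv

/-- Finiteness of integral closure of finitely generated domains over a field. -/
theorem finite_integralClosure (k A K L : Type u) [Field k] [CommRing A] [IsDomain A]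
    [Algebra k A] [Algebra.FiniteType k A] [Field K] [Field L] [Algebra A K] [IsFractionRing A K] [Algebra K L]
    [FiniteDimensional K L] [Algebra A L] [IsScalarTower A K L] : Module.Finite A (integralClosure A L) := by
  obtain ⟨n, g, hg, hgf⟩ := exists_finite_inj_algHom_of_fg k A
  let P := MvPolynomial (Fin n) k
  letI : Algebra P A := g.toRingHom.toAlgebra
  haveI : Module.Finite P A := hgf
  haveI : FaithfulSMul P A := (faithfulSMul_iff_algebraMap_injective _ _).2 hg
  letI : Algebra P K := ((algebraMap A K).comp (algebraMap P A)).toAlgebra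
  haveI : IsScalarTower P A K := IsScalarTower.of_algebraMap_eq' rfl
  letI : Algebra P L := ((algebraMap A L).comp (algebraMap P A)).toAlgebra
  haveI : IsScalarTower P A L := IsScalarTower.of_algebraMap_eq' rfl
  haveI : FaithfulSMul P K := (faithfulSMul_iff_algebraMap_injective _ _).2 ((IsFractionRing.injective A K).comp hg)
  haveI : IsScalarTower P K L := IsScalarTower.of_algebraMap_eq fun r => IsScalarTower.algebraMap_apply A K L (algebraMap P A r)
  let K₀ := FractionRing P
  letI : Algebra K₀ K := FractionRing.liftAlgebra P K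
  haveI : IsScalarTower P K₀ K := FractionRing.isScalarTower_liftAlgebra P K
  haveI : Algebra.IsIntegral P A := Algebra.IsIntegral.of_finite P A
  haveI : FiniteDimensional K₀ K := finite_frac P A K
  letI : Algebra K₀ L := ((algebraMap K L).comp (algebraMap K₀ K)).toAlgebra
  haveI : IsScalarTower K₀ K L := IsScalarTower.of_algebraMap_eq' rfl
  haveI : IsScalarTower P K₀ L := IsScalarTower.of_algebraMap_eq fun r => by
    rw [IsScalarTower.algebraMap_apply K₀ K L, ← IsScalarTower.algebraMap_apply P K₀ K, ← IsScalarTower.algebraMap_apply P K L]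
  haveI : FiniteDimensional K₀ L := Module.Finite.trans K L
  haveI : Module.Finite P (integralClosure P L) := isN2_mvPolynomial k n L inferInstance
  have heq : (integralClosure A L).toSubmodule.restrictScalars P = (integralClosure P L).toSubmodule := by
    ext x
    exact ⟨fun hx => isIntegral_trans x hx, fun hx => (show IsIntegral P x from hx).tower_top⟩
  have : Module.Finite P (integralClosure A L) :=
    Module.Finite.iff_fg.2 (show ((integralClosure A L).toSubmodule.restrictScalars P).FG by
      rw [heq]; exact Module.Finite.iff_fg.1 (inferInstance : Module.Finite P (integralClosure P L)))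
  exact Module.Finite.of_restrictScalars_finite P A _

end Groth.Agent.H6.FieldNormFinite
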