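import Mathlib
import Groth.Prelude.Def_Found
import Groth.Agent.Lib.JapaneseLocal
import Groth.Agent.Lib.H6.FieldNormFinite

set_option autoImplicit false
set_option linter.all false
set_option maxHeartbeats 1000000

/-! Curves through a point in algebras of finite type over Nagata rings, and their normalisations. -/

universe u

namespace Groth.Agent.H6.CurveNorm

/-- In a Noetherian domain where all nonzero primes below `m` contain `f ≠ 0`, there is no prime strictly between `0` and `m`. -/
theorem eq_of_forall_mem {B : Type u} [CommRing B] [IsDomain B] [IsNoetherianRing B] (m : Ideal B) [m.IsPrime]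
    (f : B) (hf0 : f ≠ 0) (h : ∀ Q : Ideal B, Q.IsPrime → Q ≠ ⊥ → Q ≤ m → f ∈ Q)
    (Q : Ideal B) [Q.IsPrime] (hQ : Q ≠ ⊥) (hQm : Q ≤ m) : Q = m := by
  classical
  have hht : ∀ Q'' : Ideal B, Q''.IsPrime → Q'' ≠ ⊥ → ∀ Q' : Ideal B, Q'.IsPrime → Q'.height ≤ 1 → Q'' ≤ Q' → Q'' = Q' := by
    intro Q'' hp hne Q' hp' hle hsub
    have h1 : (⊥ : Ideal B).height < Q''.height := Ideal.height_strict_mono_of_isPrime (bot_lt_iff_ne_bot.2 hne)
    have h2 : (1 : ℕ∞) ≤ Q''.height := ENat.one_le_iff_ne_zero.2 fun h => not_lt_zero (h ▸ h1)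
    exact Ideal.eq_of_le_of_height_le (I := Q'') (J := Q') hsub (hle.trans h2)
  obtain ⟨F, hF⟩ : ∃ F : Finset (Ideal B), ∀ J, J ∈ F ↔ J ∈ (Ideal.span {f}).minimalPrimes :=
    ⟨(Ideal.finite_minimalPrimes_of_isNoetherianRing B (Ideal.span {f})).toFinset, fun J => Set.Finite.mem_toFinset _⟩
  have hne : ∀ J ∈ F, J ≠ ⊥ := fun J hJ e => hf0 (by
    have := ((hF J).1 hJ).1.2 (Ideal.mem_span_singleton_self f)
    rwa [e, Ideal.mem_bot] at this)
  have hcov : (m : Set B) ⊆ ⋃ J ∈ (↑(F.filter (fun J => J ≤ m)) : Set (Ideal B)), (J : Set B) := by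
    intro x hx
    rcases eq_or_ne x 0 with rfl | hx0
    · obtain ⟨J, hJ, hJm⟩ := Ideal.exists_minimalPrimes_le ((Ideal.span_singleton_le_iff_mem m).2 (h m ‹_› (fun e => hQ (le_bot_iff.1 (e ▸ hQm))) le_rfl))
      exact Set.mem_biUnion (Finset.mem_coe.2 (Finset.mem_filter.2 ⟨(hF J).2 hJ, hJm⟩)) J.zero_mem
    · obtain ⟨Q', hQ', hQ'm⟩ := Ideal.exists_minimalPrimes_le ((Ideal.span_singleton_le_iff_mem m).2 hx)
      haveI := hQ'.isPrime
      have hxQ : x ∈ Q' := hQ'.1.2 (Ideal.mem_span_singleton_self x)
      have hQ'0 : Q' ≠ ⊥ := fun e => hx0 (by rwa [e, Ideal.mem_bot] at hxQ)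
      obtain ⟨J, hJ, hJQ⟩ := Ideal.exists_minimalPrimes_le ((Ideal.span_singleton_le_iff_mem Q').2 (h Q' ‹_› hQ'0 hQ'm))
      have : J = Q' := hht J hJ.isPrime (hne J ((hF J).2 hJ)) Q' ‹_›
        (Ideal.height_le_one_of_isPrincipal_of_mem_minimalPrimes _ _ hQ') hJQ
      exact Set.mem_biUnion (Finset.mem_coe.2 (Finset.mem_filter.2 ⟨(hF J).2 hJ, this ▸ hQ'm⟩)) (this ▸ hxQ)
  obtain ⟨J, hJ, hmJ⟩ := (Ideal.subset_union_prime (⊥ : Ideal B) ⊥ (fun J hJ _ _ =>
    ((hF J).1 (Finset.mem_filter.1 hJ).1).isPrime)).1 hcov
  have hJm : J = m := le_antisymm (Finset.mem_filter.1 hJ).2 hmJ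
  refine hht Q ‹_› hQ m ‹_› ?_ hQm
  rw [← hJm]
  exact Ideal.height_le_one_of_isPrincipal_of_mem_minimalPrimes _ _ ((hF J).1 (Finset.mem_filter.1 hJ).1)

/-- normalisation near a closed point of a curve-like domain over a domain with finite normalisations. -/
theorem exists_normalization {A B : Type u} [CommRing A] [IsDomain A] [IsNoetherianRing A] (hA : CAlg.IsN2 A)
    [CommRing B] [IsDomain B] [Algebra A B] [Algebra.FiniteType A B] (hinj : Function.Injective (algebraMap A B))
    (m : Ideal B) [m.IsMaximal]
    (hm : m.comap (algebraMap A B) = ⊥ ∨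
      ∀ Q : Ideal B, Q.IsPrime → Q.comap (algebraMap A B) = m.comap (algebraMap A B) → Q = m) :
    ∃ g : B, g ∉ m ∧ ∀ (Bg K' L : Type u) [CommRing Bg] [Field K'] [Field L] [Algebra B Bg] [IsLocalization.Away g Bg] [Algebra B K']
      [IsFractionRing B K'] [Algebra K' L] [Algebra B L] [IsScalarTower B K' L] [FiniteDimensional K' L]
      [Algebra Bg L] [IsScalarTower B Bg L], Module.Finite Bg (integralClosure Bg L) := by
  classical
  have hlift : ∀ g : B, g ≠ 0 → Submonoid.powers g ≤ nonZeroDivisors B := fun g hg =>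
    powers_le_nonZeroDivisors_of_noZeroDivisors hg
  rcases hm with hm | hm
  · -- the point lies over the generic point
    letI : Field (B ⧸ m) := Ideal.Quotient.field m
    haveI : FaithfulSMul A (B ⧸ m) := (faithfulSMul_iff_algebraMap_injective _ _).2 ((injective_iff_map_eq_zero _).2 fun a ha => by
      rw [IsScalarTower.algebraMap_apply A B (B ⧸ m)] at ha
      have : a ∈ m.comap (algebraMap A B) := (Ideal.Quotient.eq_zero_iff_mem.1 ha : algebraMap A B a ∈ m)
      rwa [hm, Ideal.mem_bot] at this)
    let K := FractionRing A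
    letI : Algebra K (B ⧸ m) := FractionRing.liftAlgebra A (B ⧸ m)
    haveI : IsScalarTower A K (B ⧸ m) := FractionRing.isScalarTower_liftAlgebra A _
    haveI : Algebra.FiniteType A (B ⧸ m) := inferInstance
    haveI : Algebra.FiniteType K (B ⧸ m) := Algebra.FiniteType.of_restrictScalars_finiteType A K _
    haveI : Module.Finite K (B ⧸ m) := finite_of_finite_type_of_isJacobsonRing K (B ⧸ m)
    obtain ⟨G, hG⟩ := (inferInstance : Algebra.FiniteType A (B ⧸ m)).out
    choose d hd using fun x : B ⧸ m => IsIntegral.exists_multiple_integral_of_isLocalization (nonZeroDivisors A) (Rₘ := K) x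
      (Algebra.IsIntegral.isIntegral x)
    let a : A := ∏ x ∈ G, (d x : A)
    have ha0 : a ≠ 0 := Finset.prod_ne_zero_iff.2 fun x _ => nonZeroDivisors.coe_ne_zero _
    have ham : algebraMap A B a ∉ m := fun h => ha0 (by
      have : a ∈ m.comap (algebraMap A B) := h
      rwa [hm, Ideal.mem_bot] at this)
    let Aa := Localization.Away a
    haveI : IsDomain Aa := IsLocalization.isDomain_localization (powers_le_nonZeroDivisors_of_noZeroDivisors ha0)
    let φ : Aa →+* B ⧸ m := IsLocalization.Away.lift a (g := algebraMap A (B ⧸ m))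
      (Ne.isUnit fun h => ha0 (FaithfulSMul.algebraMap_injective A (B ⧸ m) (h.trans (map_zero _).symm)))
    letI : Algebra Aa (B ⧸ m) := φ.toAlgebra
    haveI : IsScalarTower A Aa (B ⧸ m) := IsScalarTower.of_algebraMap_eq fun x => (IsLocalization.Away.lift_eq a _ x).symm
    have hφ : Function.Injective (algebraMap Aa (B ⧸ m)) := by
      rw [injective_iff_map_eq_zero]
      intro x hx
      obtain ⟨⟨r, ⟨_, n, rfl⟩⟩, hr⟩ := IsLocalization.surj (Submonoid.powers a) x
      have h1 : algebraMap A (B ⧸ m) r = 0 := by
        rw [IsScalarTower.algebraMap_apply A Aa (B ⧸ m), ← hr, map_mul, hx, zero_mul]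
      have h2 : r = 0 := FaithfulSMul.algebraMap_injective A (B ⧸ m) (h1.trans (map_zero _).symm)
      rw [h2, map_zero] at hr
      exact (IsLocalization.map_units Aa (⟨_, n, rfl⟩ : Submonoid.powers a)).mul_left_eq_zero.1 hr
    haveI : Algebra.IsIntegral Aa (B ⧸ m) := ⟨fun y => by
      have hy : y ∈ Algebra.adjoin A (G : Set (B ⧸ m)) := hG ▸ Algebra.mem_top
      induction hy using Algebra.adjoin_induction with
      | mem x hx =>
        obtain ⟨c, hc⟩ : (d x : A) ∣ a := Finset.dvd_prod_of_mem _ hx
        have h1 : IsIntegral Aa (algebraMap A (B ⧸ m) (d x) * x) := by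
          have := (hd x).tower_top (A := Aa)
          rwa [Submonoid.smul_def, Algebra.smul_def] at this
        have hu : IsUnit (algebraMap A Aa (d x : A)) :=
          isUnit_of_dvd_unit ⟨algebraMap A Aa c, by rw [← map_mul, ← hc]⟩ (IsLocalization.Away.algebraMap_isUnit (S := Aa) a)
        have : x = algebraMap Aa (B ⧸ m) (↑hu.unit⁻¹) * (algebraMap A (B ⧸ m) (d x) * x) := by
          rw [IsScalarTower.algebraMap_apply A Aa (B ⧸ m), ← mul_assoc, ← map_mul, IsUnit.val_inv_mul, map_one, one_mul]
        rw [this]
        exact isIntegral_algebraMap.mul h1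
      | algebraMap r => rw [IsScalarTower.algebraMap_apply A Aa (B ⧸ m)]; exact isIntegral_algebraMap
      | add x y _ _ hx hy => exact hx.add hy
      | mul x y _ _ hx hy => exact hx.mul hy⟩
    letI : Field Aa := (isField_of_isIntegral_of_isField hφ (Field.toIsField (B ⧸ m))).toField
    refine ⟨algebraMap A B a, ham, ?_⟩
    intro Ba K' L _ _ _ _ _ _ _ _ _ _ _ _ _
    have hle := hlift (algebraMap A B a) fun h => ham (h ▸ m.zero_mem)
    haveI : IsDomain Ba := IsLocalization.isDomain_of_le_nonZeroDivisors (S := Ba) hle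
    letI : Algebra A Ba := ((algebraMap B Ba).comp (algebraMap A B)).toAlgebra
    haveI : IsScalarTower A B Ba := IsScalarTower.of_algebraMap_eq' rfl
    let ψ : Aa →+* Ba := IsLocalization.Away.lift a (g := algebraMap A Ba) (IsLocalization.Away.algebraMap_isUnit (S := Ba) (algebraMap A B a))
    letI : Algebra Aa Ba := ψ.toAlgebra
    haveI : IsScalarTower A Aa Ba := IsScalarTower.of_algebraMap_eq fun x => (IsLocalization.Away.lift_eq a _ x).symm
    haveI : Algebra.FiniteType B Ba := IsLocalization.finiteType_of_monoid_fg (Submonoid.powers (algebraMap A B a)) Ba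
    haveI : Algebra.FiniteType A Ba := Algebra.FiniteType.trans (S := B) inferInstance inferInstance
    haveI : Algebra.FiniteType Aa Ba := Algebra.FiniteType.of_restrictScalars_finiteType A Aa Ba
    have hunit : IsUnit (algebraMap B K' (algebraMap A B a)) :=
      IsLocalization.map_units K' (⟨_, hle (Submonoid.mem_powers _)⟩ : nonZeroDivisors B)
    letI : Algebra Ba K' := (IsLocalization.Away.lift (algebraMap A B a) hunit).toAlgebra
    haveI : IsScalarTower B Ba K' := IsScalarTower.of_algebraMap_eq (R := B) (S := Ba) (A := K') fun x => (IsLocalization.Away.lift_eq _ hunit x).symm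
    haveI : IsFractionRing Ba K' := IsFractionRing.isFractionRing_of_isLocalization (Submonoid.powers (algebraMap A B a)) Ba K' hle
    haveI : IsScalarTower Ba K' L := IsScalarTower.of_algebraMap_eq' (IsLocalization.ringHom_ext (Submonoid.powers (algebraMap A B a)) (RingHom.ext fun x => by
      show algebraMap Ba L (algebraMap B Ba x) = algebraMap K' L (algebraMap Ba K' (algebraMap B Ba x))
      rw [← IsScalarTower.algebraMap_apply B Ba L, ← IsScalarTower.algebraMap_apply B Ba K', ← IsScalarTower.algebraMap_apply B K' L]))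
    exact FieldNormFinite.finite_integralClosure Aa Ba K' L
  · -- quasi-finite case
    haveI : m.IsPrime := Ideal.IsMaximal.isPrime ‹_›
    let mP : PrimeSpectrum B := ⟨m, ‹_›⟩
    haveI : Algebra.QuasiFiniteAt A m := by
      refine Algebra.QuasiFiniteAt.of_isOpen_singleton_fiber mP ?_
      haveI : Subsingleton (PrimeSpectrum.comap (algebraMap A B) ⁻¹' {mP.comap (algebraMap A B)}) :=
        ⟨fun x y => Subtype.ext (PrimeSpectrum.ext ((hm _ x.1.2 (congrArg PrimeSpectrum.asIdeal x.2)).trans
          (hm _ y.1.2 (congrArg PrimeSpectrum.asIdeal y.2)).symm))⟩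
      exact isOpen_discrete _
    obtain ⟨r, hrm, hr, hx⟩ := Algebra.zariskisMainProperty_iff.1 (Algebra.ZariskisMainProperty.of_finiteType (R := A) m)
    have hr0 : r ≠ 0 := fun h => hrm (h ▸ m.zero_mem)
    let K := FractionRing A
    refine ⟨r, hrm, ?_⟩
    intro Br K' L _ _ _ _ _ _ _ _ _ _ _ _ _
    letI : Algebra A K' := ((algebraMap B K').comp (algebraMap A B)).toAlgebra
    haveI : IsScalarTower A B K' := IsScalarTower.of_algebraMap_eq' rfl
    haveI : FaithfulSMul A K' := (faithfulSMul_iff_algebraMap_injective _ _).2 ((IsFractionRing.injective B K').comp hinj)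
    letI : Algebra K K' := FractionRing.liftAlgebra A K'
    haveI : IsScalarTower A K K' := FractionRing.isScalarTower_liftAlgebra A _
    have halg : ∀ b : B, IsIntegral K (algebraMap B K' b) := fun b => by
      obtain ⟨n, hn⟩ := hx b
      have h1 := (hn.map (IsScalarTower.toAlgHom A B K')).tower_top (A := K)
      have h2 := ((hr.pow n).map (IsScalarTower.toAlgHom A B K')).tower_top (A := K)
      simp only [IsScalarTower.coe_toAlgHom', map_mul] at h1 h2
      have hne : algebraMap B K' (r ^ n) ≠ 0 := fun h => pow_ne_zero n hr0 (IsFractionRing.injective B K' (h.trans (map_zero _).symm))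
      have : algebraMap B K' b = algebraMap B K' (r ^ n) * algebraMap B K' b * (algebraMap B K' (r ^ n))⁻¹ := by
        field_simp
      rw [this]
      exact h1.mul h2.inv
    obtain ⟨G, hG⟩ := (inferInstance : Algebra.FiniteType A B).out
    let S := IntermediateField.adjoin K ((algebraMap B K') '' (G : Set B))
    haveI : FiniteDimensional K S := IntermediateField.finiteDimensional_adjoin (fun x hx => by
      obtain ⟨b, -, rfl⟩ := hx; exact halg b)
    have hB : ∀ b : B, algebraMap B K' b ∈ S := fun b => by
      have hb : b ∈ Algebra.adjoin A (G : Set B) := hG ▸ Algebra.mem_top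
      induction hb using Algebra.adjoin_induction with
      | mem x hx => exact IntermediateField.subset_adjoin _ _ ⟨x, hx, rfl⟩
      | algebraMap c =>
        rw [← IsScalarTower.algebraMap_apply A B K', IsScalarTower.algebraMap_apply A K K']
        exact S.algebraMap_mem _
      | add x y _ _ hx hy => rw [map_add]; exact add_mem hx hy
      | mul x y _ _ hx hy => rw [map_mul]; exact mul_mem hx hy
    have htop : S = ⊤ := eq_top_iff.2 fun z _ => by
      obtain ⟨x, y, -, rfl⟩ := IsFractionRing.div_surjective B z
      exact div_mem (hB x) (hB y)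
    haveI : FiniteDimensional K K' := by
      have : FiniteDimensional K S := inferInstance
      rw [htop] at this
      exact Module.Finite.equiv (IntermediateField.topEquiv (F := K) (E := K')).toLinearEquiv
    letI : Algebra K L := ((algebraMap K' L).comp (algebraMap K K')).toAlgebra
    haveI : IsScalarTower K K' L := IsScalarTower.of_algebraMap_eq' rfl
    letI : Algebra A L := ((algebraMap B L).comp (algebraMap A B)).toAlgebra
    haveI : IsScalarTower A B L := IsScalarTower.of_algebraMap_eq' rfl
    haveI : IsScalarTower A K L := IsScalarTower.of_algebraMap_eq fun c => by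
      rw [IsScalarTower.algebraMap_apply A B L, IsScalarTower.algebraMap_apply B K' L, IsScalarTower.algebraMap_apply K K' L,
        ← IsScalarTower.algebraMap_apply A K K', ← IsScalarTower.algebraMap_apply A B K']
    haveI : FiniteDimensional K L := Module.Finite.trans K' L
    haveI : Module.Finite A (integralClosure A L) := JapaneseLocal.n2_apply hA K L
    haveI : IsDomain Br := IsLocalization.isDomain_of_le_nonZeroDivisors (S := Br) (hlift _ hr0)
    letI : Algebra A Br := ((algebraMap B Br).comp (algebraMap A B)).toAlgebra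
    haveI : IsScalarTower A B Br := IsScalarTower.of_algebraMap_eq' rfl
    haveI : IsScalarTower A Br L := IsScalarTower.of_algebraMap_eq fun c => by
      rw [IsScalarTower.algebraMap_apply A B L, IsScalarTower.algebraMap_apply A B Br, ← IsScalarTower.algebraMap_apply B Br L]
    obtain ⟨T, hT⟩ : (integralClosure A L).toSubmodule.FG := Module.Finite.iff_fg.1 (inferInstance : Module.Finite A (integralClosure A L))
    suffices hfg : (integralClosure Br L).toSubmodule.FG from Module.Finite.iff_fg.2 hfg
    refine ⟨T, le_antisymm (Submodule.span_le.2 fun t ht => ?_) fun z hz => ?_⟩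
    · have : t ∈ (integralClosure A L).toSubmodule := hT ▸ Submodule.subset_span ht
      exact (show IsIntegral A t from this).tower_top
    · -- clear denominators
      have hpow : ∀ c : Br, ∃ n : ℕ, IsIntegral A (algebraMap Br L ((algebraMap B Br r) ^ n * c)) := fun c => by
        obtain ⟨⟨x, ⟨_, n, rfl⟩⟩, hc⟩ := IsLocalization.surj (Submonoid.powers r) c
        obtain ⟨k, hk⟩ := hx x
        refine ⟨k + n, ?_⟩
        have hc' : (algebraMap B Br r) ^ n * c = algebraMap B Br x := by rw [← map_pow, mul_comm]; exact hc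
        rw [pow_add, mul_assoc, hc', ← map_pow, ← map_mul, ← IsScalarTower.algebraMap_apply B Br L]
        exact hk.map (IsScalarTower.toAlgHom A B L)
      obtain ⟨P, hP, hPz⟩ := (show IsIntegral Br z from hz)
      choose k hk using hpow
      let N := ∑ i ∈ Finset.range (P.natDegree + 1), k (P.coeff i)
      let R0 := algebraMap B L r
      have hR0 : IsIntegral A R0 := hr.map (IsScalarTower.toAlgHom A B L)
      have hw : IsIntegral A (R0 ^ N * z) := by
        have hmon : (P.map (algebraMap Br L)).Monic := hP.map _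
        have hdeg : (P.map (algebraMap Br L)).natDegree = P.natDegree := hP.natDegree_map _
        let Q := (P.map (algebraMap Br L)).scaleRoots (R0 ^ N)
        have hQ : Q.eval (R0 ^ N * z) = 0 := by
          have := Polynomial.scaleRoots_eval₂_eq_zero (p := P.map (algebraMap Br L)) (f := RingHom.id L) (r := z) (s := R0 ^ N)
            (by rw [Polynomial.eval₂_map]; simpa using hPz)
          simpa [Q] using this
        have hQm : Q.Monic := (Polynomial.monic_scaleRoots_iff _).2 hmon
        let C := integralClosure A L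
        have hmem : ∀ i, Q.coeff i ∈ C := fun i => by
          rw [Polynomial.coeff_scaleRoots, hdeg, Polynomial.coeff_map]
          rcases Nat.lt_trichotomy i P.natDegree with hlt | heq | hgt
          · obtain ⟨e, he⟩ : ∃ e, N * (P.natDegree - i) = k (P.coeff i) + e := Nat.exists_eq_add_of_le
              ((Finset.single_le_sum (f := fun i => k (P.coeff i)) (fun _ _ => Nat.zero_le _) (Finset.mem_range.2 (hlt.trans (Nat.lt_succ_self _)))).trans
                (Nat.le_mul_of_pos_right _ (Nat.sub_pos_of_lt hlt)))
            rw [← pow_mul, he, pow_add, ← mul_assoc, mul_comm (algebraMap Br L _) (R0 ^ _)]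
            refine IsIntegral.mul ?_ (hR0.pow e)
            have := hk (P.coeff i)
            rwa [map_mul, map_pow, ← IsScalarTower.algebraMap_apply B Br L] at this
          · rw [heq, hP.coeff_natDegree, map_one, one_mul, Nat.sub_self, pow_zero]; exact C.one_mem
          · rw [Polynomial.coeff_eq_zero_of_natDegree_lt hgt, map_zero, zero_mul]; exact C.zero_mem
        have hrange : Q ∈ Polynomial.lifts (algebraMap C L) := (Polynomial.lifts_iff_coeff_lifts Q).2 fun i => ⟨⟨_, hmem i⟩, rfl⟩
        obtain ⟨Q', hQ', -, hQ'm⟩ := Polynomial.lifts_and_degree_eq_and_monic hrange hQm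
        have : IsIntegral C (R0 ^ N * z) := ⟨Q', hQ'm, by rw [← Polynomial.eval_map, hQ']; exact hQ⟩
        haveI hC : Algebra.IsIntegral A C := integralClosure.AlgebraIsIntegral
        exact isIntegral_trans _ this
      have hw' : R0 ^ N * z ∈ Submodule.span A (T : Set L) := by rw [hT]; exact hw
      have h1 : R0 ^ N * z ∈ Submodule.span Br (T : Set L) := Submodule.span_le_restrictScalars A Br _ hw'
      have hu : IsUnit ((algebraMap B Br r) ^ N) := (IsLocalization.Away.algebraMap_isUnit r).pow N
      have : z = (↑hu.unit⁻¹ : Br) • (R0 ^ N * z) := by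
        rw [Algebra.smul_def, ← mul_assoc]
        conv_lhs => rw [← one_mul z, ← map_one (algebraMap Br L), ← hu.val_inv_mul, map_mul, map_pow, ← IsScalarTower.algebraMap_apply B Br L]
      rw [this]
      exact Submodule.smul_mem _ _ h1

end Groth.Agent.H6.CurveNorm
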