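import Mathlib.RingTheory.OrderOfVanishing.Basic
import Mathlib.RingTheory.Valuation.LocalSubring
import Mathlib.RingTheory.DiscreteValuationRing.TFAE
import Mathlib.RingTheory.Ideal.KrullsHeightTheorem
import Mathlib.RingTheory.Algebraic.Integral
import Mathlib.RingTheory.Localization.Integer
import Mathlib.FieldTheory.Finiteness

set_option linter.all false
set_option autoImplicit false

/-! Valuation rings dominating one-dimensional Noetherian local domains. -/

namespace Groth.Agent.H6.DVRDom

universe u v

open Module

section Length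

variable {R : Type u} [CommRing R] [IsDomain R] [IsNoetherianRing R]

variable {M : Type v} [AddCommGroup M] [Module R M]

theorem length_quotient_smul_pow (a : R) (ha : Function.Injective fun m : M => a • m) (k : ℕ) :
    Module.length R (M ⧸ LinearMap.range (LinearMap.lsmul R M (a ^ k))) =
      k * Module.length R (M ⧸ LinearMap.range (LinearMap.lsmul R M a)) := by
  induction k with
  | zero =>
    rw [Nat.cast_zero, zero_mul, Module.length_eq_zero_iff, Submodule.Quotient.subsingleton_iff]
    exact LinearMap.range_eq_top.2 fun m => ⟨m, by simp⟩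
  | succ k ih =>
    have hk : Function.Injective fun m : M => a ^ k • m := by
      clear ih
      induction k with
      | zero => intro x y h; simpa using h
      | succ k ih => intro x y h; exact ih (ha (by simpa [smul_smul, ← pow_succ'] using h))
    let f : (M ⧸ LinearMap.range (LinearMap.lsmul R M a)) →ₗ[R] M ⧸ LinearMap.range (LinearMap.lsmul R M (a ^ (k + 1))) :=
      Submodule.mapQ _ _ (LinearMap.lsmul R M (a ^ k)) (by
        rintro _ ⟨m, rfl⟩
        exact ⟨m, by simp [smul_smul, pow_succ, mul_comm]⟩)
    let g : (M ⧸ LinearMap.range (LinearMap.lsmul R M (a ^ (k + 1)))) →ₗ[R] M ⧸ LinearMap.range (LinearMap.lsmul R M (a ^ k)) :=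
      Submodule.factor (by
        rintro _ ⟨m, rfl⟩
        exact ⟨a • m, by simp [smul_smul, pow_succ, mul_comm]⟩)
    have hf : Function.Injective f := by
      rw [← LinearMap.ker_eq_bot, eq_bot_iff]
      intro x hx
      obtain ⟨x, rfl⟩ := Submodule.Quotient.mk_surjective _ x
      obtain ⟨m, hm⟩ := (Submodule.Quotient.mk_eq_zero _).1 hx
      refine (Submodule.Quotient.mk_eq_zero _).2 ⟨m, hk ?_⟩
      simpa [smul_smul, pow_succ] using hm
    have hg : Function.Surjective g := Submodule.factor_surjective _
    have hex : Function.Exact f g := fun y => by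
      obtain ⟨y, rfl⟩ := Submodule.Quotient.mk_surjective _ y
      constructor
      · intro hy
        obtain ⟨m, hm⟩ := (Submodule.Quotient.mk_eq_zero _).1 hy
        exact ⟨Submodule.Quotient.mk m, congrArg Submodule.Quotient.mk hm⟩
      · rintro ⟨x, hx⟩
        obtain ⟨x, rfl⟩ := Submodule.Quotient.mk_surjective _ x
        rw [← hx]
        exact (Submodule.Quotient.mk_eq_zero _).2 ⟨x, rfl⟩
    rw [Module.length_eq_add_of_exact f g hf hg hex, ih, Nat.cast_succ, add_mul, one_mul, add_comm]

/-- the Krull-Akizuki inequality -/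
theorem length_quotient_smul_le [Ring.KrullDimLE 1 R] [Module.Finite R M] {a : R} (ha0 : a ≠ 0)
    (ha : Function.Injective fun m : M => a • m) {n : ℕ} (b : Fin n → M)
    (hb : ∀ m : M, ∃ c : R, c ≠ 0 ∧ c • m ∈ Submodule.span R (Set.range b)) :
    Module.length R (M ⧸ LinearMap.range (LinearMap.lsmul R M a)) ≤ n * Ring.ord R a := by
  classical
  obtain ⟨s, hs⟩ := Module.Finite.fg_top (R := R) (M := M)
  choose c hc hcm using hb
  let F := Submodule.span R (Set.range b)
  let d : R := ∏ m ∈ s, c m
  have hd : d ≠ 0 := Finset.prod_ne_zero_iff.2 fun m _ => hc m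
  have hdm : ∀ m : M, d • m ∈ F := fun m => by
    have hm : m ∈ Submodule.span R (s : Set M) := hs ▸ trivial
    induction hm using Submodule.span_induction with
    | mem x hx =>
      show (∏ y ∈ s, c y) • x ∈ F
      rw [← Finset.prod_erase_mul s c hx, mul_smul]
      exact F.smul_mem _ (hcm x)
    | zero => simp
    | add x y _ _ hx hy => rw [smul_add]; exact F.add_mem hx hy
    | smul r x _ hx => rw [smul_comm]; exact F.smul_mem _ hx
  have hℓ : Module.length R (M ⧸ F) ≠ ⊤ := by
    let π : (↥s → R ⧸ Ideal.span {d}) →ₗ[R] M ⧸ F := 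
      LinearMap.lsum R (fun _ : ↥s => R ⧸ Ideal.span {d}) R fun m =>
        Submodule.liftQ (Ideal.span {d}) ((LinearMap.toSpanSingleton R (M ⧸ F) (Submodule.Quotient.mk m.1))) (by
          rw [Ideal.span_le]
          rintro _ rfl
          simp only [SetLike.mem_coe, LinearMap.mem_ker, LinearMap.toSpanSingleton_apply]
          rw [← Submodule.Quotient.mk_smul, Submodule.Quotient.mk_eq_zero]
          exact hdm _)
    have hπ : Function.Surjective π := by
      rw [← LinearMap.range_eq_top, Submodule.eq_top_iff']
      intro x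
      obtain ⟨m, rfl⟩ := Submodule.Quotient.mk_surjective _ x
      have hm : m ∈ Submodule.span R (s : Set M) := hs ▸ trivial
      induction hm using Submodule.span_induction with
      | mem x hx =>
        refine ⟨Pi.single ⟨x, hx⟩ (Submodule.Quotient.mk (1 : R)), ?_⟩
        simp only [π]
        rw [LinearMap.lsum_piSingle, Submodule.liftQ_apply]
        simp
      | zero => exact Submodule.zero_mem _
      | add x y _ _ hx hy => exact Submodule.add_mem _ hx hy
      | smul r x _ hx => exact Submodule.smul_mem _ r hx
    refine ne_top_of_le_ne_top ?_ (Module.length_le_of_surjective π hπ)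
    rw [Module.length_pi]
    exact WithTop.mul_ne_top (by rw [ENat.card_eq_coe_fintype_card]; exact ENat.coe_ne_top _) (Ring.ord_ne_top (mem_nonZeroDivisors_of_ne_zero hd))
  have key : ∀ k : ℕ, (k : ℕ∞) * Module.length R (M ⧸ LinearMap.range (LinearMap.lsmul R M a)) ≤
      n * ((k : ℕ∞) * Ring.ord R a) + Module.length R (M ⧸ F) := by
    intro k
    have hR : Module.length R (R ⧸ Ideal.span {a ^ k}) = k * Ring.ord R a := by
      have h1 := length_quotient_smul_pow (M := R) a (fun x y h => mul_left_cancel₀ ha0 h) k
      have h2 : ∀ t : R, LinearMap.range (LinearMap.lsmul R R t) = Ideal.span {t} := fun t => by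
        ext x
        simp [Ideal.mem_span_singleton', mul_comm, eq_comm]
      rw [h2, h2] at h1
      exact h1
    rw [← length_quotient_smul_pow a ha k]
    let Q := M ⧸ LinearMap.range (LinearMap.lsmul R M (a ^ k))
    let φ : (Fin n → R ⧸ Ideal.span {a ^ k}) →ₗ[R] Q :=
      LinearMap.lsum R (fun _ : Fin n => R ⧸ Ideal.span {a ^ k}) R fun i =>
        Submodule.liftQ (Ideal.span {a ^ k}) (LinearMap.toSpanSingleton R Q (Submodule.Quotient.mk (b i))) (by
          rw [Ideal.span_le]
          rintro _ rfl
          simp only [SetLike.mem_coe, LinearMap.mem_ker, LinearMap.toSpanSingleton_apply]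
          rw [← Submodule.Quotient.mk_smul, Submodule.Quotient.mk_eq_zero]
          exact ⟨b i, rfl⟩)
    have hb : ∀ i, (Submodule.Quotient.mk (b i) : Q) ∈ LinearMap.range φ := fun i => by
      refine ⟨Pi.single i (Submodule.Quotient.mk (1 : R)), ?_⟩
      simp only [φ]
      rw [LinearMap.lsum_piSingle, Submodule.liftQ_apply]
      simp
    rw [Module.length_eq_add_of_exact (LinearMap.range φ).subtype (LinearMap.range φ).mkQ
      (Submodule.subtype_injective _) (Submodule.mkQ_surjective _) (LinearMap.exact_subtype_mkQ _)]
    refine add_le_add ?_ ?_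
    · refine (Module.length_le_of_surjective φ.rangeRestrict φ.surjective_rangeRestrict).trans ?_
      rw [Module.length_pi, ENat.card_eq_coe_fintype_card, Fintype.card_fin, hR]
    · have hFle : F ≤ LinearMap.ker ((LinearMap.range φ).mkQ ∘ₗ (LinearMap.range (LinearMap.lsmul R M (a ^ k))).mkQ) := by
        rw [Submodule.span_le]
        rintro _ ⟨i, rfl⟩
        exact (Submodule.Quotient.mk_eq_zero _).2 (hb i)
      refine Module.length_le_of_surjective (F.liftQ _ hFle) fun x => ?_
      obtain ⟨y, rfl⟩ := Submodule.Quotient.mk_surjective _ x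
      obtain ⟨z, rfl⟩ := Submodule.Quotient.mk_surjective _ y
      exact ⟨Submodule.Quotient.mk z, rfl⟩
  obtain ⟨ℓ, hℓ'⟩ := ENat.ne_top_iff_exists.1 hℓ
  obtain ⟨r, hr⟩ := ENat.ne_top_iff_exists.1 (Ring.ord_ne_top (mem_nonZeroDivisors_of_ne_zero ha0))
  rw [← hr] at key ⊢
  rw [← hℓ'] at key
  cases hX : Module.length R (M ⧸ LinearMap.range (LinearMap.lsmul R M a)) with
  | top =>
    have h1 := key 1
    rw [hX] at h1
    simp at h1
    exact absurd h1 (by exact_mod_cast ENat.coe_ne_top (n * r))
  | coe x =>
    have h1 := key (ℓ + 1)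
    rw [hX] at h1
    norm_cast at h1 ⊢
    by_contra hlt
    have : n * r + 1 ≤ x := by omega
    have h2 := Nat.mul_le_mul_left (ℓ + 1) this
    nlinarith

theorem isFiniteLength_of_forall_fg {N : Type v} [AddCommGroup N] [Module R N] (B : ℕ∞) (hB : B ≠ ⊤)
    (h : ∀ P : Submodule R N, P.FG → Module.length R P ≤ B) : IsNoetherian R N := by
  obtain ⟨B, rfl⟩ := ENat.ne_top_iff_exists.1 hB
  classical
  have hex : ∃ d : ℕ, ∃ P : Submodule R N, P.FG ∧ Module.length R P = (B - d : ℕ) := by
    refine ⟨B, ⊥, Submodule.fg_bot, ?_⟩
    rw [Nat.sub_self, Nat.cast_zero, Module.length_eq_zero_iff]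
    infer_instance
  obtain ⟨P, hP, hlen⟩ := Nat.find_spec hex
  have hbest : ∀ Q : Submodule R N, Q.FG → Module.length R Q ≤ Module.length R P := fun Q hQ => by
    have hQB := h Q hQ
    obtain ⟨q, hq⟩ := ENat.ne_top_iff_exists.1 (ne_top_of_le_ne_top (ENat.coe_ne_top B) hQB)
    rw [← hq, hlen]
    rw [← hq] at hQB
    norm_cast at hQB ⊢
    by_contra hlt
    have h1 : Nat.find hex ≤ B - q := Nat.find_min' hex ⟨Q, hQ, by rw [← hq]; norm_cast; omega⟩
    omega
  have htop : P = ⊤ := by
    rw [Submodule.eq_top_iff']
    intro x
    let Q := P ⊔ Submodule.span R {x}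
    have hQfg : Q.FG := hP.sup (Submodule.fg_span_singleton x)
    by_contra hx
    have hfl : IsFiniteLength R Q :=
      Module.length_ne_top_iff.1 (ne_top_of_le_ne_top (ENat.coe_ne_top B) (h Q hQfg))
    rw [isFiniteLength_iff_isNoetherian_isArtinian] at hfl
    haveI := hfl.1
    haveI := hfl.2
    have hne : (Submodule.comap Q.subtype P) ≠ ⊤ := fun he => hx (by
      have : (⟨x, Submodule.mem_sup_right (Submodule.mem_span_singleton_self x)⟩ : Q) ∈ Submodule.comap Q.subtype P := he ▸ trivial
      exact this)
    have h2 := Submodule.length_lt hne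
    rw [LinearEquiv.length_eq (Submodule.comapSubtypeEquivOfLe (le_sup_left : P ≤ Q))] at h2
    exact absurd (hbest Q hQfg) (not_le.2 h2)
  have hfl : IsFiniteLength R P := Module.length_ne_top_iff.1 (ne_top_of_le_ne_top (ENat.coe_ne_top B) (h P hP))
  rw [isFiniteLength_iff_isNoetherian_isArtinian] at hfl
  haveI := hfl.1
  exact isNoetherian_of_linearEquiv (LinearEquiv.ofTop P htop)

end Length

section Valuation

variable {R : Type u} [CommRing R] [IsDomain R] [IsNoetherianRing R] [IsLocalRing R] [Ring.KrullDimLE 1 R]
  (K : Type u) [Field K] [Algebra R K] [IsFractionRing R K]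
  {L : Type u} [Field L] [Algebra R L] [Algebra K L] [IsScalarTower R K L] [Module.Finite K L]

include K in
/-- a valuation ring dominating a one-dimensional Noetherian local domain in a finite extension is a DVR -/
theorem isDiscreteValuationRing_of_dominates (V : ValuationSubring L) (hR : ∀ x : R, algebraMap R L x ∈ V)
    (hm : ∀ x ∈ IsLocalRing.maximalIdeal R, algebraMap R L x ∈ V.nonunits) (hne : ¬ IsField R) :
    IsDiscreteValuationRing V := by
  classical
  letI : Algebra R V := ((algebraMap R L).codRestrict V.toSubring hR).toAlgebra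
  haveI : IsScalarTower R V L := IsScalarTower.of_algebraMap_eq fun x => rfl
  have hinjL : Function.Injective (algebraMap R L) := by
    rw [IsScalarTower.algebraMap_eq R K L]
    exact (algebraMap K L).injective.comp (IsFractionRing.injective R K)
  have hinj : Function.Injective (algebraMap R V) := fun x y h => hinjL (congrArg Subtype.val h)
  have hnontriv : ¬ IsField V := fun hf => by
    obtain ⟨a, ha, ha0⟩ := Submodule.exists_mem_ne_zero_of_ne_bot
      (fun h => hne (IsLocalRing.isField_iff_maximalIdeal_eq.2 h) : IsLocalRing.maximalIdeal R ≠ ⊥)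
    obtain ⟨b, hb⟩ := hf.mul_inv_cancel (a := algebraMap R V a) (fun h => ha0 (hinj (h.trans (map_zero _).symm)))
    have h1 : algebraMap R V a ∈ IsLocalRing.maximalIdeal V :=
      (ValuationSubring.coe_mem_nonunits_iff).1 (hm a ha)
    exact (IsLocalRing.mem_maximalIdeal _).1 h1 (IsUnit.of_mul_eq_one _ hb)
  -- every nonzero element divides an element of `R`
  have hdiv : ∀ v : V, v ≠ 0 → ∃ c : R, c ≠ 0 ∧ v ∣ algebraMap R V c := by
    intro v hv
    have halg : IsAlgebraic R (v : L) := by
      have := IsFractionRing.isAlgebraic_iff R K L (x := (v : L))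
      exact this.2 (Algebra.IsAlgebraic.isAlgebraic _)
    have hv' : (v : L) ∈ nonZeroDivisors L := mem_nonZeroDivisors_of_ne_zero fun h => hv (Subtype.ext h)
    obtain ⟨p, hp0, hp⟩ := halg.exists_nonzero_coeff_and_aeval_eq_zero hv'
    refine ⟨p.coeff 0, hp0, -(Polynomial.aeval v p.divX), Subtype.val_injective ?_⟩
    have h1 : (v : L) * Polynomial.aeval (v : L) p.divX + algebraMap R L (p.coeff 0) = 0 := by
      have := congrArg (Polynomial.aeval (v : L)) (Polynomial.X_mul_divX_add p)
      simp only [map_add, map_mul, Polynomial.aeval_X, Polynomial.aeval_C] at this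
      rw [this, hp]
    show algebraMap R L (p.coeff 0) = ((v * -(Polynomial.aeval v p.divX) : V) : L)
    have h2 : ((Polynomial.aeval v p.divX : V) : L) = Polynomial.aeval (v : L) p.divX :=
      (Polynomial.aeval_algebraMap_apply L v p.divX).symm
    simp only [MulMemClass.coe_mul, NegMemClass.coe_neg, h2]
    linear_combination h1
  obtain ⟨n, β⟩ : ∃ n, Nonempty (Module.Basis (Fin n) K L) := ⟨_, ⟨Module.finBasis K L⟩⟩
  haveI : IsNoetherianRing V := by
    refine (isNoetherianRing_iff_ideal_fg _).2 fun I => ?_
    by_cases hI : I = ⊥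
    · rw [hI]; exact Submodule.fg_bot
    obtain ⟨v, hvI, hv⟩ := Submodule.exists_mem_ne_zero_of_ne_bot hI
    obtain ⟨c, hc, hcv⟩ := hdiv v hv
    let J : Ideal V := Ideal.span {algebraMap R V c}
    have hJI : J ≤ I := by
      rw [Ideal.span_le]
      rintro _ rfl
      exact I.mem_of_dvd hcv hvI
    haveI : IsNoetherian R (V ⧸ J) := by
      refine isFiniteLength_of_forall_fg (n * Ring.ord R c)
        (WithTop.mul_ne_top (ENat.coe_ne_top n) (Ring.ord_ne_top (mem_nonZeroDivisors_of_ne_zero hc))) fun P hP => ?_
      obtain ⟨s, rfl⟩ := hP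
      choose lift hlift using fun y : V ⧸ J => Ideal.Quotient.mk_surjective y
      let M : Submodule R V := Submodule.span R (insert (algebraMap R V c) (lift '' (s : Set (V ⧸ J))))
      haveI : Module.Finite R M := Module.Finite.iff_fg.2
        (Submodule.fg_span ((s.finite_toSet.image lift).insert _))
      have hci : Function.Injective fun m : M => c • m := fun x y h => by
        have h' : algebraMap R V c * (x : V) = algebraMap R V c * (y : V) := by
          simpa [Algebra.smul_def] using congrArg Subtype.val h
        exact Subtype.ext (mul_left_cancel₀ (fun h0 => hc (hinj (h0.trans (map_zero _).symm))) h')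
      have hrank : ∃ b : Fin n → M, ∀ m : M, ∃ d : R, d ≠ 0 ∧ d • m ∈ Submodule.span R (Set.range b) := by
        let ι : M → L := fun m => ((m : V) : L)
        obtain ⟨b, hbsub, hbspan, hbind⟩ := exists_linearIndependent K (Set.range ι)
        have hfin : b.Finite := hbind.setFinite
        haveI := hfin.fintype
        have hcard : Fintype.card b ≤ n := by
          simpa [Module.finrank_eq_card_basis β.some] using hbind.fintype_card_le_finrank
        choose g hg using fun y : b => hbsub y.2
        let bb : Fin n → M := fun i =>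
          if h : (i : ℕ) < Fintype.card b then g ((Fintype.equivFin b).symm ⟨i, h⟩) else 0
        have hgmem : ∀ y : b, g y ∈ Set.range bb := fun y =>
          ⟨⟨Fintype.equivFin b y, lt_of_lt_of_le (Fintype.equivFin b y).2 hcard⟩, by
            show (if h : _ then _ else _) = g y
            rw [dif_pos (Fintype.equivFin b y).2]
            simp⟩
        refine ⟨bb, fun m => ?_⟩
        have hm : ι m ∈ Submodule.span K b := hbspan ▸ Submodule.subset_span ⟨m, rfl⟩
        have hm' : ι m ∈ Submodule.span K (Set.range fun y : b => (y : L)) := by simpa using hm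
        obtain ⟨k, hk⟩ := Submodule.mem_span_range_iff_exists_fun K |>.1 hm'
        obtain ⟨d, hd⟩ := IsLocalization.exist_integer_multiples_of_finite (nonZeroDivisors R) k
        choose r hr using hd
        refine ⟨d, nonZeroDivisors.coe_ne_zero d, ?_⟩
        have : (d : R) • m = ∑ y, r y • g y := by
          apply Subtype.val_injective
          apply Subtype.val_injective
          show (((d : R) • m : M) : V).1 = _
          simp only [SetLike.val_smul, Submodule.coe_sum, AddSubmonoidClass.coe_finsetSum]
          have e1 : ∀ (t : R) (x : V), ((t • x : V) : L) = algebraMap R L t * (x : L) := fun t x => by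
            rw [Algebra.smul_def]; rfl
          simp only [e1]
          rw [show ((m : V) : L) = ι m from rfl, ← hk, Finset.mul_sum]
          refine Finset.sum_congr rfl fun y _ => ?_
          rw [show ((g y : V) : L) = (y : L) from hg y, Algebra.smul_def, ← mul_assoc]
          congr 1
          rw [IsScalarTower.algebraMap_apply R K L, IsScalarTower.algebraMap_apply R K L (r y), ← map_mul, hr,
            Algebra.smul_def]
        rw [this]
        exact Submodule.sum_mem _ fun y _ => Submodule.smul_mem _ _ (Submodule.subset_span (hgmem y))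
      obtain ⟨bb, hbb⟩ := hrank
      let q : M →ₗ[R] V ⧸ J := (Ideal.Quotient.mkₐ R J).toLinearMap ∘ₗ M.subtype
      have hq : LinearMap.range (LinearMap.lsmul R M c) ≤ LinearMap.ker q := by
        rintro _ ⟨m, rfl⟩
        refine Ideal.Quotient.eq_zero_iff_mem.2 ?_
        show ((c • m : M) : V) ∈ J
        rw [Submodule.coe_smul, Algebra.smul_def]
        exact Ideal.mul_mem_right _ _ (Ideal.mem_span_singleton_self _)
      have hrange : Submodule.span R (s : Set (V ⧸ J)) ≤ LinearMap.range ((LinearMap.range (LinearMap.lsmul R M c)).liftQ q hq) := by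
        rw [Submodule.span_le]
        intro y hy
        exact ⟨Submodule.Quotient.mk ⟨lift y, Submodule.subset_span (Or.inr ⟨y, hy, rfl⟩)⟩, hlift y⟩
      exact ((Module.length_le_of_injective _ (Submodule.inclusion_injective hrange)).trans
        (Module.length_le_of_surjective _ (LinearMap.surjective_rangeRestrict _))).trans
          (length_quotient_smul_le hc hci bb hbb)
    haveI : IsNoetherian V (V ⧸ J) := isNoetherian_of_tower R inferInstance
    have h1 : (I.map (Ideal.Quotient.mk J)).FG := by
      haveI : IsNoetherianRing (V ⧸ J) := isNoetherian_of_tower V inferInstance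
      exact IsNoetherian.noetherian _
    refine Submodule.fg_of_fg_map_of_fg_inf_ker (Submodule.mkQ J) ?_ ?_
    · exact IsNoetherian.noetherian _
    · rw [Submodule.ker_mkQ, inf_eq_right.2 hJI]
      exact ⟨{algebraMap R V c}, by simp [J]⟩
  have hP : IsPrincipalIdealRing V := ((IsBezout.TFAE (R := V)).out 0 1).mp (inferInstance : IsNoetherianRing V)
  exact { toIsPrincipalIdealRing := hP, not_a_field' := fun h => hnontriv (IsLocalRing.isField_iff_maximalIdeal_eq.2 h) }

end Valuation

end Groth.Agent.H6.DVRDom
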