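import Mathlib.AlgebraicGeometry.Morphisms.Preimmersion
import Mathlib.AlgebraicGeometry.ResidueField
import Mathlib.AlgebraicGeometry.Properties
import Mathlib.AlgebraicGeometry.FunctionField
import Mathlib.AlgebraicGeometry.ValuativeCriterion
import Groth.Agent.Lib.H6.RedClosed

set_option linter.all false
set_option autoImplicit false
set_option backward.isDefEq.respectTransparency.types false

/-! Field valued points with bijective residue maps. -/

namespace Groth.Agent.H6.DVRPoints

universe u

open CategoryTheory CategoryTheory.Limits AlgebraicGeometry IsLocalRing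

variable {P Q : Scheme.{u}}

theorem exists_eq_fromSpecResidueField {L : Type u} [Field L] (h : Spec (CommRingCat.of L) ⟶ P) (x : P)
    (hx : h (closedPoint L) = x) :
    ∃ φ : P.residueField x ⟶ CommRingCat.of L, Spec.map φ ≫ P.fromSpecResidueField x = h := by
  obtain ⟨⟨x', φ⟩, hφ⟩ := (Scheme.SpecToEquivOfField L P).symm.surjective h
  rw [Scheme.SpecToEquivOfField_symm_apply] at hφ
  obtain rfl : x' = x := by
    have := congrArg (fun g => g (closedPoint L)) hφ
    simp only [Scheme.Hom.comp_apply, Scheme.fromSpecResidueField_apply] at this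
    exact this.trans hx
  exact ⟨φ, hφ⟩

theorem hom_ext_of_bijective (p : P ⟶ Q) {L : Type u} [Field L] (h₁ h₂ : Spec (CommRingCat.of L) ⟶ P)
    (hx : h₁ (closedPoint L) = h₂ (closedPoint L)) (hp : h₁ ≫ p = h₂ ≫ p)
    (hb : Function.Bijective (p.residueFieldMap (h₂ (closedPoint L))).hom) : h₁ = h₂ := by
  obtain ⟨φ₁, hφ₁⟩ := exists_eq_fromSpecResidueField h₁ _ hx
  obtain ⟨φ₂, hφ₂⟩ := exists_eq_fromSpecResidueField h₂ _ rfl
  have : p.residueFieldMap (h₂ (closedPoint L)) ≫ φ₁ = p.residueFieldMap (h₂ (closedPoint L)) ≫ φ₂ := by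
    apply Spec.map_injective
    rw [← cancel_mono (Q.fromSpecResidueField _), Spec.map_comp, Spec.map_comp, Category.assoc, Category.assoc,
      Scheme.Hom.SpecMap_residueFieldMap_fromSpecResidueField]
    exact (Category.assoc _ _ _).symm.trans (((congrArg (· ≫ p) hφ₁).trans (hp.trans (congrArg (· ≫ p) hφ₂).symm)).trans (Category.assoc _ _ _))
  have h12 : φ₁ = φ₂ := by
    ext z
    obtain ⟨w, rfl⟩ := hb.2 z
    exact congrArg (fun k => k.hom w) this
  exact hφ₁.symm.trans ((congrArg (fun k => Spec.map k ≫ P.fromSpecResidueField (h₂ (closedPoint L))) h12).trans hφ₂)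

theorem residueFieldMap_surjective (g : P ⟶ Q) [IsPreimmersion g] (x : P) :
    Function.Surjective (g.residueFieldMap x).hom := by
  intro z
  obtain ⟨w, rfl⟩ := P.residue_surjective x z
  obtain ⟨v, rfl⟩ := g.stalkMap_surjective x w
  exact ⟨Q.residue (g x) v, congrArg (fun k => k.hom v) (Scheme.residue_residueFieldMap g x)⟩

theorem bijective_of_section (p : P ⟶ Q) {L : Type u} [Field L] (σ : Spec (CommRingCat.of L) ⟶ P)
    [IsPreimmersion (σ ≫ p)] (x : P) (hx : σ (closedPoint L) = x) :
    Function.Bijective (p.residueFieldMap x).hom := by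
  subst hx
  refine ⟨RingHom.injective _, fun z => ?_⟩
  obtain ⟨w, hw⟩ := residueFieldMap_surjective (σ ≫ p) (closedPoint L) ((σ.residueFieldMap (closedPoint L)).hom z)
  rw [Scheme.residueFieldMap_comp] at hw
  exact ⟨w, RingHom.injective (σ.residueFieldMap (closedPoint L)).hom hw⟩

instance isPreimmersion_frac (A : Type u) [CommRing A] [IsDomain A] :
    IsPreimmersion (Spec.map (CommRingCat.ofHom (algebraMap A (FractionRing A)))) :=
  IsPreimmersion.of_isLocalization (R := A) (S := FractionRing A) (nonZeroDivisors A)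

theorem frac_apply (A : Type u) [CommRing A] [IsDomain A] :
    Spec.map (CommRingCat.ofHom (algebraMap A (FractionRing A))) (closedPoint (FractionRing A)) =
      genericPoint (Spec (CommRingCat.of A)) := by
  refine Eq.trans ?_ (genericPoint_eq_bot_of_affine (CommRingCat.of A)).symm
  refine PrimeSpectrum.ext ?_
  show (closedPoint (FractionRing A)).asIdeal.comap (algebraMap A (FractionRing A)) = ⊥
  rw [show (closedPoint (FractionRing A)).asIdeal = ⊥ from
    (Ideal.eq_bot_or_top _).resolve_right (closedPoint _).2.ne_top, ← RingHom.ker_eq_comap_bot,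
    (RingHom.injective_iff_ker_eq_bot _).1 (IsFractionRing.injective A (FractionRing A))]

theorem exists_lift_frac (h : P ⟶ Q) [UniversallyClosed h] (A : Type u) [CommRing A] [IsDomain A] [ValuationRing A]
    (j : Spec (CommRingCat.of (FractionRing A)) ⟶ P) (z : Spec (CommRingCat.of A) ⟶ Q)
    (w : j ≫ h = Spec.map (CommRingCat.ofHom (algebraMap A (FractionRing A))) ≫ z) :
    ∃ l : Spec (CommRingCat.of A) ⟶ P, Spec.map (CommRingCat.ofHom (algebraMap A (FractionRing A))) ≫ l = j ∧ l ≫ h = z := by
  have hE : ValuativeCriterion.Existence h := by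
    have h' : UniversallyClosed h := inferInstance
    rw [UniversallyClosed.eq_valuativeCriterion] at h'
    exact h'.1
  obtain ⟨⟨l, h1, h2⟩⟩ := (hE ⟨A, FractionRing A, j, z, ⟨w⟩⟩).exists_lift
  exact ⟨l, h1, h2⟩

theorem exists_lift_closed (C : TopologicalSpace.Closeds P) (h : P ⟶ Q)
    [UniversallyClosed ((Scheme.IdealSheafData.vanishingIdeal C).subschemeι ≫ h)] (A : Type u) [CommRing A] [IsDomain A] [ValuationRing A]
    (j0 : Spec (CommRingCat.of (FractionRing A)) ⟶ P) (hj0 : j0 (closedPoint (FractionRing A)) ∈ C)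
    (z : Spec (CommRingCat.of A) ⟶ Q)
    (w : j0 ≫ h = Spec.map (CommRingCat.ofHom (algebraMap A (FractionRing A))) ≫ z) :
    ∃ l : Spec (CommRingCat.of A) ⟶ P, Spec.map (CommRingCat.ofHom (algebraMap A (FractionRing A))) ≫ l = j0 ∧ l ≫ h = z := by
  obtain ⟨j, hj⟩ := RedClosed.exists_lift j0 (Scheme.IdealSheafData.vanishingIdeal C).subschemeι (by
    rw [RedClosed.range_subschemeι_vanishing]
    rintro _ ⟨q, rfl⟩
    rw [Subsingleton.elim (α := PrimeSpectrum (FractionRing A)) q (closedPoint (FractionRing A))]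
    exact hj0)
  obtain ⟨l, h1, h2⟩ := exists_lift_frac ((Scheme.IdealSheafData.vanishingIdeal C).subschemeι ≫ h) A j z
    (by rw [reassoc_of% hj, w])
  exact ⟨l ≫ (Scheme.IdealSheafData.vanishingIdeal C).subschemeι, by rw [reassoc_of% h1, hj], by rw [Category.assoc, h2]⟩

end Groth.Agent.H6.DVRPoints
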