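import Groth.Agent.Lib.H6.DVRDom2
import Mathlib.AlgebraicGeometry.ValuativeCriterion
import Mathlib.AlgebraicGeometry.Noetherian
import Mathlib.FieldTheory.IntermediateField.Adjoin.Algebra

set_option linter.all false
set_option autoImplicit false
set_option backward.isDefEq.respectTransparency.types false

/-! Over a locally Noetherian base the valuative criterion can be checked on discrete valuation rings. -/

namespace Groth.Agent.H6.DVRVal

universe u

open CategoryTheory CategoryTheory.Limits AlgebraicGeometry IsLocalRing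

theorem exists_factor {X : Scheme.{u}} {U : X.Opens} (hU : IsAffineOpen U) {C : CommRingCat.{u}} (g : Spec C ⟶ X)
    (h : ∀ p, g p ∈ U) : ∃ θ : Γ(X, U) ⟶ C, Spec.map θ ≫ hU.fromSpec = g := by
  have hr : Set.range g ⊆ Set.range hU.fromSpec := by
    rw [hU.range_fromSpec]
    rintro _ ⟨p, rfl⟩
    exact h p
  exact ⟨Spec.preimage (IsOpenImmersion.lift hU.fromSpec g hr), by rw [Spec.map_preimage, IsOpenImmersion.lift_fac]⟩

theorem factor_unique {X : Scheme.{u}} {U : X.Opens} (hU : IsAffineOpen U) {C : CommRingCat.{u}}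
    {θ θ' : Γ(X, U) ⟶ C} (h : Spec.map θ ≫ hU.fromSpec = Spec.map θ' ≫ hU.fromSpec) : θ = θ' :=
  Spec.map_inj.mp ((cancel_mono hU.fromSpec).1 h)

theorem mem_of_closed {X : Scheme.{u}} {U : X.Opens} {C : Type u} [CommRing C] [IsLocalRing C]
    (g : Spec (CommRingCat.of C) ⟶ X) (h : g (closedPoint C) ∈ U) : ∀ p, g p ∈ U := fun p =>
  ((IsLocalRing.specializes_closedPoint (R := C) p).map g.continuous).mem_open U.isOpen h

theorem existence_of_dvr {X S : Scheme.{u}} [IsLocallyNoetherian S] (f : X ⟶ S) [LocallyOfFiniteType f] [QuasiCompact f]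
    (H : ∀ sq : ValuativeCommSq f, IsDiscreteValuationRing sq.R → sq.commSq.HasLift) :
    ValuativeCriterion.Existence f := by
  intro sq
  obtain ⟨W, hW, hyW, -⟩ := exists_isAffineOpen_mem_and_subset (X := S) (x := sq.i₂ (closedPoint sq.R)) (U := ⊤) trivial
  obtain ⟨a, ha⟩ := exists_factor hW sq.i₂ (mem_of_closed sq.i₂ hyW)
  haveI : IsNoetherianRing Γ(S, W) := IsLocallyNoetherian.component_noetherian ⟨W, hW⟩
  obtain ⟨s, hs, hcov⟩ := (isCompact_iff_finite_and_eq_biUnion_affineOpens (U := f ⁻¹ᵁ W)).1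
    (QuasiCompact.isCompact_preimage (f := f) (W : Set S) W.isOpen hW.isCompact)
  have hmem : ∀ x : X, x ∈ f ⁻¹ᵁ W ↔ ∃ U ∈ s, x ∈ (U : X.affineOpens).1 := fun x => by
    rw [hcov]
    simp [TopologicalSpace.Opens.mem_iSup]
  let x := sq.i₁ (closedPoint sq.K)
  have hxW : x ∈ f ⁻¹ᵁ W := by
    show f x ∈ W
    rw [← Scheme.Hom.comp_apply, sq.commSq.w, Scheme.Hom.comp_apply]
    exact mem_of_closed sq.i₂ hyW _
  let t := {U ∈ s | x ∈ (U : X.affineOpens).1}
  have htfin : t.Finite := hs.subset fun U hU => hU.1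
  have hle : ∀ U : t, U.1.1 ≤ f ⁻¹ᵁ W := fun U p hp => (hmem p).2 ⟨U.1, U.2.1, hp⟩
  choose β hβ using fun U : t => exists_factor U.1.2 sq.i₁ (mem_of_closed sq.i₁ U.2.2)
  let αK : Γ(S, W) →+* sq.K := (algebraMap sq.R sq.K).comp a.hom
  have hcompat : ∀ (U : t) c, β U (f.appLE W U.1.1 (hle U) c) = αK c := fun U c => by
    have : f.appLE W U.1.1 (hle U) ≫ β U = a ≫ CommRingCat.ofHom (algebraMap sq.R sq.K) := by
      apply factor_unique hW
      rw [Spec.map_comp, Category.assoc, hW.SpecMap_appLE_fromSpec f U.1.2 (hle U), Spec.map_comp, Category.assoc, ha,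
        ← Category.assoc, hβ U, sq.commSq.w]
    exact congrArg (fun k => k.hom c) this
  by_cases hex : ∃ U : t, ∀ b, ∃ r, algebraMap sq.R sq.K r = β U b
  · obtain ⟨U, hU⟩ := hex
    choose θ hθ using hU
    have hinj := IsFractionRing.injective sq.R sq.K
    let θ' : Γ(X, U.1.1) ⟶ CommRingCat.of sq.R := CommRingCat.ofHom
      { toFun := θ
        map_one' := hinj (by rw [hθ, map_one, map_one])
        map_mul' := fun p q => hinj (by rw [hθ, map_mul, map_mul, hθ, hθ])
        map_zero' := hinj (by rw [hθ, map_zero, map_zero])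
        map_add' := fun p q => hinj (by rw [hθ, map_add, map_add, hθ, hθ]) }
    refine ⟨⟨⟨Spec.map θ' ≫ U.1.2.fromSpec, ?_, ?_⟩⟩⟩
    · rw [← Category.assoc, ← Spec.map_comp, ← hβ U]
      congr 2
      ext b
      exact hθ b
    · rw [Category.assoc, ← hW.SpecMap_appLE_fromSpec f U.1.2 (hle U), ← Category.assoc, ← Spec.map_comp, ← ha]
      congr 2
      ext c
      exact hinj ((hθ _).trans (hcompat U c))
  exfalso
  push Not at hex
  choose b hb using hex
  haveI := htfin.to_subtype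
  have hbinv : ∀ U : t, ∃ r : sq.R, algebraMap sq.R sq.K r = (β U (b U))⁻¹ ∧ r ∈ maximalIdeal sq.R := fun U => by
    have hne : (β U).hom (b U) ≠ 0 := fun h => hb U 0 ((map_zero _).trans h.symm)
    rcases ValuationRing.isInteger_or_isInteger sq.R ((β U).hom (b U)) with ⟨r, hr⟩ | ⟨r, hr⟩
    · exact absurd hr (hb U r)
    · refine ⟨r, hr, (mem_maximalIdeal r).2 fun hu => ?_⟩
      obtain ⟨v, hv⟩ := hu
      refine hb U ↑v⁻¹ ?_
      have : algebraMap sq.R sq.K ↑v⁻¹ = (algebraMap sq.R sq.K r)⁻¹ :=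
        eq_inv_of_mul_eq_one_left (by rw [← map_mul, ← hv, Units.inv_mul, map_one])
      rw [this, hr, inv_inv]
  choose e he hem using hbinv
  letI : Algebra Γ(S, W) sq.R := a.hom.toAlgebra
  letI : Algebra Γ(S, W) sq.K := αK.toAlgebra
  haveI : IsScalarTower Γ(S, W) sq.R sq.K := IsScalarTower.of_algebraMap_eq fun c => rfl
  let R₀ : Subalgebra Γ(S, W) sq.R := Algebra.adjoin Γ(S, W) (Set.range e)
  haveI : IsNoetherianRing R₀ := isNoetherianRing_of_fg (Subalgebra.fg_def.2 ⟨_, Set.finite_range e, rfl⟩)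
  let q : Ideal R₀ := (maximalIdeal sq.R).comap R₀.val.toRingHom
  haveI : q.IsPrime := Ideal.comap_isPrime _ _
  let T := Localization.AtPrime q
  haveI : IsNoetherianRing T := IsLocalization.isNoetherianRing q.primeCompl T inferInstance
  let ρ : T →+* sq.K := IsLocalization.lift (M := q.primeCompl) (S := T)
    (g := (algebraMap sq.R sq.K).comp R₀.val.toRingHom) (fun y => by
      have : IsUnit ((y : R₀) : sq.R) := by
        by_contra h
        exact y.2 ((mem_maximalIdeal _).2 h)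
      exact this.map (algebraMap sq.R sq.K))
  have hρ : ∀ r : R₀, ρ (algebraMap R₀ T r) = algebraMap sq.R sq.K r := fun r => IsLocalization.lift_eq _ r
  have hρinj : Function.Injective ρ := by
    rw [RingHom.injective_iff_ker_eq_bot, eq_bot_iff]
    intro z hz
    obtain ⟨p, r, rfl⟩ := IsLocalization.exists_mk'_eq q.primeCompl z
    rw [Submodule.mem_bot]
    have h0 : ρ (algebraMap R₀ T p) = 0 := by
      rw [← IsLocalization.mk'_spec T p r, map_mul, RingHom.mem_ker.1 hz, zero_mul]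
    rw [hρ] at h0
    rw [show p = 0 from Subtype.val_injective (IsFractionRing.injective sq.R sq.K (h0.trans (map_zero _).symm)),
      IsLocalization.mk'_zero]
  let K₀ := FractionRing T
  letI : Algebra K₀ sq.K := (IsFractionRing.lift (A := T) (K := K₀) hρinj).toAlgebra
  have hρK : ∀ z : T, algebraMap K₀ sq.K (algebraMap T K₀ z) = ρ z := fun z => IsFractionRing.lift_algebraMap _ z
  have hgen : ∀ U : t, ∃ G : Set Γ(X, U.1.1), G.Finite ∧
      ∀ F : Subring sq.K, (∀ c, αK c ∈ F) → (∀ g ∈ G, (β U).hom g ∈ F) → ∀ c, (β U).hom c ∈ F := fun U => by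
    letI : Algebra Γ(S, W) Γ(X, U.1.1) := (f.appLE W U.1.1 (hle U)).hom.toAlgebra
    haveI : Algebra.FiniteType Γ(S, W) Γ(X, U.1.1) := f.finiteType_appLE hW U.1.2 (hle U)
    obtain ⟨G, hG⟩ := Algebra.FiniteType.out (R := Γ(S, W)) (A := Γ(X, U.1.1))
    refine ⟨G, G.finite_toSet, fun F hα hg c => ?_⟩
    have hc : c ∈ Algebra.adjoin Γ(S, W) (G : Set Γ(X, U.1.1)) := hG ▸ trivial
    induction hc using Algebra.adjoin_induction with
    | mem y hy => exact hg y hy
    | algebraMap r => exact (hcompat U r) ▸ hα r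
    | add y z _ _ hy hz => rw [map_add]; exact F.add_mem hy hz
    | mul y z _ _ hy hz => rw [map_mul]; exact F.mul_mem hy hz
  choose G hGfin hG using hgen
  let gens : Set sq.K := ⋃ U : t, (β U).hom '' G U
  let L : IntermediateField K₀ sq.K := IntermediateField.adjoin K₀ gens
  haveI : Algebra.EssFiniteType K₀ L :=
    IntermediateField.essFiniteType_iff.2 (IntermediateField.fg_adjoin_of_finite (Set.finite_iUnion fun U => (hGfin U).image _))
  have hαL : ∀ c, αK c ∈ L := fun c => by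
    have := L.algebraMap_mem (algebraMap T K₀ (algebraMap R₀ T (algebraMap Γ(S, W) R₀ c)))
    rwa [hρK, hρ] at this
  have hβL : ∀ (U : t) c, (β U).hom c ∈ L := fun U c =>
    hG U L.toSubfield.toSubring hαL (fun g hg => IntermediateField.subset_adjoin _ _ (Set.mem_iUnion.2 ⟨U, g, hg, rfl⟩)) c
  letI : Algebra T L := ((algebraMap K₀ L).comp (algebraMap T K₀)).toAlgebra
  haveI : IsScalarTower T K₀ L := IsScalarTower.of_algebraMap_eq fun z => rfl
  obtain ⟨U₀, hU₀s, hxU₀⟩ := (hmem x).1 hxW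
  let t₀ : t := ⟨U₀, hU₀s, hxU₀⟩
  have heq : ∀ U : t, e U ≠ 0 := fun U h => by
    have h1 := he U
    rw [h, map_zero] at h1
    exact hb U 0 ((map_zero _).trans (inv_eq_zero.1 h1.symm).symm)
  have heT : ∀ U : t, algebraMap R₀ T ⟨e U, Algebra.subset_adjoin ⟨U, rfl⟩⟩ ∈ maximalIdeal T := fun U =>
    (IsLocalization.AtPrime.to_map_mem_maximal_iff T q _).2 (hem U)
  have hTne : ¬ IsField T := by
    rw [isField_iff_maximalIdeal_eq]
    intro h
    have h1 := heT t₀
    rw [h, Submodule.mem_bot] at h1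
    have h2 := congrArg ρ h1
    rw [hρ, map_zero] at h2
    exact heq t₀ (IsFractionRing.injective sq.R sq.K (h2.trans (map_zero _).symm))
  obtain ⟨V, hV, hTV, hTm⟩ := DVRDom.exists_dvr (R := T) K₀ L hTne
  let aV : Γ(S, W) ⟶ CommRingCat.of V := CommRingCat.ofHom
    (((algebraMap T L).comp ((algebraMap R₀ T).comp (algebraMap Γ(S, W) R₀))).codRestrict V.toSubring fun c => hTV _)
  let i₁ : Spec (CommRingCat.of L) ⟶ X :=
    Spec.map (CommRingCat.ofHom ((β t₀).hom.codRestrict L.toSubfield.toSubring (hβL t₀))) ≫ U₀.2.fromSpec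
  have hsq : CommSq i₁ (Spec.map (CommRingCat.ofHom (algebraMap V L))) f (Spec.map aV ≫ hW.fromSpec) := by
    constructor
    rw [Category.assoc, ← hW.SpecMap_appLE_fromSpec f U₀.2 (hle t₀), ← Category.assoc, ← Spec.map_comp, ← Category.assoc, ← Spec.map_comp]
    congr 2
    ext c
    show (β t₀).hom _ = algebraMap K₀ sq.K (algebraMap T K₀ _)
    rw [hρK, RingHom.comp_apply, hρ]
    exact hcompat t₀ c
  obtain ⟨⟨l, hl₁', hl₂⟩⟩ := (H ⟨V, L, i₁, Spec.map aV ≫ hW.fromSpec, hsq⟩ hV).exists_lift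
  have hl₁ : Spec.map (CommRingCat.ofHom (algebraMap V L)) ≫ l = i₁ := hl₁'
  have hlW : l (closedPoint V) ∈ f ⁻¹ᵁ W := by
    show f (l (closedPoint V)) ∈ W
    rw [← Scheme.Hom.comp_apply]
    erw [hl₂]
    rw [Scheme.Hom.comp_apply]
    exact hW.range_fromSpec.le ⟨_, rfl⟩
  obtain ⟨U, hUs, hlU⟩ := (hmem _).1 hlW
  obtain ⟨θ, hθ⟩ := exists_factor U.2 l (mem_of_closed l hlU)
  have hi₁ : Spec.map (CommRingCat.ofHom L.val.toRingHom) ≫ i₁ = sq.i₁ := by
    rw [← Category.assoc, ← Spec.map_comp, ← hβ t₀]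
    rfl
  have hxU : x ∈ U.1 := by
    show sq.i₁ _ ∈ U.1
    rw [← hi₁, Scheme.Hom.comp_apply]
    have h1 : ∀ p, i₁ p ∈ U.1 := fun p => by
      rw [← hl₁, Scheme.Hom.comp_apply]
      exact mem_of_closed l hlU _
    exact h1 _
  let u : t := ⟨U, hUs, hxU⟩
  have hβu : θ ≫ CommRingCat.ofHom ((L.val.toRingHom).comp (algebraMap V L)) = β u := by
    apply factor_unique U.2
    rw [hβ u, ← hi₁, Spec.map_comp, Category.assoc, hθ, CommRingCat.ofHom_comp, Spec.map_comp, Category.assoc]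
    exact congrArg (Spec.map (CommRingCat.ofHom L.val.toRingHom) ≫ ·) hl₁
  have hmul : ((θ (b u) : V) : L) * algebraMap T L (algebraMap R₀ T ⟨e u, Algebra.subset_adjoin ⟨u, rfl⟩⟩) = 1 := by
    apply Subtype.val_injective
    show ((((θ (b u) : V)) : L) : sq.K) * algebraMap K₀ sq.K (algebraMap T K₀ _) = 1
    rw [hρK, hρ, he u]
    rw [show ((((θ (b u) : V)) : L) : sq.K) = (β u).hom (b u) from congrArg (fun k => k.hom (b u)) hβu]
    exact mul_inv_cancel₀ fun h => hb u 0 ((map_zero _).trans h.symm)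
  have h1 : algebraMap T L (algebraMap R₀ T ⟨e u, Algebra.subset_adjoin ⟨u, rfl⟩⟩) ∈ V.nonunits := hTm _ (heT u)
  rw [show algebraMap T L _ = ((⟨_, hTV (algebraMap R₀ T ⟨e u, Algebra.subset_adjoin ⟨u, rfl⟩⟩)⟩ : V) : L) from rfl,
    ValuationSubring.coe_mem_nonunits_iff, mem_maximalIdeal] at h1
  exact h1 (IsUnit.of_mul_eq_one (θ (b u)) (Subtype.val_injective ((mul_comm _ _).trans hmul)))

end Groth.Agent.H6.DVRVal
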