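import Mathlib.AlgebraicGeometry.Morphisms.Finite
import Mathlib.AlgebraicGeometry.ResidueField
import Mathlib.RingTheory.IntegralClosure.IsIntegralClosure.Basic
import Mathlib.FieldTheory.PurelyInseparable.Basic
import Mathlib.AlgebraicGeometry.Noetherian
import Mathlib.RingTheory.RingHom.PurelyInseparable
import Mathlib.AlgebraicGeometry.Morphisms.UniversallyInjective

set_option linter.all false
set_option autoImplicit false
set_option backward.isDefEq.respectTransparency.types false

namespace Groth.Agent.H6.DegBound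

universe u

open AlgebraicGeometry CategoryTheory

theorem finrank_le {T' T : Scheme.{u}} (p : T' ⟶ T) [IsFinite p] {U : T.Opens} (hU : IsAffineOpen U) :
    ∃ N : ℕ, ∀ t : T', p.base t ∈ U →
      letI := (p.residueFieldMap t).hom.toAlgebra
      Module.Finite (T.residueField (p.base t)) (T'.residueField t) ∧
        Module.finrank (T.residueField (p.base t)) (T'.residueField t) ≤ N := by
  classical
  have hfin : (p.app U).hom.Finite := IsFinite.finite_app p U hU
  letI := (p.app U).hom.toAlgebra
  haveI : Module.Finite Γ(T, U) Γ(T', p ⁻¹ᵁ U) := hfin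
  obtain ⟨G, hG⟩ := Module.Finite.fg_top (R := Γ(T, U)) (M := Γ(T', p ⁻¹ᵁ U))
  refine ⟨G.card, fun t ht => ?_⟩
  letI := (p.residueFieldMap t).hom.toAlgebra
  let ev := T'.evaluation (p ⁻¹ᵁ U) t ht
  let M : Submodule (T.residueField (p.base t)) (T'.residueField t) :=
    Submodule.span (T.residueField (p.base t)) ((G.image fun g => ev g : Finset _) : Set (T'.residueField t))
  have hev : ∀ b, ev b ∈ M := fun b => by
    have hb : b ∈ Submodule.span Γ(T, U) (G : Set Γ(T', p ⁻¹ᵁ U)) := hG ▸ Submodule.mem_top
    induction hb using Submodule.span_induction with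
    | mem g hg => exact Submodule.subset_span (Finset.mem_image_of_mem _ hg)
    | zero => rw [map_zero]; exact zero_mem _
    | add a b _ _ ha hb => rw [map_add]; exact add_mem ha hb
    | smul a b _ hb =>
      rw [Algebra.smul_def, map_mul]
      have e : ev (algebraMap Γ(T, U) Γ(T', p ⁻¹ᵁ U) a) =
          algebraMap (T.residueField (p.base t)) (T'.residueField t) (T.evaluation U (p.base t) ht a) :=
        (Scheme.evaluation_naturality_apply p t ht a).symm
      rw [e, ← Algebra.smul_def]
      exact M.smul_mem _ hb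
  let S : Subalgebra (T.residueField (p.base t)) (T'.residueField t) :=
    Algebra.adjoin _ (Set.range fun b => ev b)
  have hS : ∀ z ∈ S, z ∈ M := fun z hz => by
    have hz' : z ∈ Subalgebra.toSubmodule S := hz
    rw [Algebra.adjoin_eq_span] at hz'
    refine Submodule.span_le.2 ?_ hz'
    intro w hw
    have : (Submonoid.closure (Set.range fun b => ev b) : Set (T'.residueField t)) ⊆ Set.range fun b => ev b :=
      fun v hv => by
        induction hv using Submonoid.closure_induction with
        | mem v hv => exact hv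
        | one => exact ⟨1, map_one _⟩
        | mul a b _ _ ha hb =>
          obtain ⟨a, rfl⟩ := ha; obtain ⟨b, rfl⟩ := hb
          exact ⟨a * b, map_mul _ _ _⟩
    obtain ⟨b, rfl⟩ := this hw
    exact hev b
  haveI : FiniteDimensional (T.residueField (p.base t)) S :=
    haveI : FiniteDimensional (T.residueField (p.base t)) M := FiniteDimensional.span_of_finite _ (Finset.finite_toSet _)
    Submodule.finiteDimensional_of_le (S₁ := Subalgebra.toSubmodule S) (S₂ := M) hS
  have htop : M = ⊤ := by
    refine eq_top_iff.2 fun z _ => ?_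
    obtain ⟨σ, rfl⟩ := T'.residue_surjective t z
    have hW : IsAffineOpen (p ⁻¹ᵁ U) := hU.preimage p
    letI := T'.presheaf.algebra_section_stalk (⟨t, ht⟩ : (p ⁻¹ᵁ U : T'.Opens))
    haveI := hW.isLocalization_stalk ⟨t, ht⟩
    obtain ⟨⟨b, s⟩, hbs⟩ := IsLocalization.surj (hW.primeIdealOf ⟨t, ht⟩).asIdeal.primeCompl σ
    have hu : IsUnit (T'.residue t (algebraMap Γ(T', p ⁻¹ᵁ U) (T'.presheaf.stalk t) s.1)) :=
      (IsLocalization.map_units (T'.presheaf.stalk t) s).map _
    have e1 : T'.residue t σ = ev b * (ev s.1)⁻¹ := by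
      have hne : ev s.1 ≠ 0 := hu.ne_zero
      rw [eq_mul_inv_iff_mul_eq₀ hne]
      exact ((map_mul (T'.residue t).hom σ _).symm.trans (congrArg _ hbs) : _)
    rw [e1]
    refine hS _ (mul_mem (Algebra.subset_adjoin ⟨b, rfl⟩) ?_)
    have hs : ev s.1 ∈ S := Algebra.subset_adjoin ⟨s.1, rfl⟩
    have hint : IsIntegral (T.residueField (p.base t)) (ev s.1) :=
      (IsIntegral.of_finite (T.residueField (p.base t)) (⟨_, hs⟩ : S)).map S.val
    exact Algebra.adjoin_le (Set.singleton_subset_iff.2 hs) hint.inv_mem_adjoin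
  refine ⟨⟨⟨_, htop⟩⟩, ?_⟩
  calc Module.finrank (T.residueField (p.base t)) (T'.residueField t)
      = Module.finrank (T.residueField (p.base t)) M := by rw [htop, finrank_top]
    _ ≤ (G.image fun g => ev g).card := finrank_span_finset_le_card _
    _ ≤ G.card := Finset.card_image_le

theorem exists_bound {T' T : Scheme.{u}} (p : T' ⟶ T) [IsFinite p] [UniversallyInjective p] [CompactSpace T] :
    ∃ d : ℕ, 0 < d ∧ ∀ t : T', ∃ e : ℕ,
      (letI := (p.residueFieldMap t).hom.toAlgebra
       Module.finrank (T.residueField (p.base t)) (T'.residueField t) =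
        ringExpChar (T.residueField (p.base t)) ^ e) ∧
      ringExpChar (T.residueField (p.base t)) ^ e ∣ d := by
  classical
  choose U hU hxU using fun x : T => (by
    obtain ⟨_, ⟨U, hU, rfl⟩, hx, -⟩ := T.isBasis_affineOpens.exists_subset_of_mem_open
      (Set.mem_univ x) isOpen_univ
    exact ⟨U, hU, hx⟩ : ∃ U : T.Opens, IsAffineOpen U ∧ x ∈ U)
  obtain ⟨s, hs⟩ := isCompact_univ.elim_finite_subcover (fun x : T => (U x : Set T)) (fun x => (U x).2)
    fun x _ => Set.mem_iUnion.2 ⟨x, hxU x⟩
  choose N hN using fun x : T => finrank_le p (hU x)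
  refine ⟨(s.sup N).factorial, Nat.factorial_pos _, fun t => ?_⟩
  obtain ⟨x, hxs, htx⟩ := Set.mem_iUnion₂.1 (hs (Set.mem_univ (p.base t)))
  letI := (p.residueFieldMap t).hom.toAlgebra
  obtain ⟨hfin, hle⟩ := hN x t htx
  haveI := hfin
  haveI : IsPurelyInseparable (T.residueField (p.base t)) (T'.residueField t) := by
    have e := (tfae_universallyInjective p).out 0 2
    exact (e.1 ‹_›).2 t
  obtain ⟨e, he⟩ := IsPurelyInseparable.finrank_eq_pow (T.residueField (p.base t)) (T'.residueField t) (ringExpChar (T.residueField (p.base t)))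
  refine ⟨e, he, Nat.dvd_factorial (he ▸ Module.finrank_pos) ?_⟩
  rw [← he]
  exact hle.trans (Finset.le_sup hxs)

end Groth.Agent.H6.DegBound
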