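import Groth.Agent.Lib.H6.EtaAway
import Mathlib.RingTheory.Flat.FaithfullyFlat.Algebra
import Mathlib.RingTheory.Ideal.MinimalPrime.Localization
import Mathlib.RingTheory.Spectrum.Prime.Topology
import Mathlib.RingTheory.Flat.TorsionFree

set_option linter.all false
set_option autoImplicit false

/-! `rel` and localisation. -/

namespace Groth.Agent.H6.Eta

universe u

open EtaPt

variable (η : FieldEndo.{u}) {A B : Type u} [CommRing A] [CommRing B]

theorem awayMap_comp (φ : A →+* B) (f : A) :
    (Localization.awayMap φ f).comp (algebraMap A (Localization.Away f)) =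
      (algebraMap B (Localization.Away (φ f))).comp φ :=
  IsLocalization.map_comp _

theorem rel_away_le (φ : A →+* B) (f : A) :
    (η.rel φ).map (algebraMap B (Localization.Away (φ f))) ≤ η.rel (Localization.awayMap φ f) := by
  rintro _ ⟨b, hb, rfl⟩
  refine rel_comp_left η (algebraMap A (Localization.Away f)) _ ?_
  rw [awayMap_comp]
  exact map_rel_comp η φ _ hb

theorem rel_away_exists (hA : (minimalPrimes A).Finite) (φ : A →+* B) (f : A)
    {y : Localization.Away (φ f)} (hy : y ∈ η.rel (Localization.awayMap φ f)) :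
    ∃ x ∈ η.rel φ, ∃ n : ℕ,
      y * algebraMap B (Localization.Away (φ f)) (φ f) ^ n = algebraMap B _ x := by
  obtain ⟨x', hx', hxy⟩ := hy
  obtain ⟨x, hx, n, hn⟩ := M_away η f hA hx'
  obtain ⟨⟨b, _, k, rfl⟩, hb⟩ := IsLocalization.surj (Submonoid.powers (φ f)) y
  let ιB := algebraMap B (Localization.Away (φ f))
  have h2 : ιB (φ f) = Localization.awayMap φ f (algebraMap A _ f) :=
    (RingHom.congr_fun (awayMap_comp φ f) f).symm
  have h1 : η.Nmap ιB (η.Nmap φ x * η.t B (φ f) ^ k - η.t B (b * φ f ^ n)) = 0 := by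
    rw [map_sub, sub_eq_zero, map_mul, map_pow, η.Nmap_t_apply, η.Nmap_t_apply, Nmap_comp,
      ← awayMap_comp, ← Nmap_comp, ← hn, map_mul, map_pow, η.Nmap_t_apply, hxy, ← h2]
    simp only [← map_pow, ← map_mul]
    congr 1
    simp only [map_mul, map_pow] at hb ⊢
    rw [← hb]
    ring
  have h3 := Nmap_away_zero η (φ f) h1
  rw [mul_sub, sub_eq_zero] at h3
  refine ⟨b * φ f ^ (n + 1), ⟨x * η.t A f ^ (k + 1),
    (η.M A).mul_mem hx ((η.M A).pow_mem (η.t_mem_M A f) _), ?_⟩, k + (n + 1), ?_⟩
  · have e1 : η.t B (b * φ f ^ (n + 1)) = η.t B (φ f) * η.t B (b * φ f ^ n) := by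
      rw [← map_mul, pow_succ]; congr 1; ring
    rw [map_mul, map_pow, η.Nmap_t_apply, e1, ← h3, pow_succ]
    ring
  · simp only [map_mul, map_pow] at hb ⊢
    rw [pow_add, ← mul_assoc, hb]

theorem awayMap_qRel_bij (hA : (minimalPrimes A).Finite) (φ : A →+* B) (f : A)
    (h : Function.Bijective (η.qRel φ)) :
    Function.Bijective (η.qRel (Localization.awayMap φ f)) := by
  rw [qRel_bij_iff] at h ⊢
  refine ⟨Localization.awayMap_injective_iff.2 fun a ha => ⟨0, by
    rw [pow_zero, one_mul]; exact h.1 (ha.trans (map_zero φ).symm)⟩, fun y hy => ?_⟩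
  obtain ⟨x, hx, n, hn⟩ := rel_away_exists η hA φ f hy
  obtain ⟨a, rfl⟩ := h.2 hx
  have hu := (IsLocalization.Away.algebraMap_isUnit (S := Localization.Away (φ f)) (φ f)).pow n
  refine ⟨IsLocalization.mk' _ a (⟨f ^ n, n, rfl⟩ : Submonoid.powers f), hu.mul_right_cancel ?_⟩
  rw [hn, show algebraMap B (Localization.Away (φ f)) (φ f) = Localization.awayMap φ f
      (algebraMap A _ f) from (RingHom.congr_fun (awayMap_comp φ f) f).symm,
    ← map_pow, ← map_mul, ← map_pow, IsLocalization.mk'_spec]
  exact RingHom.congr_fun (awayMap_comp φ f) a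

theorem qRel_bij_of_away (φ : A →+* B) (s : Finset A) (hspan : Ideal.span (s : Set A) = ⊤)
    (h : ∀ f ∈ s, Function.Bijective (η.qRel (Localization.awayMap φ f))) :
    Function.Bijective (η.qRel φ) := by
  simp only [qRel_bij_iff] at h ⊢
  refine ⟨(injective_iff_map_eq_zero φ).2 fun a ha => ?_, fun b hb => ?_⟩
  · let I : Ideal A := Submodule.colon (⊥ : Ideal A) {a}
    suffices (1 : A) ∈ I by simpa [I, Submodule.mem_colon_singleton] using this
    refine Ideal.eq_top_iff_one _ |>.1 ?_
    rw [← Ideal.radical_eq_top, eq_top_iff, ← hspan, Ideal.span_le]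
    intro f hf
    have h0 : algebraMap A (Localization.Away f) a = 0 := (h f hf).1 (by
      rw [← RingHom.comp_apply, awayMap_comp, RingHom.comp_apply, ha, map_zero, map_zero])
    obtain ⟨⟨_, n, rfl⟩, hn⟩ :=
      (IsLocalization.map_eq_zero_iff (Submonoid.powers f) (Localization.Away f) a).1 h0
    exact ⟨n, by simpa [I, Submodule.mem_colon_singleton] using hn⟩
  · let I : Ideal A :=
      { carrier := {c | φ c * b ∈ φ.range}
        add_mem' := fun {c d} hc hd => by
          have := φ.range.add_mem hc hd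
          simpa [add_mul] using this
        zero_mem' := ⟨0, by simp⟩
        smul_mem' := fun c d hd => by
          have := φ.range.mul_mem ⟨c, rfl⟩ hd
          simpa [mul_assoc] using this }
    suffices (1 : A) ∈ I by
      have h1 : φ 1 * b ∈ φ.range := this
      simpa using h1
    refine Ideal.eq_top_iff_one _ |>.1 ?_
    rw [← Ideal.radical_eq_top, eq_top_iff, ← hspan, Ideal.span_le]
    intro f hf
    obtain ⟨z, hz⟩ := (h f hf).2 (rel_away_le η φ f ⟨b, hb, rfl⟩)
    obtain ⟨⟨a, _, n, rfl⟩, ha⟩ := IsLocalization.surj (Submonoid.powers f) z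
    have e := congrArg (Localization.awayMap φ f) ha
    rw [map_mul, hz] at e
    simp only [← RingHom.comp_apply (Localization.awayMap φ f), awayMap_comp] at e
    simp only [RingHom.comp_apply, ← map_mul] at e
    obtain ⟨⟨_, m, rfl⟩, hm⟩ :=
      (IsLocalization.eq_iff_exists (Submonoid.powers (φ f)) (Localization.Away (φ f))).1 e
    refine ⟨m + n, f ^ m * a, ?_⟩
    simp only [map_mul, map_pow] at hm ⊢
    rw [pow_add, mul_assoc, ← hm]
    ring

theorem rel_integralClosure [Algebra A B] (hA : (minimalPrimes A).Finite)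
    (hs : Function.Surjective (PrimeSpectrum.comap (algebraMap A B))) :
    (η.rel (algebraMap A (integralClosure A B))).map (integralClosure A B).val.toRingHom =
      η.rel (algebraMap A B) := by
  let w : integralClosure A B →+* B := (integralClosure A B).val.toRingHom
  have hw : w.comp (algebraMap A (integralClosure A B)) = algebraMap A B := rfl
  apply le_antisymm
  · rintro _ ⟨c, hc, rfl⟩
    rw [← hw]
    exact map_rel_comp η _ w hc
  · intro b hb
    obtain ⟨P, hP, hP0⟩ := qRel_isIntegral η hA _ hs ⟨b, hb⟩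
    have hint : IsIntegral A b := ⟨P, hP, by
      have := congrArg (η.rel (algebraMap A B)).subtype hP0
      rw [Polynomial.hom_eval₂, map_zero] at this
      exact this⟩
    refine ⟨⟨b, hint⟩, ?_, rfl⟩
    obtain ⟨x, hx, hxb⟩ := hb
    refine ⟨x, hx, eq_of_minimal η (Nmap_mem_M η _ hx) (η.t_mem_M _ _) fun q hq => ?_⟩
    obtain ⟨Q, hQ, hQq⟩ := Ideal.exists_comap_eq_of_mem_minimalPrimes_of_injective
      (f := w) Subtype.val_injective q.asIdeal hq
    obtain rfl : PrimeSpectrum.comap w ⟨Q, hQ⟩ = q := PrimeSpectrum.ext hQq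
    apply (η.map (Ideal.ResidueField.map (PrimeSpectrum.comap w ⟨Q, hQ⟩).asIdeal Q w rfl)).injective
    change η.Nmap w (η.Nmap _ x) (⟨Q, hQ⟩ : PrimeSpectrum B) =
      η.Nmap w (η.t _ ⟨b, hint⟩) (⟨Q, hQ⟩ : PrimeSpectrum B)
    rw [Nmap_comp, hw, hxb, η.Nmap_t_apply]
    rfl

open TensorProduct in
theorem qRel_bij_descent (A A' B : Type u) [CommRing A] [CommRing A'] [CommRing B]
    [Algebra A A'] [Algebra A B] [Module.FaithfullyFlat A A']
    (h : Function.Bijective (η.qRel (Algebra.TensorProduct.includeLeftRingHom : A' →+* A' ⊗[A] B))) :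
    Function.Bijective (η.qRel (algebraMap A B)) := by
  rw [qRel_bij_iff] at h ⊢
  let l : A' →+* A' ⊗[A] B := Algebra.TensorProduct.includeLeftRingHom
  let r : B →+* A' ⊗[A] B :=
    (Algebra.TensorProduct.includeRight (R := A) (A := A') (B := B)).toRingHom
  have hsq : l.comp (algebraMap A A') = r.comp (algebraMap A B) := RingHom.ext fun a => by
    change algebraMap A A' a ⊗ₜ[A] (1 : B) = (1 : A') ⊗ₜ[A] algebraMap A B a
    rw [Algebra.algebraMap_eq_smul_one, Algebra.algebraMap_eq_smul_one, TensorProduct.smul_tmul]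
  have hu : Function.Injective (algebraMap A A') := FaithfulSMul.algebraMap_injective A A'
  refine ⟨(injective_iff_map_eq_zero _).2 fun a ha => ?_, fun b hb => ?_⟩
  · apply hu
    rw [map_zero]
    apply h.1
    change (l.comp (algebraMap A A')) a = l 0
    rw [hsq, map_zero, RingHom.comp_apply, ha, map_zero]
  · have h1 : r b ∈ η.rel l := by
      refine rel_comp_left η (algebraMap A A') l ?_
      rw [hsq]
      exact map_rel_comp η _ r hb
    obtain ⟨a', ha'⟩ := h.2 h1
    let M : Submodule A B := LinearMap.range (Algebra.linearMap A B)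
    have h2 := congrArg (LinearMap.lTensor A' M.mkQ) ha'
    change (LinearMap.lTensor A' M.mkQ) (a' ⊗ₜ[A] (1 : B)) =
      (LinearMap.lTensor A' M.mkQ) ((1 : A') ⊗ₜ[A] b) at h2
    have h3 : M.mkQ 1 = 0 := (Submodule.Quotient.mk_eq_zero M).2 ⟨1, map_one (algebraMap A B)⟩
    rw [LinearMap.lTensor_tmul, LinearMap.lTensor_tmul, h3, TensorProduct.tmul_zero] at h2
    have h4 : M.mkQ b = 0 :=
      Module.FaithfullyFlat.tensorProduct_mk_injective (A := A) (B := A') _
        ((h2.symm.trans (TensorProduct.tmul_zero _ _).symm) : (1 : A') ⊗ₜ[A] M.mkQ b = 1 ⊗ₜ[A] 0)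
    exact (Submodule.Quotient.mk_eq_zero M).1 h4

theorem qRel_bij_normalisation_descent (A A' : Type u) [CommRing A] [CommRing A'] [Algebra A A']
    [Module.FaithfullyFlat A A']
    (h : Function.Bijective (η.qRel (algebraMap A' (integralClosure A' (FractionRing A'))))) :
    Function.Bijective (η.qRel (algebraMap A (integralClosure A (FractionRing A)))) := by
  rw [qRel_bij_iff] at h ⊢
  let K := FractionRing A
  let K' := FractionRing A'
  let u := algebraMap A A'
  have hreg : ∀ s : nonZeroDivisors A, u s ∈ nonZeroDivisors A' := fun s => by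
    rw [mem_nonZeroDivisors_iff_right]
    intro x hx
    refine Module.Flat.isSMulRegular_of_nonZeroDivisors (M := A') s.2 ?_
    change (s : A) • x = (s : A) • (0 : A')
    rw [smul_zero, Algebra.smul_def, mul_comm]
    exact hx
  let W : K →+* K' := IsLocalization.lift (M := nonZeroDivisors A)
    (g := (algebraMap A' K').comp u) fun s => IsLocalization.map_units K' ⟨u s, hreg s⟩
  have hW : ∀ a, W (algebraMap A K a) = algebraMap A' K' (u a) := IsLocalization.lift_eq _
  let C := integralClosure A K
  let C' := integralClosure A' K'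
  let w : C →+* C' := (W.comp C.val.toRingHom).codRestrict C'.toSubring fun c => by
    obtain ⟨P, hP, hP0⟩ := c.2
    refine ⟨P.map u, hP.map u, ?_⟩
    rw [Polynomial.eval₂_map, show (algebraMap A' K').comp u = W.comp (algebraMap A K) from
      RingHom.ext fun a => (hW a).symm]
    change Polynomial.eval₂ (W.comp (algebraMap A K)) (W (c : K)) P = 0
    rw [← Polynomial.hom_eval₂, hP0, map_zero]
  have hsq : (algebraMap A' C').comp u = w.comp (algebraMap A C) :=
    RingHom.ext fun a => Subtype.ext (hW a).symm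
  refine ⟨fun a a' e => IsFractionRing.injective A K (congrArg Subtype.val e), fun c hc => ?_⟩
  have h1 : w c ∈ η.rel (algebraMap A' C') := by
    refine rel_comp_left η u _ ?_
    rw [hsq]
    exact map_rel_comp η _ w hc
  obtain ⟨a', ha'⟩ := h.2 h1
  obtain ⟨⟨r, s⟩, hrs⟩ := IsLocalization.surj (nonZeroDivisors A) (c : K)
  have e1 : u r = a' * u s := IsFractionRing.injective A' K' (by
    have := congrArg W hrs
    rw [map_mul, hW, hW] at this
    rw [map_mul, ← this]
    congr 1
    exact (congrArg Subtype.val ha').symm)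
  have e2 : r ∈ Ideal.span {(s : A)} := by
    rw [← Ideal.comap_map_eq_self_of_faithfullyFlat (B := A') (Ideal.span {(s : A)}), Ideal.mem_comap,
      Ideal.map_span, Set.image_singleton]
    exact Ideal.mem_span_singleton'.2 ⟨a', e1.symm⟩
  obtain ⟨a, ha⟩ := Ideal.mem_span_singleton'.1 e2
  refine ⟨a, Subtype.ext ?_⟩
  change algebraMap A K a = c
  refine (IsLocalization.map_units K s).mul_right_cancel ?_
  rw [← map_mul, ha, hrs]

end Groth.Agent.H6.Eta
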