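import Groth.Agent.Lib.H6.EtaMore
import Mathlib.RingTheory.Localization.Away.Basic
import Mathlib.RingTheory.Localization.Integral
import Mathlib.RingTheory.Localization.Ideal

set_option linter.all false
set_option autoImplicit false

/-! Localisation at one element. -/

namespace Groth.Agent.H6.Eta

universe u

open EtaPt

variable (η : FieldEndo.{u}) {A : Type u} [CommRing A] (f : A)

local notation "L" => Localization.Away f
local notation "ι" => algebraMap A (Localization.Away f)

theorem Nmap_away_zero {x : η.N A} (hx : η.Nmap ι x = 0) : η.t A f * x = 0 := by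
  refine N_ext η fun E _ hE φ => ?_
  rw [map_zero, map_mul, ev_t]
  by_cases h : φ f = 0
  · rw [h, zero_mul]
  · let ψ : L →+* E := IsLocalization.Away.lift f (isUnit_iff_ne_zero.2 h)
    have hψ : ψ.comp ι = φ := IsLocalization.Away.lift_comp f _
    have := congrArg (ev η hE ψ) hx
    rw [ev_Nmap, hψ, map_zero] at this
    rw [this, mul_zero]

theorem exists_zero_ext (y : η.N L) : ∃ x : η.N A, η.Nmap ι x = y ∧
    ∀ (E : Type u) [Field E] (hE : Cl η E) (φ : A →+* E), φ f = 0 → ev η hE φ x = 0 := by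
  classical
  let x : η.N A := fun p =>
    if h : gpt η p f = 0 then 0
    else ev η (cl_obj η _) (IsLocalization.Away.lift (S := L) f (isUnit_iff_ne_zero.2 h)) y
  refine ⟨x, N_ext η fun E _ hE ψ => ?_, fun E _ hE φ h0 => ?_⟩
  · rw [ev_Nmap]
    have hne : gpt η (pt (ψ.comp ι)) f ≠ 0 := fun h => by
      have h1 : f ∈ (pt (ψ.comp ι)).asIdeal :=
        (SetLike.ext_iff.1 (ker_gpt η _) f).1 (RingHom.mem_ker.2 h)
      exact not_isUnit_zero (M₀ := E) (RingHom.mem_ker.1 h1 ▸
        (IsLocalization.Away.algebraMap_isUnit f).map ψ)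
    change ext η hE (lft (ψ.comp ι)) (x _) = _
    simp only [x, dif_neg hne]
    rw [ev_comp η (cl_obj η _) hE]
    congr 1
    refine congrArg (ev η hE) ?_
    refine IsLocalization.ringHom_ext (Submonoid.powers f) ?_
    rw [RingHom.comp_assoc, IsLocalization.Away.lift_comp, gpt, ← RingHom.comp_assoc, ext_comp_eta,
      lft_comp]
  · have h : gpt η (pt φ) f = 0 :=
      RingHom.mem_ker.1 ((SetLike.ext_iff.1 (ker_gpt η _) f).2 (RingHom.mem_ker.2 h0))
    change ext η hE (lft φ) (x _) = 0
    simp only [x, dif_pos h, map_zero]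

theorem minimal_comap (q : PrimeSpectrum L) (hq : q.asIdeal ∈ minimalPrimes L) :
    q.asIdeal.comap ι ∈ minimalPrimes A := by
  have hd := ((IsLocalization.isPrime_iff_isPrime_disjoint (Submonoid.powers f) L q.asIdeal).1 q.isPrime)
  refine ⟨⟨hd.1, bot_le⟩, fun P hP hle => ?_⟩
  have hPd : Disjoint (Submonoid.powers f : Set A) P := hd.2.mono_right hle
  haveI := hP.1
  have h1 := IsLocalization.isPrime_of_isPrime_disjoint (Submonoid.powers f) L P hP.1 hPd
  have h2 : P.map ι ≤ q.asIdeal := Ideal.map_le_iff_le_comap.2 hle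
  have h3 := hq.2 ⟨h1, bot_le⟩ h2
  intro a ha
  have := Ideal.comap_mono (f := ι) h3 ha
  rwa [show Ideal.comap ι (P.map ι) = P from
    IsLocalization.comap_map_of_isPrime_disjoint (Submonoid.powers f) L hP.1 hPd] at this

theorem away_uniform (hA : (minimalPrimes A).Finite) {y : η.N L} (hy : y ∈ η.M L) :
    ∃ (N : ℕ) (F : Polynomial A), F.Monic ∧ ∀ (E : Type u) [Field E] (hE : Cl η E) (ψ : L →+* E),
      Polynomial.eval₂ (ψ.comp ι) (ev η hE ψ y * ψ (ι f) ^ N) F = 0 := by
  classical
  have h : ∀ P ∈ hA.toFinset, ∃ (n : ℕ) (G : Polynomial A), G.Monic ∧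
      ∀ q : PrimeSpectrum L, q.asIdeal.comap ι = P →
        Polynomial.eval₂ ((gpt η q).comp ι) (y q * gpt η q (ι f) ^ n) G = 0 := fun P hP => by
    by_cases hex : ∃ q : PrimeSpectrum L, q.asIdeal.comap ι = P
    · obtain ⟨q, hq⟩ := hex
      have hint := ev_integral η hy (cl_obj η _) (gpt η q)
      rw [ev_gpt] at hint
      letI := (gpt η q).toAlgebra
      letI := ((gpt η q).comp ι).toAlgebra
      haveI : IsScalarTower A L (η.obj q.asIdeal.ResidueField) :=
        IsScalarTower.of_algebraMap_eq fun _ => rfl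
      obtain ⟨⟨_, n, rfl⟩, G, hG, hG0⟩ :=
        IsIntegral.exists_multiple_integral_of_isLocalization (Submonoid.powers f) (y q) hint
      refine ⟨n, G, hG, fun q' hq' => ?_⟩
      obtain rfl : q = q' := PrimeSpectrum.localization_comap_injective L (Submonoid.powers f)
        (PrimeSpectrum.ext (hq.trans hq'.symm))
      have e : (⟨f ^ n, n, rfl⟩ : Submonoid.powers f) • y q = y q * gpt η q (ι f) ^ n := by
        rw [Submonoid.smul_def, Algebra.smul_def, mul_comm, map_pow]
        rfl
      rw [← e]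
      exact hG0
    · exact ⟨0, 1, Polynomial.monic_one, fun q hq => (hex ⟨q, hq⟩).elim⟩
  choose! n G hG hG0 using h
  refine ⟨hA.toFinset.sup n,
    ∏ P ∈ hA.toFinset, (G P).scaleRoots (f ^ (hA.toFinset.sup n - n P)),
    Polynomial.monic_prod_of_monic _ _ fun P hP => (Polynomial.monic_scaleRoots_iff _).2 (hG P hP),
    fun E _ hE ψ => ?_⟩
  set N := hA.toFinset.sup n
  set F := ∏ P ∈ hA.toFinset, (G P).scaleRoots (f ^ (N - n P)) with hF
  let z : η.N L := Polynomial.eval₂ ((η.t L).comp ι) (y * η.t L (ι f) ^ N) F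
  have hz : z ∈ η.M L := by
    let z' : η.M L := Polynomial.eval₂ ((η.q L).comp ι) (⟨y, hy⟩ * η.q L (ι f) ^ N) F
    have : (η.M L).subtype z' = z := by
      rw [Polynomial.hom_eval₂]
      rfl
    rw [← this]
    exact z'.2
  have hzero : z = 0 := eq_zero_of_minimal η hz fun q hq => by
    have hP : q.asIdeal.comap ι ∈ hA.toFinset := (Set.Finite.mem_toFinset hA).2 (minimal_comap f q hq)
    change Pi.evalRingHom (fun p : PrimeSpectrum L => η.obj p.asIdeal.ResidueField) q z = 0
    rw [Polynomial.hom_eval₂, Polynomial.eval₂_finsetProd]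
    refine Finset.prod_eq_zero hP ?_
    have e : Pi.evalRingHom (fun p : PrimeSpectrum L => η.obj p.asIdeal.ResidueField) q
        (y * η.t L (ι f) ^ N) = ((gpt η q).comp ι) (f ^ (N - n (q.asIdeal.comap ι))) *
          (y q * gpt η q (ι f) ^ n (q.asIdeal.comap ι)) := by
      rw [map_pow, ← mul_left_comm, RingHom.comp_apply, ← pow_add,
        Nat.sub_add_cancel (Finset.le_sup (f := n) hP)]
      rfl
    rw [e]
    exact Polynomial.scaleRoots_eval₂_eq_zero _ (hG0 _ hP q rfl)
  have := congrArg (ev η hE ψ) hzero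
  rw [Polynomial.hom_eval₂, map_zero, map_mul, map_pow, ev_t] at this
  rwa [show (ev η hE ψ).comp ((η.t L).comp ι) = ψ.comp ι from
    RingHom.ext fun a => ev_t η hE ψ (ι a)] at this

theorem M_away (hA : (minimalPrimes A).Finite) {y : η.N L} (hy : y ∈ η.M L) :
    ∃ x ∈ η.M A, ∃ n : ℕ, y * η.t L (ι f) ^ n = η.Nmap ι x := by
  classical
  obtain ⟨N, F, hFm, hF⟩ := away_uniform η f hA hy
  obtain ⟨x0, hx0, hzero⟩ := exists_zero_ext η f y
  refine ⟨x0 * η.t A f ^ (N + 1), fun R _ _ _ hR g => ?_, N + 1, by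
    rw [map_mul, map_pow, η.Nmap_t_apply, hx0]⟩
  let ρ := algebraMap R (FractionRing R)
  have hF' : Cl η (FractionRing R) := (inV_iff η R _).1 hR
  by_cases hgf : g f = 0
  · refine ⟨0, funext fun p => ?_⟩
    rw [map_zero, ← ev_gpt η p (η.Nmap g _), ev_Nmap, map_mul, map_pow, ev_t, RingHom.comp_apply,
      hgf, map_zero, zero_pow (by omega), mul_zero]
    rfl
  · let K := FractionRing R
    have hu : IsUnit ((ρ.comp g) f) := isUnit_iff_ne_zero.2 (fun h =>
      hgf (IsFractionRing.injective R K (by rw [map_zero]; exact h)))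
    let gK : L →+* K := IsLocalization.Away.lift f hu
    have hgK : gK.comp ι = ρ.comp g := IsLocalization.Away.lift_comp f hu
    set z := ev η hF' gK y with hzdef
    have hint : IsIntegral R (z * ρ (g f) ^ N) := by
      refine ⟨F.map g, hFm.map g, ?_⟩
      rw [Polynomial.eval₂_map]
      have := hF K hF' gK
      rw [hgK, ← RingHom.comp_apply gK, hgK] at this
      exact this
    obtain ⟨r, hr⟩ := IsIntegrallyClosed.isIntegral_iff.1 hint
    refine ⟨r * g f, funext fun p => ?_⟩
    rw [← ev_gpt η p (η.Nmap g _), ev_Nmap, map_mul (ev η _ _), map_pow, ev_t]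
    change gpt η p (r * g f) = _
    by_cases hp : gpt η p (g f) = 0
    · rw [map_mul, hp, mul_zero, RingHom.comp_apply, hp, zero_pow (by omega), mul_zero]
    · obtain ⟨V, g', q, hg', hq, hmax⟩ := exists_center_max ρ p (by
        rw [(RingHom.injective_iff_ker_eq_bot ρ).1 (IsFractionRing.injective R K)]; exact bot_le)
      have hgq : g f ∉ p.asIdeal := fun h =>
        hp (RingHom.mem_ker.1 ((SetLike.ext_iff.1 (ker_gpt η p) _).2 h))
      have hVu : IsUnit (g' (g f)) := IsLocalRing.notMem_maximalIdeal.1 fun h =>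
        hgq ((SetLike.ext_iff.1 (congrArg PrimeSpectrum.asIdeal hq) _).1 (hmax.ge h))
      let gV : L →+* V := IsLocalization.Away.lift f (g := g'.comp g) hVu
      have hgV : gV.comp ι = g'.comp g := IsLocalization.Away.lift_comp f _
      have hVK : V.subtype.comp gV = gK := IsLocalization.ringHom_ext (Submonoid.powers f) (by
        rw [RingHom.comp_assoc, hgV, hgK, ← RingHom.comp_assoc, hg'])
      obtain ⟨r2, hr2, hev⟩ := compat_sub η hF' V gV hy
      have hr2' : g' r = r2 * g' (g f) ^ N := Subtype.ext (by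
        rw [hVK] at hr2
        change V.subtype (g' r) = V.subtype (r2 * g' (g f) ^ N)
        rw [map_mul V.subtype, map_pow, ← RingHom.comp_apply V.subtype g',
          ← RingHom.comp_apply V.subtype g', hg', hr,
          show V.subtype r2 = z from hr2])
      have h2 := hev _ (cl_obj η _) (gpt η q)
      subst hq
      let m := η.map (Ideal.ResidueField.map (PrimeSpectrum.comap g' q).asIdeal q.asIdeal g' rfl)
      have hm : ∀ a, m (gpt η (PrimeSpectrum.comap g' q) a) = gpt η q (g' a) := fun a => by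
        change m (η.eta _ _) = η.eta _ _
        rw [eta_apply]
        exact congrArg _ (Ideal.ResidueField.map_algebraMap _ _ g' rfl a)
      apply m.injective
      rw [map_mul m, map_pow, RingHom.comp_apply, hm, hm,
        ev_comp η (cl_obj η _) (cl_obj η _) m,
        show m.comp ((gpt η (PrimeSpectrum.comap g' q)).comp g) = ((gpt η q).comp gV).comp ι by
          rw [RingHom.comp_assoc, hgV, ← RingHom.comp_assoc, ← RingHom.comp_assoc]
          congr 1
          exact RingHom.ext hm,
        ← ev_Nmap, hx0, h2, map_mul, hr2']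
      simp only [map_mul, map_pow, pow_succ, mul_assoc]

end Groth.Agent.H6.Eta
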