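import Groth.Prelude.Def_W4c1chowmix47Eta
import Mathlib.RingTheory.Valuation.LocalSubring
import Mathlib.RingTheory.Ideal.MinimalPrime.Basic
import Mathlib.RingTheory.IntegralClosure.IsIntegralClosure.Basic
import Mathlib.Algebra.CharP.Lemmas
import Mathlib.Algebra.CharP.Reduced
import Mathlib.Algebra.CharP.Algebra
import Mathlib.Algebra.GCDMonoid.IntegrallyClosed
import Mathlib.RingTheory.Bezout
import Mathlib.RingTheory.Valuation.ValuationRing
import Mathlib.RingTheory.IntegralClosure.IntegrallyClosed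

set_option linter.all false
set_option autoImplicit false

/-! Basic theory of the pointwise construction attached to an endofunctor of fields. -/

namespace Groth.Agent.H6.Eta

universe u

open EtaPt

variable (η : FieldEndo.{u})

theorem eta_apply {K L : Type u} [Field K] [Field L] (f : K →+* L) (x : K) :
    η.map f (η.eta K x) = η.eta L (f x) :=
  RingHom.congr_fun (η.eta_natural f) x

theorem hom_ext {K E : Type u} [Field K] [Field E] {f g : η.obj K →+* E}
    (h : f.comp (η.eta K) = g.comp (η.eta K)) : f = g := by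
  ext x
  obtain ⟨n, y, hy⟩ := η.exists_pow_mem_range_eta K x
  haveI : ExpChar E (ringExpChar K) :=
    expChar_of_injective_ringHom (f.comp (η.eta K)).injective (ringExpChar K)
  apply iterateFrobenius_inj E (ringExpChar K) n
  simp only [iterateFrobenius_def, ← map_pow, ← hy]
  exact RingHom.congr_fun h y

/-- `η` is bijective at `K`. -/
def Cl (K : Type u) [Field K] : Prop := Function.Bijective (η.eta K)

theorem cl_obj (K : Type u) [Field K] : Cl η (η.obj K) := by
  have h : η.map (η.eta K) = η.eta (η.obj K) := hom_ext η (η.eta_natural (η.eta K))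
  unfold Cl
  rw [← h]
  exact η.bijective_map_eta K

theorem cl_equiv {K L : Type u} [Field K] [Field L] (e : K ≃+* L) (h : Cl η K) : Cl η L := by
  refine ⟨(η.eta L).injective, fun y => ?_⟩
  obtain ⟨x, hx⟩ := h.2 (η.map e.symm.toRingHom y)
  refine ⟨e x, ?_⟩
  change η.eta L (e.toRingHom x) = y
  rw [← eta_apply, hx, ← RingHom.comp_apply, ← η.map_comp, show e.toRingHom.comp e.symm.toRingHom
    = RingHom.id L from RingHom.ext fun z => e.apply_symm_apply z, η.map_id, RingHom.id_apply]

theorem inV_iff (R : Type u) [CommRing R] [IsDomain R] (K : Type u) [Field K] [Algebra R K]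
    [IsFractionRing R K] : η.InV R ↔ Cl η K :=
  ⟨fun h => cl_equiv η (IsLocalization.algEquiv (nonZeroDivisors R) (FractionRing R) K).toRingEquiv h,
   fun h => cl_equiv η (IsLocalization.algEquiv (nonZeroDivisors R) K (FractionRing R)).toRingEquiv h⟩

/-- inverse of `η` at a field where it is bijective -/
noncomputable def inv {E : Type u} [Field E] (hE : Cl η E) : η.obj E →+* E :=
  (RingEquiv.ofBijective (η.eta E) hE).symm.toRingHom

theorem inv_eta {E : Type u} [Field E] (hE : Cl η E) (x : E) : inv η hE (η.eta E x) = x :=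
  (RingEquiv.ofBijective (η.eta E) hE).symm_apply_apply x

theorem eta_inv {E : Type u} [Field E] (hE : Cl η E) (x : η.obj E) : η.eta E (inv η hE x) = x :=
  (RingEquiv.ofBijective (η.eta E) hE).apply_symm_apply x

/-- extension of a map to a closed field along `η` -/
noncomputable def ext {K E : Type u} [Field K] [Field E] (hE : Cl η E) (ψ : K →+* E) :
    η.obj K →+* E :=
  (inv η hE).comp (η.map ψ)

theorem ext_eta {K E : Type u} [Field K] [Field E] (hE : Cl η E) (ψ : K →+* E) (x : K) :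
    ext η hE ψ (η.eta K x) = ψ x := by
  rw [ext, RingHom.comp_apply, eta_apply, inv_eta]

theorem ext_comp_eta {K E : Type u} [Field K] [Field E] (hE : Cl η E) (ψ : K →+* E) :
    (ext η hE ψ).comp (η.eta K) = ψ :=
  RingHom.ext (ext_eta η hE ψ)

theorem ext_unique {K E : Type u} [Field K] [Field E] (hE : Cl η E) (ψ : K →+* E)
    (f : η.obj K →+* E) (h : f.comp (η.eta K) = ψ) : f = ext η hE ψ :=
  hom_ext η (h.trans (ext_comp_eta η hE ψ).symm)

theorem ext_comp_map {K K' E : Type u} [Field K] [Field K'] [Field E] (hE : Cl η E) (i : K →+* K')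
    (ψ : K' →+* E) : (ext η hE ψ).comp (η.map i) = ext η hE (ψ.comp i) := by
  apply ext_unique
  ext x
  simp [eta_apply, ext_eta]

theorem comp_ext {K E E' : Type u} [Field K] [Field E] [Field E'] (hE : Cl η E) (hE' : Cl η E')
    (ι : E →+* E') (ψ : K →+* E) : ι.comp (ext η hE ψ) = ext η hE' (ι.comp ψ) := by
  apply ext_unique
  ext x
  simp [ext_eta]

theorem ext_eta_self (K : Type u) [Field K] :
    ext η (cl_obj η K) (η.eta K) = RingHom.id _ :=
  (ext_unique η (cl_obj η K) _ _ (RingHom.id_comp _)).symm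

theorem map_bij_of_section {K K' : Type u} [Field K] [Field K'] (i : K →+* K')
    (j : K' →+* η.obj K) (h : j.comp i = η.eta K) : Function.Bijective (η.map i) := by
  have hb : Function.Bijective ((η.map j).comp (η.map i)) := by
    rw [← η.map_comp, h]; exact η.bijective_map_eta K
  refine ⟨(η.map i).injective, fun y => ?_⟩
  obtain ⟨x, hx⟩ := hb.2 (η.map j y)
  exact ⟨x, (η.map j).injective hx⟩

/-! ## points -/

variable {A B : Type u} [CommRing A] [CommRing B]

/-- the prime of a point -/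
def pt {E : Type u} [Field E] (φ : A →+* E) : PrimeSpectrum A := ⟨RingHom.ker φ, RingHom.ker_isPrime φ⟩

theorem compl_units {E : Type u} [Field E] (φ : A →+* E) :
    (pt φ).asIdeal.primeCompl ≤ (IsUnit.submonoid E).comap φ := fun a ha =>
  isUnit_iff_ne_zero.2 (fun h => ha (RingHom.mem_ker.2 h))

/-- residue field lift of a point -/
noncomputable def lft {E : Type u} [Field E] (φ : A →+* E) : (pt φ).asIdeal.ResidueField →+* E :=
  Ideal.ResidueField.lift (pt φ).asIdeal φ le_rfl (compl_units φ)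

theorem lft_comp {E : Type u} [Field E] (φ : A →+* E) :
    (lft φ).comp (algebraMap A _) = φ :=
  RingHom.ext fun a => Ideal.ResidueField.lift_algebraMap (I := (pt φ).asIdeal) φ le_rfl (compl_units φ) a

/-- lift of a point at its prime -/
noncomputable def liftP {E : Type u} [Field E] (φ : A →+* E) (p : PrimeSpectrum A)
    (h : p.asIdeal = RingHom.ker φ) : p.asIdeal.ResidueField →+* E :=
  Ideal.ResidueField.lift p.asIdeal φ h.le
    (fun a ha => isUnit_iff_ne_zero.2 fun h0 => ha (h.ge (RingHom.mem_ker.2 h0)))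

theorem liftP_algebraMap {E : Type u} [Field E] (φ : A →+* E) (p : PrimeSpectrum A)
    (h : p.asIdeal = RingHom.ker φ) (a : A) : liftP φ p h (algebraMap A _ a) = φ a :=
  Ideal.ResidueField.lift_algebraMap (I := p.asIdeal) φ h.le
    (fun a ha => isUnit_iff_ne_zero.2 fun h0 => ha (h.ge (RingHom.mem_ker.2 h0))) a

/-- evaluation of a family at a point with values in a closed field -/
noncomputable def ev {E : Type u} [Field E] (hE : Cl η E) (φ : A →+* E) : η.N A →+* E :=
  (ext η hE (lft φ)).comp (Pi.evalRingHom (fun p : PrimeSpectrum A => η.obj p.asIdeal.ResidueField) (pt φ))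

theorem ev_eq {E : Type u} [Field E] (hE : Cl η E) (φ : A →+* E) (p : PrimeSpectrum A)
    (ψ : p.asIdeal.ResidueField →+* E) (h : ψ.comp (algebraMap A _) = φ) (x : η.N A) :
    ev η hE φ x = ext η hE ψ (x p) := by
  have hp : p = pt φ := PrimeSpectrum.ext (by
    ext a
    rw [← h]
    simp [pt, RingHom.mem_ker, map_eq_zero_iff _ ψ.injective])
  subst hp
  have : ψ = lft φ := Ideal.ResidueField.ringHom_ext (h.trans (lft_comp φ).symm)
  rw [this]
  rfl

theorem ev_t {E : Type u} [Field E] (hE : Cl η E) (φ : A →+* E) (a : A) :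
    ev η hE φ (η.t A a) = φ a := by
  change ext η hE (lft φ) (η.eta _ (algebraMap A _ a)) = φ a
  rw [ext_eta]
  exact RingHom.congr_fun (lft_comp φ) a

theorem ev_Nmap {E : Type u} [Field E] (hE : Cl η E) (f : A →+* B) (φ : B →+* E) (x : η.N A) :
    ev η hE φ (η.Nmap f x) = ev η hE (φ.comp f) x := by
  rw [ev_eq η hE (φ.comp f) (PrimeSpectrum.comap f (pt φ))
    ((lft φ).comp (Ideal.ResidueField.map (PrimeSpectrum.comap f (pt φ)).asIdeal (pt φ).asIdeal f rfl))
    (by
      ext a
      conv_rhs => rw [← lft_comp φ]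
      simp only [RingHom.comp_apply]
      exact congrArg _ (Ideal.ResidueField.map_algebraMap _ _ f rfl a))]
  rw [← ext_comp_map]
  rfl

theorem ev_comp {E E' : Type u} [Field E] [Field E'] (hE : Cl η E) (hE' : Cl η E') (ι : E →+* E')
    (φ : A →+* E) (x : η.N A) : ι (ev η hE φ x) = ev η hE' (ι.comp φ) x := by
  rw [ev_eq η hE' (ι.comp φ) (pt φ) (ι.comp (lft φ)) (by rw [RingHom.comp_assoc, lft_comp]),
    ← comp_ext η hE hE']
  rfl

/-- the tautological point at `p` -/
noncomputable def gpt (p : PrimeSpectrum A) : A →+* η.obj p.asIdeal.ResidueField :=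
  (η.eta p.asIdeal.ResidueField).comp (algebraMap A p.asIdeal.ResidueField)

theorem ev_gpt (p : PrimeSpectrum A) (x : η.N A) :
    ev η (cl_obj η _) (gpt η p) x = x p := by
  rw [ev_eq η (cl_obj η _) (gpt η p) p (η.eta _) rfl, ext_eta_self]
  rfl

theorem ker_gpt (p : PrimeSpectrum A) : RingHom.ker (gpt η p) = p.asIdeal := by
  ext a
  simp [gpt, RingHom.mem_ker, map_eq_zero_iff _ (RingHom.injective (η.eta p.asIdeal.ResidueField))]

theorem N_ext {x y : η.N A} (h : ∀ (E : Type u) [Field E] (hE : Cl η E) (φ : A →+* E),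
    ev η hE φ x = ev η hE φ y) : x = y := by
  funext p
  have := h _ (cl_obj η _) (gpt η p)
  rwa [ev_gpt, ev_gpt] at this

theorem Nmap_comp {C : Type u} [CommRing C] (f : A →+* B) (g : B →+* C) (x : η.N A) :
    η.Nmap g (η.Nmap f x) = η.Nmap (g.comp f) x := by
  apply N_ext η
  intro E _ hE φ
  simp only [ev_Nmap, RingHom.comp_assoc]

theorem Nmap_id (x : η.N A) : η.Nmap (RingHom.id A) x = x := by
  apply N_ext η
  intro E _ hE φ
  simp only [ev_Nmap, RingHom.comp_id]

/-! ## membership in `M` -/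

theorem compat {x : η.N A} (hx : x ∈ η.M A) (R : Type u) [CommRing R] [IsDomain R] [ValuationRing R]
    (hR : η.InV R) (g : A →+* R) :
    ∃ r : R, ∀ (E : Type u) [Field E] (hE : Cl η E) (φ : R →+* E),
      ev η hE (φ.comp g) x = φ r := by
  obtain ⟨r, hr⟩ := hx R hR g
  refine ⟨r, fun E _ hE φ => ?_⟩
  rw [← ev_Nmap, ← hr, ev_t]

theorem mem_M {x : η.N A}
    (h : ∀ (R : Type u) [CommRing R] [IsDomain R] [ValuationRing R], η.InV R → ∀ g : A →+* R,
      ∃ r : R, ∀ (E : Type u) [Field E] (hE : Cl η E) (φ : R →+* E),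
        ev η hE (φ.comp g) x = φ r) : x ∈ η.M A := by
  intro R _ _ _ hR g
  obtain ⟨r, hr⟩ := h R hR g
  refine ⟨r, N_ext η fun E _ hE φ => ?_⟩
  rw [ev_t, ev_Nmap]
  exact (hr E hE φ).symm

theorem Nmap_mem_M (f : A →+* B) {x : η.N A} (hx : x ∈ η.M A) : η.Nmap f x ∈ η.M B :=
  fun R _ _ _ hR g => by
    rw [Nmap_comp]
    exact hx R hR (g.comp f)

theorem compat_sub {L : Type u} [Field L] (hL : Cl η L) (V : ValuationSubring L) (g : A →+* V)
    {x : η.N A} (hx : x ∈ η.M A) :
    ∃ r : V, (r : L) = ev η hL (V.subtype.comp g) x ∧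
      ∀ (E : Type u) [Field E] (hE : Cl η E) (φ : V →+* E), ev η hE (φ.comp g) x = φ r := by
  obtain ⟨r, hr⟩ := compat η hx V ((inV_iff η V L).2 hL) g
  exact ⟨r, (hr L hL V.subtype).symm, hr⟩

theorem exists_center_max {L : Type u} [Field L] (g : A →+* L) (p : PrimeSpectrum A)
    (hp : RingHom.ker g ≤ p.asIdeal) :
    ∃ (V : ValuationSubring L) (g' : A →+* V) (q : PrimeSpectrum V),
      V.subtype.comp g' = g ∧ PrimeSpectrum.comap g' q = p ∧
        q.asIdeal = IsLocalRing.maximalIdeal V := by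
  have hu : ∀ a : p.asIdeal.primeCompl, IsUnit (g a) := fun a =>
    isUnit_iff_ne_zero.2 fun h => a.2 (hp (RingHom.mem_ker.2 h))
  obtain ⟨V, hV, hloc⟩ := IsLocalRing.exists_factor_valuationRing
    (IsLocalization.lift (M := p.asIdeal.primeCompl) (S := Localization.AtPrime p.asIdeal) hu)
  let f' : Localization.AtPrime p.asIdeal →+* V := RingHom.codRestrict _ V.toSubring hV
  have : IsLocalHom f' := hloc
  refine ⟨V, f'.comp (algebraMap A _), ⟨IsLocalRing.maximalIdeal V, inferInstance⟩, ?_, ?_, rfl⟩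
  · ext a
    exact IsLocalization.lift_eq hu a
  · apply PrimeSpectrum.ext
    change (IsLocalRing.maximalIdeal V).comap (f'.comp (algebraMap A _)) = p.asIdeal
    have h4 : (IsLocalRing.maximalIdeal V).comap f' = IsLocalRing.maximalIdeal _ :=
      IsLocalRing.maximalIdeal_comap f'
    rw [← Ideal.comap_comap, h4]
    exact IsLocalization.AtPrime.comap_maximalIdeal (Localization.AtPrime p.asIdeal) p.asIdeal

theorem exists_center {L : Type u} [Field L] (g : A →+* L) (p : PrimeSpectrum A)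
    (hp : RingHom.ker g ≤ p.asIdeal) :
    ∃ (V : ValuationSubring L) (g' : A →+* V) (q : PrimeSpectrum V),
      V.subtype.comp g' = g ∧ PrimeSpectrum.comap g' q = p :=
  let ⟨V, g', q, h1, h2, _⟩ := exists_center_max g p hp
  ⟨V, g', q, h1, h2⟩

theorem specialize_zero {x : η.N A} (hx : x ∈ η.M A) {L : Type u} [Field L] (hL : Cl η L)
    (φ : A →+* L) (h : ev η hL φ x = 0) (p : PrimeSpectrum A)
    (hp : RingHom.ker φ ≤ p.asIdeal) : x p = 0 := by
  obtain ⟨V, g', q, hg, hq⟩ := exists_center φ p hp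
  obtain ⟨r, hr, hr'⟩ := compat_sub η hL V g' hx
  have hr0 : r = 0 := Subtype.ext (by rw [hr, hg, h]; rfl)
  have h2 := hr' _ (cl_obj η _) (gpt η q)
  rw [hr0, map_zero, ← ev_Nmap, ev_gpt] at h2
  subst hq
  exact (map_eq_zero_iff _ (η.map _).injective).1 h2

theorem eq_zero_of_minimal {x : η.N A} (hx : x ∈ η.M A)
    (h : ∀ p : PrimeSpectrum A, p.asIdeal ∈ minimalPrimes A → x p = 0) : x = 0 := by
  funext p
  obtain ⟨P, hP, hPp⟩ := Ideal.exists_minimalPrimes_le (bot_le : (⊥ : Ideal A) ≤ p.asIdeal)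
  obtain ⟨P', rfl⟩ : ∃ P' : PrimeSpectrum A, P'.asIdeal = P := ⟨⟨P, hP.1.1⟩, rfl⟩
  refine specialize_zero η hx (cl_obj η P'.asIdeal.ResidueField) (gpt η P') ?_ p ?_
  · rw [ev_gpt]; exact h P' hP
  · rw [ker_gpt]; exact hPp

theorem eq_of_minimal {x y : η.N A} (hx : x ∈ η.M A) (hy : y ∈ η.M A)
    (h : ∀ p : PrimeSpectrum A, p.asIdeal ∈ minimalPrimes A → x p = y p) : x = y :=
  sub_eq_zero.1 <| eq_zero_of_minimal η (sub_mem hx hy) fun p hp => by simp [h p hp]

theorem ev_integral {x : η.N A} (hx : x ∈ η.M A) {L : Type u} [Field L] (hL : Cl η L)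
    (φ : A →+* L) : φ.IsIntegralElem (ev η hL φ x) := by
  letI := φ.toAlgebra
  by_contra hn
  have hC : ev η hL φ x ∉ (integralClosure A L).toSubring := hn
  haveI : IsIntegrallyClosedIn (integralClosure A L).toSubring L :=
    inferInstanceAs (IsIntegrallyClosedIn (integralClosure A L) L)
  obtain ⟨V, hle, hV⟩ := Subring.exists_le_valuationSubring_of_isIntegrallyClosedIn hC
  let g' : A →+* V := φ.codRestrict V.toSubring fun a =>
    hle (show IsIntegral A (algebraMap A L a) from isIntegral_algebraMap)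
  obtain ⟨r, hr, -⟩ := compat_sub η hL V g' hx
  apply hV
  have : V.subtype.comp g' = φ := RingHom.ext fun _ => rfl
  rw [← this, ← hr]
  exact r.2

theorem q_apply_coe (a : A) : ((η.q A a : η.M A) : η.N A) = η.t A a := rfl

/-- evaluation on `M` at a prime -/
noncomputable def evM (p : PrimeSpectrum A) : η.M A →+* η.obj p.asIdeal.ResidueField :=
  (Pi.evalRingHom (fun p : PrimeSpectrum A => η.obj p.asIdeal.ResidueField) p).comp (η.M A).subtype

theorem evM_q (p : PrimeSpectrum A) : (evM η p).comp (η.q A) = gpt η p := rfl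

theorem q_isIntegral (hA : (minimalPrimes A).Finite) : (η.q A).IsIntegral := by
  classical
  intro x
  have h : ∀ P ∈ hA.toFinset, ∃ f : Polynomial A, f.Monic ∧
      ∀ hP : P.IsPrime, Polynomial.eval₂ (gpt η ⟨P, hP⟩) (x.1 ⟨P, hP⟩) f = 0 := fun P hP => by
    have hPp : P.IsPrime := ((Set.Finite.mem_toFinset hA).1 hP).1.1
    obtain ⟨f, hf, hf0⟩ := ev_integral η x.2 (cl_obj η _) (gpt η ⟨P, hPp⟩)
    rw [ev_gpt] at hf0
    exact ⟨f, hf, fun _ => hf0⟩
  choose! f hf hf0 using h
  refine ⟨∏ P ∈ hA.toFinset, f P, Polynomial.monic_prod_of_monic _ _ hf, ?_⟩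
  apply Subtype.ext
  refine eq_zero_of_minimal η (Subtype.coe_prop _) fun p hp => ?_
  change evM η p (Polynomial.eval₂ (η.q A) x _) = 0
  rw [Polynomial.hom_eval₂, evM_q, Polynomial.eval₂_finsetProd]
  exact Finset.prod_eq_zero ((Set.Finite.mem_toFinset hA).2 hp)
    (hf0 p.asIdeal ((Set.Finite.mem_toFinset hA).2 hp) p.isPrime)

theorem comap_ker_evM (p : PrimeSpectrum A) :
    PrimeSpectrum.comap (η.q A) ⟨RingHom.ker (evM η p), RingHom.ker_isPrime _⟩ = p := by
  apply PrimeSpectrum.ext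
  change (RingHom.ker (evM η p)).comap (η.q A) = p.asIdeal
  rw [RingHom.comap_ker, evM_q, ker_gpt]

theorem prime_eq (hA : (minimalPrimes A).Finite) (Q : PrimeSpectrum (η.M A)) :
    Q.asIdeal = RingHom.ker (evM η (PrimeSpectrum.comap (η.q A) Q)) := by
  classical
  have hne : ∃ P ∈ hA.toFinset, ∃ hP : P.IsPrime, RingHom.ker (evM η ⟨P, hP⟩) ≤ Q.asIdeal := by
    have : (hA.toFinset.inf fun P => if hP : P.IsPrime then RingHom.ker (evM η ⟨P, hP⟩) else ⊤)
        ≤ Q.asIdeal := by
      intro x hx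
      have : x = 0 := Subtype.ext <| eq_zero_of_minimal η x.2 fun p hp => by
        have := (Submodule.mem_finsetInf.1 hx) p.asIdeal ((Set.Finite.mem_toFinset hA).2 hp)
        rw [dif_pos p.isPrime] at this
        exact this
      rw [this]; exact zero_mem _
    obtain ⟨P, hP, hle⟩ := (Ideal.IsPrime.inf_le' Q.isPrime).1 this
    have hPp : P.IsPrime := ((Set.Finite.mem_toFinset hA).1 hP).1.1
    rw [dif_pos hPp] at hle
    exact ⟨P, hP, hPp, hle⟩
  obtain ⟨P, -, hPp, hle⟩ := hne
  obtain ⟨V, ρ, q, hρ, hq⟩ := exists_center (evM η ⟨P, hPp⟩) Q hle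
  set p := PrimeSpectrum.comap (η.q A) Q
  have hp : PrimeSpectrum.comap (ρ.comp (η.q A)) q = p := by
    rw [PrimeSpectrum.comap_comp_apply, hq]
  ext x
  obtain ⟨r, hr, hr'⟩ := compat_sub η (cl_obj η _) V (ρ.comp (η.q A)) x.2
  have e : r = ρ x := Subtype.ext (by
    rw [hr, ← RingHom.comp_assoc, hρ, evM_q, ev_gpt]
    exact (RingHom.congr_fun hρ x).symm)
  have h2 := hr' _ (cl_obj η _) (gpt η q)
  rw [← ev_Nmap, ev_gpt, e] at h2
  have h3 : η.Nmap (ρ.comp (η.q A)) x.1 q = 0 ↔ ρ x ∈ q.asIdeal := by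
    rw [h2]
    exact RingHom.mem_ker.symm.trans (SetLike.ext_iff.1 (ker_gpt η q) (ρ x))
  have h4 : η.Nmap (ρ.comp (η.q A)) x.1 q = 0 ↔ x.1 p = 0 := by
    clear h3 h2
    clear_value p
    subst hp
    exact map_eq_zero_iff _ (η.map _).injective
  conv_lhs => rw [← hq]
  exact h3.symm.trans h4

theorem comap_q_bij (hA : (minimalPrimes A).Finite) :
    Function.Bijective (PrimeSpectrum.comap (η.q A)) := by
  refine ⟨fun Q Q' h => PrimeSpectrum.ext ?_, fun p => ⟨_, comap_ker_evM η p⟩⟩
  rw [prime_eq η hA Q, prime_eq η hA Q', h]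

/-- the residue factorisation at a prime of `M` -/
theorem residue_factor (hA : (minimalPrimes A).Finite) (Q : PrimeSpectrum (η.M A)) :
    ∃ φ : Q.asIdeal.ResidueField →+* η.obj (PrimeSpectrum.comap (η.q A) Q).asIdeal.ResidueField,
      φ.comp (Ideal.ResidueField.map (PrimeSpectrum.comap (η.q A) Q).asIdeal Q.asIdeal (η.q A) rfl) =
        η.eta (PrimeSpectrum.comap (η.q A) Q).asIdeal.ResidueField ∧
      φ.comp (algebraMap (η.M A) Q.asIdeal.ResidueField) = evM η (PrimeSpectrum.comap (η.q A) Q) := by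
  have hle := prime_eq η hA Q
  refine ⟨liftP (evM η (PrimeSpectrum.comap (η.q A) Q)) Q hle, ?_, ?_⟩
  · refine Ideal.ResidueField.ringHom_ext (RingHom.ext fun a => ?_)
    simp only [RingHom.comp_apply]
    exact (congrArg _ (Ideal.ResidueField.map_algebraMap _ _ (η.q A) rfl a)).trans
      (liftP_algebraMap _ Q hle _)
  · exact RingHom.ext fun a => liftP_algebraMap _ Q hle a

/-! ## bijectivity of `Nmap` -/

theorem Nmap_inj (f : A →+* B) (hs : Function.Surjective (PrimeSpectrum.comap f)) :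
    Function.Injective (η.Nmap f) := by
  intro x y h
  funext p
  obtain ⟨Q, rfl⟩ := hs p
  exact (η.map _).injective (congrFun h Q)

theorem Nmap_bij_of (f : A →+* B) (hb : Function.Bijective (PrimeSpectrum.comap f))
    (hj : ∀ Q : PrimeSpectrum B,
      ∃ j : Q.asIdeal.ResidueField →+* η.obj (PrimeSpectrum.comap f Q).asIdeal.ResidueField,
        j.comp (Ideal.ResidueField.map (PrimeSpectrum.comap f Q).asIdeal Q.asIdeal f rfl) =
          η.eta (PrimeSpectrum.comap f Q).asIdeal.ResidueField) :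
    Function.Bijective (η.Nmap f) := by
  refine ⟨Nmap_inj η f hb.2, fun y => ?_⟩
  have h : ∀ p : PrimeSpectrum A, ∃ v : η.obj p.asIdeal.ResidueField,
      ∀ (Q : PrimeSpectrum B) (h : p.asIdeal = Q.asIdeal.comap f),
        η.map (Ideal.ResidueField.map p.asIdeal Q.asIdeal f h) v = y Q := by
    intro p
    obtain ⟨Q, rfl⟩ := hb.2 p
    obtain ⟨j, hj⟩ := hj Q
    obtain ⟨v, hv⟩ := (map_bij_of_section η _ j hj).2 (y Q)
    refine ⟨v, fun Q' h => ?_⟩
    obtain rfl : Q = Q' := hb.1 (PrimeSpectrum.ext h)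
    exact hv
  choose v hv using h
  exact ⟨v, funext fun Q => hv _ Q rfl⟩

theorem comap_bij_of_Nmap (f : A →+* B) (hN : Function.Bijective (η.Nmap f)) :
    Function.Bijective (PrimeSpectrum.comap f) := by
  classical
  refine ⟨fun Q Q' h => ?_, fun p => ?_⟩
  · by_contra hne
    obtain ⟨x, hx⟩ := hN.2 (Pi.single Q 1)
    have h1 : η.Nmap f x Q = 1 := by rw [hx, Pi.single_eq_same]
    have h2 : η.Nmap f x Q' = 0 := by rw [hx, Pi.single_eq_of_ne (Ne.symm hne)]
    have h3 : x (PrimeSpectrum.comap f Q') = 0 := (map_eq_zero_iff _ (η.map _).injective).1 h2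
    rw [← h] at h3
    have : η.Nmap f x Q = 0 := by
      change η.map _ (x (PrimeSpectrum.comap f Q)) = 0
      rw [h3, map_zero]
    exact one_ne_zero (h1.symm.trans this)
  · by_contra hne
    push Not at hne
    have : η.Nmap f (Pi.single p 1) = η.Nmap f 0 := by
      funext Q
      have h0 : (Pi.single p 1 : η.N A) (PrimeSpectrum.comap f Q) = 0 :=
        Pi.single_eq_of_ne (hne Q) _
      exact congrArg (η.map (Ideal.ResidueField.map (PrimeSpectrum.comap f Q).asIdeal Q.asIdeal f rfl)) h0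
    have := congrFun (hN.1 this) p
    rw [Pi.single_eq_same] at this
    exact one_ne_zero this

theorem map_bij_of_Nmap (f : A →+* B) (hN : Function.Bijective (η.Nmap f)) (Q : PrimeSpectrum B) :
    Function.Bijective
      (η.map (Ideal.ResidueField.map (PrimeSpectrum.comap f Q).asIdeal Q.asIdeal f rfl)) := by
  classical
  refine ⟨RingHom.injective _, fun v => ?_⟩
  obtain ⟨x, hx⟩ := hN.2 (Pi.single Q v)
  refine ⟨x _, ?_⟩
  change η.Nmap f x Q = v
  rw [hx, Pi.single_eq_same]

theorem section_of_Nmap (f : A →+* B) (hN : Function.Bijective (η.Nmap f)) (Q : PrimeSpectrum B) :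
    ∃ j : Q.asIdeal.ResidueField →+* η.obj (PrimeSpectrum.comap f Q).asIdeal.ResidueField,
      j.comp (Ideal.ResidueField.map (PrimeSpectrum.comap f Q).asIdeal Q.asIdeal f rfl) =
        η.eta (PrimeSpectrum.comap f Q).asIdeal.ResidueField := by
  let e := RingEquiv.ofBijective _ (map_bij_of_Nmap η f hN Q)
  refine ⟨e.symm.toRingHom.comp (η.eta _), RingHom.ext fun a => ?_⟩
  apply e.injective
  change e (e.symm (η.eta _ _)) = η.map _ _
  rw [e.apply_symm_apply, eta_apply]

theorem exists_point {f : A →+* B} (hN : Function.Bijective (η.Nmap f))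
    {E : Type u} [Field E] (hE : Cl η E) (φ : A →+* E) : ∃ ψ : B →+* E, ψ.comp f = φ := by
  obtain ⟨Q, hQ⟩ := (comap_bij_of_Nmap η f hN).2 (pt φ)
  obtain ⟨j, hj⟩ := section_of_Nmap η f hN Q
  have hk : (PrimeSpectrum.comap f Q).asIdeal = RingHom.ker φ := by rw [hQ]; rfl
  let ψ0 := liftP φ (PrimeSpectrum.comap f Q) hk
  refine ⟨((ext η hE ψ0).comp j).comp (algebraMap B _), RingHom.ext fun a => ?_⟩
  have h1 := (congrArg j (Ideal.ResidueField.map_algebraMap _ _ f rfl a).symm).trans
    (RingHom.congr_fun hj (algebraMap A _ a))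
  exact ((congrArg (ext η hE ψ0) h1).trans (ext_eta η hE ψ0 _)).trans
    (liftP_algebraMap φ (PrimeSpectrum.comap f Q) hk a)

theorem point_unique {f : A →+* B} (hN : Function.Bijective (η.Nmap f))
    {E : Type u} [Field E] (hE : Cl η E) {ψ ψ' : B →+* E} (h : ψ.comp f = ψ'.comp f) : ψ = ψ' := by
  have hQ : pt ψ = pt ψ' := (comap_bij_of_Nmap η f hN).1 <| PrimeSpectrum.ext <| by
    change (RingHom.ker ψ).comap f = (RingHom.ker ψ').comap f
    rw [RingHom.comap_ker, RingHom.comap_ker, h]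
  have hk : (pt ψ).asIdeal = RingHom.ker ψ' := by rw [hQ]; rfl
  let χ' := liftP ψ' (pt ψ) hk
  have h1 : χ'.comp (algebraMap B _) = ψ' :=
    RingHom.ext fun a => liftP_algebraMap ψ' (pt ψ) hk a
  have h2 : (ext η hE (lft ψ)) = ext η hE χ' := by
    have hb := map_bij_of_Nmap η f hN (pt ψ)
    have e : (ext η hE (lft ψ)).comp (η.map (Ideal.ResidueField.map
          (PrimeSpectrum.comap f (pt ψ)).asIdeal (pt ψ).asIdeal f rfl))
        = (ext η hE χ').comp (η.map (Ideal.ResidueField.map
          (PrimeSpectrum.comap f (pt ψ)).asIdeal (pt ψ).asIdeal f rfl)) := by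
      rw [ext_comp_map, ext_comp_map]
      congr 1
      refine Ideal.ResidueField.ringHom_ext (RingHom.ext fun a => ?_)
      have e0 := Ideal.ResidueField.map_algebraMap
        (PrimeSpectrum.comap f (pt ψ)).asIdeal (pt ψ).asIdeal f rfl a
      exact ((congrArg (lft ψ) e0).trans (RingHom.congr_fun (lft_comp ψ) (f a))).trans
        ((RingHom.congr_fun h a).trans ((congrArg χ' e0).trans (RingHom.congr_fun h1 (f a))).symm)
    exact RingHom.ext fun v => by
      obtain ⟨w, rfl⟩ := hb.2 v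
      exact RingHom.congr_fun e w
  have h3 : lft ψ = χ' := by rw [← ext_comp_eta η hE (lft ψ), h2, ext_comp_eta]
  rw [← lft_comp ψ, h3, h1]

theorem extend_valuation {f : A →+* B} (hf : f.IsIntegral) (hN : Function.Bijective (η.Nmap f))
    (R : Type u) [CommRing R] [IsDomain R] [ValuationRing R] (hR : η.InV R) (g : A →+* R) :
    ∃ g' : B →+* R, g'.comp f = g := by
  let ι := algebraMap R (FractionRing R)
  obtain ⟨ψ, hψ⟩ := exists_point η hN ((inV_iff η R _).1 hR) (ι.comp g)
  have h : ∀ b : B, ∃ r : R, ι r = ψ b := fun b => by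
    obtain ⟨P, hP, hP0⟩ := hf b
    refine IsIntegrallyClosed.isIntegral_iff.1 ⟨P.map g, hP.map g, ?_⟩
    rw [Polynomial.eval₂_map]
    change Polynomial.eval₂ (ι.comp g) (ψ b) P = 0
    rw [← hψ, ← Polynomial.hom_eval₂, hP0, map_zero]
  choose r hr using h
  have hi : Function.Injective ι := IsFractionRing.injective R (FractionRing R)
  let g' : B →+* R :=
    { toFun := r
      map_one' := hi (by rw [hr, map_one, map_one])
      map_mul' := fun a b => hi (by rw [hr, map_mul, map_mul, hr, hr])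
      map_zero' := hi (by rw [hr, map_zero, map_zero])
      map_add' := fun a b => hi (by rw [hr, map_add, map_add, hr, hr]) }
  refine ⟨g', RingHom.ext fun a => hi ?_⟩
  change ι (r (f a)) = ι (g a)
  rw [hr]
  exact RingHom.congr_fun hψ a

theorem mem_M_of_Nmap {f : A →+* B} (hf : f.IsIntegral) (hN : Function.Bijective (η.Nmap f))
    {x : η.N A} (hx : η.Nmap f x ∈ η.M B) : x ∈ η.M A := by
  refine mem_M η fun R _ _ _ hR g => ?_
  obtain ⟨g', rfl⟩ := extend_valuation η hf hN R hR g
  obtain ⟨r, hr⟩ := compat η hx R hR g'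
  exact ⟨r, fun E _ hE φ => by rw [← RingHom.comp_assoc, ← ev_Nmap, hr E hE φ]⟩

theorem bijOn_M {f : A →+* B} (hf : f.IsIntegral) (hN : Function.Bijective (η.Nmap f)) :
    Set.BijOn (η.Nmap f) (η.M A) (η.M B) := by
  refine ⟨fun x hx => Nmap_mem_M η f hx, hN.1.injOn, fun y hy => ?_⟩
  obtain ⟨x, rfl⟩ := hN.2 y
  exact ⟨x, mem_M_of_Nmap η hf hN hy, rfl⟩

end Groth.Agent.H6.Eta
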