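import Groth.Agent.Lib.H6.EtaBasic
import Mathlib.FieldTheory.IsAlgClosed.AlgebraicClosure
import Mathlib.FieldTheory.Perfect
import Mathlib.RingTheory.Ideal.Quotient.Operations

set_option linter.all false
set_option autoImplicit false

/-! Further properties of the pointwise construction. -/

namespace Groth.Agent.H6.Eta

universe u

open EtaPt

variable (η : FieldEndo.{u}) {A B : Type u} [CommRing A] [CommRing B]

theorem Nmap_q_bij (hA : (minimalPrimes A).Finite) : Function.Bijective (η.Nmap (η.q A)) :=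
  Nmap_bij_of η _ (comap_q_bij η hA) fun Q =>
    let ⟨φ, h, _⟩ := residue_factor η hA Q
    ⟨φ, h⟩

theorem eta_inj_sys {K K' : Type u} [Field K] [Field K'] (i : K →+* K') (j : K' →+* η.obj K)
    (h : j.comp i = η.eta K) (v : η.obj K) (w : K') (hvw : j w = v) : η.map i v = η.eta K' w := by
  apply (η.map j).injective
  rw [← RingHom.comp_apply, ← η.map_comp, h, eta_apply, hvw]
  exact RingHom.congr_fun (hom_ext η (η.eta_natural (η.eta K))) v

theorem Nmap_q_eq_t (hA : (minimalPrimes A).Finite) (x : η.M A) :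
    η.Nmap (η.q A) (x : η.N A) = η.t (η.M A) x := by
  funext Q
  obtain ⟨φ, h1, h2⟩ := residue_factor η hA Q
  exact eta_inj_sys η _ φ h1 _ _ (RingHom.congr_fun h2 x)

theorem q_M_bij (hA : (minimalPrimes A).Finite) : Function.Bijective (η.q (η.M A)) := by
  refine ⟨fun x y h => ?_, fun y => ?_⟩
  · have h' : η.t (η.M A) x = η.t (η.M A) y := congrArg Subtype.val h
    rw [← Nmap_q_eq_t η hA, ← Nmap_q_eq_t η hA] at h'
    exact Subtype.ext ((Nmap_q_bij η hA).1 h')
  · obtain ⟨x, hx⟩ := (Nmap_q_bij η hA).2 y.1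
    have hxM : x ∈ η.M A :=
      mem_M_of_Nmap η (q_isIntegral η hA) (Nmap_q_bij η hA) (by rw [hx]; exact y.2)
    refine ⟨⟨x, hxM⟩, Subtype.ext ?_⟩
    change η.t (η.M A) ⟨x, hxM⟩ = y.1
    rw [← Nmap_q_eq_t η hA]
    exact hx

theorem t_eq_zero_iff (b : B) : η.t B b = 0 ↔ IsNilpotent b := by
  constructor
  · intro h
    rw [← mem_nilradical, nilradical_eq_sInf, Submodule.mem_sInf]
    intro P hP
    let p : PrimeSpectrum B := ⟨P, hP⟩
    have := congrFun h p
    exact (SetLike.ext_iff.1 (ker_gpt η p) b).1 (RingHom.mem_ker.2 this)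
  · intro h
    funext p
    exact (h.map (gpt η p)).eq_zero

theorem t_injective [IsReduced B] : Function.Injective (η.t B) := by
  intro a b h
  rw [← sub_eq_zero] at h ⊢
  rw [← map_sub, t_eq_zero_iff] at h
  exact h.eq_zero

theorem bij_of_reduced (hA : (minimalPrimes A).Finite) [IsReduced B] (f : η.M A →+* B)
    (hf : f.IsIntegral) (hN : Function.Bijective (η.Nmap f)) : Function.Bijective f := by
  constructor
  · intro x y h
    have h1 : η.Nmap f (η.t _ x) = η.Nmap f (η.t _ y) := by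
      rw [η.Nmap_t_apply, η.Nmap_t_apply, h]
    exact (q_M_bij η hA).1 (Subtype.ext (hN.1 h1))
  · intro b
    obtain ⟨x, hx, hxb⟩ := (bijOn_M η hf hN).2.2 (η.t_mem_M B b)
    obtain ⟨m, hm⟩ := (q_M_bij η hA).2 ⟨x, hx⟩
    refine ⟨m, t_injective η ?_⟩
    rw [← η.Nmap_t_apply, ← hxb]
    exact congrArg (η.Nmap f) (congrArg Subtype.val hm)

theorem lift_q (g : A →+* B) (hg : g.IsIntegral) (hN : Function.Bijective (η.Nmap g)) :
    ∃! g' : B →+* η.M A, g'.comp g = η.q A := by
  let e := RingEquiv.ofBijective _ hN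
  have he : ∀ b, η.Nmap g (e.symm (η.t B b)) = η.t B b := fun b => e.apply_symm_apply _
  let g' : B →+* η.M A := (e.symm.toRingHom.comp (η.t B)).codRestrict (η.M A)
    fun b => mem_M_of_Nmap η hg hN (show η.Nmap g (e.symm (η.t B b)) ∈ η.M B by
      rw [he]; exact η.t_mem_M B b)
  refine ⟨g', RingHom.ext fun a => Subtype.ext (hN.1 ?_), fun g'' hg'' => RingHom.ext fun b =>
    Subtype.ext ?_⟩
  · change η.Nmap g (e.symm (η.t B (g a))) = η.Nmap g (η.t A a)
    rw [he, η.Nmap_t_apply]
  · funext p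
    have h0 : ((evM η p).comp g'').comp g = ((evM η p).comp g').comp g := by
      rw [RingHom.comp_assoc, hg'', evM_q]
      refine RingHom.ext fun a => ?_
      change η.t A a p = e.symm (η.t B (g a)) p
      rw [← η.Nmap_t_apply]
      exact congrFun (e.symm_apply_apply _).symm p
    exact RingHom.congr_fun (point_unique η hN (cl_obj η _) h0) b

theorem M_field (K : Type u) [Field K] : η.M K = ⊤ := by
  refine eq_top_iff.2 fun x _ => ?_
  refine mem_M η fun R _ _ _ hR g => ?_
  let ι := algebraMap R (FractionRing R)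
  have hF : Cl η (FractionRing R) := (inV_iff η R _).1 hR
  let p : PrimeSpectrum K := ⟨⊥, Ideal.isPrime_bot⟩
  let j : K →+* p.asIdeal.ResidueField := algebraMap K _
  have hj : Function.Surjective j := p.asIdeal.algEquivResidueFieldOfField.surjective
  obtain ⟨n, k, hk⟩ := η.exists_pow_mem_range_eta _ (x p)
  obtain ⟨a, rfl⟩ := hj k
  set z := ev η hF (ι.comp g) x with hz
  set N := ringExpChar p.asIdeal.ResidueField ^ n with hN
  have hxp : ∀ q : PrimeSpectrum K, q = p := fun q =>
    PrimeSpectrum.ext q.asIdeal.eq_bot_of_prime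
  have hx : x ^ N = η.t K a := by
    funext q
    obtain rfl := hxp q
    exact hk.symm
  have hz' : z ^ N = ι (g a) := by rw [hz, ← map_pow, hx, ev_t]; rfl
  have hint : IsIntegral R z := by
    refine IsIntegral.of_pow (n := N) ?_ (by rw [hz']; exact isIntegral_algebraMap)
    exact pow_pos (Nat.lt_of_lt_of_le Nat.zero_lt_one (le_max_right _ _)) n
  obtain ⟨r, hr⟩ := IsIntegrallyClosed.isIntegral_iff.1 hint
  refine ⟨r, fun E _ hE φ => ?_⟩
  have hrN : r ^ N = g a := IsFractionRing.injective R (FractionRing R) (by rw [map_pow, hr, hz'])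
  haveI : ExpChar E (ringExpChar p.asIdeal.ResidueField) :=
    haveI : ExpChar K (ringExpChar p.asIdeal.ResidueField) :=
      expChar_of_injective_ringHom
        (p.asIdeal.algEquivResidueFieldOfField).symm.toRingEquiv.toRingHom.injective _
    expChar_of_injective_ringHom (φ.comp g).injective _
  apply iterateFrobenius_inj E (ringExpChar p.asIdeal.ResidueField) n
  simp only [iterateFrobenius_def, ← hN, ← map_pow, hx, ev_t, hrN]
  rfl

/-! ## `rel` -/

theorem rel_exists (f : A →+* B) (b : η.rel f) :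
    ∃ x : η.M A, η.Nmap f (x : η.N A) = η.t B b := by
  obtain ⟨x, hx, hxb⟩ := b.2
  exact ⟨⟨x, hx⟩, hxb⟩

theorem mem_rel_iff (f : A →+* B) (b : B) :
    b ∈ η.rel f ↔ ∃ x ∈ η.M A, η.Nmap f x = η.t B b :=
  Iff.rfl

/-- the map from `rel f` to `M A` -/
noncomputable def relMap (f : A →+* B) (hs : Function.Surjective (PrimeSpectrum.comap f)) :
    η.rel f →+* η.M A where
  toFun b := (rel_exists η f b).choose
  map_one' := Subtype.ext (Nmap_inj η f hs (by
    rw [(rel_exists η f 1).choose_spec]; simp))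
  map_zero' := Subtype.ext (Nmap_inj η f hs (by
    rw [(rel_exists η f 0).choose_spec]; simp))
  map_mul' a b := Subtype.ext (Nmap_inj η f hs (by
    rw [(rel_exists η f (a * b)).choose_spec, Subring.coe_mul, Subring.coe_mul, map_mul, map_mul,
      (rel_exists η f a).choose_spec, (rel_exists η f b).choose_spec]))
  map_add' a b := Subtype.ext (Nmap_inj η f hs (by
    rw [(rel_exists η f (a + b)).choose_spec, Subring.coe_add, Subring.coe_add, map_add, map_add,
      (rel_exists η f a).choose_spec, (rel_exists η f b).choose_spec]))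

theorem relMap_spec (f : A →+* B) (hs : Function.Surjective (PrimeSpectrum.comap f)) (b : η.rel f) :
    η.Nmap f (relMap η f hs b : η.N A) = η.t B b :=
  (rel_exists η f b).choose_spec

theorem relMap_qRel (f : A →+* B) (hs : Function.Surjective (PrimeSpectrum.comap f)) :
    (relMap η f hs).comp (η.qRel f) = η.q A :=
  RingHom.ext fun a => Subtype.ext (Nmap_inj η f hs (by
    rw [RingHom.comp_apply, relMap_spec, q_apply_coe, η.Nmap_t_apply]; rfl))

theorem relMap_eq_zero (f : A →+* B) (hs : Function.Surjective (PrimeSpectrum.comap f))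
    (b : η.rel f) (h : relMap η f hs b = 0) : IsNilpotent b := by
  have h1 := relMap_spec η f hs b
  rw [h] at h1
  simp at h1
  obtain ⟨n, hn⟩ := (t_eq_zero_iff η (b : B)).1 h1.symm
  exact ⟨n, Subtype.ext (by simpa using hn)⟩

theorem qRel_isIntegral (hA : (minimalPrimes A).Finite) (f : A →+* B)
    (hs : Function.Surjective (PrimeSpectrum.comap f)) : (η.qRel f).IsIntegral := by
  intro b
  obtain ⟨P, hP, hP0⟩ := q_isIntegral η hA (relMap η f hs b)
  obtain ⟨n, hn⟩ := relMap_eq_zero η f hs (Polynomial.eval₂ (η.qRel f) b P) (by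
    rw [Polynomial.hom_eval₂, relMap_qRel, hP0])
  exact ⟨P ^ n, hP.pow n, by rw [Polynomial.eval₂_pow, hn]⟩

theorem qRel_prime_eq (hA : (minimalPrimes A).Finite) (f : A →+* B)
    (hs : Function.Surjective (PrimeSpectrum.comap f)) (Q : PrimeSpectrum (η.rel f)) :
    Q.asIdeal = RingHom.ker ((evM η (PrimeSpectrum.comap (η.qRel f) Q)).comp (relMap η f hs)) := by
  set π := relMap η f hs with hπ
  have hint : π.IsIntegral := RingHom.IsIntegral.tower_top (η.qRel f) π
    (by rw [relMap_qRel]; exact q_isIntegral η hA)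
  have hker : RingHom.ker π ≤ Q.asIdeal := fun b hb => by
    obtain ⟨n, hn⟩ := relMap_eq_zero η f hs b (RingHom.mem_ker.1 hb)
    exact Q.isPrime.mem_of_pow_mem n (by rw [hn]; exact zero_mem _)
  letI := π.toAlgebra
  haveI : Algebra.IsIntegral (η.rel f) (η.M A) := ⟨hint⟩
  obtain ⟨Q', -, hQ', hQQ⟩ := Ideal.exists_ideal_over_prime_of_isIntegral (S := η.M A) Q.asIdeal ⊥
    (fun b hb => hker (RingHom.mem_ker.2 (Ideal.mem_bot.1 (Ideal.mem_comap.1 hb))))
  let Q'' : PrimeSpectrum (η.M A) := ⟨Q', hQ'⟩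
  have e1 : PrimeSpectrum.comap (η.q A) Q'' = PrimeSpectrum.comap (η.qRel f) Q := by
    rw [← relMap_qRel η f hs, PrimeSpectrum.comap_comp_apply]
    congr 1
    exact PrimeSpectrum.ext hQQ
  rw [← e1, ← RingHom.comap_ker, ← prime_eq η hA Q'']
  exact hQQ.symm

theorem qRel_comap_bij (hA : (minimalPrimes A).Finite) (f : A →+* B)
    (hs : Function.Surjective (PrimeSpectrum.comap f)) :
    Function.Bijective (PrimeSpectrum.comap (η.qRel f)) := by
  refine ⟨fun Q Q' h => PrimeSpectrum.ext ?_, fun p => ?_⟩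
  · rw [qRel_prime_eq η hA f hs Q, qRel_prime_eq η hA f hs Q', h]
  · obtain ⟨P, rfl⟩ := hs p
    exact ⟨PrimeSpectrum.comap (η.rel f).subtype P, rfl⟩

theorem qRel_residue (hA : (minimalPrimes A).Finite) (f : A →+* B)
    (hs : Function.Surjective (PrimeSpectrum.comap f)) (Q : PrimeSpectrum (η.rel f)) :
    ∃ φ : Q.asIdeal.ResidueField →+* η.obj (PrimeSpectrum.comap (η.qRel f) Q).asIdeal.ResidueField,
      φ.comp (Ideal.ResidueField.map (PrimeSpectrum.comap (η.qRel f) Q).asIdeal Q.asIdeal (η.qRel f) rfl) =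
        η.eta (PrimeSpectrum.comap (η.qRel f) Q).asIdeal.ResidueField := by
  have hle := qRel_prime_eq η hA f hs Q
  refine ⟨liftP _ Q hle, Ideal.ResidueField.ringHom_ext (RingHom.ext fun a => ?_)⟩
  refine ((congrArg _ (Ideal.ResidueField.map_algebraMap _ _ (η.qRel f) rfl a)).trans
    (liftP_algebraMap _ Q hle _)).trans ?_
  exact congrArg (evM η _) (RingHom.congr_fun (relMap_qRel η f hs) a)

theorem qRel_Nmap_bij (hA : (minimalPrimes A).Finite) (f : A →+* B)
    (hs : Function.Surjective (PrimeSpectrum.comap f)) : Function.Bijective (η.Nmap (η.qRel f)) :=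
  Nmap_bij_of η _ (qRel_comap_bij η hA f hs) (qRel_residue η hA f hs)

theorem range_le_rel {B' : Type u} [CommRing B'] (f₁ : A →+* B') (f₂ : B' →+* B)
    (h₁ : f₁.IsIntegral) (hN : Function.Bijective (η.Nmap f₁)) :
    f₂.range ≤ η.rel (f₂.comp f₁) := by
  rintro _ ⟨b, rfl⟩
  obtain ⟨x, hx, hxb⟩ := (bijOn_M η h₁ hN).2.2 (η.t_mem_M B' b)
  exact ⟨x, hx, by rw [← Nmap_comp, hxb, η.Nmap_t_apply]⟩

theorem rel_comp_left {C : Type u} [CommRing C] (f : A →+* B) (g : B →+* C) :
    η.rel (g.comp f) ≤ η.rel g := by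
  rintro c ⟨x, hx, hxc⟩
  exact ⟨η.Nmap f x, Nmap_mem_M η f hx, by rw [Nmap_comp, hxc]⟩

theorem map_rel_comp {C : Type u} [CommRing C] (f : A →+* B) (g : B →+* C) {b : B}
    (hb : b ∈ η.rel f) : g b ∈ η.rel (g.comp f) := by
  obtain ⟨x, hx, hxb⟩ := hb
  exact ⟨x, hx, by rw [← Nmap_comp, hxb, η.Nmap_t_apply]⟩

theorem qRel_bij_iff (f : A →+* B) :
    Function.Bijective (η.qRel f) ↔ Function.Injective f ∧ η.rel f ≤ f.range := by
  constructor
  · intro h
    refine ⟨fun a b e => h.1 (Subtype.ext e), fun b hb => ?_⟩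
    obtain ⟨a, ha⟩ := h.2 ⟨b, hb⟩
    exact ⟨a, congrArg Subtype.val ha⟩
  · rintro ⟨h1, h2⟩
    refine ⟨fun a b e => h1 (congrArg Subtype.val e), fun b => ?_⟩
    obtain ⟨a, ha⟩ := h2 b.2
    exact ⟨a, Subtype.ext ha⟩

/-! ## closed fields, perfect fields, surjective integral maps -/

theorem cl_of_algClosed (E : Type u) [Field E] [IsAlgClosed E] : Cl η E := by
  refine ⟨(η.eta E).injective, fun x => ?_⟩
  obtain ⟨n, a, ha⟩ := η.exists_pow_mem_range_eta E x
  have hpos : 0 < ringExpChar E ^ n :=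
    pow_pos (Nat.lt_of_lt_of_le Nat.zero_lt_one (le_max_right _ _)) n
  obtain ⟨b, rfl⟩ := IsAlgClosed.exists_pow_nat_eq a hpos
  refine ⟨b, ?_⟩
  haveI : ExpChar (η.obj E) (ringExpChar E) := expChar_of_injective_ringHom (η.eta E).injective _
  apply iterateFrobenius_inj (η.obj E) (ringExpChar E) n
  simp only [iterateFrobenius_def, ← map_pow, ha]

theorem exists_alg_point (f : A →+* B) (hf : f.IsIntegral)
    (hs : Function.Surjective (PrimeSpectrum.comap f)) {L : Type u} [Field L] [IsAlgClosed L]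
    (φ : A →+* L) : ∃ ψ : B →+* L, ψ.comp f = φ := by
  obtain ⟨Q, hQ⟩ := hs (pt φ)
  have hle : (Q.asIdeal.comap f) = RingHom.ker φ := congrArg PrimeSpectrum.asIdeal hQ
  haveI : (RingHom.ker φ).IsPrime := RingHom.ker_isPrime φ
  let fq : A ⧸ RingHom.ker φ →+* B ⧸ Q.asIdeal := Ideal.quotientMap Q.asIdeal f hle.ge
  letI : Algebra (A ⧸ RingHom.ker φ) (B ⧸ Q.asIdeal) := fq.toAlgebra
  letI : Algebra (A ⧸ RingHom.ker φ) L := (RingHom.kerLift φ).toAlgebra
  haveI : FaithfulSMul (A ⧸ RingHom.ker φ) L :=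
    (faithfulSMul_iff_algebraMap_injective _ _).2 (RingHom.kerLift_injective φ)
  haveI : FaithfulSMul (A ⧸ RingHom.ker φ) (B ⧸ Q.asIdeal) :=
    (faithfulSMul_iff_algebraMap_injective _ _).2 (Ideal.quotientMap_injective' hle.le)
  have hcomp : fq.comp (Ideal.Quotient.mk (RingHom.ker φ)) = (Ideal.Quotient.mk Q.asIdeal).comp f :=
    RingHom.ext fun a => rfl
  haveI : Algebra.IsIntegral (A ⧸ RingHom.ker φ) (B ⧸ Q.asIdeal) := ⟨by
    refine RingHom.IsIntegral.tower_top (Ideal.Quotient.mk (RingHom.ker φ)) fq ?_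
    rw [hcomp]
    exact RingHom.IsIntegral.trans f _ hf
      (RingHom.isIntegral_of_surjective _ Ideal.Quotient.mk_surjective)⟩
  haveI : Algebra.IsAlgebraic (A ⧸ RingHom.ker φ) (B ⧸ Q.asIdeal) :=
    Algebra.IsIntegral.isAlgebraic
  let l := IsAlgClosed.lift (R := A ⧸ RingHom.ker φ) (S := B ⧸ Q.asIdeal) (M := L)
  exact ⟨l.toRingHom.comp (Ideal.Quotient.mk Q.asIdeal), RingHom.ext fun a =>
    (l.commutes (Ideal.Quotient.mk _ a)).trans rfl⟩

set_option maxHeartbeats 1000000 in
theorem mem_M_iff_Nmap (f : A →+* B) (hf : f.IsIntegral)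
    (hs : Function.Surjective (PrimeSpectrum.comap f)) (x : η.N A) :
    x ∈ η.M A ↔ η.Nmap f x ∈ η.M B := by
  refine ⟨Nmap_mem_M η f, fun hy R _ _ _ hR g => ?_⟩
  classical
  let ι := algebraMap R (FractionRing R)
  have hF : Cl η (FractionRing R) := (inV_iff η R _).1 hR
  let L := AlgebraicClosure (FractionRing R)
  have hL : Cl η L := cl_of_algClosed η L
  let j : FractionRing R →+* L := algebraMap _ _
  obtain ⟨ψ, hψ⟩ := exists_alg_point f hf hs ((j.comp ι).comp g)
  set z := ev η hF (ι.comp g) x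
  have hz : ev η hL ψ (η.Nmap f x) = j z := by
    rw [ev_Nmap, hψ, RingHom.comp_assoc, ← ev_comp η hF hL j]
  have step : ∀ q : PrimeSpectrum R, ∃ (V : ValuationSubring L) (g' : R →+* V)
      (q' : PrimeSpectrum V) (hB : B →+* V) (r : V), V.subtype.comp g' = j.comp ι ∧
      PrimeSpectrum.comap g' q' = q ∧ (r : L) = j z ∧ hB.comp f = g'.comp g ∧
      ev η (cl_obj η _) ((gpt η q').comp (g'.comp g)) x = gpt η q' r := by
    intro q
    have hinj : Function.Injective (j.comp ι) :=
      j.injective.comp (IsFractionRing.injective R (FractionRing R))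
    obtain ⟨V, g', q', hg', hq'⟩ := exists_center (j.comp ι) q (by
      rw [(RingHom.injective_iff_ker_eq_bot _).1 hinj]; exact bot_le)
    have hmem : ∀ b, ψ b ∈ V := fun b => by
      obtain ⟨P, hP, hP0⟩ := hf b
      obtain ⟨v, hv⟩ := IsIntegrallyClosed.isIntegral_iff (R := V) (K := L).1
        ⟨P.map (g'.comp g), hP.map _, by
          rw [Polynomial.eval₂_map]
          change Polynomial.eval₂ (V.subtype.comp (g'.comp g)) (ψ b) P = 0
          rw [← RingHom.comp_assoc, hg']
          change Polynomial.eval₂ ((j.comp ι).comp g) (ψ b) P = 0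
          rw [← hψ, ← Polynomial.hom_eval₂, hP0, map_zero]⟩
      rw [← hv]
      exact v.2
    let hB : B →+* V := ψ.codRestrict V.toSubring hmem
    have hBf : hB.comp f = g'.comp g := RingHom.ext fun a => Subtype.ext
      ((RingHom.congr_fun hψ a).trans (RingHom.congr_fun hg' (g a)).symm)
    obtain ⟨r, hr, hr'⟩ := compat_sub η hL V hB hy
    refine ⟨V, g', q', hB, r, hg', hq', by rw [hr, ← hz]; rfl, hBf, ?_⟩
    rw [← hBf, ← RingHom.comp_assoc, ← ev_Nmap]
    exact hr' _ (cl_obj η _) _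
  obtain ⟨r0, hr0⟩ : ∃ r0 : R, ι r0 = z := by
    rcases ValuationRing.isInteger_or_isInteger R z with h | h
    · exact h
    · obtain ⟨w, hw⟩ := h
      by_cases hu : IsUnit w
      · obtain ⟨v, hv⟩ := hu.exists_left_inv
        refine ⟨v, ?_⟩
        have h2 : ι v * ι w = 1 := by rw [← map_mul, hv, map_one]
        rw [show ι w = z⁻¹ from hw] at h2
        have := eq_inv_of_mul_eq_one_left h2
        rwa [inv_inv] at this
      · by_cases hz0 : z = 0
        · exact ⟨0, by rw [map_zero, hz0]⟩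
        exfalso
        obtain ⟨V, g', q', hB, r, hg', hq', hr, -, -⟩ :=
          step ⟨IsLocalRing.maximalIdeal R, inferInstance⟩
        have hwq : g' w ∈ q'.asIdeal := by
          have : w ∈ IsLocalRing.maximalIdeal R := hu
          exact (SetLike.ext_iff.1 (congrArg PrimeSpectrum.asIdeal hq') w).2 this
        have h1 : g' w * r = 1 := Subtype.ext (by
          change V.subtype (g' w) * (r : L) = 1
          rw [← RingHom.comp_apply, hg', hr, RingHom.comp_apply, show ι w = z⁻¹ from hw, ← map_mul,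
            inv_mul_cancel₀ hz0, map_one])
        exact q'.isPrime.ne_top (Ideal.eq_top_of_isUnit_mem _ hwq (IsUnit.of_mul_eq_one _ h1))
  refine ⟨r0, funext fun q => ?_⟩
  obtain ⟨V, g', q', hB, r, hg', hq', hr, -, hev⟩ := step q
  have hr' : r = g' r0 := Subtype.ext (by
    rw [hr, ← hr0]
    exact (RingHom.congr_fun hg' r0).symm)
  rw [hr', ← RingHom.comp_assoc, ← ev_Nmap] at hev
  have e1 : ev η (cl_obj η _) ((gpt η q').comp g') (η.Nmap g x) =
      η.map (Ideal.ResidueField.map (PrimeSpectrum.comap g' q').asIdeal q'.asIdeal g' rfl)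
        (η.Nmap g x (PrimeSpectrum.comap g' q')) := by
    rw [← ev_Nmap, ev_gpt]; rfl
  have e2 : gpt η q' (g' r0) =
      η.map (Ideal.ResidueField.map (PrimeSpectrum.comap g' q').asIdeal q'.asIdeal g' rfl)
        (η.t R r0 (PrimeSpectrum.comap g' q')) := (congrFun (η.Nmap_t_apply g' r0) q').symm
  have := (η.map _).injective ((e1.symm.trans hev).trans e2)
  rw [hq'] at this
  exact this.symm

theorem valuation_image (R : Type u) [CommRing R] [IsDomain R] [ValuationRing R]
    (hη : η.InV R ∨ ∀ (k : Type u) [Field k], ringChar k = ringChar R →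
      Function.Bijective (η.eta k) → PerfectField k)
    (y : η.obj (⊥ : Ideal R).ResidueField)
    (hy : (gpt η ⟨⊥, Ideal.isPrime_bot⟩).IsIntegralElem y) :
    ∃ x ∈ η.M R, x ⟨⊥, Ideal.isPrime_bot⟩ = y := by
  by_cases hV : η.InV R
  · -- the field is closed: `y` comes from `R`
    have hK : Cl η (⊥ : Ideal R).ResidueField := (inV_iff η R _).1 hV
    obtain ⟨k, rfl⟩ := hK.2 y
    have hint : IsIntegral R k := by
      obtain ⟨P, hP, hP0⟩ := hy
      refine ⟨P, hP, (η.eta (⊥ : Ideal R).ResidueField).injective ?_⟩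
      rw [Polynomial.hom_eval₂, map_zero]
      exact hP0
    obtain ⟨r, rfl⟩ := IsIntegrallyClosed.isIntegral_iff.1 hint
    exact ⟨η.t R r, η.t_mem_M R r, rfl⟩
  · have hper := hη.resolve_left hV
    let K := (⊥ : Ideal R).ResidueField
    obtain ⟨n, k, hk⟩ := η.exists_pow_mem_range_eta K y
    set e := ringExpChar K with he
    -- the characteristic is a prime
    have hchar : ringChar R = ringChar K := by
      haveI : CharP K (ringChar R) := charP_of_injective_algebraMap (IsFractionRing.injective R K) _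
      exact (ringChar.eq K _).symm
    have hℓ : (ringChar R).Prime := by
      rcases CharP.char_is_prime_or_zero R (ringChar R) with h | h
      · exact h
      · exfalso
        apply hV
        rw [inV_iff η R K]
        refine ⟨(η.eta K).injective, fun v => ?_⟩
        obtain ⟨m, w, hw⟩ := η.exists_pow_mem_range_eta K v
        have : ringExpChar K = 1 := by
          rw [ringExpChar, ← hchar, h]; rfl
        rw [this, one_pow, pow_one] at hw
        exact ⟨w, hw⟩
    haveI : Fact (ringChar R).Prime := ⟨hℓ⟩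
    set ℓ := ringChar R with hℓdef
    have heℓ : e = ℓ := by
      rw [he, ringExpChar, ← hchar]
      exact max_eq_left hℓ.one_le
    have hroot : ∀ (E : Type u) [Field E], Cl η E → ∀ (φ : R →+* E) (v : E),
        ∃ w : E, w ^ (ℓ ^ n) = v := by
      intro E _ hE φ v
      haveI : CharP E ℓ := (CharP.charP_iff_prime_eq_zero hℓ).2
        (by rw [← map_natCast φ, CharP.cast_eq_zero, map_zero])
      haveI := hper E (ringChar.eq E ℓ) hE
      haveI : ExpChar E ℓ := expChar_prime E ℓ
      haveI : PerfectRing E ℓ := PerfectField.toPerfectRing ℓ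
      exact (bijective_iterateFrobenius E ℓ n).2 v
    have hint : IsIntegral R k := by
      obtain ⟨P, hP, hP0⟩ := hy
      letI := (gpt η (⟨⊥, Ideal.isPrime_bot⟩ : PrimeSpectrum R)).toAlgebra
      have hy' : IsIntegral R y := ⟨P, hP, hP0⟩
      obtain ⟨P', hP', hP'0⟩ := hy'.pow (e ^ n)
      refine ⟨P', hP', (η.eta K).injective ?_⟩
      rw [Polynomial.hom_eval₂, map_zero, hk]
      exact hP'0
    obtain ⟨r, rfl⟩ := IsIntegrallyClosed.isIntegral_iff.1 hint
    rw [heℓ] at hk
    choose x hx using fun p : PrimeSpectrum R =>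
      hroot _ (cl_obj η p.asIdeal.ResidueField) (gpt η p) (gpt η p r)
    have hinj : ∀ (E : Type u) [Field E] (φ : R →+* E) (v w : E),
        v ^ (ℓ ^ n) = w ^ (ℓ ^ n) → v = w := by
      intro E _ φ v w h
      haveI : CharP E ℓ := (CharP.charP_iff_prime_eq_zero hℓ).2
        (by rw [← map_natCast φ, CharP.cast_eq_zero, map_zero])
      haveI : ExpChar E ℓ := expChar_prime E ℓ
      exact iterateFrobenius_inj E ℓ n h
    have hxt : (x : η.N R) ^ (ℓ ^ n) = η.t R r := funext hx
    refine ⟨x, mem_M η fun R₂ _ _ _ hR₂ g => ?_,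
      hinj _ (gpt η ⟨⊥, Ideal.isPrime_bot⟩) _ _ ((hx _).trans hk)⟩
    let ι := algebraMap R₂ (FractionRing R₂)
    obtain ⟨w, hw⟩ := hroot _ ((inV_iff η R₂ _).1 hR₂) (ι.comp g) (ι (g r))
    have hwint : IsIntegral R₂ w :=
      IsIntegral.of_pow (pow_pos hℓ.pos n) (by rw [hw]; exact isIntegral_algebraMap)
    obtain ⟨r₂, hr₂⟩ := IsIntegrallyClosed.isIntegral_iff.1 hwint
    refine ⟨r₂, fun E _ hE φ => hinj E (φ.comp g) _ _ ?_⟩
    have : r₂ ^ (ℓ ^ n) = g r :=
      IsFractionRing.injective R₂ (FractionRing R₂) (by rw [map_pow, hr₂, hw])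
    rw [← map_pow, hxt, ev_t, ← map_pow, this]
    rfl

end Groth.Agent.H6.Eta
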