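import Groth.Agent.Lib.H6.EtaMore
import Groth.Agent.S0415
import Groth.Prelude.Def_HTop2

set_option linter.all false
set_option autoImplicit false

/-! The scheme-theoretic translation for `Spec` of the pointwise construction. -/

namespace Groth.Agent.H6.Eta

universe u

open EtaPt AlgebraicGeometry CategoryTheory

variable {A B : Type u} [CommRing A] [CommRing B]

set_option backward.isDefEq.respectTransparency.types false in
theorem residueFieldMap_square (φ : A →+* B) (Q : Spec (.of B)) :
    (Scheme.Spec.residueFieldIso (.of A) ((Spec.map (CommRingCat.ofHom φ)).base Q)).inv ≫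
      (Spec.map (CommRingCat.ofHom φ)).residueFieldMap Q =
    CommRingCat.ofHom (Ideal.ResidueField.map (PrimeSpectrum.comap φ Q).asIdeal Q.asIdeal φ rfl) ≫
      (Scheme.Spec.residueFieldIso (.of B) Q).inv := by
  have key : CommRingCat.ofHom (algebraMap A (PrimeSpectrum.comap φ Q).asIdeal.ResidueField) ≫
      ((Scheme.Spec.residueFieldIso (.of A) ((Spec.map (CommRingCat.ofHom φ)).base Q)).inv ≫
      (Spec.map (CommRingCat.ofHom φ)).residueFieldMap Q) =
    CommRingCat.ofHom (algebraMap A (PrimeSpectrum.comap φ Q).asIdeal.ResidueField) ≫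
      (CommRingCat.ofHom (Ideal.ResidueField.map (PrimeSpectrum.comap φ Q).asIdeal Q.asIdeal φ rfl) ≫
      (Scheme.Spec.residueFieldIso (.of B) Q).inv) := by
    erw [Scheme.Spec.algebraMap_residueFieldIso_inv_assoc]
    rw [Scheme.residue_residueFieldMap, Scheme.Hom.germ_stalkMap_assoc]
    rw [← Category.assoc (CommRingCat.ofHom _) (CommRingCat.ofHom _), ← CommRingCat.ofHom_comp,
      show (Ideal.ResidueField.map (PrimeSpectrum.comap φ Q).asIdeal Q.asIdeal φ rfl).comp
        (algebraMap A _) = (algebraMap B Q.asIdeal.ResidueField).comp φ from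
        RingHom.ext fun a => Ideal.ResidueField.map_algebraMap _ _ φ rfl a,
      CommRingCat.ofHom_comp, Category.assoc]
    erw [Scheme.Spec.algebraMap_residueFieldIso_inv]
    exact (Scheme.ΓSpecIso_inv_naturality_assoc (CommRingCat.ofHom φ) _).symm
  apply CommRingCat.hom_ext
  exact Ideal.ResidueField.ringHom_ext (congrArg CommRingCat.Hom.hom key)

theorem residueFieldsIso_iff (φ : A →+* B) :
    HTop.ResidueFieldsIso (Spec.map (CommRingCat.ofHom φ)) ↔ ∀ Q : PrimeSpectrum B,
      Function.Bijective (Ideal.ResidueField.map (PrimeSpectrum.comap φ Q).asIdeal Q.asIdeal φ rfl) := by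
  refine forall_congr' fun (Q : PrimeSpectrum B) => ?_
  rw [show Function.Bijective (Ideal.ResidueField.map (PrimeSpectrum.comap φ Q).asIdeal Q.asIdeal φ rfl)
    ↔ IsIso (CommRingCat.ofHom (Ideal.ResidueField.map (PrimeSpectrum.comap φ Q).asIdeal Q.asIdeal φ rfl)) from
    (ConcreteCategory.isIso_iff_bijective (CommRingCat.ofHom _)).symm]
  constructor
  · intro h
    have : IsIso (CommRingCat.ofHom (Ideal.ResidueField.map (PrimeSpectrum.comap φ Q).asIdeal Q.asIdeal φ rfl) ≫
        (Scheme.Spec.residueFieldIso (.of B) Q).inv) := by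
      haveI := h
      exact (congrArg (fun g => IsIso g) (residueFieldMap_square φ Q)).mp (inferInstance)
    exact IsIso.of_isIso_comp_right _ (Scheme.Spec.residueFieldIso (.of B) Q).inv
  · intro h
    have : IsIso ((Scheme.Spec.residueFieldIso (.of A) ((Spec.map (CommRingCat.ofHom φ)).base Q)).inv ≫
      (Spec.map (CommRingCat.ofHom φ)).residueFieldMap Q) := by
      haveI := h
      exact (congrArg (fun g => IsIso g) (residueFieldMap_square φ Q)).mpr (IsIso.comp_isIso' h inferInstance)
    exact IsIso.of_isIso_comp_left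
      (Scheme.Spec.residueFieldIso (.of A) ((Spec.map (CommRingCat.ofHom φ)).base Q)).inv _

theorem univHomeo_of (φ : A →+* B) (hi : φ.IsIntegral)
    (hb : Function.Bijective (PrimeSpectrum.comap φ))
    (hr : ∀ Q : PrimeSpectrum B,
      Function.Bijective (Ideal.ResidueField.map (PrimeSpectrum.comap φ Q).asIdeal Q.asIdeal φ rfl)) :
    FlatMor.IsUnivHomeo (Spec.map (CommRingCat.ofHom φ)) := by
  rw [Groth.Agent.S0415.result]
  refine ⟨IsIntegralHom.SpecMap_iff.2 hi, ?_, ⟨hb.2⟩⟩
  have e := (tfae_universallyInjective (Spec.map (CommRingCat.ofHom φ))).out 2 0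
  refine e.1 ⟨hb.1, fun x => ?_⟩
  have := (residueFieldsIso_iff φ).2 hr x
  have hbij := ConcreteCategory.bijective_of_isIso
    ((Spec.map (CommRingCat.ofHom φ)).residueFieldMap x)
  letI := ((Spec.map (CommRingCat.ofHom φ)).residueFieldMap x).hom.toAlgebra
  exact isPurelyInseparable_iff_pow_mem _
    (ringExpChar ((Spec (.of A)).residueField ((Spec.map (CommRingCat.ofHom φ)).base x))) |>.2 fun y =>
    ⟨0, by obtain ⟨z, rfl⟩ := hbij.2 y; exact ⟨z, by simp; rfl⟩⟩

theorem univHomeo_integral (φ : A →+* B) (h : FlatMor.IsUnivHomeo (Spec.map (CommRingCat.ofHom φ))) :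
    φ.IsIntegral ∧ Function.Bijective (PrimeSpectrum.comap φ) := by
  have h' := (Groth.Agent.S0415.result _).1 h
  refine ⟨IsIntegralHom.SpecMap_iff.1 h'.1, ?_⟩
  have := h'.2.1
  exact ⟨(Spec.map (CommRingCat.ofHom φ)).injective, h'.2.2.surj⟩

theorem ident_bij_of_residue {K K' : Type u} [Field K] [Field K'] (i : K →+* K')
    (h : Function.Bijective i) : ∃ j : K' →+* FieldEndo.ident.{u}.obj K,
      j.comp i = FieldEndo.ident.{u}.eta K :=
  ⟨(RingEquiv.ofBijective i h).symm.toRingHom, RingHom.ext fun a =>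
    (RingEquiv.ofBijective i h).symm_apply_apply a⟩

theorem ident_residue_bij {K K' : Type u} [Field K] [Field K'] (i : K →+* K')
    (j : K' →+* FieldEndo.ident.{u}.obj K) (h : j.comp i = FieldEndo.ident.{u}.eta K) :
    Function.Bijective i :=
  map_bij_of_section FieldEndo.ident.{u} i j h

end Groth.Agent.H6.Eta
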