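import Mathlib
set_option autoImplicit false
open TensorProduct
universe u
namespace Groth.Agent.H6.EtaleTowerFlat

theorem flat_of_etale_tower (R E T : Type u) [CommRing R] [CommRing E] [CommRing T] [Algebra R E] [Algebra R T]
    [Algebra E T] [IsScalarTower R E T] [Algebra.Etale R E] [Module.Flat R T] : Module.Flat E T := by
  let μ : T ⊗[R] E →ₐ[T] T := Algebra.TensorProduct.lift (AlgHom.id T T) (IsScalarTower.toAlgHom R E T) fun _ _ => Commute.all _ _
  have hμ : μ.Flat := by
    have h1 : (Algebra.TensorProduct.lmul'' (S := E) R).Flat := Algebra.WeaklyEtale.flat_lmul' R E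
    have h2 := RingHom.Flat.lTensor (R := E) (S := T) T h1
    let e₁ := Algebra.TensorProduct.cancelBaseChange R E T T E
    let e₂ := Algebra.TensorProduct.rid E T T
    have he : (μ : T ⊗[R] E →+* T) = ((e₂ : T ⊗[E] E →+* T).comp (Algebra.TensorProduct.lTensor (S := T) T (Algebra.TensorProduct.lmul'' (S := E) R)).toRingHom).comp (e₁.symm : T ⊗[R] E →+* T ⊗[E] (E ⊗[R] E)) := by
      have hm : ∀ a b : E, Algebra.TensorProduct.lmul'' (S := E) R (a ⊗ₜ[R] b) = a * b := fun _ _ => rfl
      ext x <;> simp [μ, e₁, e₂, Algebra.smul_def, hm]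
    show (μ : T ⊗[R] E →+* T).Flat
    rw [he]
    exact (RingHom.Flat.of_bijective e₁.symm.bijective).comp (h2.comp (RingHom.Flat.of_bijective e₂.bijective))
  have h0 : (Algebra.TensorProduct.includeRight : E →ₐ[R] T ⊗[R] E).Flat := by
    have : ((Algebra.TensorProduct.includeRight : E →ₐ[R] T ⊗[R] E) : E →+* T ⊗[R] E) =
      ((Algebra.TensorProduct.comm R E T : E ⊗[R] T ≃ₐ[R] T ⊗[R] E) : E ⊗[R] T →+* T ⊗[R] E).comp (algebraMap E (E ⊗[R] T)) := by
      ext x; simp
    show ((Algebra.TensorProduct.includeRight : E →ₐ[R] T ⊗[R] E) : E →+* T ⊗[R] E).Flat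
    rw [this]
    exact (RingHom.flat_algebraMap_iff.2 inferInstance).comp (RingHom.Flat.of_bijective (Algebra.TensorProduct.comm R E T).bijective)
  rw [← RingHom.flat_algebraMap_iff]
  convert h0.comp hμ using 1
  ext x; simp [μ]

end Groth.Agent.H6.EtaleTowerFlat
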