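import Mathlib

set_option autoImplicit false
set_option linter.style.haveILetI false
set_option linter.unusedSectionVars false
set_option backward.isDefEq.respectTransparency.types false
universe v u w r

namespace Groth.Agent.H6El

open CategoryTheory Limits

variable {V : Type u} [Category.{v} V] [Abelian V] {R : Type r} [Ring R]
  (Ψ : V ⥤ ModuleCat.{w} R) [PreservesFiniteLimits Ψ] [PreservesFiniteColimits Ψ] [Ψ.Faithful] [Ψ.Additive]

theorem map_comp' {X Y Z : V} (f : X ⟶ Y) (g : Y ⟶ Z) (x : Ψ.obj X) :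
    (Ψ.map (f ≫ g)).hom x = (Ψ.map g).hom ((Ψ.map f).hom x) := by
  rw [Functor.map_comp]; rfl

theorem map_nsmul_id {X : V} (n : ℕ) (x : Ψ.obj X) : (Ψ.map (n • 𝟙 X)).hom x = n • x := by
  rw [Functor.map_nsmul, CategoryTheory.Functor.map_id]; simp

theorem map_zero' {X Y : V} (x : Ψ.obj X) : (Ψ.map (0 : X ⟶ Y)).hom x = 0 := by
  rw [Functor.map_zero]; rfl

theorem eq_zero_of {X Y : V} (f : X ⟶ Y) (h : ∀ x, (Ψ.map f).hom x = 0) : f = 0 :=
  Ψ.map_injective (by ext x; rw [h x, Functor.map_zero]; rfl)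

theorem apply_of_comp_eq_zero {X Y Z : V} {f : X ⟶ Y} {g : Y ⟶ Z} (h : f ≫ g = 0) (x : Ψ.obj X) :
    (Ψ.map g).hom ((Ψ.map f).hom x) = 0 := by
  rw [← map_comp' Ψ, h, map_zero' Ψ]

theorem inj {X Y : V} (f : X ⟶ Y) [Mono f] : Function.Injective (Ψ.map f).hom :=
  (ModuleCat.mono_iff_injective _).1 (Ψ.map_mono f)

theorem surj {X Y : V} (f : X ⟶ Y) [Epi f] : Function.Surjective (Ψ.map f).hom :=
  (ModuleCat.epi_iff_surjective _).1 (Ψ.map_epi f)

theorem epi_of {X Y : V} (f : X ⟶ Y) (h : Function.Surjective (Ψ.map f).hom) : Epi f :=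
  haveI := (ModuleCat.epi_iff_surjective _).2 h
  Ψ.epi_of_epi_map inferInstance

theorem mono_of {X Y : V} (f : X ⟶ Y) (h : Function.Injective (Ψ.map f).hom) : Mono f :=
  haveI := (ModuleCat.mono_iff_injective _).2 h
  Ψ.mono_of_mono_map inferInstance

theorem exists_preimage (S : ShortComplex V) (hS : S.Exact) (x : Ψ.obj S.X₂)
    (hx : (Ψ.map S.g).hom x = 0) : ∃ y : Ψ.obj S.X₁, (Ψ.map S.f).hom y = x :=
  (ShortComplex.moduleCat_exact_iff (S.map Ψ)).1 (hS.map Ψ) x hx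

theorem exact_of (S : ShortComplex V)
    (h : ∀ x : Ψ.obj S.X₂, (Ψ.map S.g).hom x = 0 → ∃ y : Ψ.obj S.X₁, (Ψ.map S.f).hom y = x) : S.Exact := by
  haveI : Ψ.ReflectsIsomorphisms := inferInstance
  rw [← ShortComplex.exact_map_iff_of_faithful S Ψ]
  exact (ShortComplex.moduleCat_exact_iff (S.map Ψ)).2 h

theorem exists_kernel_ι {X Y : V} (f : X ⟶ Y) (x : Ψ.obj X) (hx : (Ψ.map f).hom x = 0) :
    ∃ y : Ψ.obj (kernel f), (Ψ.map (kernel.ι f)).hom y = x :=
  exists_preimage Ψ (ShortComplex.mk (kernel.ι f) f (kernel.condition f))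
    (ShortComplex.exact_of_f_is_kernel _ (kernelIsKernel f)) x hx

theorem exists_of_cokernel_π {X Y : V} (f : X ⟶ Y) (y : Ψ.obj Y)
    (hy : (Ψ.map (cokernel.π f)).hom y = 0) : ∃ x : Ψ.obj X, (Ψ.map f).hom x = y :=
  exists_preimage Ψ (ShortComplex.mk f (cokernel.π f) (cokernel.condition f))
    (ShortComplex.exact_of_g_is_cokernel _ (cokernelIsCokernel f)) y hy

theorem comp_cokernel_π_eq_zero_iff {X Y Z : V} (f : X ⟶ Z) (g : Y ⟶ Z) :
    f ≫ cokernel.π g = 0 ↔ ∀ x, ∃ y, (Ψ.map g).hom y = (Ψ.map f).hom x := by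
  refine ⟨fun h x => exists_of_cokernel_π Ψ g _ (apply_of_comp_eq_zero Ψ h x), fun h => eq_zero_of Ψ _ fun x => ?_⟩
  obtain ⟨y, hy⟩ := h x
  rw [map_comp' Ψ, ← hy, apply_of_comp_eq_zero Ψ (cokernel.condition g)]

theorem imageSubobject_le_iff {X Y Z : V} (f : X ⟶ Z) (g : Y ⟶ Z) :
    imageSubobject f ≤ imageSubobject g ↔ ∀ x, ∃ y, (Ψ.map g).hom y = (Ψ.map f).hom x := by
  constructor
  · intro h x
    obtain ⟨y, hy⟩ := surj Ψ (factorThruImageSubobject g)
      ((Ψ.map (factorThruImageSubobject f ≫ Subobject.ofLE _ _ h)).hom x)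
    refine ⟨y, ?_⟩
    conv_lhs => rw [← imageSubobject_arrow_comp g, map_comp' Ψ, hy, ← map_comp' Ψ]
    simp
  · intro h
    have h0 : f ≫ cokernel.π (imageSubobject g).arrow = 0 := by
      rw [comp_cokernel_π_eq_zero_iff Ψ]
      intro x
      obtain ⟨y, hy⟩ := h x
      exact ⟨(Ψ.map (factorThruImageSubobject g)).hom y, by rw [← map_comp' Ψ, imageSubobject_arrow_comp, hy]⟩
    exact imageSubobject_le _ (Abelian.monoLift _ f h0) (Abelian.monoLift_comp _ _ _)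

theorem le_iff {Z : V} (S T : Subobject Z) :
    S ≤ T ↔ ∀ x, ∃ y, (Ψ.map T.arrow).hom y = (Ψ.map S.arrow).hom x := by
  rw [← imageSubobject_le_iff Ψ]
  simp [imageSubobject_mono]

theorem biprod_total {X Y : V} (x : Ψ.obj (X ⊞ Y)) :
    x = (Ψ.map biprod.inl).hom ((Ψ.map biprod.fst).hom x) +
      (Ψ.map biprod.inr).hom ((Ψ.map biprod.snd).hom x) := by
  rw [← map_comp' Ψ, ← map_comp' Ψ]
  conv_lhs => rw [show x = (Ψ.map (𝟙 (X ⊞ Y))).hom x by simp, ← biprod.total, Functor.map_add]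
  rfl

end Groth.Agent.H6El
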