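import Mathlib

set_option autoImplicit false
set_option linter.style.haveILetI false
set_option backward.isDefEq.respectTransparency.types false
universe w v u

namespace Groth.Agent.H6Eff

open CategoryTheory Limits Abelian

variable {A : Type u} [Category.{v} A] [Abelian A] [HasExt.{w} A]

/-- Every extension class of positive degree is killed by some epimorphism onto the source. -/
theorem exists_epi {B C : A} {n : ℕ} (hn : 0 < n) (x : Ext.{w} B C n) :
    ∃ (L : A) (e : L ⟶ B), Epi e ∧ (Ext.mk₀ e).comp x (zero_add n) = 0 := by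
  letI := HasDerivedCategory.standard A
  let SB := (CochainComplex.singleFunctor A 0).obj B
  let SC := (CochainComplex.singleFunctor A 0).obj C
  let f : DerivedCategory.Q.obj SB ⟶ DerivedCategory.Q.obj (SC⟦(n : ℤ)⟧) :=
    x.hom ≫ ((DerivedCategory.Q.commShiftIso (n : ℤ)).inv.app SC)
  obtain ⟨K, hK, s, hs, g, hf⟩ := DerivedCategory.right_fac_of_isStrictlyLE f 0
  have hd : K.d 0 1 = 0 := (K.isZero_of_isStrictlyLE 0 1 (by norm_num)).eq_of_tgt _ _
  let j : (CochainComplex.singleFunctor A 0).obj (K.X 0) ⟶ K :=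
    HomologicalComplex.mkHomFromSingle (𝟙 (K.X 0)) (fun i hi => by
      obtain rfl : (0 : ℤ) + 1 = i := hi
      rw [Category.id_comp]; exact hd)
  have hjg : j ≫ g = 0 := by
    apply HomologicalComplex.from_single_hom_ext
    apply IsZero.eq_of_tgt
    exact HomologicalComplex.isZero_single_obj_X (ComplexShape.up ℤ) 0 C (0 + (n : ℤ)) (by omega)
  obtain ⟨e, he⟩ := (CochainComplex.singleFunctor A 0).map_surjective (j ≫ s)
  refine ⟨K.X 0, e, ?_, ?_⟩
  · haveI : QuasiIso s := by rwa [← DerivedCategory.isIso_Q_map_iff_quasiIso]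
    haveI : IsIso (SB.iCycles 0) := SB.isIso_iCycles 0 1 (by simp) (HomologicalComplex.single_obj_d _ _ _ _ _)
    haveI : IsIso (SB.homologyπ 0) := SB.isIso_homologyπ (-1) 0 (by simp) (HomologicalComplex.single_obj_d _ _ _ _ _)
    haveI : Epi (HomologicalComplex.cyclesMap s 0 ≫ SB.homologyπ 0) := by
      rw [← HomologicalComplex.homologyπ_naturality]
      infer_instance
    haveI : Epi (HomologicalComplex.cyclesMap s 0) := by
      have h2 : HomologicalComplex.cyclesMap s 0 =
          (HomologicalComplex.cyclesMap s 0 ≫ SB.homologyπ 0) ≫ inv (SB.homologyπ 0) := by simp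
      rw [h2]; infer_instance
    haveI : Epi (s.f 0) := by
      have h2 : K.iCycles 0 ≫ s.f 0 = HomologicalComplex.cyclesMap s 0 ≫ SB.iCycles 0 := by simp
      haveI : Epi (K.iCycles 0 ≫ s.f 0) := by rw [h2]; infer_instance
      exact epi_of_epi (K.iCycles 0) _
    haveI : IsIso (j.f 0) := by
      simp only [j, HomologicalComplex.mkHomFromSingle_f, Category.comp_id]
      exact Iso.isIso_hom _
    haveI : Epi (((CochainComplex.singleFunctor A 0).map e).f 0) := by
      rw [he, HomologicalComplex.comp_f]; infer_instance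
    have h3 : e = (HomologicalComplex.singleObjXSelf (ComplexShape.up ℤ) 0 (K.X 0)).inv ≫
        ((CochainComplex.singleFunctor A 0).map e).f 0 ≫
        (HomologicalComplex.singleObjXSelf (ComplexShape.up ℤ) 0 B).hom := by
      simp [CochainComplex.singleFunctor, CochainComplex.singleFunctors, HomologicalComplex.single_map_f_self]
    rw [h3]
    haveI : Epi (((CochainComplex.singleFunctor A 0).map e).f 0 ≫
        (HomologicalComplex.singleObjXSelf (ComplexShape.up ℤ) 0 B).hom) :=
      @epi_comp _ _ _ _ _ _ inferInstance _ (@IsIso.epi_of_iso _ _ _ _ _ (Iso.isIso_hom _))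
    exact @epi_comp _ _ _ _ _ _ (@IsIso.epi_of_iso _ _ _ _ _ (Iso.isIso_inv _)) _ this
  · ext
    rw [Ext.comp_hom, Ext.mk₀_hom, ShiftedHom.mk₀_comp]
    rw [Ext.zero_hom]
    change DerivedCategory.Q.map ((CochainComplex.singleFunctor A 0).map e) ≫ x.hom = 0
    have hx : x.hom = f ≫ (DerivedCategory.Q.commShiftIso (n : ℤ)).hom.app SC := by
      simp only [f, Category.assoc]
      exact ((congrArg (fun t => x.hom ≫ t) ((DerivedCategory.Q.commShiftIso (n : ℤ)).inv_hom_id_app SC)).trans
        (Category.comp_id x.hom)).symm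
    rw [hx, hf, he]
    simp only [Category.assoc, IsIso.hom_inv_id_assoc]
    refine (congrArg (fun t => t ≫ inv (DerivedCategory.Q.map s) ≫
      DerivedCategory.Q.map g ≫ (DerivedCategory.Q.commShiftIso (n : ℤ)).hom.app SC) (DerivedCategory.Q.map_comp j s)).trans ?_
    rw [Category.assoc, IsIso.hom_inv_id_assoc, ← Functor.map_comp_assoc, hjg, Functor.map_zero, zero_comp]
    rfl

end Groth.Agent.H6Eff
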