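import Mathlib

/-! A finite bipartite category mapping finally and initially onto a finitely generated category. -/

set_option autoImplicit false

open CategoryTheory

namespace Groth.Agent.H6FM

universe v u

/-- objects of the bipartite category of a quiver -/
inductive Obj (n m : ℕ) (s t : Fin m → Fin n) : Type
  | lo (i : Fin n)
  | hi (i : Fin n)

variable {n m : ℕ} {s t : Fin m → Fin n}

/-- morphisms of the bipartite category -/
inductive Hom : Obj n m s t → Obj n m s t → Type
  | id (a : Obj n m s t) : Hom a a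
  | edge (e : Fin m) {i j : Fin n} (h : s e = i) (h' : t e = j) : Hom (Obj.lo i) (Obj.hi j)

/-- composition -/
def Hom.comp : {a b c : Obj n m s t} → Hom a b → Hom b c → Hom a c
  | _, _, _, Hom.id _, g => g
  | _, _, _, Hom.edge e h h', Hom.id _ => Hom.edge e h h'

instance : SmallCategory (Obj n m s t) where
  Hom := Hom
  id := Hom.id
  comp := Hom.comp
  id_comp {_ _} (f : Hom _ _) := by cases f <;> rfl
  comp_id {_ _} (f : Hom _ _) := by cases f <;> rfl
  assoc {_ _ _ _} (f : Hom _ _) (g : Hom _ _) (h : Hom _ _) := by cases f <;> cases g <;> cases h <;> rfl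

instance : Finite (Obj n m s t) :=
  Finite.of_injective (fun a => match a with | .lo i => (Sum.inl i : Fin n ⊕ Fin n) | .hi i => Sum.inr i)
    (by rintro (i | i) (j | j) h <;> simp_all)

instance (a b : Obj n m s t) : Finite (a ⟶ b) :=
  Finite.of_injective (fun f : Hom a b => match f with | .id _ => (none : Option (Fin m)) | .edge e _ _ => some e)
    (by
      intro (f : Hom a b) (g : Hom a b) h
      cases f with
      | id a => cases g with | id _ => rfl
      | edge e h1 h2 =>
        cases g with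
        | edge e' h1' h2' =>
          simp only [Option.some.injEq] at h
          subst h
          rfl)

noncomputable instance : FinCategory (Obj n m s t) where
  fintypeObj := Fintype.ofFinite _
  fintypeHom _ _ := Fintype.ofFinite _

variable {I : Type u} [Category.{v} I] (ob : Fin n → I) (ed : ∀ e, ob (s e) ⟶ ob (t e))

/-- underlying object -/
def obj : Obj n m s t → I
  | .lo i => ob i
  | .hi i => ob i

/-- underlying morphism -/
def map : {a b : Obj n m s t} → Hom a b → (obj ob a ⟶ obj ob b)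
  | a, _, Hom.id _ => 𝟙 (obj ob a)
  | _, _, Hom.edge e h h' => eqToHom (congrArg ob h.symm) ≫ ed e ≫ eqToHom (congrArg ob h')

/-- the comparison functor -/
def func : Obj n m s t ⥤ I where
  obj := obj ob
  map := map ob ed
  map_id _ := rfl
  map_comp {_ _ _} (f : Hom _ _) (g : Hom _ _) := by
    cases f <;> cases g <;> simp [CategoryStruct.comp, Hom.comp, map]

theorem eqToHom_sandwich {X Y Z : I} (f : X ⟶ Y) (hX : X = Z) (hY : Y = Z) (hf : HEq f (𝟙 Z)) :
    eqToHom hX.symm ≫ f ≫ eqToHom hY = 𝟙 Z := by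
  subst hX hY
  simp [eq_of_heq hf]

/-- a lower object of a comma category -/
abbrev salo {i : I} (a : Fin n) (h : i ⟶ ob a) : StructuredArrow i (func (s := s) (t := t) ob ed) :=
  StructuredArrow.mk (Y := Obj.lo a) h

/-- an upper object of a comma category -/
abbrev sahi {i : I} (a : Fin n) (h : i ⟶ ob a) : StructuredArrow i (func (s := s) (t := t) ob ed) :=
  StructuredArrow.mk (Y := Obj.hi a) h

/-- a lower object of a comma category -/
abbrev calo {i : I} (a : Fin n) (h : ob a ⟶ i) : CostructuredArrow (func (s := s) (t := t) ob ed) i :=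
  CostructuredArrow.mk (Y := Obj.lo a) h

/-- an upper object of a comma category -/
abbrev cahi {i : I} (a : Fin n) (h : ob a ⟶ i) : CostructuredArrow (func (s := s) (t := t) ob ed) i :=
  CostructuredArrow.mk (Y := Obj.hi a) h

theorem sa_edge {i : I} (e : Fin m) (h : i ⟶ ob (s e)) :
    Zigzag (salo (s := s) (t := t) ob ed (s e) h) (sahi (s := s) (t := t) ob ed (t e) (h ≫ ed e)) :=
  Zigzag.of_hom (StructuredArrow.homMk (Hom.edge e rfl rfl)
    (show h ≫ (eqToHom _ ≫ ed e ≫ eqToHom _) = h ≫ ed e by simp))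

theorem ca_edge {i : I} (e : Fin m) (h : ob (t e) ⟶ i) :
    Zigzag (calo (s := s) (t := t) ob ed (s e) (ed e ≫ h)) (cahi (s := s) (t := t) ob ed (t e) h) :=
  Zigzag.of_hom (CostructuredArrow.homMk (Hom.edge e rfl rfl)
    (show (eqToHom _ ≫ ed e ≫ eqToHom _) ≫ h = ed e ≫ h by simp))

theorem sa_loop (hloop : ∀ i, ∃ e, s e = i ∧ t e = i ∧ HEq (ed e) (𝟙 (ob i))) {i : I} (a : Fin n)
    (h : i ⟶ ob a) : Zigzag (salo (s := s) (t := t) ob ed a h) (sahi (s := s) (t := t) ob ed a h) := by
  obtain ⟨l, hl1, hl2, hl3⟩ := hloop a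
  refine Zigzag.of_hom (StructuredArrow.homMk (Hom.edge l hl1 hl2) ?_)
  show h ≫ (eqToHom _ ≫ ed l ≫ eqToHom _) = h
  erw [eqToHom_sandwich (ed l) (congrArg ob hl1) (congrArg ob hl2) hl3, Category.comp_id]

theorem ca_loop (hloop : ∀ i, ∃ e, s e = i ∧ t e = i ∧ HEq (ed e) (𝟙 (ob i))) {i : I} (a : Fin n)
    (h : ob a ⟶ i) : Zigzag (calo (s := s) (t := t) ob ed a h) (cahi (s := s) (t := t) ob ed a h) := by
  obtain ⟨l, hl1, hl2, hl3⟩ := hloop a
  refine Zigzag.of_hom (CostructuredArrow.homMk (Hom.edge l hl1 hl2) ?_)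
  show (eqToHom _ ≫ ed l ≫ eqToHom _) ≫ h = h
  erw [eqToHom_sandwich (ed l) (congrArg ob hl1) (congrArg ob hl2) hl3, Category.id_comp]

/-- the morphisms whose action joins objects of every comma category -/
def P : MorphismProperty I := fun x y f =>
  ∀ (a b : Fin n) (ha : ob a = x) (hb : ob b = y),
    (∀ (i : I) (h : i ⟶ ob a), Zigzag (salo (s := s) (t := t) ob ed a h)
      (salo (s := s) (t := t) ob ed b (h ≫ eqToHom ha ≫ f ≫ eqToHom hb.symm))) ∧
    (∀ (i : I) (h : ob b ⟶ i), Zigzag (cahi (s := s) (t := t) ob ed a ((eqToHom ha ≫ f ≫ eqToHom hb.symm) ≫ h))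
      (cahi (s := s) (t := t) ob ed b h))

theorem multiplicative (hob : Function.Bijective ob) : (P (s := s) (t := t) ob ed).IsMultiplicative where
  id_mem x := by
    intro a b ha hb
    obtain rfl := hob.1 (ha.trans hb.symm)
    subst ha
    exact ⟨fun i h => by simpa using Zigzag.refl _, fun i h => by simpa using Zigzag.refl _⟩
  comp_mem {x y z} f g hf hg := by
    intro a c ha hc
    obtain ⟨b, hb⟩ := hob.2 y
    refine ⟨fun i h => ?_, fun i h => ?_⟩
    · refine Zigzag.trans ((hf a b ha hb).1 i h) ?_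
      have := (hg b c hb hc).1 i (h ≫ eqToHom ha ≫ f ≫ eqToHom hb.symm)
      simpa using this
    · refine Zigzag.trans ?_ ((hg b c hb hc).2 i h)
      have := (hf a b ha hb).2 i ((eqToHom hb ≫ g ≫ eqToHom hc.symm) ≫ h)
      simpa using this

theorem edge_mem (hloop : ∀ i, ∃ e, s e = i ∧ t e = i ∧ HEq (ed e) (𝟙 (ob i)))
    (hob : Function.Bijective ob) (e : Fin m) : P (s := s) (t := t) ob ed (ed e) := by
  intro a b ha hb
  obtain rfl := hob.1 ha
  obtain rfl := hob.1 hb
  simp only [eqToHom_refl, Category.comp_id, Category.id_comp]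
  exact ⟨fun i h => (sa_edge ob ed e h).trans (sa_loop ob ed hloop (t e) (h ≫ ed e)).symm,
    fun i h => (ca_loop ob ed hloop (s e) (ed e ≫ h)).symm.trans (ca_edge ob ed e h)⟩

theorem final_initial (hob : Function.Bijective ob)
    (hloop : ∀ i, ∃ e, s e = i ∧ t e = i ∧ HEq (ed e) (𝟙 (ob i)))
    (htop : ∀ Q : MorphismProperty I, Q.IsMultiplicative → (∀ e, Q (ed e)) → Q = ⊤) :
    (func (s := s) (t := t) ob ed).Final ∧ (func (s := s) (t := t) ob ed).Initial := by
  have hP := htop _ (multiplicative ob ed hob) (edge_mem ob ed hloop hob)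
  have hall : ∀ {x y : I} (f : x ⟶ y), P (s := s) (t := t) ob ed f := fun f => by rw [hP]; trivial
  constructor
  · refine ⟨fun d => ?_⟩
    obtain ⟨a, rfl⟩ := hob.2 d
    have : Nonempty (StructuredArrow (ob a) (func (s := s) (t := t) ob ed)) := ⟨salo ob ed a (𝟙 _)⟩
    suffices h : ∀ A, Zigzag (salo (s := s) (t := t) ob ed a (𝟙 (ob a))) A from
      zigzag_isConnected fun A B => (h A).symm.trans (h B)
    intro A
    obtain ⟨c, h, rfl⟩ := A.mk_surjective
    cases c with
    | lo b =>
      change ob a ⟶ ob b at h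
      simpa using (hall h a b rfl rfl).1 _ (𝟙 _)
    | hi b =>
      change ob a ⟶ ob b at h
      refine Zigzag.trans ?_ (sa_loop ob ed hloop b h)
      simpa using (hall h a b rfl rfl).1 _ (𝟙 _)
  · refine ⟨fun d => ?_⟩
    obtain ⟨a, rfl⟩ := hob.2 d
    have : Nonempty (CostructuredArrow (func (s := s) (t := t) ob ed) (ob a)) := ⟨cahi ob ed a (𝟙 _)⟩
    suffices h : ∀ A, Zigzag A (cahi (s := s) (t := t) ob ed a (𝟙 (ob a))) from
      zigzag_isConnected fun A B => (h A).trans (h B).symm
    intro A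
    obtain ⟨c, h, rfl⟩ := A.mk_surjective
    cases c with
    | hi b =>
      change ob b ⟶ ob a at h
      simpa using (hall h b a rfl rfl).2 _ (𝟙 _)
    | lo b =>
      change ob b ⟶ ob a at h
      refine Zigzag.trans (ca_loop ob ed hloop b h) ?_
      simpa using (hall h b a rfl rfl).2 _ (𝟙 _)

end Groth.Agent.H6FM
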