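import Mathlib

/-! Algebras with nilpotent finitely generated ideal of finite colength. -/

set_option autoImplicit false

namespace Groth.Agent.H6FN

universe u v

theorem finite_of_nilpotent {R : Type u} {A : Type v} [CommRing R] [CommRing A] [Algebra R A]
    (n : Ideal A) (hfg : n.FG) (hn : IsNilpotent n) [Module.Finite R (A ⧸ n)] : Module.Finite R A := by
  obtain ⟨s, hs⟩ : (⊤ : Submodule R (A ⧸ n)).FG := Module.Finite.fg_top
  choose g hg using fun x : A ⧸ n => Ideal.Quotient.mk_surjective (I := n) x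
  let P : Submodule R A := Submodule.span R (g '' (s : Set _))
  have hP : P.FG := Submodule.fg_span ((s.finite_toSet).image _)
  have h1 : (⊤ : Submodule R A) ≤ P ⊔ n.restrictScalars R := by
    intro a _
    have hm : Ideal.Quotient.mk n a ∈ P.map (Ideal.Quotient.mkₐ R n).toLinearMap := by
      simp only [P, Submodule.map_span, Set.image_image, AlgHom.toLinearMap_apply, Ideal.Quotient.mkₐ_eq_mk,
        hg, Set.image_id', hs, Submodule.mem_top]
    obtain ⟨p, hp, hpa⟩ := hm
    have hpa' : Ideal.Quotient.mk n p = Ideal.Quotient.mk n a := hpa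
    rw [show a = p + (a - p) by ring]
    exact Submodule.add_mem_sup hp ((Ideal.Quotient.mk_eq_mk_iff_sub_mem a p).1 hpa'.symm)
  have key : ∀ i : ℕ, ∃ W : Submodule R A, W.FG ∧ (⊤ : Submodule R A) ≤ W ⊔ (n ^ i).restrictScalars R := by
    intro i
    induction i with
    | zero => exact ⟨⊥, Submodule.fg_bot, by simp⟩
    | succ i ih =>
      obtain ⟨W, hW, htop⟩ := ih
      obtain ⟨G, hG⟩ := Submodule.FG.pow hfg i
      refine ⟨W ⊔ P * Submodule.span R (G : Set A), hW.sup (hP.mul ⟨G, rfl⟩), htop.trans ?_⟩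
      refine sup_le (le_sup_left.trans le_sup_left) ?_
      intro v hv
      rw [Submodule.restrictScalars_mem, ← hG] at hv
      obtain ⟨c, rfl⟩ := Submodule.mem_span_finset'.1 hv
      refine Submodule.sum_mem _ fun x _ => ?_
      obtain ⟨p, hp, q, hq, hpq⟩ := Submodule.mem_sup.1 (h1 (Submodule.mem_top (x := c x)))
      rw [← hpq, smul_eq_mul, add_mul]
      refine Submodule.add_mem_sup (Submodule.mem_sup_right
        (Submodule.mul_mem_mul hp (Submodule.subset_span x.2))) ?_
      have hx : (x : A) ∈ n ^ i := hG ▸ Submodule.subset_span x.2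
      rw [Submodule.restrictScalars_mem, pow_succ', ]
      exact Ideal.mul_mem_mul hq hx
  obtain ⟨N, hN⟩ := hn
  obtain ⟨W, hW, htop⟩ := key N
  rw [hN, Ideal.zero_eq_bot, Submodule.restrictScalars_bot, sup_bot_eq, top_le_iff] at htop
  exact ⟨htop ▸ hW⟩

end Groth.Agent.H6FN
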