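import Mathlib

namespace Groth.Agent.H6FrobLift

universe u v w z

open WittVector

theorem frobenius_iterate_eq_zero (p : ℕ) [Fact p.Prime] {S : Type u} [CommRing S]
    (hp : IsNilpotent (p : S)) (N : ℕ) :
    ∃ M : ℕ, ∀ x : WittVector p S, (∀ n, (x.coeff n) ^ N = 0) →
      (WittVector.frobenius)^[M] x = 0 := by
  obtain ⟨t, ht⟩ := hp
  have hp2 : 2 ≤ p := (Fact.out : p.Prime).two_le
  have hco : ∀ (y : WittVector p S) (n : ℕ), (frobenius y).coeff n =
      (y.coeff n) ^ p + (p : S) * MvPolynomial.aeval y.coeff (frobeniusPolyAux p n) := by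
    intro y n
    rw [coeff_frobenius, frobeniusPoly]
    simp [map_add, map_mul, map_pow]
  have st1 : ∀ (x : WittVector p S) (m n : ℕ),
      ((frobenius)^[m] x).coeff n - (x.coeff n) ^ (p ^ m) ∈ Ideal.span {(p : S)} := by
    intro x m
    induction m with
    | zero => intro n; simp
    | succ m ih =>
      intro n
      rw [Function.iterate_succ_apply', hco, pow_succ, pow_mul, add_sub_right_comm]
      exact add_mem (Ideal.mem_of_dvd _ (sub_dvd_pow_sub_pow _ _ p) (ih n))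
        (Ideal.mul_mem_right _ _ (Ideal.subset_span rfl))
  have hz : ∀ n, (p : S) * MvPolynomial.aeval (0 : ℕ → S) (frobeniusPolyAux p n) = 0 := by
    intro n
    have h := hco 0 n
    have h0 : (0 : WittVector p S).coeff = (0 : ℕ → S) := funext fun k => zero_coeff p S k
    rw [map_zero, zero_coeff, h0, zero_pow (by omega), zero_add] at h
    exact h.symm
  have st2 : ∀ (y : WittVector p S) (i : ℕ), 1 ≤ i →
      (∀ n, y.coeff n ∈ Ideal.span {(p : S) ^ i}) →
      ∀ n, (frobenius y).coeff n ∈ Ideal.span {(p : S) ^ (i + 1)} := by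
    intro y i hi hy n
    rw [hco]
    refine add_mem ?_ ?_
    · obtain ⟨c, hc⟩ := Ideal.mem_span_singleton.1 (hy n)
      rw [hc, mul_pow, ← pow_mul]
      refine Ideal.mul_mem_right _ _ (Ideal.mem_span_singleton.2 (pow_dvd_pow _ ?_))
      nlinarith
    · have hq : MvPolynomial.aeval y.coeff (frobeniusPolyAux p n) -
          MvPolynomial.aeval (0 : ℕ → S) (frobeniusPolyAux p n) ∈ Ideal.span {(p : S) ^ i} := by
        rw [← Ideal.Quotient.eq]
        have e : ∀ z : ℕ → S, Ideal.Quotient.mk (Ideal.span {(p : S) ^ i})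
            (MvPolynomial.aeval z (frobeniusPolyAux p n)) =
            MvPolynomial.eval₂ (Int.castRingHom _)
              (fun k => Ideal.Quotient.mk (Ideal.span {(p : S) ^ i}) (z k))
              (frobeniusPolyAux p n) := by
          intro z
          rw [MvPolynomial.aeval_def, MvPolynomial.eval₂_comp_left]
          congr 1
        rw [e, e]
        congr 1
        funext k
        rw [Ideal.Quotient.eq]
        simpa using hy k
      obtain ⟨c, hc⟩ := Ideal.mem_span_singleton.1 hq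
      rw [Ideal.mem_span_singleton]
      refine ⟨c, ?_⟩
      rw [sub_eq_iff_eq_add.1 hc, mul_add, hz, add_zero, pow_succ']
      ring
  refine ⟨t + N, fun x hx => ?_⟩
  have h1 : ∀ n, ((frobenius)^[N] x).coeff n ∈ Ideal.span {(p : S) ^ (1 + 0)} := by
    intro n
    have h := st1 x N n
    have hle : N ≤ p ^ N := (Nat.lt_pow_self hp2).le
    rw [pow_eq_zero_of_le hle (hx n), sub_zero] at h
    simpa using h
  have h2 : ∀ (j n : ℕ), ((frobenius)^[j + N] x).coeff n ∈ Ideal.span {(p : S) ^ (1 + j)} := by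
    intro j
    induction j with
    | zero => simpa using h1
    | succ j ih =>
      intro n
      rw [show j + 1 + N = (j + N) + 1 by ring, Function.iterate_succ_apply']
      exact st2 _ (1 + j) (by omega) ih n
  ext n
  have h := h2 t n
  rw [pow_add, ht, mul_zero] at h
  simpa [Ideal.span_singleton_eq_bot.2 rfl] using h

variable {W : Type u} [CommRing W] (σ : W →+* W)

theorem semi_mem_smul {P : Type v} [AddCommGroup P] [Module W P] (F : P →ₛₗ[σ] P)
    {I : Ideal W} {y : P} (hy : y ∈ I • (⊤ : Submodule W P)) :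
    F y ∈ Ideal.map σ I • (⊤ : Submodule W P) := by
  refine Submodule.smul_induction_on hy ?_ ?_
  · intro r hr n _
    rw [F.map_smulₛₗ]
    exact Submodule.smul_mem_smul (Ideal.mem_map_of_mem _ hr) Submodule.mem_top
  · intro a b ha hb
    rw [map_add]
    exact add_mem ha hb

theorem mem_of_basis {P : Type v} [AddCommGroup P] [Module W P] {Q : Type w} [AddCommGroup Q]
    [Module W Q] {ι : Type z} (f : Module.Basis ι W P) (D : P →ₗ[W] Q) (N : Submodule W Q)
    (h : ∀ i, D (f i) ∈ N) (x : P) : D x ∈ N := by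
  have : Submodule.span W (Set.range f) ≤ N.comap D :=
    Submodule.span_le.2 (by rintro _ ⟨i, rfl⟩; exact h i)
  exact this (by rw [f.span_eq]; exact Submodule.mem_top)

theorem smul_top_eq_bot_of_iterate {P : Type v} [AddCommGroup P] [Module W P] (𝔠 : Ideal W)
    (M : ℕ) (hM : ∀ x ∈ 𝔠, σ^[M] x = 0) {y : P}
    (hy : y ∈ Ideal.span (σ^[M] '' (𝔠 : Set W)) • (⊤ : Submodule W P)) : y = 0 := by
  have : Ideal.span (σ^[M] '' (𝔠 : Set W)) = ⊥ := by
    rw [Ideal.span_eq_bot]
    rintro _ ⟨x, hx, rfl⟩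
    exact hM x hx
  rw [this, Submodule.bot_smul] at hy
  simpa using hy

theorem map_span_iterate (𝔠 : Ideal W) (k : ℕ) :
    Ideal.map σ (Ideal.span (σ^[k] '' (𝔠 : Set W))) = Ideal.span (σ^[k + 1] '' (𝔠 : Set W)) := by
  rw [Ideal.map_span, Function.iterate_succ', Set.image_comp]

variable {P₁ : Type v} [AddCommGroup P₁] [Module W P₁] {P₂ : Type w} [AddCommGroup P₂]
  [Module W P₂] {ι : Type z}

theorem eq_zero_of_comm (b₁ : Module.Basis ι W P₁) (F₁ : P₁ →ₛₗ[σ] P₁) (F₂ : P₂ →ₛₗ[σ] P₂)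
    (hspan : Submodule.span W (Set.range fun i => F₁ (b₁ i)) = ⊤)
    (hli : LinearIndependent W (fun i => F₁ (b₁ i)))
    (𝔠 : Ideal W) (M : ℕ) (hM : ∀ x ∈ 𝔠, σ^[M] x = 0)
    (D : P₁ →ₗ[W] P₂) (hD : ∀ x, D x ∈ 𝔠 • (⊤ : Submodule W P₂))
    (hc : ∀ x, F₂ (D x) = D (F₁ x)) : D = 0 := by
  let f := Module.Basis.mk hli hspan.ge
  have key : ∀ k x, D x ∈ Ideal.span (σ^[k] '' (𝔠 : Set W)) • (⊤ : Submodule W P₂) := by
    intro k
    induction k with
    | zero => simpa using hD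
    | succ k ih =>
      refine mem_of_basis f D _ fun i => ?_
      rw [Module.Basis.mk_apply, ← hc, ← map_span_iterate]
      exact semi_mem_smul σ F₂ (ih _)
  exact LinearMap.ext fun x => smul_top_eq_bot_of_iterate σ 𝔠 M hM (key M x)

theorem exists_lift (b₁ : Module.Basis ι W P₁) (F₁ : P₁ →ₛₗ[σ] P₁) (F₂ : P₂ →ₛₗ[σ] P₂)
    (hspan : Submodule.span W (Set.range fun i => F₁ (b₁ i)) = ⊤)
    (hli : LinearIndependent W (fun i => F₁ (b₁ i)))
    (𝔠 : Ideal W) (hσ : ∀ x ∈ 𝔠, σ x ∈ 𝔠) (M : ℕ) (hM : ∀ x ∈ 𝔠, σ^[M] x = 0)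
    (α₀ : P₁ →ₗ[W] P₂)
    (hα₀ : ∀ x, F₂ (α₀ x) - α₀ (F₁ x) ∈ 𝔠 • (⊤ : Submodule W P₂)) :
    ∃ α : P₁ →ₗ[W] P₂, (∀ x, α x - α₀ x ∈ 𝔠 • (⊤ : Submodule W P₂)) ∧
      ∀ x, F₂ (α x) = α (F₁ x) := by
  let f := Module.Basis.mk hli hspan.ge
  let T : (P₁ →ₗ[W] P₂) → (P₁ →ₗ[W] P₂) := fun δ =>
    f.constr ℕ fun i => F₂ (α₀ (b₁ i)) - α₀ (F₁ (b₁ i)) + F₂ (δ (b₁ i))
  have hT : ∀ δ i, T δ (F₁ (b₁ i)) =
      F₂ (α₀ (b₁ i)) - α₀ (F₁ (b₁ i)) + F₂ (δ (b₁ i)) := by
    intro δ i
    have : F₁ (b₁ i) = f i := (Module.Basis.mk_apply hli hspan.ge i).symm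
    conv_lhs => rw [this]
    exact f.constr_basis ℕ _ i
  have hmap : Ideal.map σ 𝔠 ≤ 𝔠 := Ideal.map_le_iff_le_comap.2 fun x hx => hσ x hx
  have hδ : ∀ k x, (T^[k] 0) x ∈ 𝔠 • (⊤ : Submodule W P₂) := by
    intro k
    induction k with
    | zero => intro x; simp
    | succ k ih =>
      refine mem_of_basis f _ _ fun i => ?_
      rw [Function.iterate_succ_apply', Module.Basis.mk_apply, hT]
      exact add_mem (hα₀ _) (Submodule.smul_mono_left hmap (semi_mem_smul σ F₂ (ih _)))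
  have hdiff : ∀ k x, (T^[k + 1] 0) x - (T^[k] 0) x ∈
      Ideal.span (σ^[k] '' (𝔠 : Set W)) • (⊤ : Submodule W P₂) := by
    intro k
    induction k with
    | zero => intro x; simpa using hδ 1 x
    | succ k ih =>
      intro x
      rw [← LinearMap.sub_apply]
      refine mem_of_basis f _ _ (fun i => ?_) x
      rw [LinearMap.sub_apply, Function.iterate_succ_apply', Module.Basis.mk_apply]
      conv in (T^[k + 1] 0) (F₁ (b₁ i)) => rw [Function.iterate_succ_apply']
      rw [hT, hT, add_sub_add_left_eq_sub, ← map_sub, ← map_span_iterate]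
      exact semi_mem_smul σ F₂ (ih _)
  have hfix : T (T^[M] 0) = T^[M] 0 := by
    rw [← Function.iterate_succ_apply' T M 0]
    exact LinearMap.ext fun x =>
      sub_eq_zero.1 (smul_top_eq_bot_of_iterate σ 𝔠 M hM (hdiff M x))
  refine ⟨α₀ + T^[M] 0, fun x => by simpa using hδ M x, ?_⟩
  have : F₂.comp (α₀ + T^[M] 0) = (α₀ + T^[M] 0).comp F₁ := by
    refine b₁.ext fun i => ?_
    have h := hT (T^[M] 0) i
    rw [hfix] at h
    simp only [LinearMap.comp_apply, LinearMap.add_apply, map_add, h]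
    abel
  exact fun x => LinearMap.congr_fun this x

end Groth.Agent.H6FrobLift
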