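import Mathlib

set_option autoImplicit false
set_option linter.all false

/-! Finite groups acting with clopen fixed loci: the invariant extension is finite projective and
unramified (Chase-Harrison-Rosenberg). -/

universe u

open TensorProduct

namespace Groth.Agent.H6.Galois

section Sep

variable {G A : Type u} [Group G] [CommRing A] [MulSemiringAction G A]

/-- `c h g` cuts out the locus where `h` and `g` agree. -/
structure Sep (c : G → G → A) : Prop where
  idem : ∀ h g, c h g * c h g = c h g
  ann : ∀ h g a, c h g * (g • a - h • a) = 0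
  span : ∀ h g, 1 - c h g ∈ Ideal.span (Set.range fun a : A => g • a - h • a)

variable {c : G → G → A}

theorem Sep.kill (hc : Sep c) (h g : G) (e : A) (he : ∀ a, e * (g • a - h • a) = 0) : e = e * c h g := by
  have : ∀ x ∈ Ideal.span (Set.range fun a : A => g • a - h • a), e * x = 0 := fun x hx => by
    induction hx using Submodule.span_induction with
    | mem x hx => obtain ⟨a, rfl⟩ := hx; exact he a
    | zero => exact mul_zero _
    | add x y _ _ hx hy => rw [mul_add, hx, hy, add_zero]
    | smul r x _ hx => rw [smul_eq_mul, mul_left_comm, hx, mul_zero]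
  have h1 := this _ (hc.span h g)
  rw [mul_sub, mul_one, sub_eq_zero] at h1
  exact h1

theorem Sep.self (hc : Sep c) (g : G) : c g g = 1 := by
  have := hc.kill g g 1 (fun a => by rw [sub_self, mul_zero])
  rwa [one_mul, eq_comm] at this

theorem Sep.symm (hc : Sep c) (h g : G) : c h g = c g h := by
  have h1 := hc.kill h g (c g h) (fun a => by rw [← neg_sub, mul_neg, hc.ann, neg_zero])
  have h2 := hc.kill g h (c h g) (fun a => by rw [← neg_sub, mul_neg, hc.ann, neg_zero])
  rw [h2, mul_comm, ← h1]

theorem Sep.equivariant (hc : Sep c) (k h g : G) : k • c h g = c (k * h) (k * g) := by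
  have h1 := hc.kill (k * h) (k * g) (k • c h g) (fun a => by
    rw [mul_smul, mul_smul, ← smul_sub, ← smul_mul', hc.ann, smul_zero])
  have h2 := hc.kill h g (k⁻¹ • c (k * h) (k * g)) (fun a => by
    apply MulAction.injective k
    simp only [smul_mul', smul_inv_smul, smul_sub, smul_zero]
    rw [← mul_smul, ← mul_smul]
    exact hc.ann _ _ _)
  have h3 := congrArg (fun x => k • x) h2
  simp only [smul_mul', smul_inv_smul] at h3
  rw [h3, mul_comm, ← h1]

theorem Sep.trans (hc : Sep c) (a b d : G) : c a b * c b d = c a b * c b d * c a d :=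
  hc.kill a d _ fun x => by
    have e1 := hc.ann a b x
    have e2 := hc.ann b d x
    linear_combination c b d * e1 + c a b * e2

theorem Sep.mul_eq (hc : Sep c) (a b d : G) : c a b * c b d = c a b * c a d := by
  have h1 := hc.trans a b d
  have h2 := hc.trans b a d
  rw [hc.symm b a] at h2
  linear_combination h1 - h2

/-- one representative in each class. -/
theorem Sep.exists_rep [Finite G] (hc : Sep c) :
    ∃ d : G → A, ∀ h, ∀ _ : Fintype G, ∑ g, d g * c h g = 1 := by
  classical
  obtain ⟨inst⟩ := nonempty_fintype G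
  letI : LinearOrder G := LinearOrder.lift' (Fintype.equivFin G) (Fintype.equivFin G).injective
  refine ⟨fun g => ∏ k ∈ Finset.univ.filter (· < g), (1 - c k g), fun h i => ?_⟩
  obtain rfl : i = inst := Subsingleton.elim _ _
  have key := Finset.prod_one_sub_ordered Finset.univ (fun g => c h g)
  rw [Finset.prod_eq_zero (Finset.mem_univ h) (by simp [hc.self]), eq_comm, sub_eq_zero] at key
  refine Eq.trans ?_ key.symm
  refine Finset.sum_congr rfl fun g _ => ?_
  show (∏ k ∈ Finset.univ.filter (· < g), (1 - c k g)) * c h g = _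
  rw [mul_comm]
  induction (Finset.univ.filter (· < g)) using Finset.induction with
  | empty => rfl
  | insert k s hks ih =>
    rw [Finset.prod_insert hks, Finset.prod_insert hks]
    have h1 : c h g * c k g = c h g * c h k := by
      have := hc.mul_eq h g k
      rwa [hc.symm g k] at this
    have hi := hc.idem h g
    linear_combination (1 - c h k) * ih - (∏ j ∈ s, (1 - c j g)) * h1

end Sep

section Invariant

variable {G B A : Type u} [Group G] [CommRing B] [CommRing A] [Algebra B A] [MulSemiringAction G A]
  [SMulCommClass G B A]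

/-- `a ⊗ b ↦ a * g b`. -/
noncomputable def ev (g : G) : A ⊗[B] A →ₐ[B] A :=
  Algebra.TensorProduct.lift (AlgHom.id B A) (MulSemiringAction.toAlgHom B A g) fun _ _ => mul_comm _ _

@[simp] theorem ev_tmul (g : G) (a b : A) : ev (B := B) g (a ⊗ₜ b) = a * g • b := by
  simp only [ev, Algebra.TensorProduct.lift_tmul]
  rfl

variable {c : G → G → A}

theorem ev_congr (hc : Sep c) (g : G) (t : A ⊗[B] A) : c 1 g * ev g t = c 1 g * ev (1 : G) t := by
  induction t using TensorProduct.induction_on with
  | zero => simp
  | tmul a b =>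
    have := hc.ann 1 g b
    simp only [ev_tmul]
    linear_combination a * this
  | add x y hx hy => simp [mul_add, hx, hy]

theorem exists_elem [Finite G] (hc : Sep c) : ∃ E : A ⊗[B] A, ∀ g : G, ev g E = c 1 g := by
  classical
  cases nonempty_fintype G
  have hI : ∀ h : G, ∀ x ∈ Ideal.span (Set.range fun a : A => h • a - (1 : G) • a),
      ∃ F : A ⊗[B] A, ev (1 : G) F = 0 ∧ ev h F = x := fun h x hx => by
    induction hx using Submodule.span_induction with
    | mem x hx =>
      obtain ⟨a, rfl⟩ := hx
      exact ⟨(1 : A) ⊗ₜ a - a ⊗ₜ 1, by simp, by simp⟩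
    | zero => exact ⟨0, by simp, by simp⟩
    | add x y _ _ hx hy =>
      obtain ⟨F, hF, hF'⟩ := hx
      obtain ⟨F', hF₂, hF₂'⟩ := hy
      exact ⟨F + F', by simp [hF, hF₂], by simp [hF', hF₂']⟩
    | smul r x _ hx =>
      obtain ⟨F, hF, hF'⟩ := hx
      exact ⟨(r ⊗ₜ 1) * F, by simp [hF], by simp [hF']⟩
  choose F hF1 hF2 using fun h => hI h _ (hc.span 1 h)
  refine ⟨∏ h : G, (1 - F h), fun g => ?_⟩
  have h1 : ev (1 : G) (∏ h : G, (1 - F h)) = (1 : A) := by
    rw [map_prod]
    exact Finset.prod_eq_one fun h _ => by simp [hF1]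
  have h2 : (1 - c 1 g) * ev g (∏ h : G, (1 - F h)) = 0 := by
    rw [map_prod, ← Finset.mul_prod_erase _ _ (Finset.mem_univ g), map_sub, map_one, hF2]
    have := hc.idem 1 g
    linear_combination -(∏ x ∈ Finset.univ.erase g, ev g (1 - F x)) * this
  have h3 := ev_congr hc g (∏ h : G, (1 - F h))
  rw [h1] at h3
  linear_combination h2 + h3

variable [Algebra.IsInvariant B A G]

theorem exists_trace [Finite G] [FaithfulSMul B A] (hc : Sep c) :
    ∃ (d : G → A) (T : A →ₗ[B] B), (∀ h, ∀ _ : Fintype G, ∑ g, d g * c h g = 1) ∧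
      ∀ z, ∀ _ : Fintype G, algebraMap B A (T z) = ∑ g, d g * g • z := by
  classical
  cases nonempty_fintype G
  obtain ⟨d, hd⟩ := hc.exists_rep
  have hd' := fun h => hd h inferInstance
  have hinv : ∀ (k : G) (z : A), k • (∑ g, d g * g • z) = ∑ g, d g * g • z := fun k z => by
    let d' : G → A := fun g => k • d (k⁻¹ * g)
    have e1 : k • (∑ g, d g * g • z) = ∑ g, d' g * g • z := by
      rw [Finset.smul_sum]
      refine Fintype.sum_equiv (Equiv.mulLeft k) _ _ fun g => ?_
      simp [d', smul_mul', mul_smul]
    have e2 : ∀ h, ∑ g, d' g * c h g = 1 := fun h => by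
      have := congrArg (fun x => k • x) (hd' (k⁻¹ * h))
      simp only [Finset.smul_sum, smul_mul', hc.equivariant, mul_inv_cancel_left, smul_one] at this
      refine Eq.trans ?_ this
      exact (Fintype.sum_equiv (Equiv.mulLeft k) _ _ fun g => by simp [d']).symm
    rw [e1]
    calc ∑ g, d' g * g • z = ∑ g, ∑ h, d' g * d h * c g h * h • z := by
          refine Finset.sum_congr rfl fun g _ => ?_
          calc d' g * g • z = d' g * g • z * (∑ h, d h * c g h) := by rw [hd' g, mul_one]
            _ = _ := by
              rw [Finset.mul_sum]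
              refine Finset.sum_congr rfl fun h _ => ?_
              have := hc.ann g h z
              linear_combination -(d' g * d h) * this
      _ = ∑ h, ∑ g, d' g * d h * c g h * h • z := Finset.sum_comm
      _ = ∑ h, d h * h • z := by
          refine Finset.sum_congr rfl fun h _ => ?_
          calc ∑ g, d' g * d h * c g h * h • z = (∑ g, d' g * c h g) * (d h * h • z) := by
                rw [Finset.sum_mul]
                exact Finset.sum_congr rfl fun g _ => by rw [hc.symm g h]; ring
            _ = _ := by rw [e2, one_mul]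
  choose T hT using fun z => Algebra.IsInvariant.isInvariant (A := B) (∑ g, d g * g • z) (fun k => hinv k z)
  have hinj := FaithfulSMul.algebraMap_injective B A
  refine ⟨d, { toFun := T, map_add' := fun x y => hinj ?_, map_smul' := fun r x => hinj ?_ }, hd, fun z i => ?_⟩
  · simp [hT, smul_add, mul_add, Finset.sum_add_distrib]
  · simp [hT, Algebra.smul_def, smul_mul', Finset.mul_sum, mul_left_comm]
  · convert hT z
    rfl

/-- jointly injective. -/
theorem eq_zero_of_ev [Finite G] [FaithfulSMul B A] (hc : Sep c) (t : A ⊗[B] A) (ht : ∀ g : G, ev g t = 0) : t = 0 := by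
  classical
  cases nonempty_fintype G
  obtain ⟨E, hE⟩ := exists_elem (B := B) hc
  obtain ⟨d, T, hd, hT⟩ := exists_trace (B := B) hc
  obtain ⟨s, hs⟩ := TensorProduct.exists_finset E
  obtain ⟨r, hr⟩ := TensorProduct.exists_finset t
  have key : ∀ b : A, b = ∑ i ∈ s, T (i.2 * b) • i.1 := fun b => by
    simp only [Algebra.smul_def, hT _ inferInstance, smul_mul', Finset.sum_mul]
    rw [Finset.sum_comm]
    have hE' : ∀ g, ∑ i ∈ s, i.1 * g • i.2 = c 1 g := fun g => by
      rw [← hE g, hs, map_sum]; simp
    calc b = ∑ g, d g * c 1 g * b := by rw [← Finset.sum_mul, hd 1 inferInstance, one_mul]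
      _ = ∑ g, d g * c 1 g * g • b := Finset.sum_congr rfl fun g _ => by
          have := hc.ann 1 g b
          rw [one_smul] at this
          linear_combination -(d g) * this
      _ = _ := Finset.sum_congr rfl fun g _ => by
          rw [← hE' g, Finset.mul_sum, Finset.sum_mul]
          exact Finset.sum_congr rfl fun i _ => by ring
  calc t = ∑ k ∈ r, k.1 ⊗ₜ[B] k.2 := hr
    _ = ∑ k ∈ r, ∑ i ∈ s, (T (i.2 * k.2) • k.1) ⊗ₜ[B] i.1 := Finset.sum_congr rfl fun k _ => by
        conv_lhs => rw [key k.2, tmul_sum]
        exact Finset.sum_congr rfl fun i _ => by rw [tmul_smul, smul_tmul']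
    _ = ∑ i ∈ s, (∑ k ∈ r, T (i.2 * k.2) • k.1) ⊗ₜ[B] i.1 := by
        rw [Finset.sum_comm]; exact Finset.sum_congr rfl fun i _ => (sum_tmul _ _ _).symm
    _ = 0 := Finset.sum_eq_zero fun i _ => by
        have : ∑ k ∈ r, T (i.2 * k.2) • k.1 = ∑ g, d g * g • i.2 * ev g t := by
          simp only [Algebra.smul_def, hT _ inferInstance, hr, map_sum, ev_tmul, Finset.mul_sum, Finset.sum_mul, smul_mul']
          rw [Finset.sum_comm]
          exact Finset.sum_congr rfl fun g _ => Finset.sum_congr rfl fun k _ => by ring
        rw [this]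
        simp [ht]

theorem finite_projective [Finite G] [FaithfulSMul B A] (hc : Sep c) : Module.Finite B A ∧ Module.Projective B A := by
  classical
  cases nonempty_fintype G
  obtain ⟨E, hE⟩ := exists_elem (B := B) hc
  obtain ⟨d, T, hd, hT⟩ := exists_trace (B := B) hc
  obtain ⟨s, hs⟩ := TensorProduct.exists_finset E
  let i₁ : A →ₗ[B] (↥s → B) := LinearMap.pi fun i => T ∘ₗ LinearMap.mulLeft B i.1.2
  let p₁ : (↥s → B) →ₗ[B] A := ∑ i : ↥s, (LinearMap.proj i).smulRight i.1.1
  have hE' : ∀ g, ∑ i ∈ s, i.1 * g • i.2 = c 1 g := fun g => by rw [← hE g, hs, map_sum]; simp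
  have h1 : p₁ ∘ₗ i₁ = LinearMap.id := LinearMap.ext fun b => by
    simp only [p₁, i₁, LinearMap.comp_apply, LinearMap.sum_apply, LinearMap.smulRight_apply, LinearMap.proj_apply,
      LinearMap.pi_apply, LinearMap.id_apply, LinearMap.mulLeft_apply, Algebra.smul_def, hT _ inferInstance]
    rw [Finset.sum_coe_sort s fun i => (∑ g, d g * g • (i.2 * b)) * i.1]
    simp only [Finset.sum_mul]
    rw [Finset.sum_comm]
    calc _ = ∑ g, d g * c 1 g * g • b := Finset.sum_congr rfl fun g _ => by
            rw [← hE' g, Finset.mul_sum, Finset.sum_mul]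
            exact Finset.sum_congr rfl fun i _ => by rw [smul_mul']; ring
      _ = ∑ g, d g * c 1 g * b := Finset.sum_congr rfl fun g _ => by
            have := hc.ann 1 g b
            rw [one_smul] at this
            linear_combination (d g) * this
      _ = b := by rw [← Finset.sum_mul, hd 1 inferInstance, one_mul]
  haveI : Module.Projective B A := Module.Projective.of_split i₁ p₁ h1
  exact ⟨Module.Finite.of_surjective p₁ fun a => ⟨i₁ a, LinearMap.congr_fun h1 a⟩, inferInstance⟩

theorem formallyUnramified [Finite G] [FaithfulSMul B A] (hc : Sep c) : Algebra.FormallyUnramified B A := by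
  classical
  cases nonempty_fintype G
  obtain ⟨E, hE⟩ := exists_elem (B := B) hc
  refine ⟨?_⟩
  apply (Ideal.cotangent_subsingleton_iff _).2
  refine le_antisymm Ideal.mul_le_right fun t ht => ?_
  have hev : ∀ t, Algebra.TensorProduct.lmul' B (S := A) t = ev (1 : G) t := fun t => by
    induction t using TensorProduct.induction_on <;> simp_all
  have ht0 : ev (1 : G) t = 0 := (hev t).symm.trans ht
  have htE : t * E = 0 := eq_zero_of_ev (G := G) hc _ fun g => by
    rw [map_mul, hE, mul_comm, ev_congr hc g t, ht0, mul_zero]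
  have hmem : (1 - E) ∈ KaehlerDifferential.ideal B A := by
    show Algebra.TensorProduct.lmul' B (1 - E) = 0
    rw [map_sub, map_one, hev, hE, hc.self, sub_self]
  have : t = t * (1 - E) := by rw [mul_sub, htE, sub_zero, mul_one]
  rw [this]
  exact Ideal.mul_mem_mul ht hmem

theorem etale [Finite G] [FaithfulSMul B A] (hc : Sep c) : Algebra.Etale B A := by
  obtain ⟨h1, h2⟩ := finite_projective (B := B) hc
  haveI := formallyUnramified (B := B) hc
  haveI : Module.FinitePresentation B A := Module.finitePresentation_of_projective B A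
  haveI : Algebra.FinitePresentation B A := Algebra.FinitePresentation.of_finitePresentation B A
  exact Algebra.Etale.of_formallyUnramified_of_flat

/-- free actions: `A ⊗_B A ≅ ∏_G A`. -/
theorem bijective_of_free [Finite G] [FaithfulSMul B A] [DecidableEq G]
    (hfree : ∀ g : G, g ≠ 1 → Ideal.span (Set.range fun a : A => g • a - a) = ⊤) :
    Function.Bijective fun (t : A ⊗[B] A) (g : G) => ev g t := by
  have hc : Sep (fun h g : G => if h = g then (1 : A) else 0) := by
    refine ⟨fun h g => by split <;> simp, fun h g a => by split <;> simp_all, fun h g => ?_⟩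
    split
    · simp
    · rename_i hne
      rw [sub_zero]
      have htop := hfree (g * h⁻¹) (fun e => hne (mul_inv_eq_one.1 e).symm)
      have hle : Ideal.span (Set.range fun a : A => (g * h⁻¹) • a - a) ≤ Ideal.span (Set.range fun a : A => g • a - h • a) :=
        Ideal.span_le.2 (by rintro _ ⟨a, rfl⟩; exact Ideal.subset_span ⟨h⁻¹ • a, by simp [mul_smul]⟩)
      exact hle (htop ▸ Submodule.mem_top)
  cases nonempty_fintype G
  refine ⟨fun s t e => sub_eq_zero.1 (eq_zero_of_ev hc _ fun g => by rw [map_sub, sub_eq_zero]; exact congrFun e g), fun f => ?_⟩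
  obtain ⟨E, hE⟩ := exists_elem (B := B) hc
  let σ : G → (A ⊗[B] A →ₐ[B] A ⊗[B] A) := fun k =>
    Algebra.TensorProduct.map (AlgHom.id B A) (MulSemiringAction.toAlgHom B A k⁻¹)
  refine ⟨∑ k, (f k ⊗ₜ 1) * σ k E, funext fun g => ?_⟩
  have hσ : ∀ k t, ev g (σ k t) = ev (g * k⁻¹) t := fun k t => by
    induction t using TensorProduct.induction_on with
    | zero => simp
    | tmul a b => simp [σ, mul_smul]
    | add x y hx hy => simp [hx, hy]
  simp only [map_sum, map_mul, hσ, hE, ev_tmul, smul_one, mul_one, mul_ite, mul_zero]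
  rw [Finset.sum_eq_single g]
  · simp
  · intro k _ hk
    rw [if_neg]
    intro e
    exact hk (mul_inv_eq_one.1 e.symm).symm
  · simp

end Invariant

/-- over an unramified base, the loci where two group elements agree are clopen. -/
theorem exists_sep (G R A : Type u) [Group G] [CommRing R] [CommRing A] [Algebra R A] [MulSemiringAction G A]
    [SMulCommClass G R A] [Algebra.FormallyUnramified R A] [Algebra.EssFiniteType R A] : ∃ c : G → G → A, Sep c := by
  let ev2 : G → G → (A ⊗[R] A →ₐ[R] A) := fun h g =>
    Algebra.TensorProduct.lift (MulSemiringAction.toAlgHom R A h) (MulSemiringAction.toAlgHom R A g) fun _ _ => mul_comm _ _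
  let E := Algebra.FormallyUnramified.elem R A
  have hev : ∀ (h g : G) (a b : A), ev2 h g (a ⊗ₜ b) = h • a * g • b := fun h g a b => by
    simp only [ev2, Algebra.TensorProduct.lift_tmul]; rfl
  refine ⟨fun h g => ev2 h g E, fun h g => ?_, fun h g a => ?_, fun h g => ?_⟩
  · rw [← map_mul]
    congr 1
    have hker : ∀ t ∈ KaehlerDifferential.ideal R A, t * E = 0 := fun t ht => by
      rw [← KaehlerDifferential.span_range_eq_ideal] at ht
      induction ht using Submodule.span_induction with
      | mem x hx => obtain ⟨s, rfl⟩ := hx; exact Algebra.FormallyUnramified.one_tmul_sub_tmul_one_mul_elem s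
      | zero => exact zero_mul _
      | add x y _ _ hx hy => rw [add_mul, hx, hy, add_zero]
      | smul r x _ hx => rw [smul_eq_mul, mul_assoc, hx, mul_zero]
    have h1 := hker (E - 1) (by show Algebra.TensorProduct.lmul' R (E - 1) = 0; rw [map_sub, map_one, Algebra.FormallyUnramified.lmul_elem, sub_self])
    rwa [sub_mul, one_mul, sub_eq_zero] at h1
  · have := congrArg (ev2 h g) (Algebra.FormallyUnramified.one_tmul_sub_tmul_one_mul_elem (R := R) a)
    simp only [map_mul, map_sub, map_zero] at this
    rw [mul_comm]
    simpa [hev, smul_one] using this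
  · have hm : (1 - E) ∈ KaehlerDifferential.ideal R A := by
      show Algebra.TensorProduct.lmul' R (1 - E) = 0
      rw [map_sub, map_one, Algebra.FormallyUnramified.lmul_elem, sub_self]
    rw [← KaehlerDifferential.span_range_eq_ideal] at hm
    have := Ideal.mem_map_of_mem (ev2 h g).toRingHom hm
    rw [Ideal.map_span, ← Set.range_comp] at this
    have he : (ev2 h g).toRingHom ∘ (fun s : A => (1 : A) ⊗ₜ[R] s - s ⊗ₜ[R] (1 : A)) = fun a : A => g • a - h • a := by
      funext a; simp [hev, smul_one]
    rw [he] at this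
    simpa using this

end Groth.Agent.H6.Galois
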