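import Mathlib.CategoryTheory.Galois.Equivalence
import Mathlib.CategoryTheory.Galois.IsFundamentalgroup
import Mathlib.Topology.Algebra.Group.ClosedSubgroup
import Mathlib.CategoryTheory.Action.Concrete
import Groth.Prelude.Def_Pi1X

set_option linter.all false
set_option autoImplicit false
set_option backward.isDefEq.respectTransparency.types false

/-! Exact functors between Galois categories and the induced map on fundamental groups. -/

namespace Groth.Agent.H6.GaloisX

universe u v w u' v'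

open CategoryTheory CategoryTheory.Limits PreGaloisCategory

theorem map_map {C : Type*} [Category C] (F : C ⥤ FintypeCat.{w}) {X Y Z : C} (f : X ⟶ Y) (g : Y ⟶ Z) (x : F.obj X) :
    F.map g (F.map f x) = F.map (f ≫ g) x := by rw [F.map_comp, FintypeCat.comp_apply]

section Uniqueness

variable {C : Type u} [Category.{v} C] [GaloisCategory C]

theorem isEmpty_of_isInitial (F' : C ⥤ FintypeCat.{w}) [PreservesColimitsOfShape (Discrete WalkingPair) F']
    {X : C} (hX : IsInitial X) : IsEmpty (F'.obj X) := by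
  let c : BinaryCofan X X := BinaryCofan.mk (𝟙 X) (𝟙 X)
  have hc : IsColimit c := BinaryCofan.IsColimit.mk c (fun f _ => f)
    (fun f g => Category.id_comp f) (fun f g => (Category.id_comp f).trans (hX.hom_ext _ _))
    (fun f g m h1 _ => (Category.id_comp m).symm.trans h1)
  let G := F' ⋙ FintypeCat.incl
  have hG := mapIsColimitOfPreservesOfIsColimit G (𝟙 X) (𝟙 X) hc
  have e := (Types.binaryCofan_isColimit_iff _).1 ⟨hG⟩
  refine ⟨fun x => ?_⟩
  have h1 : x ∈ Set.range (G.map (𝟙 X)) := ⟨x, by simp⟩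
  exact Set.disjoint_left.1 e.2.2.disjoint h1 h1

theorem exists_compl (F' : C ⥤ FintypeCat.{w}) [PreservesColimitsOfShape (Discrete WalkingPair) F']
    {Y X : C} (i : Y ⟶ X) [Mono i] :
    ∃ (Z : C) (u : Z ⟶ X), Mono u ∧ IsCompl (Set.range (F'.map i)) (Set.range (F'.map u)) := by
  obtain ⟨Z, u, ⟨hc⟩⟩ := monoInducesIsoOnDirectSummand i
  have hG := mapIsColimitOfPreservesOfIsColimit (F' ⋙ FintypeCat.incl) i u hc
  haveI : Mono u := MonoCoprod.binaryCofan_inr _ hc
  exact ⟨Z, u, inferInstance, ((Types.binaryCofan_isColimit_iff _).1 ⟨hG⟩).2.2⟩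

theorem exists_component (F' : C ⥤ FintypeCat.{w}) [PreservesColimitsOfShape (Discrete WalkingPair) F']
    {X : C} (y : F'.obj X) :
    ∃ (Y : C) (i : Y ⟶ X) (z : F'.obj Y), IsConnected Y ∧ Mono i ∧ F'.map i z = y := by
  let F₀ := GaloisCategory.getFiberFunctor C
  suffices ∀ (n : ℕ) (X : C), Nat.card (F₀.obj X) ≤ n → ∀ y : F'.obj X,
      ∃ (Y : C) (i : Y ⟶ X) (z : F'.obj Y), IsConnected Y ∧ Mono i ∧ F'.map i z = y from this _ X le_rfl y
  intro n
  induction n with
  | zero =>
    intro X hn y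
    have : IsEmpty (F₀.obj X) := Finite.card_eq_zero_iff.1 (Nat.le_zero.1 hn)
    obtain ⟨h⟩ := (initial_iff_fiber_empty F₀ X).2 this
    exact ((isEmpty_of_isInitial F' h).false y).elim
  | succ n ih =>
    intro X hn y
    by_cases hc : IsConnected X
    · exact ⟨X, 𝟙 X, y, hc, inferInstance, by simp⟩
    have hi : IsInitial X → False := fun h => (isEmpty_of_isInitial F' h).false y
    obtain ⟨Y, i, hY, hm, hiso⟩ := has_non_trivial_subobject_of_not_isConnected_of_not_initial X hc hi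
    obtain ⟨Z, u, ⟨hcol⟩⟩ := monoInducesIsoOnDirectSummand i
    haveI : Mono u := MonoCoprod.binaryCofan_inr _ hcol
    have h0 := (Types.binaryCofan_isColimit_iff _).1 ⟨mapIsColimitOfPreservesOfIsColimit (F₀ ⋙ FintypeCat.incl) i u hcol⟩
    have hG := (Types.binaryCofan_isColimit_iff _).1 ⟨mapIsColimitOfPreservesOfIsColimit (F' ⋙ FintypeCat.incl) i u hcol⟩
    have hlt : Nat.card (F₀.obj Y) < Nat.card (F₀.obj X) := lt_card_fiber_of_mono_of_notIso F₀ i hiso
    have hlt' : Nat.card (F₀.obj Z) < Nat.card (F₀.obj X) := lt_card_fiber_of_mono_of_notIso F₀ u fun hu => by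
      obtain ⟨a⟩ := (not_initial_iff_fiber_nonempty F₀ Y).1 hY
      have hs : Function.Surjective (F₀.map u) := ((ConcreteCategory.isIso_iff_bijective _).1 inferInstance).2
      exact Set.disjoint_left.1 h0.2.2.disjoint ⟨a, rfl⟩ (hs (F₀.map i a))
    have hmem : y ∈ Set.range (F'.map i) ⊔ Set.range (F'.map u) :=
      (codisjoint_iff.1 hG.2.2.codisjoint).ge trivial
    rcases hmem with ⟨z, rfl⟩ | ⟨z, rfl⟩
    · obtain ⟨W, j, q, h1, h2, rfl⟩ := ih Y (by omega) z
      exact ⟨W, j ≫ i, q, h1, mono_comp _ _, by rw [F'.map_comp]; rfl⟩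
    · obtain ⟨W, j, q, h1, h2, rfl⟩ := ih Z (by omega) z
      exact ⟨W, j ≫ u, q, h1, mono_comp _ _, by rw [F'.map_comp]; rfl⟩

instance cofiltered (F : C ⥤ FintypeCat.{w}) [FiberFunctor F] : IsCofilteredOrEmpty (PointedGaloisObject F) where
  cone_objs := fun ⟨A, a, _⟩ ⟨B, b, _⟩ => by
    obtain ⟨Z, f, z, hgal, hfz⟩ := exists_hom_from_galois_of_fiber F (A ⨯ B)
      ((fiberBinaryProductEquiv F A B).symm (a, b))
    refine ⟨⟨Z, z, hgal⟩, ⟨f ≫ prod.fst, ?_⟩, ⟨f ≫ prod.snd, ?_⟩, trivial⟩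
    · simp only [F.map_comp, hfz, FintypeCat.comp_apply, fiberBinaryProductEquiv_symm_fst_apply]
    · simp only [F.map_comp, hfz, FintypeCat.comp_apply, fiberBinaryProductEquiv_symm_snd_apply]
  cone_maps := fun ⟨A, a, _⟩ ⟨B, b, _⟩ ⟨f, hf⟩ ⟨g, hg⟩ => by
    obtain ⟨Z, h, z, hgal, hhz⟩ := exists_hom_from_galois_of_fiber F A a
    refine ⟨⟨Z, z, hgal⟩, ⟨h, hhz⟩, PointedGaloisObject.hom_ext ?_⟩
    apply evaluation_injective_of_isConnected F Z B z
    simp [hhz, hf, hg]

variable (F : C ⥤ FintypeCat.{w}) [FiberFunctor F] (F' : C ⥤ FintypeCat.{w}) [PreservesFiniteLimits F']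
  [PreservesColimitsOfShape (Discrete WalkingPair) F']

theorem eval_inj (A X : C) [IsConnected A] (p : F'.obj A) {f g : A ⟶ X} (h : F'.map f p = F'.map g p) : f = g := by
  haveI : IsIso (equalizer.ι f g) := by
    refine IsConnected.noTrivialComponent _ (equalizer.ι f g) fun hi => ?_
    let e : F'.obj (equalizer f g) ≃ { x : F'.obj A // F'.map f x = F'.map g x } :=
      (PreservesEqualizer.iso (F' ⋙ FintypeCat.incl) f g ≪≫
        Types.equalizerIso (F'.map f).hom (F'.map g).hom).toEquiv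
    exact (isEmpty_of_isInitial F' hi).false (e.symm ⟨p, h⟩)
  exact eq_of_epi_equalizer

/-- uniqueness of fibre functors -/
theorem nonempty_iso (h : ∀ X : C, IsEmpty (F'.obj X) → Nonempty (IsInitial X)) : Nonempty (F' ≅ F) := by
  let G : PointedGaloisObject F ⥤ Type w := PointedGaloisObject.incl F ⋙ F' ⋙ FintypeCat.incl
  haveI : ∀ j, Finite (G.obj j) := fun j => inferInstanceAs (Finite (F'.obj j.obj))
  haveI : ∀ j, Nonempty (G.obj j) := fun j => by
    change Nonempty (F'.obj j.obj)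
    by_contra hne
    exact IsConnected.notInitial (h j.obj (not_nonempty_iff.1 hne)).some
  obtain ⟨p, hp⟩ := nonempty_sections_of_finite_cofiltered_system G
  have hsec : ∀ {A B : PointedGaloisObject F} (f : A ⟶ B), F'.map f.val (p A) = p B := fun f => hp f
  have hrep : ∀ (X : C) (x : F.obj X), ∃ (A : PointedGaloisObject F) (f : A.obj ⟶ X), F.map f A.pt = x := fun X x => by
    obtain ⟨A, f, a, hA, hfa⟩ := exists_hom_from_galois_of_fiber F X x
    exact ⟨⟨A, a, hA⟩, f, hfa⟩
  choose A f hf using hrep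
  have hwd : ∀ (X : C) (x : F.obj X) (B : PointedGaloisObject F) (g : B.obj ⟶ X), F.map g B.pt = x →
      F'.map g (p B) = F'.map (f X x) (p (A X x)) := fun X x B g hg => by
    obtain ⟨D, a, b, -⟩ := IsCofilteredOrEmpty.cone_objs (A X x) B
    have he : a.val ≫ f X x = b.val ≫ g := evaluation_injective_of_isConnected F D.obj X D.pt (by
      change F.map (a.val ≫ f X x) D.pt = F.map (b.val ≫ g) D.pt
      rw [F.map_comp, F.map_comp, FintypeCat.comp_apply, FintypeCat.comp_apply, a.comp, b.comp, hf, hg])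
    rw [← hsec a, ← hsec b, ← FintypeCat.comp_apply, ← F'.map_comp, ← he, F'.map_comp, FintypeCat.comp_apply]
  let t : ∀ X, F.obj X → F'.obj X := fun X x => F'.map (f X x) (p (A X x))
  have htA : ∀ (B : PointedGaloisObject F) {X : C} (g : B.obj ⟶ X), t X (F.map g B.pt) = F'.map g (p B) :=
    fun B X g => (hwd X _ B g rfl).symm
  have hnat : ∀ {X Y : C} (g : X ⟶ Y) (x : F.obj X), t Y (F.map g x) = F'.map g (t X x) := fun {X Y} g x => by
    show t Y (F.map g x) = F'.map g (F'.map (f X x) (p (A X x)))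
    rw [← FintypeCat.comp_apply, ← F'.map_comp, ← htA, F.map_comp, FintypeCat.comp_apply, hf]
  have hinj : ∀ X, Function.Injective (t X) := fun X x y hxy => by
    obtain ⟨D, a, b, -⟩ := IsCofilteredOrEmpty.cone_objs (A X x) (A X y)
    have hx : F.map (a.val ≫ f X x) D.pt = x := by rw [F.map_comp, FintypeCat.comp_apply, a.comp, hf]
    have hy : F.map (b.val ≫ f X y) D.pt = y := by rw [F.map_comp, FintypeCat.comp_apply, b.comp, hf]
    have : a.val ≫ f X x = b.val ≫ f X y := eval_inj F' D.obj X (p D) (by rw [← htA, ← htA, hx, hy, hxy])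
    rw [← hx, this, hy]
  have hsurj : ∀ X, Function.Surjective (t X) := fun X y => by
    obtain ⟨Y, i, z, hY, hm, rfl⟩ := exists_component F' y
    obtain ⟨Bo, a, hgal, hbij⟩ := exists_galois_representative F Y
    let B : PointedGaloisObject F := ⟨Bo, a, hgal⟩
    let e : F'.obj (Y ⨯ Bo) ≃ F'.obj Y × F'.obj Bo :=
      (PreservesLimitPair.iso (F' ⋙ FintypeCat.incl) Y Bo ≪≫ Types.binaryProductIso (F'.obj Y) (F'.obj Bo)).toEquiv
    let c := e.symm (z, p B)
    have hc1 : F'.map prod.fst c = z := by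
      change ((Types.binaryProductIso _ _).inv ≫ _ ≫ (F' ⋙ FintypeCat.incl).map prod.fst) _ = _
      erw [PreservesLimitPair.iso_inv_fst, Types.binaryProductIso_inv_comp_fst]
      rfl
    have hc2 : F'.map prod.snd c = p B := by
      change ((Types.binaryProductIso _ _).inv ≫ _ ≫ (F' ⋙ FintypeCat.incl).map prod.snd) _ = _
      erw [PreservesLimitPair.iso_inv_snd, Types.binaryProductIso_inv_comp_snd]
      rfl
    obtain ⟨W, j, d, hW, hmj, hjd⟩ := exists_component F' c
    obtain ⟨w₀⟩ := nonempty_fiber_of_isConnected F W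
    obtain ⟨b, hb0⟩ : ∃ b, b = F.map (j ≫ prod.snd) w₀ := ⟨_, rfl⟩
    let φ := (evaluationEquivOfIsGalois F Bo a).symm b
    have hφ : F.map φ.hom a = b := evaluationEquivOfIsGalois_symm_fiber F Bo a b
    obtain ⟨g₀, hg₀⟩ := hbij.surjective (F.map (j ≫ prod.fst) w₀)
    let g : Bo ⟶ Y := φ.inv ≫ g₀
    have hb : F.map φ.inv b = a := by
      rw [← hφ, ← FintypeCat.comp_apply, ← F.map_comp, Iso.hom_inv_id, F.map_id, FintypeCat.id_apply]
    have hgb : F.map g b = F.map (j ≫ prod.fst) w₀ := by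
      rw [F.map_comp, FintypeCat.comp_apply, hb]
      exact hg₀
    let Γ : Bo ⟶ Y ⨯ Bo := prod.lift g (𝟙 Bo)
    haveI : Mono Γ := mono_of_mono_fac (prod.lift_snd g (𝟙 Bo))
    have hΓ : F.map Γ b = F.map j w₀ := by
      apply (fiberBinaryProductEquiv F Y Bo).injective
      have key : ∀ u : F.obj (Y ⨯ Bo), fiberBinaryProductEquiv F Y Bo u = (F.map prod.fst u, F.map prod.snd u) := fun u => by
        obtain ⟨⟨x, y⟩, rfl⟩ := (fiberBinaryProductEquiv F Y Bo).symm.surjective u
        simp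
      rw [key, key]
      refine Prod.ext ?_ ?_
      · show F.map prod.fst (F.map Γ b) = F.map prod.fst (F.map j w₀)
        rw [map_map, map_map, prod.lift_fst]; exact hgb
      · show F.map prod.snd (F.map Γ b) = F.map prod.snd (F.map j w₀)
        rw [map_map, map_map, prod.lift_snd, F.map_id, FintypeCat.id_apply]; exact hb0
    obtain ⟨iso, hiso⟩ := connected_component_unique F b w₀ Γ j hΓ
    have hfac : iso.hom ≫ j = Γ := evaluation_injective_of_isConnected F Bo (Y ⨯ Bo) b (by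
      change F.map (iso.hom ≫ j) b = F.map Γ b
      rw [F.map_comp, FintypeCat.comp_apply, hiso, hΓ])
    have hcΓ : c = F'.map Γ (F'.map iso.inv d) := by
      rw [← FintypeCat.comp_apply, ← F'.map_comp, ← hfac, Iso.inv_hom_id_assoc, hjd]
    have hinvd : F'.map iso.inv d = p B := by
      rw [← hc2, hcΓ, ← FintypeCat.comp_apply (F'.map Γ), ← F'.map_comp, prod.lift_snd, F'.map_id, FintypeCat.id_apply]
    have hz : F'.map g (p B) = z := by
      rw [← hc1, hcΓ, hinvd, ← FintypeCat.comp_apply, ← F'.map_comp, prod.lift_fst]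
    exact ⟨F.map i (F.map g a), by rw [hnat, htA B g, hz]⟩
  exact ⟨(NatIso.ofComponents (fun X => FintypeCat.equivEquivIso (Equiv.ofBijective (t X) ⟨hinj X, hsurj X⟩))
    (fun g => FintypeCat.hom_ext _ _ fun x => hnat g x)).symm⟩

omit F in
theorem nonempty_of_exact (F : C ⥤ FintypeCat.{w}) [FiberFunctor F] (F' : C ⥤ FintypeCat.{u'})
    [PreservesFiniteLimits F'] [PreservesFiniteColimits F'] (X : C) (hX : IsEmpty (F'.obj X)) :
    Nonempty (IsInitial X) := by
  rw [initial_iff_fiber_empty F]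
  by_contra hne
  rw [not_isEmpty_iff] at hne
  obtain ⟨x⟩ := hne
  have ht : IsTerminal (FintypeCat.incl.obj (F.obj (⊤_ C))) := (terminalIsTerminal.isTerminalObj (F ⋙ FintypeCat.incl) _)
  have hu : Subsingleton (F.obj (⊤_ C)) := ⟨fun a b => by
    exact congrArg (fun g : PUnit.{w + 1} ⟶ FintypeCat.incl.obj (F.obj (⊤_ C)) => g PUnit.unit)
      (ht.hom_ext (TypeCat.ofHom fun _ => a) (TypeCat.ofHom fun _ => b))⟩
  haveI : Epi (F.map (terminal.from X)) := ConcreteCategory.epi_of_surjective _ fun y => ⟨x, Subsingleton.elim _ _⟩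
  haveI : Epi (terminal.from X) := F.epi_of_epi_map inferInstance
  have ht' : IsTerminal (FintypeCat.incl.obj (F'.obj (⊤_ C))) := (terminalIsTerminal.isTerminalObj (F' ⋙ FintypeCat.incl) _)
  obtain ⟨z⟩ : Nonempty (F'.obj (⊤_ C)) := ⟨(ht'.from PUnit.{u' + 1}) PUnit.unit⟩
  obtain ⟨y, -⟩ := surjective_of_epi (FintypeCat.incl.map (F'.map (terminal.from X))) z
  exact hX.false y

omit F in
theorem fiberFunctor_of_iso {F F' : C ⥤ FintypeCat.{w}} [FiberFunctor F] (e : F' ≅ F) : FiberFunctor F' where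
  preservesTerminalObjects := preservesLimitsOfShape_of_natIso e.symm
  preservesPullbacks := preservesLimitsOfShape_of_natIso e.symm
  preservesFiniteCoproducts := ⟨fun n => preservesColimitsOfShape_of_natIso e.symm⟩
  preservesEpis := Functor.preservesEpimorphisms.of_iso e.symm
  preservesQuotientsByFiniteGroups G := preservesColimitsOfShape_of_natIso e.symm
  reflectsIsos := reflectsIsomorphisms_of_iso e.symm

end Uniqueness

section Action

variable {C : Type u} [Category.{v} C] [GaloisCategory C] (F : C ⥤ FintypeCat.{w}) [FiberFunctor F]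

theorem exists_hom {X Y : C} (φ : F.obj X → F.obj Y) (hφ : ∀ (σ : Aut F) x, φ (σ • x) = σ • φ x) :
    ∃ f : X ⟶ Y, ∀ x, F.map f x = φ x := by
  let m : (functorToAction F).obj X ⟶ (functorToAction F).obj Y :=
    ⟨FintypeCat.homMk φ, fun σ => FintypeCat.hom_ext _ _ fun x => hφ σ x⟩
  obtain ⟨f, hf⟩ := (functorToAction F).map_surjective m
  exact ⟨f, fun x => congrArg (fun k => k.hom x) hf⟩

theorem subsingleton_top : Subsingleton (F.obj (⊤_ C)) := by
  have ht : IsTerminal (FintypeCat.incl.obj (F.obj (⊤_ C))) := (terminalIsTerminal.isTerminalObj (F ⋙ FintypeCat.incl) _)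
  exact ⟨fun a b => congrArg (fun g : PUnit.{w + 1} ⟶ FintypeCat.incl.obj (F.obj (⊤_ C)) => g PUnit.unit)
    (ht.hom_ext (TypeCat.ofHom fun _ => a) (TypeCat.ofHom fun _ => b))⟩

theorem nonempty_top : Nonempty (F.obj (⊤_ C)) := by
  have ht : IsTerminal (FintypeCat.incl.obj (F.obj (⊤_ C))) := (terminalIsTerminal.isTerminalObj (F ⋙ FintypeCat.incl) _)
  exact ⟨(ht.from PUnit.{w + 1}) PUnit.unit⟩

theorem exists_sigma_rep {ι : Type} [Finite ι] (f : ι → C) (x : F.obj (∐ f)) :
    ∃ (i : ι) (y : F.obj (f i)), F.map (Sigma.ι f i) y = x := by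
  haveI := Fintype.ofFinite ι
  obtain ⟨⟨i⟩, y, hy⟩ := Limits.FintypeCat.jointly_surjective (Discrete.functor f ⋙ F) _
    (isColimitOfPreserves F (colimit.isColimit (Discrete.functor f))) x
  exact ⟨i, y, hy⟩

theorem smul_sigma_top {ι : Type} [Finite ι] (σ : Aut F) (x : F.obj (∐ fun _ : ι => ⊤_ C)) : σ • x = x := by
  haveI := subsingleton_top F
  obtain ⟨i, y, rfl⟩ := exists_sigma_rep F (fun _ : ι => ⊤_ C) x
  rw [mulAction_naturality, Subsingleton.elim (σ • y) y]

theorem exists_section {X : C} {a : F.obj X} (ha : ∀ σ : Aut F, σ • a = a) :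
    ∃ s : ⊤_ C ⟶ X, ∀ t, F.map s t = a :=
  exists_hom F (fun _ => a) fun σ _ => (ha σ).symm

theorem smul_of_section {X : C} {a : F.obj X} (s : ⊤_ C ⟶ X) (hs : ∀ t, F.map s t = a) (σ : Aut F) : σ • a = a := by
  haveI := subsingleton_top F
  obtain ⟨t⟩ := nonempty_top F
  rw [← hs t, mulAction_naturality, Subsingleton.elim (σ • t) t]

theorem split_iff (X : C) :
    (∀ (σ : Aut F) (x : F.obj X), σ • x = x) ↔ ∃ n : ℕ, Nonempty (X ≅ ∐ fun _ : Fin n => ⊤_ C) := by
  constructor
  · intro h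
    haveI := subsingleton_top F
    obtain ⟨n, ⟨e⟩⟩ := Finite.exists_equiv_fin (F.obj X)
    choose s hs using fun x : F.obj X => exists_section F (a := x) fun σ => h σ x
    let d : (∐ fun _ : Fin n => ⊤_ C) ⟶ X := Sigma.desc fun k => s (e.symm k)
    obtain ⟨t⟩ := nonempty_top F
    have hd : ∀ k y, F.map d (F.map (Sigma.ι (fun _ : Fin n => ⊤_ C) k) y) = e.symm k := fun k y => by
      rw [map_map, Sigma.ι_desc, hs]
    haveI : IsIso (F.map d) := (ConcreteCategory.isIso_iff_bijective _).2 ⟨fun a b hab => by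
      obtain ⟨i, y, rfl⟩ := exists_sigma_rep F _ a
      obtain ⟨j, z, rfl⟩ := exists_sigma_rep F _ b
      rw [hd, hd] at hab
      obtain rfl := e.symm.injective hab
      rw [Subsingleton.elim y z], fun x => ⟨F.map (Sigma.ι (fun _ : Fin n => ⊤_ C) (e x)) t, by rw [hd, e.symm_apply_apply]⟩⟩
    haveI : IsIso d := isIso_of_reflects_iso d F
    exact ⟨n, ⟨(asIso d).symm⟩⟩
  · rintro ⟨n, ⟨e⟩⟩ σ x
    have hx : F.map e.inv (F.map e.hom x) = x := by rw [map_map, Iso.hom_inv_id, F.map_id, FintypeCat.id_apply]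
    rw [← hx, mulAction_naturality, smul_sigma_top]

theorem isConnected_of_pretransitive (X : C) [Nonempty (F.obj X)] [MulAction.IsPretransitive (Aut F) (F.obj X)] :
    IsConnected X where
  notInitial := (not_initial_iff_fiber_nonempty F X).2 inferInstance
  noTrivialComponent Y i _ hY := by
    obtain ⟨y⟩ := (not_initial_iff_fiber_nonempty F Y).1 hY
    haveI : IsIso (F.map i) := (ConcreteCategory.isIso_iff_bijective _).2
      ⟨ConcreteCategory.injective_of_mono_of_preservesPullback (F.map i), fun x => by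
        obtain ⟨σ, hσ⟩ := MulAction.exists_smul_eq (Aut F) (F.map i y) x
        exact ⟨σ • y, by rw [← hσ, mulAction_naturality]⟩⟩
    exact isIso_of_reflects_iso i F

include F in
theorem nonempty_of_epi (F' : C ⥤ FintypeCat.{u'}) [PreservesLimitsOfShape (Discrete PEmpty.{1}) F']
    [F'.PreservesEpimorphisms] (X : C) (hX : IsEmpty (F'.obj X)) : Nonempty (IsInitial X) := by
  rw [initial_iff_fiber_empty F]
  by_contra hne
  rw [not_isEmpty_iff] at hne
  obtain ⟨x⟩ := hne
  haveI := subsingleton_top F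
  haveI : Epi (F.map (terminal.from X)) := ConcreteCategory.epi_of_surjective _ fun y => ⟨x, Subsingleton.elim _ _⟩
  haveI : Epi (terminal.from X) := F.epi_of_epi_map inferInstance
  have ht' : IsTerminal (FintypeCat.incl.obj (F'.obj (⊤_ C))) := (terminalIsTerminal.isTerminalObj (F' ⋙ FintypeCat.incl) _)
  obtain ⟨z⟩ : Nonempty (F'.obj (⊤_ C)) := ⟨(ht'.from PUnit.{u' + 1}) PUnit.unit⟩
  obtain ⟨y, -⟩ := surjective_of_epi (FintypeCat.incl.map (F'.map (terminal.from X))) z
  exact hX.false y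

theorem exists_obj_of_action (Y : Type w) [Finite Y] [MulAction (Aut F) Y]
    (hst : ∀ y : Y, IsClosed (MulAction.stabilizer (Aut F) y : Set (Aut F))) :
    ∃ (X : C) (e : F.obj X ≃ Y), ∀ (σ : Aut F) (x : F.obj X), e (σ • x) = σ • e x := by
  letI : TopologicalSpace Y := ⊥
  haveI : DiscreteTopology Y := ⟨rfl⟩
  haveI : ContinuousSMul (Aut F) Y := continuousSMul_iff_stabilizer_isOpen.2 fun y => by
    haveI : (MulAction.stabilizer (Aut F) y).FiniteIndex := ⟨by
      rw [MulAction.index_stabilizer]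
      exact (Set.ncard_pos (Set.toFinite _)).2 ⟨y, MulAction.mem_orbit_self y⟩ |>.ne'⟩
    exact Subgroup.isOpen_of_isClosed_of_finiteIndex _ (hst y)
  let YF : FintypeCat.{w} := FintypeCat.of Y
  letI : MulAction (Aut F) YF := inferInstanceAs (MulAction (Aut F) Y)
  open scoped FintypeCatDiscrete in
  let Z : ContAction FintypeCat.{w} (Aut F) := ⟨Action.FintypeCat.ofMulAction (Aut F) YF, by
    change ContinuousSMul (Aut F) YF
    exact continuousSMul_iff_stabilizer_isOpen.2 fun y => (continuousSMul_iff_stabilizer_isOpen (X := Y)).1 inferInstance y⟩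
  obtain ⟨X, ⟨i⟩⟩ := Functor.EssSurj.mem_essImage (F := functorToContAction F) Z
  let e : F.obj X ≅ YF := (Action.forget _ _).mapIso ((ObjectProperty.ι _).mapIso i)
  refine ⟨X, FintypeCat.equivEquivIso.symm e, fun σ x => ?_⟩
  exact congrArg (fun k => k x) (i.hom.hom.comm σ)

open scoped Pointwise in
/-- separating a point from a closed subgroup by a pointed connected object -/
theorem exists_pointed_sep (R : Subgroup (Aut F)) (hR : IsClosed (R : Set (Aut F))) {σ : Aut F} (hσ : σ ∉ R) :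
    ∃ (X : C) (x : F.obj X), IsConnected X ∧ R ≤ MulAction.stabilizer (Aut F) x ∧ σ • x ≠ x := by
  have hU : (fun τ : Aut F => σ * τ) ⁻¹' (R : Set (Aut F))ᶜ ∈ nhds (1 : Aut F) :=
    (hR.isOpen_compl.preimage (continuous_const_mul σ)).mem_nhds (by simpa using hσ)
  obtain ⟨A, -, hA⟩ := (nhds_one_has_basis_stabilizers F).mem_iff.1 hU
  have hst : ∀ S : Set (F.obj A.obj), IsClosed (MulAction.stabilizer (Aut F) S : Set (Aut F)) := fun S => by
    refine Subgroup.isClosed_of_isOpen _ (Subgroup.isOpen_mono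
      (H₁ := ⨅ z : F.obj A.obj, MulAction.stabilizer (Aut F) z) (fun τ hτ => ?_) ?_)
    · rw [Subgroup.mem_iInf] at hτ
      rw [MulAction.mem_stabilizer_iff]
      ext z
      rw [Set.mem_smul_set]
      exact ⟨fun ⟨w, hw, he⟩ => by rw [MulAction.mem_stabilizer_iff.1 (hτ w)] at he; exact he ▸ hw,
        fun hz => ⟨z, hz, MulAction.mem_stabilizer_iff.1 (hτ z)⟩⟩
    · rw [Subgroup.coe_iInf]
      exact isOpen_iInter_of_finite fun z => open scoped FintypeCatDiscrete in stabilizer_isOpen (Aut F) z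
  obtain ⟨X, e, he⟩ := exists_obj_of_action F (Set (F.obj A.obj)) hst
  let S : Set (F.obj A.obj) := (fun r : Aut F => r • A.pt) '' (R : Set (Aut F))
  obtain ⟨Y, i, y, hy, hY, hi⟩ := fiber_in_connected_component F X (e.symm S)
  haveI := hi
  refine ⟨Y, y, hY, fun r hr => ?_, fun hfix => ?_⟩
  · apply ConcreteCategory.injective_of_mono_of_preservesPullback (F.map i)
    rw [← mulAction_naturality, hy, ← e.injective.eq_iff, he, e.apply_symm_apply]
    ext z
    rw [Set.mem_smul_set]
    constructor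
    · rintro ⟨w, ⟨q, hq, rfl⟩, rfl⟩
      exact ⟨r * q, R.mul_mem hr hq, mul_smul _ _ _⟩
    · rintro ⟨q, hq, rfl⟩
      exact ⟨(r⁻¹ * q) • A.pt, ⟨_, R.mul_mem (R.inv_mem hr) hq, rfl⟩, by rw [← mul_smul, mul_inv_cancel_left]⟩
  · have h1 : σ • S = S := by
      have h2 := congrArg (F.map i) hfix
      rw [← mulAction_naturality, hy, ← e.injective.eq_iff, he, e.apply_symm_apply] at h2
      exact h2
    have h3 : σ • A.pt ∈ S := h1 ▸ Set.smul_mem_smul_set (s := S) ⟨1, R.one_mem, one_smul _ _⟩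
    obtain ⟨r, hr, hra⟩ := h3
    have : σ⁻¹ * r ∈ (MulAction.stabilizer (Aut F) A.pt : Set (Aut F)) := by
      rw [SetLike.mem_coe, MulAction.mem_stabilizer_iff, mul_smul, inv_smul_eq_iff]; exact hra
    exact hA this (by simpa using hr)

theorem nonempty_iso_of_equivariant {X Y : C} (e : F.obj X ≃ F.obj Y) (he : ∀ (σ : Aut F) x, e (σ • x) = σ • e x) :
    Nonempty (X ≅ Y) := by
  obtain ⟨f, hf⟩ := exists_hom F e he
  haveI : IsIso (F.map f) := (ConcreteCategory.isIso_iff_bijective _).2 (by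
    rw [show (⇑(ConcreteCategory.hom (F.map f))) = e from funext hf]; exact e.bijective)
  haveI := isIso_of_reflects_iso f F
  exact ⟨asIso f⟩

end Action

section Functor

variable {C C' : Type u} [Category.{v} C] [Category.{v} C'] (H : C ⥤ C') (F' : C' ⥤ FintypeCat.{w})

abbrev toF' {X : C} (x : (H ⋙ F').obj X) : F'.obj (H.obj X) := x

abbrev ofF' {X : C} (x : F'.obj (H.obj X)) : (H ⋙ F').obj X := x

theorem whisker_smul (σ : Aut F') {X : C} (x : (H ⋙ F').obj X) :
    Pi1X.autWhisker H F' σ • x = ofF' H F' (σ • toF' H F' x) := rfl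

open scoped FintypeCatDiscrete in
theorem continuous_whisker : Continuous (Pi1X.autWhisker H F') := by
  refine continuous_induced_rng.2 (continuous_pi fun X => ?_)
  exact (continuous_apply (A := fun Y => Aut (F'.obj Y)) (H.obj X)).comp (autEmbedding_isClosedEmbedding F').continuous

variable [GaloisCategory C] [GaloisCategory C'] [FiberFunctor F'] [FiberFunctor (H ⋙ F')]

include F' in
theorem faithful_of_fiber : H.Faithful :=
  Functor.Faithful.of_comp H F'

theorem full_of_surjective (h : Function.Surjective (Pi1X.autWhisker H F')) : H.Full where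
  map_surjective {X Y} g := by
    obtain ⟨f, hf⟩ := exists_hom (H ⋙ F') (fun x : (H ⋙ F').obj X => (F'.map g x : (H ⋙ F').obj Y)) fun σ x => by
      obtain ⟨τ, rfl⟩ := h σ
      exact (mulAction_naturality F' τ g x).symm
    exact ⟨f, F'.map_injective (FintypeCat.hom_ext _ _ hf)⟩

theorem pretransitive_of_full [H.Full] [PreservesFiniteCoproducts H] [PreservesFiniteLimits H] (X : C) [IsConnected X] :
    MulAction.IsPretransitive (Aut F') (F'.obj (H.obj X)) := by
  classical
  let W : C := (⊤_ C) ⨿ (⊤_ C)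
  have hu := (Types.binaryCofan_isColimit_iff _).1 ⟨mapIsColimitOfPreservesOfIsColimit ((H ⋙ F') ⋙ FintypeCat.incl)
    (coprod.inl : (⊤_ C) ⟶ W) (coprod.inr : (⊤_ C) ⟶ W) (coprodIsCoprod _ _)⟩
  haveI := subsingleton_top (H ⋙ F')
  have hW : ∀ (σ : Aut (H ⋙ F')) (w : (H ⋙ F').obj W), σ • w = w := fun σ w => by
    have hmem : w ∈ Set.range ((H ⋙ F').map (coprod.inl : (⊤_ C) ⟶ W)) ⊔ Set.range ((H ⋙ F').map (coprod.inr : (⊤_ C) ⟶ W)) :=
      (codisjoint_iff.1 hu.2.2.codisjoint).ge trivial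
    rcases hmem with ⟨z, rfl⟩ | ⟨z, rfl⟩ <;> rw [mulAction_naturality, Subsingleton.elim (σ • z) z]
  have hpts : ∃ w₀ w₁ : (H ⋙ F').obj W, w₀ ≠ w₁ := by
    obtain ⟨t⟩ := nonempty_top (H ⋙ F')
    refine ⟨(H ⋙ F').map (coprod.inl : (⊤_ C) ⟶ W) t, (H ⋙ F').map (coprod.inr : (⊤_ C) ⟶ W) t, fun he => ?_⟩
    exact Set.disjoint_left.1 hu.2.2.disjoint ⟨t, rfl⟩ ⟨t, he.symm⟩
  obtain ⟨w₀, w₁, hne⟩ := hpts
  refine ⟨fun x y => ?_⟩
  by_contra hno
  push Not at hno
  let φ : F'.obj (H.obj X) → F'.obj (H.obj W) := fun z => if z ∈ MulAction.orbit (Aut F') x then toF' H F' w₀ else toF' H F' w₁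
  obtain ⟨g, hg⟩ := exists_hom F' φ fun σ z => by
    show (if σ • z ∈ MulAction.orbit (Aut F') x then toF' H F' w₀ else toF' H F' w₁) = σ • (if z ∈ MulAction.orbit (Aut F') x then toF' H F' w₀ else toF' H F' w₁)
    have hfix : ∀ w : F'.obj (H.obj W), σ • w = w := fun w => hW (Pi1X.autWhisker H F' σ) (ofF' H F' w)
    rw [hfix]
    simp only [MulAction.smul_mem_orbit_smul, MulAction.orbit_eq_iff.symm, MulAction.orbit_smul]
  obtain ⟨f, hf⟩ := H.map_surjective g
  obtain ⟨τ, hτ⟩ := MulAction.exists_smul_eq (Aut (H ⋙ F')) (ofF' H F' x) (ofF' H F' y)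
  have h1 : (H ⋙ F').map f (τ • ofF' H F' x) = τ • (H ⋙ F').map f (ofF' H F' x) := (mulAction_naturality (H ⋙ F') τ f _).symm
  rw [hW, hτ] at h1
  have h2 : F'.map g y = F'.map g x := by rw [← hf]; exact h1
  rw [hg, hg] at h2
  have hy : y ∉ MulAction.orbit (Aut F') x := fun ⟨σ, hσ⟩ => hno σ hσ
  simp only [φ, if_pos (MulAction.mem_orbit_self x), if_neg hy] at h2
  exact hne h2.symm

theorem surjective_of_pretransitive
    (ht : ∀ (X : C) [IsConnected X], MulAction.IsPretransitive (Aut F') (F'.obj (H.obj X))) :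
    Function.Surjective (Pi1X.autWhisker H F') := by
  letI : ∀ X : C, MulAction (Aut F') ((H ⋙ F').obj X) := fun X => inferInstanceAs (MulAction (Aut F') (F'.obj (H.obj X)))
  haveI : IsNaturalSMul (H ⋙ F') (Aut F') := ⟨fun σ {X Y} f x => (mulAction_naturality F' σ (H.map f) x).symm⟩
  open scoped FintypeCatDiscrete in
  haveI : ∀ X : C, ContinuousSMul (Aut F') ((H ⋙ F').obj X) := fun X => continuousSMul_aut_fiber F' (H.obj X)
  have := toAut_surjective_of_isPretransitive (H ⋙ F') (Aut F') fun X _ => ht X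
  intro σ
  obtain ⟨τ, hτ⟩ := this σ
  refine ⟨τ, ?_⟩
  rw [← hτ]
  exact Aut.ext (NatTrans.ext (funext fun X => FintypeCat.hom_ext _ _ fun x => (toAut_hom_app_apply (H ⋙ F') τ x).symm))

theorem surjective_of_full [H.Full] [PreservesFiniteCoproducts H] [PreservesFiniteLimits H] :
    Function.Surjective (Pi1X.autWhisker H F') :=
  surjective_of_pretransitive H F' fun X _ => pretransitive_of_full H F' X

theorem exists_galois_of_isOpen {U : Set (Aut F')} (hU : IsOpen U) (h1 : (Pi1X.autWhisker H F').ker.carrier ⊆ U) :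
    ∃ (A : C) (_ : IsGalois A) (a : (H ⋙ F').obj A),
      ∀ σ : Aut F', σ • toF' H F' a = toF' H F' a → σ ∈ U := by
  have hK : IsClosed (Pi1X.autWhisker H F' '' Uᶜ) :=
    (hU.isClosed_compl.isCompact.image (continuous_whisker H F')).isClosed
  have h1' : (1 : Aut (H ⋙ F')) ∈ (Pi1X.autWhisker H F' '' Uᶜ)ᶜ := by
    rintro ⟨σ, hσ, he⟩
    exact hσ (h1 he)
  obtain ⟨A, -, hA⟩ := (nhds_one_has_basis_stabilizers (H ⋙ F')).mem_iff.1 (hK.isOpen_compl.mem_nhds h1')
  refine ⟨A.obj, A.isGalois, A.pt, fun σ hσ => ?_⟩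
  by_contra hn
  exact hA (show Pi1X.autWhisker H F' σ ∈ _ from hσ) ⟨σ, hn, rfl⟩

theorem isOpen_stabilizer {X' : C'} (a' : F'.obj X') : IsOpen (MulAction.stabilizer (Aut F') a' : Set (Aut F')) := by
  open scoped FintypeCatDiscrete in exact stabilizer_isOpen (Aut F') a'

theorem ker_le_iff (X' : C') [IsConnected X'] (a' : F'.obj X') :
    (Pi1X.autWhisker H F').ker ≤ MulAction.stabilizer (Aut F') a' ↔
      ∃ (X : C) (Y' : C') (i : Y' ⟶ H.obj X) (q : Y' ⟶ X'), Mono i ∧ IsConnected Y' := by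
  constructor
  · intro h
    obtain ⟨A, hA, a, ha⟩ := exists_galois_of_isOpen H F' (isOpen_stabilizer F' a') h
    obtain ⟨Y', i, y, hy, hY', hi⟩ := fiber_in_connected_component F' (H.obj A) (toF' H F' a)
    haveI := hY'
    haveI := hi
    have hst : ∀ σ : Aut F', σ • y = y → σ • a' = a' := fun σ hσ => by
      refine ha σ ?_
      rw [← hy, mulAction_naturality, hσ]
    choose g hg using fun z : F'.obj Y' => MulAction.exists_smul_eq (Aut F') y z
    obtain ⟨q, -⟩ := exists_hom F' (fun z => g z • a') fun σ z => by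
      have : ((σ * g z)⁻¹ * g (σ • z)) • y = y := by rw [mul_smul, hg, inv_smul_eq_iff, mul_smul, hg]
      have := hst _ this
      rw [mul_smul, inv_smul_eq_iff, mul_smul] at this
      exact this
    exact ⟨A, Y', i, q, hi, hY'⟩
  · rintro ⟨X, Y', i, q, hi, hY'⟩ σ hσ
    obtain ⟨y, hy⟩ := surjective_of_nonempty_fiber_of_isConnected F' q a'
    have h1 : σ • (F'.map i y) = F'.map i y := by
      have := congrArg (fun τ : Aut (H ⋙ F') => (τ • ofF' H F' (F'.map i y))) (MonoidHom.mem_ker.1 hσ)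
      rw [whisker_smul, one_smul] at this
      exact this
    rw [mulAction_naturality] at h1
    rw [MulAction.mem_stabilizer_iff, ← hy, mulAction_naturality]
    exact congrArg _ (ConcreteCategory.injective_of_mono_of_preservesPullback (F'.map i) h1)

end Functor

end Groth.Agent.H6.GaloisX
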