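import Mathlib

set_option autoImplicit false
set_option linter.all false

namespace Groth.Agent.H6.GapHull

variable {n : ℕ}

/-- For every start there is a chain to the end following the lower hull. -/
theorem hull (E e r : Fin (n + 1) → ℝ) (hE : StrictMono E) (hle : ∀ i, e i ≤ E i)
    (hlast : e (Fin.last n) = E (Fin.last n)) (hr : Antitone r) :
    ∀ (k : Fin (n + 1)) (B : ℝ), 0 ≤ B → (∀ i, k < i → r k - B * (E i - E k) ≤ r i) →
      ∃ (μ : ℕ) (c : Fin (μ + 1) → Fin (n + 1)) (q : ℕ) (w a : Fin q → ℝ),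
        StrictMono c ∧ c 0 = k ∧ c (Fin.last μ) = Fin.last n ∧
        (∀ j, 0 ≤ w j) ∧ (∀ j, E k ≤ a j ∧ a j ≤ E (Fin.last n)) ∧ ∑ j, w j ≤ B ∧
        r k = r (Fin.last n) + ∑ j, w j * (a j - E k) ∧
        (∀ i, k ≤ i → r (Fin.last n) + ∑ j, w j * max (a j - E i) 0 ≤ r i) ∧
        ∑ j : Fin μ, (e (c j.succ) - e (c j.castSucc)) * (r (c j.succ) + r (c j.castSucc)) ≤
          2 * (E (Fin.last n) - E k) * r (Fin.last n) + (∑ j, w j * (a j - E k) ^ 2) + 2 * (E k - e k) * r k := by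
  intro k
  induction hk : n - (k : ℕ) using Nat.strong_induction_on generalizing k with
  | _ d ih =>
    intro B hB hBk
    by_cases hkn : k = Fin.last n
    · subst hkn
      refine ⟨0, fun _ => Fin.last n, 0, Fin.elim0, Fin.elim0, ?_, rfl, rfl, fun j => j.elim0, fun j => j.elim0,
        by simpa using hB, by simp, fun i hi => ?_, ?_⟩
      · intro x y h
        exact absurd h (by simp [Fin.eq_zero x, Fin.eq_zero y])
      · rw [le_antisymm (Fin.le_last i) hi]; simp
      · rw [hlast]; simp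
    · have hne : (Finset.Ioi k).Nonempty :=
        ⟨Fin.last n, Finset.mem_Ioi.2 (lt_of_le_of_ne (Fin.le_last k) hkn)⟩
      obtain ⟨l, hl, hmax⟩ := Finset.exists_max_image (Finset.Ioi k) (fun i => (r k - r i) / (E i - E k)) hne
      rw [Finset.mem_Ioi] at hl
      set W := (r k - r l) / (E l - E k) with hWdef
      have hd : 0 < E l - E k := sub_pos.2 (hE hl)
      have hW0 : 0 ≤ W := div_nonneg (sub_nonneg.2 (hr hl.le)) hd.le
      have hrk : r k - W * (E l - E k) = r l := by rw [hWdef, div_mul_cancel₀ _ hd.ne']; ring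
      have hWi : ∀ i, k < i → r k - W * (E i - E k) ≤ r i := by
        intro i hi
        have h := hmax i (Finset.mem_Ioi.2 hi)
        have hp : 0 < E i - E k := sub_pos.2 (hE hi)
        rw [div_le_iff₀ hp] at h
        linarith
      have hWB : W ≤ B := by
        rw [hWdef, div_le_iff₀ hd]
        linarith [hBk l hl]
      have hlt : n - (l : ℕ) < d := by
        have h1 : (k : ℕ) < l := hl
        have h2 := l.is_lt
        omega
      obtain ⟨μ, c, q, w, a, hc, hc0, hcl, hw, ha, hsum, hrl, hbel, harea⟩ := ih _ hlt l rfl W hW0 fun i hi => by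
        have := hWi i (hl.trans hi)
        linarith [hrk]
      refine ⟨μ + 1, Fin.cons k c, q + 1, Fin.cons (W - ∑ j, w j) w, Fin.cons (E l) a, ?_, rfl, ?_, ?_, ?_, ?_, ?_, ?_, ?_⟩
      · refine Fin.strictMono_iff_lt_succ.2 fun j => ?_
        refine Fin.cases ?_ (fun j => ?_) j
        · simpa [hc0] using hl
        · rw [Fin.castSucc_succ, Fin.cons_succ, Fin.cons_succ]
          exact hc j.castSucc_lt_succ
      · rw [← Fin.succ_last, Fin.cons_succ, hcl]
      · refine fun j => Fin.cases ?_ (fun j => ?_) j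
        · simpa using hsum
        · simpa using hw j
      · refine fun j => Fin.cases ?_ (fun j => ?_) j
        · simpa using ⟨(hE hl).le, hE.monotone (Fin.le_last l)⟩
        · simpa using ⟨(hE hl).le.trans (ha j).1, (ha j).2⟩
      · rw [Fin.sum_univ_succ]
        simpa using hWB
      · rw [Fin.sum_univ_succ]
        simp only [Fin.cons_zero, Fin.cons_succ]
        have e1 : (∑ j, w j * (a j - E k)) = (∑ j, w j * (a j - E l)) + (∑ j, w j) * (E l - E k) := by
          rw [Finset.sum_mul, ← Finset.sum_add_distrib]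
          exact Finset.sum_congr rfl fun j _ => by ring
        rw [e1]
        linarith [hrl, hrk]
      · intro i hi
        rw [Fin.sum_univ_succ]
        simp only [Fin.cons_zero, Fin.cons_succ]
        rcases le_or_gt l i with hli | hli
        · rw [max_eq_right (by linarith [hE.monotone hli]), mul_zero, zero_add]
          exact hbel i hli
        · have hEi : E i < E l := hE hli
          rw [max_eq_left (by linarith)]
          have e1 : (∑ j, w j * max (a j - E i) 0) = (∑ j, w j * (a j - E l)) + (∑ j, w j) * (E l - E i) := by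
            rw [Finset.sum_mul, ← Finset.sum_add_distrib]
            refine Finset.sum_congr rfl fun j _ => ?_
            rw [max_eq_left (by linarith [(ha j).1])]
            ring
          rw [e1]
          rcases eq_or_lt_of_le hi with rfl | hki
          · linarith [hrl, hrk]
          · linarith [hrl, hrk, hWi i hki]
      · rw [Fin.sum_univ_succ, Fin.sum_univ_succ]
        simp only [Fin.castSucc_zero, Fin.cons_zero, Fin.cons_succ, Fin.succ_zero_eq_one, ← Fin.succ_castSucc]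
        rw [show (Fin.cons k c : Fin (μ + 2) → Fin (n + 1)) 1 = l by
          rw [← Fin.succ_zero_eq_one, Fin.cons_succ, hc0]]
        have e2 : (∑ j, w j * (a j - E k) ^ 2) = (∑ j, w j * (a j - E l) ^ 2) +
            2 * (E l - E k) * (∑ j, w j * (a j - E l)) + (∑ j, w j) * (E l - E k) ^ 2 := by
          rw [Finset.sum_mul, Finset.mul_sum, ← Finset.sum_add_distrib, ← Finset.sum_add_distrib]
          exact Finset.sum_congr rfl fun j _ => by ring
        rw [e2]
        have h1 : (E l - E k) * (r k + r l) = 2 * (E l - E k) * (r (Fin.last n) + ∑ j, w j * (a j - E l)) + W * (E l - E k) ^ 2 := by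
          rw [← hrl]
          linear_combination (E l - E k) * hrk
        nlinarith [harea, h1, mul_nonneg (sub_nonneg.2 (hr hl.le)) (sub_nonneg.2 (hle l)),
          mul_nonneg (sub_nonneg.2 (hr hl.le)) (sub_nonneg.2 (hle k))]

theorem sum_range_id (K : ℕ) : ((∑ i ∈ Finset.range (K + 1), (i : ℝ))) = K * (K + 1) / 2 := by
  induction K with
  | zero => simp
  | succ K ih => rw [Finset.sum_range_succ, ih]; push_cast; ring

theorem hinge (g : ℕ) (hg : 1 ≤ g) (hn : 2 * g ≤ n) (a : ℝ) (ha : 0 < a) (haN : a ≤ (n : ℝ) + g) :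
    ((n : ℝ) + 1) * a ^ 2 < 2 * ((n : ℝ) + g) *
      ∑ i : Fin (n + 1), max (a - (if (i : ℕ) ≤ n - g then ((i : ℕ) : ℝ) else ((i : ℕ) : ℝ) + g)) 0 := by
  rw [Fin.sum_univ_eq_sum_range (fun i => max (a - (if i ≤ n - g then (i : ℝ) else (i : ℝ) + g)) 0)]
  obtain ⟨m, rfl⟩ : ∃ m, n = m + g := ⟨n - g, by omega⟩
  simp only [Nat.add_sub_cancel]
  set F := fun i : ℕ => max (a - (if i ≤ m then (i : ℝ) else (i : ℝ) + g)) 0 with hF
  push_cast at haN ⊢
  have hgm : (g : ℝ) ≤ m := by exact_mod_cast (by omega : g ≤ m)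
  have hg1 : (1 : ℝ) ≤ g := by exact_mod_cast hg
  have hlow : ∀ K, K ≤ m → ((K : ℝ) + 1) * a - (K : ℝ) * (K + 1) / 2 ≤ ∑ i ∈ Finset.range (K + 1), F i := by
    intro K hK
    rw [show ((K : ℝ) + 1) * a - (K : ℝ) * (K + 1) / 2 = ∑ i ∈ Finset.range (K + 1), (a - (i : ℝ)) by
      rw [Finset.sum_sub_distrib, sum_range_id, Finset.sum_const, Finset.card_range, nsmul_eq_mul]; push_cast; ring]
    refine Finset.sum_le_sum fun i hi => ?_
    show _ ≤ max _ 0
    rw [Finset.mem_range] at hi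
    rw [if_pos (by omega)]
    exact le_max_left _ _
  have hmono : ∀ K, K ≤ m + g → ∑ i ∈ Finset.range (K + 1), F i ≤ ∑ i ∈ Finset.range (m + g + 1), F i := fun K hK =>
    Finset.sum_le_sum_of_subset_of_nonneg (Finset.range_subset_range.2 (by omega)) fun i _ _ => le_max_right _ _
  rcases le_or_gt a (m : ℝ) with hA | hA
  · set K := ⌊a⌋₊ with hK
    have h1 : (K : ℝ) ≤ a := Nat.floor_le ha.le
    have h2 : a < K + 1 := Nat.lt_floor_add_one a
    have hKm : K ≤ m := by exact_mod_cast (h1.trans hA)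
    have h3 := (hlow K hKm).trans (hmono K (by omega))
    have h4 : a ^ 2 < 2 * (((K : ℝ) + 1) * a - (K : ℝ) * (K + 1) / 2) := by
      nlinarith [mul_nonneg (sub_nonneg.2 h1) (sub_nonneg.2 h2.le), ha, (Nat.cast_nonneg K : (0 : ℝ) ≤ K)]
    nlinarith [h3, h4, sq_nonneg a]
  rcases le_or_gt a ((m : ℝ) + g) with hB | hB
  · have h3 := (hlow m le_rfl).trans (hmono m (by omega))
    have h4 : ((m : ℝ) + g + 1) * a ^ 2 < 2 * ((m : ℝ) + g + g) * (((m : ℝ) + 1) * a - (m : ℝ) * (m + 1) / 2) := by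
      have hend : ((m : ℝ) + g + 1) * ((m : ℝ) + g) ^ 2 < ((m : ℝ) + g + g) * ((m : ℝ) + 1) * ((m : ℝ) + 2 * g) := by
        nlinarith [mul_nonneg (mul_nonneg (sub_nonneg.2 hgm) (by linarith : (0 : ℝ) ≤ g)) (by linarith : (0 : ℝ) ≤ m),
          mul_nonneg (mul_nonneg (sub_nonneg.2 hgm) (by linarith : (0 : ℝ) ≤ g)) (by linarith : (0 : ℝ) ≤ g)]
      have hsta : ((m : ℝ) + g + 1) * (m : ℝ) ^ 2 ≤ ((m : ℝ) + g + g) * ((m : ℝ) + 1) * (m : ℝ) := by
        nlinarith [mul_nonneg (mul_nonneg (by linarith : (0 : ℝ) ≤ g) (by linarith : (0 : ℝ) ≤ m)) (by linarith : (0 : ℝ) ≤ m)]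
      have hA' : 0 < a - m := sub_pos.2 hA
      have hB' : 0 ≤ (m : ℝ) + g - a := sub_nonneg.2 hB
      have key : (0 : ℝ) < g * (2 * ((m : ℝ) + g + g) * (((m : ℝ) + 1) * a - (m : ℝ) * (m + 1) / 2) - ((m : ℝ) + g + 1) * a ^ 2) := by
        nlinarith [mul_lt_mul_of_pos_left hend hA', mul_le_mul_of_nonneg_left hsta hB',
          mul_nonneg (mul_nonneg hA'.le hB') (by positivity : (0 : ℝ) ≤ (g : ℝ) * ((m : ℝ) + g + 1))]
      have := pos_of_mul_pos_right key (by linarith)
      linarith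
    nlinarith [h3, h4]
  · set t := a - ((m : ℝ) + g) with ht
    have ht0 : 0 ≤ t := by rw [ht]; linarith
    set J := ⌊t⌋₊ with hJ
    have h1 : (J : ℝ) ≤ t := Nat.floor_le ht0
    have h2 : t < J + 1 := Nat.lt_floor_add_one t
    have hJg : J ≤ g := by exact_mod_cast (h1.trans (by rw [ht]; linarith) : (J : ℝ) ≤ g)
    have h3 : ((m : ℝ) + 1) * a - (m : ℝ) * (m + 1) / 2 + (t * (J : ℝ) - (J : ℝ) * (J + 1) / 2) ≤
        ∑ i ∈ Finset.range (m + g + 1), F i := by
      refine le_trans ?_ (hmono (m + J) (by omega))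
      rw [show m + J + 1 = m + 1 + J by omega, Finset.sum_range_add]
      refine add_le_add (hlow m le_rfl) ?_
      rw [show t * (J : ℝ) - (J : ℝ) * (J + 1) / 2 = ∑ i ∈ Finset.range J, (t - ((i : ℝ) + 1)) by
        clear h1 h2 hJg hJ
        induction J with
        | zero => simp
        | succ J ih => rw [Finset.sum_range_succ, ← ih]; push_cast; ring]
      refine Finset.sum_le_sum fun i _ => ?_
      show _ ≤ max _ 0
      rw [if_neg (by omega)]
      refine le_trans (le_of_eq ?_) (le_max_left _ _)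
      rw [ht]; push_cast; ring
    have h5 : t * (t - 1) ≤ 2 * (t * (J : ℝ) - (J : ℝ) * (J + 1) / 2) := by
      nlinarith [mul_nonneg (sub_nonneg.2 h1) (sub_nonneg.2 h2.le)]
    have hu : 0 ≤ (m : ℝ) + g + g - a := by linarith
    have h6 : ((m : ℝ) + g + 1) * a ^ 2 < ((m : ℝ) + g + g) * (2 * (((m : ℝ) + 1) * a - (m : ℝ) * (m + 1) / 2) + t * (t - 1)) := by
      rw [ht]
      nlinarith [mul_nonneg (mul_nonneg hu hu) (sub_nonneg.2 hg1), mul_nonneg hu (by linarith : (0 : ℝ) ≤ (m : ℝ) + g + g),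
        mul_pos (mul_pos (by linarith : (0 : ℝ) < g) (by linarith : (0 : ℝ) < (m : ℝ) + g + g)) (by linarith : (0 : ℝ) < (m : ℝ) + g + 1 - 2 * g)]
    nlinarith [h3, h5, h6, mul_le_mul_of_nonneg_left h5 (by linarith : (0 : ℝ) ≤ (m : ℝ) + g + g)]

theorem main (g : ℕ) (hg : 1 ≤ g) (hn : 2 * g ≤ n)
    (e : Fin (n + 1) → ℕ) (he0 : e 0 = 0) (hen : e (Fin.last n) = n + g)
    (hle : ∀ i : Fin (n + 1), (i : ℕ) ≤ n - g → e i ≤ (i : ℕ)) (hle' : ∀ i : Fin (n + 1), e i ≤ (i : ℕ) + g)
    (r : Fin (n + 1) → ℝ) (hanti : Antitone r) (hsum : ∑ i, r i = 0) (hr : r ≠ 0) :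
    ∃ (μ : ℕ) (c : Fin (μ + 1) → Fin (n + 1)), StrictMono c ∧ c 0 = 0 ∧ c (Fin.last μ) = Fin.last n ∧
      ∑ j : Fin μ, ((e (c j.succ) : ℝ) - (e (c j.castSucc) : ℝ)) * (r (c j.succ) + r (c j.castSucc)) < 0 := by
  let E : Fin (n + 1) → ℝ := fun i => if (i : ℕ) ≤ n - g then ((i : ℕ) : ℝ) else ((i : ℕ) : ℝ) + g
  have hgR : (1 : ℝ) ≤ g := by exact_mod_cast hg
  have hE : StrictMono E := by
    intro i j hij
    have h1 : ((i : ℕ) : ℝ) < ((j : ℕ) : ℝ) := by exact_mod_cast hij
    have h2 : (i : ℕ) < j := hij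
    simp only [E]
    split_ifs with hi hj <;> first | linarith | omega
  have hE0 : E 0 = 0 := by simp [E]
  have hEn : E (Fin.last n) = (n : ℝ) + g := by
    simp only [E, Fin.val_last]
    rw [if_neg (by omega)]
  have hleE : ∀ i, (e i : ℝ) ≤ E i := by
    intro i
    simp only [E]
    split_ifs with hi
    · exact_mod_cast hle i hi
    · exact_mod_cast hle' i
  have hlast : (e (Fin.last n) : ℝ) = E (Fin.last n) := by rw [hEn, hen]; push_cast; ring
  obtain ⟨B, hB, hB'⟩ : ∃ B : ℝ, 0 ≤ B ∧ ∀ i, (0 : Fin (n + 1)) < i → r 0 - B * (E i - E 0) ≤ r i := by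
    refine ⟨r 0 - r (Fin.last n), sub_nonneg.2 (hanti (Fin.le_last _)), fun i hi => ?_⟩
    have h1 : 1 ≤ E i - E 0 := by
      have : (1 : ℝ) ≤ ((i : ℕ) : ℝ) := by exact_mod_cast (Fin.lt_def.1 hi : 0 < (i : ℕ))
      rw [hE0]; simp only [E]; split_ifs <;> linarith
    nlinarith [hanti (Fin.le_last i), hanti (Fin.le_last (0 : Fin (n + 1)))]
  obtain ⟨μ, c, q, w, a, hc, hc0, hcl, hw, ha, -, hr0, hbel, harea⟩ :=
    hull E (fun i => (e i : ℝ)) r hE hleE hlast hanti 0 B hB hB'
  refine ⟨μ, c, hc, hc0, hcl, lt_of_le_of_lt harea ?_⟩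
  rw [hE0, hEn, he0]
  simp only [sub_zero, Nat.cast_zero, mul_zero, zero_mul, add_zero]
  set s := r (Fin.last n) with hs
  have hpos : (0 : ℝ) < (n : ℝ) + g := by positivity
  have htot : ((n : ℝ) + 1) * s + ∑ j, w j * ∑ i, max (a j - E i) 0 ≤ 0 := by
    have : (∑ i : Fin (n + 1), (s + ∑ j, w j * max (a j - E i) 0)) ≤ ∑ i, r i :=
      Finset.sum_le_sum fun i _ => hbel i (Fin.zero_le i)
    rw [Finset.sum_add_distrib, Finset.sum_comm, Finset.sum_const, Finset.card_univ, Fintype.card_fin, nsmul_eq_mul] at this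
    simp only [← Finset.mul_sum] at this
    push_cast at this
    linarith [hsum]
  have hex : ∃ j, 0 < w j ∧ 0 < a j := by
    by_contra hno
    push Not at hno
    have hz : ∑ j, w j * (a j - E 0) = 0 := Finset.sum_eq_zero fun j _ => by
      rw [hE0, sub_zero]
      rcases eq_or_lt_of_le (hw j) with h | h
      · rw [← h, zero_mul]
      · have h1 : (0 : ℝ) ≤ a j := hE0 ▸ (ha j).1
        rw [le_antisymm (hno j h) h1, mul_zero]
    rw [hz, add_zero] at hr0
    apply hr
    have hall : ∀ i, r i = s := fun i =>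
      le_antisymm ((hanti (Fin.zero_le i)).trans hr0.le) (hanti (Fin.le_last i))
    have hs0 : s = 0 := by
      simp only [hall, Finset.sum_const, Finset.card_univ, Fintype.card_fin, nsmul_eq_mul] at hsum
      exact (mul_eq_zero.1 hsum).resolve_left (by positivity)
    funext i
    rw [hall, hs0]; rfl
  have hcmp : ((n : ℝ) + 1) * ∑ j, w j * a j ^ 2 < 2 * ((n : ℝ) + g) * ∑ j, w j * ∑ i, max (a j - E i) 0 := by
    rw [Finset.mul_sum, Finset.mul_sum]
    refine Finset.sum_lt_sum (fun j _ => ?_) ?_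
    · rcases eq_or_lt_of_le (hE0 ▸ (ha j).1 : (0 : ℝ) ≤ a j) with h | h
      · rw [← h]
        simp only [ne_eq, OfNat.ofNat_ne_zero, not_false_eq_true, zero_pow, mul_zero]
        have := Finset.sum_nonneg (s := Finset.univ) (fun i _ => le_max_right ((0 : ℝ) - E i) 0)
        have := hw j
        positivity
      · nlinarith [hinge g hg hn (a j) h (hEn ▸ (ha j).2), hw j]
    · obtain ⟨j, hwj, haj⟩ := hex
      refine ⟨j, Finset.mem_univ j, ?_⟩
      nlinarith [hinge g hg hn (a j) haj (hEn ▸ (ha j).2), hwj]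
  have hn1 : (0 : ℝ) < (n : ℝ) + 1 := by positivity
  by_contra hge
  push Not at hge
  nlinarith [mul_le_mul_of_nonneg_left hge hn1.le, mul_le_mul_of_nonneg_left htot (by linarith : (0 : ℝ) ≤ 2 * ((n : ℝ) + g))]

end Groth.Agent.H6.GapHull
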