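import Mathlib
import Groth.Agent.Lib.H6.GenFinite
import Groth.Agent.Lib.H6.BirSpread

set_option autoImplicit false
set_option linter.all false
set_option maxHeartbeats 1000000
set_option backward.isDefEq.respectTransparency.types false

/-! Generically finite morphisms of integral schemes. -/

universe u

open CategoryTheory CategoryTheory.Limits AlgebraicGeometry TopologicalSpace Opposite

namespace Groth.Agent.H6.GenFinFF

variable {X : Scheme.{u}} [IsIntegral X]

theorem mem_genericPoints : genericPoint X ∈ genericPoints X := by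
  rw [genericPoints_eq_singleton]; rfl

/-- sections to the residue field at the generic point. -/
noncomputable abbrev toK (U : X.Opens) (h : genericPoint X ∈ U) : Γ(X, U) →+* X.residueField (genericPoint X) :=
  (X.presheaf.germ U _ h ≫ X.residue _).hom

theorem toK_injective (U : X.Opens) (h : genericPoint X ∈ U) : Function.Injective (toK U h) := by
  haveI hi := BirSpread.isIso_residue (X := X)
  haveI : Nonempty U := ⟨⟨_, h⟩⟩
  exact ((ConcreteCategory.isIso_iff_bijective _).1 hi).1.comp (Scheme.germToFunctionField_injective X U)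

theorem toK_surj {U : X.Opens} (hU : IsAffineOpen U) (h : genericPoint X ∈ U) (c : X.residueField (genericPoint X)) :
    ∃ (a s : Γ(X, U)), s ≠ 0 ∧ c * toK U h s = toK U h a := by
  obtain ⟨c', rfl⟩ := X.residue_surjective (genericPoint X) c
  letI : Algebra Γ(X, U) (X.presheaf.stalk (genericPoint X)) := (X.presheaf.germ U _ h).hom.toAlgebra
  haveI : IsLocalization.AtPrime (X.presheaf.stalk (genericPoint X)) (hU.primeIdealOf ⟨_, h⟩).asIdeal :=
    hU.isLocalization_stalk ⟨_, h⟩
  obtain ⟨⟨a, s⟩, has⟩ := IsLocalization.surj (hU.primeIdealOf ⟨_, h⟩).asIdeal.primeCompl c'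
  refine ⟨a, s.1, fun h0 => s.2 (by rw [h0]; exact zero_mem _), ?_⟩
  show X.residue _ c' * X.residue _ (X.presheaf.germ U _ h s.1) = X.residue _ (X.presheaf.germ U _ h a)
  rw [← map_mul]
  exact congrArg _ has

variable {Y : Scheme.{u}} [IsIntegral Y] (f : X ⟶ Y) [IsDominant f] [LocallyOfFiniteType f]

theorem map_generic : f (genericPoint X) = genericPoint Y := by
  have hgen : IsGenericPoint (f (genericPoint X)) (⊤ : Set Y) := by
    refine isGenericPoint_iff_specializes.2 fun z => ⟨fun _ => trivial, fun _ => ?_⟩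
    rw [specializes_iff_mem_closure]
    refine closure_minimal ?_ isClosed_closure (f.denseRange z)
    rintro _ ⟨w, rfl⟩
    exact specializes_iff_mem_closure.1 (((genericPoint_spec X).specializes trivial).map f.continuous)
  exact hgen.eq (genericPoint_spec Y)

/-- A : the residue field extension is finite. -/
def CondA : Prop := letI := (f.residueFieldMap (genericPoint X)).hom.toAlgebra
  Module.Finite (Y.residueField (f (genericPoint X))) (X.residueField (genericPoint X))

/-- C : only the generic point over the generic point. -/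
def CondC : Prop := ∀ x : X, f x = genericPoint Y → x = genericPoint X

variable {U : X.Opens} {V : Y.Opens}

omit [LocallyOfFiniteType f] [IsDominant f] [IsIntegral Y] in
theorem toK_comm (hUV : U ≤ f ⁻¹ᵁ V) (hξ : genericPoint X ∈ U) (a : Γ(Y, V)) :
    toK U hξ ((f.appLE V U hUV).hom a) =
      (f.residueFieldMap (genericPoint X)).hom ((Y.presheaf.germ V (f (genericPoint X)) (hUV hξ) ≫ Y.residue _).hom a) := by
  show (f.appLE V U hUV ≫ X.presheaf.germ U _ hξ ≫ X.residue _).hom a =
    (Y.presheaf.germ V _ _ ≫ Y.residue _ ≫ f.residueFieldMap _).hom a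
  rw [Scheme.residue_residueFieldMap, ← Category.assoc, ← Category.assoc]
  congr 3
  rw [Scheme.Hom.appLE, Category.assoc, TopCat.Presheaf.germ_res, Scheme.Hom.germ_stalkMap]

omit [IsDominant f] [IsIntegral Y] in
theorem condA_of_finite (hU : IsAffineOpen U) (hUV : U ≤ f ⁻¹ᵁ V) (hξ : genericPoint X ∈ U)
    (hfin : (f.appLE V U hUV).hom.Finite) : CondA f := by
  classical
  letI := (f.residueFieldMap (genericPoint X)).hom.toAlgebra
  letI := (f.appLE V U hUV).hom.toAlgebra
  haveI : Module.Finite Γ(Y, V) Γ(X, U) := hfin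
  obtain ⟨G, hG⟩ := (Module.Finite.fg_top (R := Γ(Y, V)) (M := Γ(X, U)))
  let K := Y.residueField (f (genericPoint X))
  let L := X.residueField (genericPoint X)
  have hint : ∀ b, IsIntegral K (toK U hξ b) := by
    intro b
    obtain ⟨P, hPm, hP⟩ := Algebra.IsIntegral.isIntegral (R := Γ(Y, V)) b
    refine ⟨P.map (Y.presheaf.germ V _ (hUV hξ) ≫ Y.residue _).hom, hPm.map _, ?_⟩
    rw [Polynomial.eval₂_map, show ((algebraMap K L).comp (Y.presheaf.germ V _ (hUV hξ) ≫ Y.residue _).hom) =
      (toK U hξ).comp (algebraMap Γ(Y, V) Γ(X, U)) from RingHom.ext fun a => (toK_comm f hUV hξ a).symm,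
      ← Polynomial.hom_eval₂, hP, map_zero]
  let S : IntermediateField K L := IntermediateField.adjoin K ((G.image (toK U hξ) : Finset L) : Set L)
  haveI : FiniteDimensional K S := IntermediateField.finiteDimensional_adjoin fun x hx => by
    obtain ⟨b, -, rfl⟩ := Finset.mem_image.1 (Finset.mem_coe.1 hx)
    exact hint b
  have hmem : ∀ b, toK U hξ b ∈ S := by
    intro b
    have hb : b ∈ Submodule.span Γ(Y, V) (G : Set Γ(X, U)) := hG ▸ Submodule.mem_top
    induction hb using Submodule.span_induction with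
    | mem x hx => exact IntermediateField.subset_adjoin K _ (Finset.mem_coe.2 (Finset.mem_image_of_mem _ hx))
    | zero => rw [map_zero]; exact S.zero_mem
    | add x y _ _ hx hy => rw [map_add]; exact S.add_mem hx hy
    | smul a x _ hx =>
      rw [Algebra.smul_def, map_mul]
      exact S.mul_mem (toK_comm f hUV hξ a ▸ S.algebraMap_mem _) hx
  have htop : S = ⊤ := by
    refine top_unique fun c _ => ?_
    obtain ⟨a, s, hs, hc⟩ := toK_surj hU hξ c
    have hs' : toK U hξ s ≠ 0 := fun h => hs (toK_injective U hξ (h.trans (map_zero _).symm))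
    rw [← mul_div_cancel_right₀ c hs', hc]
    exact S.div_mem (hmem a) (hmem s)
  show Module.Finite K L
  have : FiniteDimensional K (⊤ : IntermediateField K L) := htop ▸ ‹FiniteDimensional K S›
  exact IntermediateField.topEquiv.toLinearEquiv.finiteDimensional

theorem condC_of_condA (h : CondA f) : CondC f := by
  intro x hx
  letI := (f.residueFieldMap (genericPoint X)).hom.toAlgebra
  haveI : Module.Finite (Y.residueField (f (genericPoint X))) (X.residueField (genericPoint X)) := h
  obtain ⟨V, hV, hxV, -⟩ := exists_isAffineOpen_mem_and_subset (X := Y) (x := f x) (U := ⊤) trivial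
  obtain ⟨U, hU, hxU, hUle⟩ := exists_isAffineOpen_mem_and_subset (X := X) (x := x) (U := f ⁻¹ᵁ V) hxV
  have hξ : genericPoint X ∈ U := ((genericPoint_spec X).specializes trivial).mem_open U.2 hxU
  have hηV : genericPoint Y ∈ V := hx ▸ hxV
  haveI : Nonempty V := ⟨⟨_, hηV⟩⟩
  haveI : Nonempty U := ⟨⟨_, hξ⟩⟩
  set K := Y.residueField (f (genericPoint X))
  set L := X.residueField (genericPoint X)
  have hq0 : ∀ b ∈ (hU.primeIdealOf ⟨x, hxU⟩).asIdeal, b = 0 := by
    intro b hb
    by_contra hb0
    have hbL : toK U hξ b ≠ 0 := fun h' => hb0 (toK_injective U hξ (h'.trans (map_zero _).symm))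
    obtain ⟨m, hm⟩ : ∃ m : Polynomial K, m = minpoly K (toK U hξ b) := ⟨_, rfl⟩
    have hm0 : m.coeff 0 ≠ 0 := hm ▸ minpoly.coeff_zero_ne_zero (Algebra.IsIntegral.isIntegral _) hbL
    let ψ : Γ(Y, V) →+* K := (Y.presheaf.germ V (f (genericPoint X)) (hUle hξ) ≫ Y.residue _).hom
    letI : Algebra Γ(Y, V) K := ψ.toAlgebra
    haveI : IsFractionRing Γ(Y, V) K := by
      have key : ∀ (η : Y) (hη : η ∈ V), η = genericPoint Y →
          @IsFractionRing Γ(Y, V) _ (Y.residueField η) _ (Y.presheaf.germ V η hη ≫ Y.residue η).hom.toAlgebra := by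
        rintro η hη rfl
        letI := (Y.presheaf.germ V (genericPoint Y) hη ≫ Y.residue (genericPoint Y)).hom.toAlgebra
        haveI : IsFractionRing Γ(Y, V) Y.functionField := functionField_isFractionRing_of_isAffineOpen (X := Y) V hV
        haveI := BirSpread.isIso_residue (X := Y)
        let e : Y.functionField ≃ₐ[Γ(Y, V)] Y.residueField (genericPoint Y) :=
          AlgEquiv.ofRingEquiv (f := (asIso (Y.residue (genericPoint Y))).commRingCatIsoToRingEquiv) fun a => rfl
        exact IsLocalization.isLocalization_of_algEquiv (nonZeroDivisors Γ(Y, V)) e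
      exact key _ (hUle hξ) (map_generic f)
    obtain ⟨c, hc, hcm⟩ := IsLocalization.integerNormalization_spec (nonZeroDivisors Γ(Y, V)) m
    set P := IsLocalization.integerNormalization (nonZeroDivisors Γ(Y, V)) m
    have hP0 : P.coeff 0 ≠ 0 := by
      intro h0
      have h1 := congrArg (Polynomial.coeff · 0) hcm
      simp only [Polynomial.coeff_map, h0, map_zero, Polynomial.coeff_smul] at h1
      rw [Algebra.smul_def] at h1
      rcases mul_eq_zero.1 h1.symm with h2 | h2
      · exact nonZeroDivisors.ne_zero hc ((IsFractionRing.injective Γ(Y, V) K) (h2.trans (map_zero _).symm))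
      · exact hm0 h2
    have heval : Polynomial.eval₂ (f.appLE V U hUle).hom b P = 0 := by
      apply toK_injective U hξ
      rw [Polynomial.hom_eval₂, map_zero,
        show (toK U hξ).comp (f.appLE V U hUle).hom = (algebraMap K L).comp ψ from RingHom.ext fun a => toK_comm f hUle hξ a,
        ← Polynomial.eval₂_map]
      rw [show ψ = algebraMap Γ(Y, V) K from rfl, hcm, Algebra.smul_def, Polynomial.eval₂_mul, hm]
      exact mul_eq_zero_of_right _ (minpoly.aeval K _)
    have hq : (f.appLE V U hUle).hom (P.coeff 0) ∈ (hU.primeIdealOf ⟨x, hxU⟩).asIdeal := by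
      have h2 := heval
      rw [← Polynomial.divX_mul_X_add P, Polynomial.eval₂_add, Polynomial.eval₂_mul, Polynomial.eval₂_X, Polynomial.eval₂_C] at h2
      rw [eq_neg_of_add_eq_zero_right h2]
      exact neg_mem (Ideal.mul_mem_left _ _ hb)
    have hcom := GenFinite.comap_primeIdealOf f hV hU hUle hxU
    have h3 : P.coeff 0 ∈ (hV.primeIdealOf ⟨f x, hUle hxU⟩).asIdeal := hcom ▸ hq
    rw [GenFinite.mem_prime_iff hV] at h3
    refine h3 ?_
    rw [hx]
    obtain ⟨z, hz⟩ : ((Y.basicOpen (P.coeff 0)) : Set Y).Nonempty := by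
      refine Set.nonempty_iff_ne_empty.2 fun h => hP0 ((basicOpen_eq_bot_iff _).1 ?_)
      exact TopologicalSpace.Opens.ext h
    exact ((genericPoint_spec Y).specializes trivial).mem_open (Y.basicOpen _).2 hz
  have h1 : (hU.primeIdealOf ⟨x, hxU⟩) = hU.primeIdealOf ⟨genericPoint X, hξ⟩ := by
    refine PrimeSpectrum.ext (le_antisymm (fun b hb => by rw [hq0 b hb]; exact zero_mem _) fun b hb => ?_)
    rw [GenFinite.mem_prime_iff hU] at hb ⊢
    exact fun hbx => hb (((genericPoint_spec X).specializes trivial).mem_open (X.basicOpen b).2 hbx)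
  have h2 := congrArg hU.fromSpec h1
  exact (hU.fromSpec_primeIdealOf ⟨x, hxU⟩).symm.trans (h2.trans (hU.fromSpec_primeIdealOf ⟨_, hξ⟩))

/-- over a neighbourhood a piece is finite. -/
theorem exists_piece (h : CondC f) {A : Y.Opens} (hA : IsAffineOpen A) (hηA : genericPoint Y ∈ A) :
    ∃ (U : X.Opens) (V : Y.Opens) (hUV : U ≤ f ⁻¹ᵁ V), IsAffineOpen U ∧ IsAffineOpen V ∧ genericPoint X ∈ U ∧
      genericPoint Y ∈ V ∧ (f.appLE V U hUV).hom.Finite := by
  obtain ⟨W, hW, hξW, hWA⟩ := exists_isAffineOpen_mem_and_subset (X := X) (x := genericPoint X) (U := f ⁻¹ᵁ A)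
    (show f (genericPoint X) ∈ A by rw [map_generic f]; exact hηA)
  obtain ⟨a, ha, hfin⟩ := GenFinite.exists_finite_piece f hA hηA mem_genericPoints hW hWA
    ((Set.finite_singleton (genericPoint X)).subset fun z hz => h z hz.2)
  refine ⟨X.basicOpen ((f.appLE A W hWA).hom a), Y.basicOpen a, ?_, hW.basicOpen _, hA.basicOpen a, ?_, ha, hfin a dvd_rfl _⟩
  · rw [Scheme.basicOpen_appLE]; exact inf_le_right
  · rw [Scheme.basicOpen_appLE]; exact ⟨hξW, show f (genericPoint X) ∈ _ by rw [map_generic f]; exact ha⟩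

end Groth.Agent.H6.GenFinFF
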