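import Mathlib
import Groth.Agent.Lib.LNoethCat

set_option autoImplicit false
set_option linter.unusedSectionVars false
set_option linter.style.haveILetI false
set_option backward.isDefEq.respectTransparency.types false
universe w u₁ u₂

namespace Groth.Agent.H6GT

open CategoryTheory Limits
open scoped ZeroObject

variable {A : Type u₁} [Category.{w} A] [Abelian A] [HasColimitsOfSize.{w, w} A]
  {B : Type u₂} [Category.{w} B] [Abelian B] [HasColimitsOfSize.{w, w} B]
  {F : A ⥤ B} {G : B ⥤ A} [F.Faithful]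

section
variable [PreservesFiniteLimits F]

theorem ab5 (adj : F ⊣ G) [AB5OfSize.{w, w} B] : AB5OfSize.{w, w} A := by
  haveI := adj.leftAdjoint_preservesColimits
  haveI : ReflectsFiniteLimits F :=
    ⟨fun _ _ _ => reflectsLimitsOfShape_of_reflectsIsomorphisms⟩
  exact ⟨fun J _ _ => HasExactColimitsOfShape.domain_of_functor J F⟩

theorem le_of_map {X : A} {S T : Subobject X}
    (h : Subobject.mk (F.map S.arrow) ≤ Subobject.mk (F.map T.arrow)) : S ≤ T := by
  have hz : S.arrow ≫ cokernel.π T.arrow = 0 := by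
    apply F.map_injective
    rw [F.map_comp, F.map_zero, ← Subobject.ofMkLEMk_comp h, Category.assoc, ← F.map_comp,
      cokernel.condition, F.map_zero, comp_zero]
  exact Subobject.le_of_comm (Abelian.monoLift T.arrow S.arrow hz) (Abelian.monoLift_comp _ _ _)

theorem map_le {X : A} {S T : Subobject X} (h : S ≤ T) :
    Subobject.mk (F.map S.arrow) ≤ Subobject.mk (F.map T.arrow) :=
  Subobject.mk_le_mk_of_comm (F.map (Subobject.ofLE S T h)) (by rw [← F.map_comp, Subobject.ofLE_arrow])

theorem map_injective {X : A} {S T : Subobject X}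
    (h : Subobject.mk (F.map S.arrow) = Subobject.mk (F.map T.arrow)) : S = T :=
  le_antisymm (le_of_map h.le) (le_of_map h.ge)

theorem noeth_of_map {X : A} (h : IsNoetherianObject (F.obj X)) : IsNoetherianObject X := by
  rw [isNoetherianObject_iff_not_strictMono]
  intro f hf
  refine (isNoetherianObject_iff_not_strictMono (F.obj X)).1 h
    (fun n => Subobject.mk (F.map (f n).arrow)) ?_
  intro a b hab
  exact lt_of_le_of_ne (map_le (hf hab).le) fun he => (hf hab).ne (map_injective he)

end

variable {ι : Type w} (s : ι → B)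

/-- iterated biproduct of members of a family -/
noncomputable def N : List ι → B
  | [] => 0
  | i :: l => s i ⊞ N l

theorem noeth_N (hsN : ∀ i, IsNoetherianObject (s i)) : ∀ l : List ι, IsNoetherianObject (N s l)
  | [] => isNoetherianObject_of_isZero (isZero_zero B)
  | i :: l => LNoethCat.noeth_biprod (hsN i) (noeth_N hsN l)

variable {Y : B}

/-- subobject generated by finitely many maps -/
noncomputable def E (S : Finset (Σ i : ι, s i ⟶ Y)) : Subobject Y :=
  S.sup fun p => imageSubobject p.2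

theorem exists_N (S : Finset (Σ i : ι, s i ⟶ Y)) :
    ∃ (l : List ι) (f : N s l ⟶ Y), E s S ≤ imageSubobject f := by
  classical
  induction S using Finset.induction_on with
  | empty => exact ⟨[], 0, by simp [E]⟩
  | @insert p S hp ih =>
    obtain ⟨l, f, hf⟩ := ih
    refine ⟨p.1 :: l, biprod.desc p.2 f, ?_⟩
    show E s (insert p S) ≤ imageSubobject (X := s p.1 ⊞ N s l) (biprod.desc p.2 f)
    rw [E, Finset.sup_insert]
    refine sup_le ?_ (hf.trans ?_)
    · refine imageSubobject_le _ (biprod.inl ≫ factorThruImageSubobject (biprod.desc p.2 f)) ?_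
      rw [Category.assoc, imageSubobject_arrow_comp]
      simp
    · refine imageSubobject_le _ (biprod.inr ≫ factorThruImageSubobject (biprod.desc p.2 f)) ?_
      rw [Category.assoc, imageSubobject_arrow_comp]
      simp

/-- the functor of quotients by the finitely generated pieces -/
noncomputable def Q (Y : B) : Finset (Σ i : ι, s i ⟶ Y) ⥤ B where
  obj S := cokernel (E s S).arrow
  map {S T} h := cokernel.desc _ (cokernel.π _) (by
    rw [← Subobject.ofLE_arrow (show E s S ≤ E s T from Finset.sup_mono (leOfHom h)), Category.assoc,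
      cokernel.condition, comp_zero])
  map_id S := by ext; simp
  map_comp f g := by ext; simp

/-- the projection to the quotient -/
noncomputable def qπ (S : Finset (Σ i : ι, s i ⟶ Y)) : Y ⟶ (Q s Y).obj S := cokernel.π (E s S).arrow

instance (S : Finset (Σ i : ι, s i ⟶ Y)) : Epi (qπ s S) := inferInstanceAs (Epi (cokernel.π _))

theorem qπ_map {S T : Finset (Σ i : ι, s i ⟶ Y)} (h : S ⟶ T) : qπ s S ≫ (Q s Y).map h = qπ s T :=
  cokernel.π_desc _ _ _

theorem arrow_qπ (S : Finset (Σ i : ι, s i ⟶ Y)) : (E s S).arrow ≫ qπ s S = 0 :=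
  cokernel.condition _

theorem isZero_colimit_Q
    (hsep : ∀ ⦃X Y : B⦄ (f g : X ⟶ Y), (∀ (i : ι) (h : s i ⟶ X), h ≫ f = h ≫ g) → f = g)
    (Y : B) : IsZero (colimit (Q s Y)) := by
  classical
  let ρ : Y ⟶ colimit (Q s Y) := qπ s ∅ ≫ colimit.ι (Q s Y) ∅
  have hρ : ∀ S, qπ s S ≫ colimit.ι (Q s Y) S = ρ := fun S => by
    show _ = qπ s ∅ ≫ colimit.ι (Q s Y) ∅
    rw [← colimit.w (Q s Y) (homOfLE (Finset.empty_subset S)), ← Category.assoc, qπ_map]
  have gen : ∀ (S : Finset (Σ i : ι, s i ⟶ Y)) {W : B} (h : W ⟶ Y),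
      imageSubobject h ≤ E s S → h ≫ qπ s S = 0 := by
    intro S W h hle
    rw [← imageSubobject_arrow_comp h, ← Subobject.ofLE_arrow hle, Category.assoc, Category.assoc,
      arrow_qπ, comp_zero, comp_zero]
  have h0 : ρ = 0 := hsep ρ 0 fun i h => by
    rw [comp_zero, ← hρ {⟨i, h⟩}, ← Category.assoc,
      gen _ h (Finset.le_sup (f := fun p : (Σ i : ι, s i ⟶ Y) => imageSubobject p.2) (Finset.mem_singleton_self _)),
      zero_comp]
  rw [IsZero.iff_id_eq_zero]
  apply colimit.hom_ext
  intro S
  rw [comp_zero, Category.comp_id, ← cancel_epi (qπ s S), hρ S, h0, comp_zero]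

/-- `X → G (Y / E S)` -/
noncomputable def uS (adj : F ⊣ G) (X : A) (S : Finset (Σ i : ι, s i ⟶ F.obj X)) :
    X ⟶ G.obj ((Q s (F.obj X)).obj S) :=
  adj.homEquiv _ _ (qπ s S)

theorem jointly_epi [PreservesFiniteLimits F] (adj : F ⊣ G) [AB5OfSize.{w, w} B] [PreservesFilteredColimitsOfSize.{w, w} G]
    (hsep : ∀ ⦃X Y : B⦄ (f g : X ⟶ Y), (∀ (i : ι) (h : s i ⟶ X), h ≫ f = h ≫ g) → f = g)
    {X Z : A} (t : X ⟶ Z) (ht : ∀ S, kernel.ι (uS s adj X S) ≫ t = 0) : t = 0 := by
  classical
  haveI := ab5 adj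
  let J := Finset (Σ i : ι, s i ⟶ F.obj X)
  let u : (Functor.const J).obj X ⟶ Q s (F.obj X) ⋙ G :=
    { app := fun S => uS s adj X S
      naturality := fun S T h => by
        show 𝟙 X ≫ uS s adj X T = uS s adj X S ≫ G.map ((Q s (F.obj X)).map h)
        rw [Category.id_comp]
        simp only [uS]
        rw [← adj.homEquiv_naturality_right]
        rw [qπ_map] }
  have hz : IsZero (colimit (Q s (F.obj X) ⋙ G)) := by
    haveI := adj.isRightAdjoint
    haveI : G.PreservesZeroMorphisms := inferInstance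
    exact (G.map_isZero (isZero_colimit_Q s hsep (F.obj X))).of_iso (preservesColimitIso G _).symm
  let C := ShortComplex.mk (kernel.ι u) u (kernel.condition u)
  have hC : C.Exact := C.exact_of_f_is_kernel (kernelIsKernel u)
  haveI : HasExactColimitsOfShape J A := AB5OfSize.ofShape J
  have hC' := hC.map (colim (J := J) (C := A))
  haveI : Epi (colim.map (kernel.ι u)) := hC'.epi_f (hz.eq_of_tgt _ _)
  let T : colimit ((Functor.const J).obj X) ⟶ Z :=
    colimit.desc _ { pt := Z, ι := { app := fun _ => t } }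
  have hT : T = 0 := by
    rw [← cancel_epi (colim.map (kernel.ι u)), comp_zero]
    apply colimit.hom_ext
    intro S
    rw [comp_zero]
    show colimit.ι _ S ≫ colimMap (kernel.ι u) ≫ T = 0
    rw [ι_colimMap_assoc, colimit.ι_desc]
    have e : ((kernel.ι u).app S) ≫ u.app S = 0 := congrArg (fun η => η.app S) (kernel.condition u)
    show (kernel.ι u).app S ≫ t = 0
    rw [← kernel.lift_ι (uS s adj X S) ((kernel.ι u).app S) e, Category.assoc, ht, comp_zero]
  have := colimit.ι_desc ({ pt := Z, ι := { app := fun _ => t } } : Cocone ((Functor.const J).obj X)) ∅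
  rw [show colimit.desc _ _ = T from rfl, hT, comp_zero] at this
  exact this.symm

/-- unit bound -/
theorem kernel_factors (adj : F ⊣ G) (X : A) (S : Finset (Σ i : ι, s i ⟶ F.obj X)) :
    ∃ φ : F.obj (kernel (uS s adj X S)) ⟶ (E s S : B), φ ≫ (E s S).arrow = F.map (kernel.ι (uS s adj X S)) := by
  have h : F.map (kernel.ι (uS s adj X S)) ≫ qπ s S = 0 := by
    apply (adj.homEquiv _ _).injective
    rw [adj.homEquiv_naturality_left]
    show kernel.ι _ ≫ uS s adj X S = _
    rw [kernel.condition]
    haveI := adj.isRightAdjoint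
    haveI : G.PreservesZeroMorphisms := inferInstance
    simp [Adjunction.homEquiv_unit]
  exact ⟨Abelian.monoLift (E s S).arrow _ h, Abelian.monoLift_comp (E s S).arrow _ h⟩

theorem noeth_E (hsN : ∀ i, IsNoetherianObject (s i)) (S : Finset (Σ i : ι, s i ⟶ Y)) :
    IsNoetherianObject (E s S : B) := by
  obtain ⟨l, f, hf⟩ := exists_N s S
  haveI : IsNoetherianObject (imageSubobject f : B) :=
    LNoethCat.noeth_quot (factorThruImageSubobject f) (noeth_N s hsN l)
  exact isNoetherianObject_of_mono (Subobject.ofLE _ _ hf)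

variable [PreservesFiniteLimits F] [AB5OfSize.{w, w} B] [PreservesFilteredColimitsOfSize.{w, w} G]

theorem noeth_map (adj : F ⊣ G) (hsN : ∀ i, IsNoetherianObject (s i))
    (hsep : ∀ ⦃X Y : B⦄ (f g : X ⟶ Y), (∀ (i : ι) (h : s i ⟶ X), h ≫ f = h ≫ g) → f = g)
    {X : A} (hX : IsNoetherianObject X) : IsNoetherianObject (F.obj X) := by
  classical
  haveI := hX
  obtain ⟨-, ⟨S₀, rfl⟩, hmax⟩ := (wellFounded_gt (α := Subobject X)).has_min
    (Set.range fun S => kernelSubobject (uS s adj X S)) ⟨_, ∅, rfl⟩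
  have mono : ∀ {S T}, S ⊆ T → kernelSubobject (uS s adj X S) ≤ kernelSubobject (uS s adj X T) := by
    intro S T h
    have e : uS s adj X T = uS s adj X S ≫ G.map ((Q s (F.obj X)).map (homOfLE h)) := by
      simp only [uS]
      rw [← adj.homEquiv_naturality_right]
      rw [qπ_map]
    rw [e]
    exact kernelSubobject_comp_le _ _
  have hmem : ∀ S, kernelSubobject (uS s adj X S) ≤ kernelSubobject (uS s adj X S₀) := by
    intro S
    by_contra hne
    refine hmax _ ⟨S ∪ S₀, rfl⟩ (lt_of_le_of_ne (mono Finset.subset_union_right) fun he => hne ?_)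
    exact (mono Finset.subset_union_left).trans he.ge
  have h0 : cokernel.π (kernelSubobject (uS s adj X S₀)).arrow = 0 := by
    refine jointly_epi s adj hsep _ fun S => ?_
    rw [← kernelSubobject_arrow' (uS s adj X S), Category.assoc, ← Subobject.ofLE_arrow (hmem S),
      Category.assoc, cokernel.condition, comp_zero, comp_zero]
  haveI := Abelian.epi_of_cokernel_π_eq_zero _ h0
  have hu : uS s adj X S₀ = 0 := by
    rw [← cancel_epi (kernelSubobject (uS s adj X S₀)).arrow, kernelSubobject_arrow_comp, comp_zero]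
  have hπ : qπ s S₀ = 0 := by
    apply (adj.homEquiv _ _).injective
    rw [show adj.homEquiv _ _ (qπ s S₀) = uS s adj X S₀ from rfl, hu]
    haveI := adj.isRightAdjoint
    haveI : G.PreservesZeroMorphisms := inferInstance
    simp [Adjunction.homEquiv_unit]
  haveI := Abelian.epi_of_cokernel_π_eq_zero (E s S₀).arrow hπ
  exact LNoethCat.noeth_quot (E s S₀).arrow (noeth_E s hsN S₀)

theorem noeth_kernel (adj : F ⊣ G) (hsN : ∀ i, IsNoetherianObject (s i)) (X : A)
    (S : Finset (Σ i : ι, s i ⟶ F.obj X)) : IsNoetherianObject (kernel (uS s adj X S)) := by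
  obtain ⟨φ, hφ⟩ := kernel_factors s adj X S
  haveI : Mono φ := mono_of_mono_fac hφ
  haveI := noeth_E s hsN S
  exact noeth_of_map (isNoetherianObject_of_mono φ)

theorem exists_family (adj : F ⊣ G)
    (hsep : ∀ ⦃X Y : B⦄ (f g : X ⟶ Y), (∀ (i : ι) (h : s i ⟶ X), h ≫ f = h ≫ g) → f = g) :
    ∃ (κ : Type w) (t : κ → A),
      (∀ k, ∃ (X : A) (S : Finset (Σ i : ι, s i ⟶ F.obj X)), Nonempty (t k ≅ kernel (uS s adj X S))) ∧
      ∀ ⦃X Z : A⦄ (f g : X ⟶ Z), (∀ (k : κ) (h : t k ⟶ X), h ≫ f = h ≫ g) → f = g := by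
  classical
  have hs : (ObjectProperty.ofObj s).IsSeparating := fun X Y f g h =>
    hsep f g fun i a => h _ (ObjectProperty.ofObj_apply s i) a
  haveI : LocallySmall.{w} B := inferInstance
  haveI : WellPowered.{w} B := wellPowered_of_isDetecting hs.isDetecting
  haveI : LocallySmall.{w} A := inferInstance
  have hA : ∀ X : A, Small.{w} (Subobject X) := fun X => small_of_injective.{w}
    (f := fun S : Subobject X => Subobject.mk (F.map S.arrow)) fun _ _ h => map_injective h
  haveI : WellPowered.{w} A := @WellPowered.mk A _ _ hA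
  let κ₀ := Σ l : List ι, Σ k : Shrink.{w} (Subobject (N s l)),
    Shrink.{w} (Subobject (G.obj (cokernel ((equivShrink (Subobject (N s l))).symm k).arrow)))
  let t₀ : κ₀ → A := fun x => Subobject.underlying.obj
    ((equivShrink (Subobject (G.obj (cokernel ((equivShrink (Subobject (N s x.1))).symm x.2.1).arrow)))).symm x.2.2)
  refine ⟨{x : κ₀ // ∃ (X : A) (S : Finset (Σ i : ι, s i ⟶ F.obj X)), Nonempty (t₀ x ≅ kernel (uS s adj X S))},
    fun x => t₀ x.1, fun x => x.2, fun X Z f g h => ?_⟩
  rw [← sub_eq_zero]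
  refine jointly_epi s adj hsep _ fun S => ?_
  obtain ⟨l, a, ha⟩ := exists_N s S
  obtain ⟨φ, hφ⟩ := kernel_factors s adj X S
  let K := kernelSubobject a
  let d : cokernel K.arrow ⟶ F.obj X := cokernel.desc _ a (kernelSubobject_arrow_comp a)
  haveI : Mono d := by
    have hex : (ShortComplex.mk K.arrow a (kernelSubobject_arrow_comp a)).Exact := by
      rw [ShortComplex.exact_iff_kernel_ι_comp_cokernel_π_zero]
      show kernel.ι a ≫ cokernel.π K.arrow = 0
      rw [← kernelSubobject_arrow' a, Category.assoc, cokernel.condition, comp_zero]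
    exact hex.mono_cokernelDesc
  obtain ⟨ψ, hψ⟩ : ∃ ψ : F.obj (kernel (uS s adj X S)) ⟶ cokernel K.arrow,
      ψ ≫ d = F.map (kernel.ι (uS s adj X S)) := by
    have hle : E s S ≤ Subobject.mk d := ha.trans (imageSubobject_le _
      (cokernel.π K.arrow ≫ (Subobject.underlyingIso d).inv) (by
        rw [Category.assoc, Subobject.underlyingIso_arrow]
        exact cokernel.π_desc _ _ _))
    exact ⟨φ ≫ Subobject.ofLEMk _ _ hle, by rw [Category.assoc, Subobject.ofLEMk_comp, hφ]⟩
  haveI : Mono (adj.homEquiv _ _ ψ) := by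
    have e : adj.homEquiv _ _ ψ ≫ G.map d = kernel.ι (uS s adj X S) ≫ adj.unit.app X := by
      rw [← adj.homEquiv_naturality_right, hψ, Adjunction.homEquiv_unit]
      exact (adj.unit.naturality _).symm
    haveI : Mono (adj.unit.app X) := adj.unit_mono_of_L_faithful X
    exact mono_of_mono_fac e
  let k := equivShrink (Subobject (N s l)) K
  have hk : cokernel ((equivShrink (Subobject (N s l))).symm k).arrow = cokernel K.arrow := by
    exact congrArg (fun T : Subobject (N s l) => cokernel T.arrow) (Equiv.symm_apply_apply _ K)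
  let m : kernel (uS s adj X S) ⟶ G.obj (cokernel ((equivShrink (Subobject (N s l))).symm k).arrow) :=
    adj.homEquiv _ _ ψ ≫ eqToHom (congrArg G.obj hk.symm)
  haveI : Mono m := mono_comp _ _
  let x : κ₀ := ⟨l, k, equivShrink _ (Subobject.mk m)⟩
  have e : Nonempty (t₀ x ≅ kernel (uS s adj X S)) := by
    simp only [t₀, x, Equiv.symm_apply_apply]
    exact ⟨Subobject.underlyingIso m⟩
  obtain ⟨e⟩ := e
  have h2 := h ⟨x, X, S, ⟨e⟩⟩ (e.hom ≫ kernel.ι _)
  simp only [Category.assoc, cancel_epi] at h2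
  rw [Preadditive.comp_sub, h2, sub_self]

end Groth.Agent.H6GT
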