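import Groth.Prelude.Def_HTop
import Mathlib.AlgebraicGeometry.ValuativeCriterion
import Mathlib.AlgebraicGeometry.Cover.QuasiCompact
import Mathlib.AlgebraicGeometry.Sites.Fpqc
import Mathlib.AlgebraicGeometry.Morphisms.UniversallyOpen

set_option linter.all false
set_option autoImplicit false
set_option backward.isDefEq.respectTransparency.types false

/-! V coverings: lifting criterion and stability. -/

namespace Groth.Agent.H6.HTopV

universe w w' w'' u

open CategoryTheory CategoryTheory.Limits AlgebraicGeometry IsLocalRing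

/-- the closed point of a valuation spectrum -/
noncomputable def cl (V : CommRingCat.{u}) [IsDomain V] [ValuationRing V] : Spec V :=
  IsLocalRing.closedPoint V

/-- the generic point of a valuation spectrum -/
def gn (V : CommRingCat.{u}) [IsDomain V] : Spec V := (⟨⊥, Ideal.isPrime_bot⟩ : PrimeSpectrum V)

theorem gn_spec (V : CommRingCat.{u}) [IsDomain V] (p : Spec V) : gn V ⤳ p :=
  (PrimeSpectrum.le_iff_specializes (gn V : PrimeSpectrum V) p).1 (bot_le)

theorem spec_cl (V : CommRingCat.{u}) [IsDomain V] [ValuationRing V] (p : Spec V) : p ⤳ cl V :=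
  IsLocalRing.specializes_closedPoint _

theorem range_le {V : CommRingCat.{u}} [IsDomain V] [ValuationRing V] {T : Scheme.{u}} (g : Spec V ⟶ T)
    (U : T.Opens) (h : g.base (cl V) ∈ U) : Set.range g.base ⊆ (U : Set T) := by
  rintro _ ⟨p, rfl⟩
  exact ((spec_cl V p).map g.continuous).mem_open U.2 h

theorem exists_val {P : Scheme.{u}} {w' w : P} (h : w' ⤳ w) :
    ∃ (W : CommRingCat.{u}) (_ : IsDomain W) (_ : ValuationRing W) (q : Spec W ⟶ P),
      q.base (gn W) = w' ∧ q.base (cl W) = w := by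
  let s : P.presheaf.stalk w ⟶ P.residueField w' := P.presheaf.stalkSpecializes h ≫ P.residue w'
  obtain ⟨A, hA, hA'⟩ := exists_factor_valuationRing s.hom
  let k : P.presheaf.stalk w ⟶ CommRingCat.of A := CommRingCat.ofHom (s.hom.codRestrict _ hA)
  refine ⟨CommRingCat.of A, inferInstanceAs (IsDomain A), inferInstanceAs (ValuationRing A),
    Spec.map k ≫ P.fromSpecStalk w, ?_, ?_⟩
  · have e : Spec.map (CommRingCat.ofHom A.subtype : CommRingCat.of A ⟶ P.residueField w') ≫ Spec.map k ≫ P.fromSpecStalk w =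
        P.fromSpecResidueField w' := by
      rw [Scheme.fromSpecResidueField, ← Scheme.SpecMap_stalkSpecializes_fromSpecStalk h,
        ← Category.assoc, ← Spec.map_comp, ← Category.assoc, ← Spec.map_comp]
      rfl
    let z : Spec (P.residueField w') := (⟨⊥, Ideal.isPrime_bot⟩ : PrimeSpectrum (P.residueField w'))
    have e' := congrArg (fun f : Spec (P.residueField w') ⟶ P => f.base z) e
    have hd : (Spec.map (CommRingCat.ofHom A.subtype : CommRingCat.of A ⟶ P.residueField w')).base z =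
        gn (CommRingCat.of A) :=
      PrimeSpectrum.ext (Ideal.comap_bot_of_injective A.subtype Subtype.val_injective)
    simp only [Scheme.fromSpecResidueField_apply] at e'
    exact (congrArg (Spec.map k ≫ P.fromSpecStalk w).base hd).symm.trans e'
  · have : (Spec.map k).base (cl (CommRingCat.of A)) = closedPoint (P.presheaf.stalk w) :=
      comap_closedPoint (S := A) (s.hom.codRestrict A.toSubring hA)
    rw [Scheme.Hom.comp_apply, this, Scheme.fromSpecStalk_closedPoint]

theorem extVal_points {V W : CommRingCat.{u}} [IsDomain V] [ValuationRing V] [IsDomain W] [ValuationRing W]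
    {φ : V ⟶ W} (h : HTop.IsExtVal V W φ) :
    (Spec.map φ).base (gn W) = gn V ∧ (Spec.map φ).base (cl W) = cl V := by
  haveI := h.2
  exact ⟨PrimeSpectrum.ext (Ideal.comap_bot_of_injective φ.hom h.1), comap_closedPoint φ.hom⟩

theorem extVal_of_points {V W : CommRingCat.{u}} [IsDomain V] [ValuationRing V] [IsDomain W] [ValuationRing W]
    {φ : V ⟶ W} (h₁ : (Spec.map φ).base (gn W) = gn V) (h₂ : (Spec.map φ).base (cl W) = cl V) :
    HTop.IsExtVal V W φ := by
  refine ⟨(RingHom.injective_iff_ker_eq_bot φ.hom).2 (congrArg PrimeSpectrum.asIdeal h₁), ?_⟩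
  exact ((local_hom_TFAE φ.hom).out 4 0).1 (congrArg PrimeSpectrum.asIdeal h₂)

theorem extVal_comp {U V W : CommRingCat.{u}} [IsDomain U] [ValuationRing U] [IsDomain V] [ValuationRing V]
    [IsDomain W] [ValuationRing W] {φ : U ⟶ V} {ψ : V ⟶ W} (h : HTop.IsExtVal U V φ) (h' : HTop.IsExtVal V W ψ) :
    HTop.IsExtVal U W (φ ≫ ψ) := by
  haveI := h.2
  haveI := h'.2
  exact ⟨h'.1.comp h.1, RingHom.isLocalHom_comp ψ.hom φ.hom⟩

variable {T : Scheme.{u}}

theorem valLift_of_points (E : PreZeroHypercover.{w} T)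
    (h : ∀ (V : CommRingCat.{u}) [IsDomain V] [ValuationRing V] (g : Spec V ⟶ T),
      ∃ (j : E.I₀) (w' w : ↑(pullback g (E.f j))), w' ⤳ w ∧
        (pullback.fst g (E.f j)).base w' = gn V ∧ (pullback.fst g (E.f j)).base w = cl V) :
    HTop.HasValLift E := by
  intro V _ _ g
  obtain ⟨j, w', w, hs, h1, h2⟩ := h V g
  obtain ⟨W, _, _, q, hq1, hq2⟩ := exists_val hs
  refine ⟨W, inferInstance, inferInstance, Spec.preimage (q ≫ pullback.fst g (E.f j)), extVal_of_points ?_ ?_, j,
    q ≫ pullback.snd g (E.f j), ?_⟩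
  · rw [Spec.map_preimage, Scheme.Hom.comp_apply, hq1, h1]
  · rw [Spec.map_preimage, Scheme.Hom.comp_apply, hq2, h2]
  · rw [Spec.map_preimage, Category.assoc, Category.assoc, pullback.condition]

theorem points_of_valLift {E : PreZeroHypercover.{w} T} (h : HTop.HasValLift E) {Z : Scheme.{u}} (g : Z ⟶ T)
    {z' z : Z} (hz : z' ⤳ z) : ∃ (j : E.I₀) (w' w : ↑(pullback g (E.f j))), w' ⤳ w ∧
      (pullback.fst g (E.f j)).base w' = z' ∧ (pullback.fst g (E.f j)).base w = z := by
  obtain ⟨V, _, _, q, hq1, hq2⟩ := exists_val hz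
  obtain ⟨W, _, _, φ, hφ, j, g', hg'⟩ := h V (q ≫ g)
  let l : Spec W ⟶ pullback g (E.f j) := pullback.lift (Spec.map φ ≫ q) g' (by rw [Category.assoc, hg'])
  obtain ⟨e1, e2⟩ := extVal_points hφ
  refine ⟨j, l.base (gn W), l.base (cl W), (gn_spec W _).map l.continuous, ?_, ?_⟩
  · rw [← Scheme.Hom.comp_apply, pullback.lift_fst, Scheme.Hom.comp_apply, e1, hq1]
  · rw [← Scheme.Hom.comp_apply, pullback.lift_fst, Scheme.Hom.comp_apply, e2, hq2]

theorem surj_of_valLift {E : PreZeroHypercover.{w} T} (h : HTop.HasValLift E) (t : T) :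
    ∃ (j : E.I₀) (x : E.X j), (E.f j).base x = t := by
  obtain ⟨j, w', w, -, -, hw⟩ := points_of_valLift h (𝟙 T) (specializes_rfl (x := t))
  refine ⟨j, (pullback.snd (𝟙 T) (E.f j)).base w, ?_⟩
  rw [← Scheme.Hom.comp_apply, ← pullback.condition, Category.comp_id, hw]

theorem valLift_pullback {T' : Scheme.{u}} (g : T' ⟶ T) {E : PreZeroHypercover.{w} T} (h : HTop.HasValLift E) :
    HTop.HasValLift (E.pullback₁ g) := by
  intro V _ _ k
  obtain ⟨W, _, _, φ, hφ, j, g', hg'⟩ := h V (k ≫ g)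
  exact ⟨W, inferInstance, inferInstance, φ, hφ, j, pullback.lift (Spec.map φ ≫ k) g' (by rw [Category.assoc, hg']),
    pullback.lift_fst _ _ _⟩

theorem valLift_bind {E : PreZeroHypercover.{w} T} {F : ∀ j, PreZeroHypercover.{w'} (E.X j)}
    (h : HTop.HasValLift E) (hF : ∀ j, HTop.HasValLift (F j)) : HTop.HasValLift (E.bind F) := by
  intro V _ _ g
  obtain ⟨W, _, _, φ, hφ, j, g', hg'⟩ := h V g
  obtain ⟨W', _, _, ψ, hψ, i, g'', hg''⟩ := hF j W g'
  refine ⟨W', inferInstance, inferInstance, φ ≫ ψ, extVal_comp hφ hψ, ⟨j, i⟩, g'', ?_⟩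
  change g'' ≫ (F j).f i ≫ E.f j = _
  rw [← Category.assoc, hg'', Category.assoc, hg', Spec.map_comp, Category.assoc]

theorem valLift_hom {E : PreZeroHypercover.{w} T} {F : PreZeroHypercover.{w'} T} (h : HTop.HasValLift F)
    (hr : ∀ j, ∃ (i : E.I₀) (k : F.X j ⟶ E.X i), k ≫ E.f i = F.f j) : HTop.HasValLift E := by
  intro V _ _ g
  obtain ⟨W, _, _, φ, hφ, j, g', hg'⟩ := h V g
  obtain ⟨i, k, hk⟩ := hr j
  exact ⟨W, inferInstance, inferInstance, φ, hφ, i, g' ≫ k, by rw [Category.assoc, hk, hg']⟩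

theorem valLift_reindex {E : PreZeroHypercover.{w} T} {ι : Type w'} (e : ι ≃ E.I₀) (h : HTop.HasValLift E) :
    HTop.HasValLift (E.restrictIndex e) :=
  valLift_hom h fun j => by
    obtain ⟨i, rfl⟩ := e.surjective j
    exact ⟨i, 𝟙 _, Category.id_comp _⟩

/-- a finite affine open cover is standard -/
theorem standardV_opens [IsAffine T] {ι : Type w} [Finite ι] (U : ι → T.Opens) (hU : ∀ i, IsAffineOpen (U i))
    (hcov : ⨆ i, U i = ⊤) :
    HTop.IsStandardV (⟨ι, fun i => (U i).toScheme, fun i => (U i).ι⟩ : PreZeroHypercover.{w} T) where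
  isAffine := ‹_›
  finite_index := ‹Finite ι›
  isAffine_obj i := hU i
  lift := fun V _ _ g => by
    obtain ⟨i, hi⟩ := TopologicalSpace.Opens.mem_iSup.1
      (show g.base (cl V) ∈ ⨆ i, U i from hcov ▸ trivial)
    refine ⟨V, inferInstance, inferInstance, 𝟙 V, ⟨fun _ _ h => h, isLocalHom_id _⟩, i,
      IsOpenImmersion.lift (U i).ι g ((range_le g (U i) hi).trans_eq (Scheme.Opens.range_ι _).symm), ?_⟩
    change IsOpenImmersion.lift _ _ _ ≫ (U i).ι = _
    rw [IsOpenImmersion.lift_fac, Spec.map_id, Category.id_comp]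

theorem standardV_pullback {T' : Scheme.{u}} [IsAffine T'] (g : T' ⟶ T) {E : PreZeroHypercover.{w} T}
    (h : HTop.IsStandardV E) : HTop.IsStandardV (E.pullback₁ g) where
  isAffine := ‹_›
  finite_index := h.finite_index
  isAffine_obj j := by
    haveI := h.isAffine
    haveI := h.isAffine_obj j
    change IsAffine (pullback g (E.f j))
    infer_instance
  lift := valLift_pullback g h.lift

theorem standardV_bind {E : PreZeroHypercover.{w} T} {F : ∀ j, PreZeroHypercover.{w'} (E.X j)}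
    (h : HTop.IsStandardV E) (hF : ∀ j, HTop.IsStandardV (F j)) : HTop.IsStandardV (E.bind F) where
  isAffine := h.isAffine
  finite_index := by
    haveI := h.finite_index
    haveI := fun j => (hF j).finite_index
    exact inferInstanceAs (Finite (Σ j, (F j).I₀))
  isAffine_obj ij := (hF ij.1).isAffine_obj ij.2
  lift := valLift_bind h.lift fun j => (hF j).lift

theorem exists_small {U : Scheme.{u}} {F : PreZeroHypercover.{w'} U} (hF : HTop.IsStandardV F) (g : U ⟶ T)
    {E : PreZeroHypercover.{w} T} (hr : HTop.RefinesOver g F E) :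
    ∃ F₀ : PreZeroHypercover.{0} U, HTop.IsStandardV F₀ ∧ HTop.RefinesOver g F₀ E := by
  haveI := hF.finite_index
  obtain ⟨n, ⟨e⟩⟩ := Finite.exists_equiv_fin F.I₀
  exact ⟨F.restrictIndex e.symm,
    ⟨hF.isAffine, inferInstanceAs (Finite (Fin n)), fun j => hF.isAffine_obj _, valLift_reindex e.symm hF.lift⟩,
    fun j => hr (e.symm j)⟩

theorem exists_refining {E : PreZeroHypercover.{w} T} (hE : HTop.IsVCover E) {U : Scheme.{u}} [IsAffine U]
    (g : U ⟶ T) : ∃ F : PreZeroHypercover.{0} U, HTop.IsStandardV F ∧ HTop.RefinesOver g F E := by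
  classical
  have key : ∀ x : U, ∃ (W : U.Opens) (S : T.affineOpens), IsAffineOpen W ∧ x ∈ W ∧ W ≤ g ⁻¹ᵁ S.1 := fun x => by
    obtain ⟨_, ⟨S, hS, rfl⟩, hx, -⟩ := T.isBasis_affineOpens.exists_subset_of_mem_open
      (Set.mem_univ (g.base x)) isOpen_univ
    obtain ⟨_, ⟨W, hW, rfl⟩, hxW, hle⟩ := U.isBasis_affineOpens.exists_subset_of_mem_open
      (show x ∈ ((g ⁻¹ᵁ S : U.Opens) : Set U) from hx) (g ⁻¹ᵁ S).2
    exact ⟨W, ⟨S, hS⟩, hW, hxW, hle⟩
  choose W S hW hxW hWS using key
  obtain ⟨s, hs⟩ := isCompact_univ.elim_finite_subcover (fun x : U => (W x : Set U)) (fun x => (W x).2)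
    fun x _ => Set.mem_iUnion.2 ⟨x, hxW x⟩
  have hcov : ⨆ x : s, W x.1 = ⊤ := eq_top_iff.2 fun y _ => by
    obtain ⟨x, hx, hy⟩ := Set.mem_iUnion₂.1 (hs (Set.mem_univ y))
    exact TopologicalSpace.Opens.mem_iSup.2 ⟨⟨x, hx⟩, hy⟩
  choose F hF hFr using fun x : U => hE (S x)
  let k : ∀ x : s, (W x.1).toScheme ⟶ ((S x.1 : T.Opens) : Scheme.{u}) := fun x =>
    g.resLE _ _ (hWS x.1)
  haveI : ∀ x : s, IsAffine (W x.1).toScheme := fun x => hW x.1
  have h1 := standardV_opens (fun x : s => W x.1) (fun x => hW x.1) hcov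
  have h2 := standardV_bind h1 (F := fun x : s => (F x.1).pullback₁ (k x))
    fun x => standardV_pullback (k x) (hF x.1)
  refine exists_small h2 g fun ⟨x, j⟩ => ?_
  obtain ⟨i, h, hh⟩ := hFr x.1 j
  refine ⟨i, pullback.snd (k x) ((F x.1).f j) ≫ h, ?_⟩
  change (pullback.snd (k x) ((F x.1).f j) ≫ h) ≫ E.f i = (pullback.fst (k x) ((F x.1).f j) ≫ (W x.1).ι) ≫ g
  rw [Category.assoc, hh, ← Category.assoc, ← pullback.condition, Category.assoc, Category.assoc]
  simp [k]

theorem vCover_pullback {T' : Scheme.{u}} (g : T' ⟶ T) {E : PreZeroHypercover.{w} T} (hE : HTop.IsVCover E) :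
    HTop.IsVCover (E.pullback₁ g) := by
  intro U
  haveI : IsAffine (U : T'.Opens).toScheme := U.2
  obtain ⟨F, hF, hr⟩ := exists_refining hE ((U : T'.Opens).ι ≫ g)
  refine ⟨F, hF, fun j => ?_⟩
  obtain ⟨i, h, hh⟩ := hr j
  exact ⟨i, pullback.lift (F.f j ≫ (U : T'.Opens).ι) h (by rw [Category.assoc, hh]), pullback.lift_fst _ _ _⟩

theorem vCover_bind {E : PreZeroHypercover.{w} T} (hE : HTop.IsVCover E)
    {F : ∀ i, PreZeroHypercover.{w'} (E.X i)} (hF : ∀ i, HTop.IsVCover (F i)) : HTop.IsVCover (E.bind F) := by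
  intro U
  obtain ⟨G, hG, hr⟩ := hE U
  choose i h hh using hr
  haveI := hG.isAffine_obj
  choose H hH hHr using fun j => exists_refining (hF (i j)) (h j)
  refine exists_small (standardV_bind hG hH) _ fun ⟨j, m⟩ => ?_
  obtain ⟨l, k, hk⟩ := hHr j m
  refine ⟨⟨i j, l⟩, k, ?_⟩
  change k ≫ (F (i j)).f l ≫ E.f (i j) = ((H j).f m ≫ G.f j) ≫ _
  rw [← Category.assoc, hk, Category.assoc, hh, Category.assoc]

theorem valLift_of_vCover {E : PreZeroHypercover.{w} T} (hE : HTop.IsVCover E) : HTop.HasValLift E := by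
  intro V _ _ g
  obtain ⟨_, ⟨S, hS, rfl⟩, hx, -⟩ := T.isBasis_affineOpens.exists_subset_of_mem_open
    (Set.mem_univ (g.base (cl V))) isOpen_univ
  let U : T.affineOpens := ⟨S, hS⟩
  obtain ⟨F, hF, hr⟩ := hE U
  let g₀ := IsOpenImmersion.lift (Scheme.Opens.ι S) g ((range_le g S hx).trans_eq (Scheme.Opens.range_ι _).symm)
  obtain ⟨W, _, _, φ, hφ, j, g', hg'⟩ := hF.lift V g₀
  obtain ⟨i, h, hh⟩ := hr j
  refine ⟨W, inferInstance, inferInstance, φ, hφ, i, g' ≫ h, ?_⟩
  rw [Category.assoc, hh, ← Category.assoc, hg', Category.assoc]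
  exact congrArg (Spec.map φ ≫ ·) (IsOpenImmersion.lift_fac _ _ _)

theorem vCover_of_standardV {E : PreZeroHypercover.{w} T} (hE : HTop.IsStandardV E) : HTop.IsVCover E := by
  intro U
  haveI : IsAffine (U : T.Opens).toScheme := U.2
  refine exists_small (standardV_pullback (U : T.Opens).ι hE) _ fun j => ?_
  exact ⟨j, pullback.snd _ _, pullback.condition.symm⟩

theorem valLift_flat (E : PreZeroHypercover.{w} T) (hflat : ∀ j, Flat (E.f j))
    (hsurj : ∀ t : T, ∃ (j : E.I₀) (x : E.X j), (E.f j).base x = t) : HTop.HasValLift E := by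
  refine valLift_of_points E fun V _ _ g => ?_
  obtain ⟨j, x, hx⟩ := hsurj (g.base (cl V))
  obtain ⟨w, hw, -⟩ := Scheme.Pullback.exists_preimage_pullback (f := g) (g := E.f j) (cl V) x hx.symm
  haveI := hflat j
  obtain ⟨w', hw', hw'1⟩ := Flat.generalizingMap (pullback.fst g (E.f j))
    (show gn V ⤳ (pullback.fst g (E.f j)).base w by rw [hw]; exact gn_spec V _)
  exact ⟨j, w', w, hw', hw'1, hw⟩

theorem valLift_proper (E : PreZeroHypercover.{w} T) {U : Scheme.{u}} (f : U ⟶ T) [UniversallyClosed f]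
    [Surjective f] (ι : ∀ j, E.X j ⟶ U) [∀ j, IsOpenImmersion (ι j)] (hι : ∀ j, ι j ≫ f = E.f j)
    (hcov : ∀ x : U, ∃ j, x ∈ Set.range (ι j).base) : HTop.HasValLift E := by
  intro V _ _ g
  obtain ⟨w', hw'⟩ := (pullback.fst g f).surjective (gn V)
  obtain ⟨w, hs, hw⟩ := ((pullback.fst g f).isClosedMap).specializingMap
    (show (pullback.fst g f).base w' ⤳ cl V by rw [hw']; exact spec_cl V _)
  obtain ⟨W, _, _, q, hq1, hq2⟩ := exists_val hs
  obtain ⟨j, hj⟩ := hcov ((q ≫ pullback.snd g f).base (cl W))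
  let g' := IsOpenImmersion.lift (ι j) (q ≫ pullback.snd g f)
    (range_le _ (ι j).opensRange hj)
  refine ⟨W, inferInstance, inferInstance, Spec.preimage (q ≫ pullback.fst g f), extVal_of_points ?_ ?_, j, g', ?_⟩
  · rw [Spec.map_preimage, Scheme.Hom.comp_apply, hq1, hw']
  · rw [Spec.map_preimage, Scheme.Hom.comp_apply, hq2, hw]
  · rw [Spec.map_preimage, ← hι, ← Category.assoc, IsOpenImmersion.lift_fac, Category.assoc, Category.assoc,
      pullback.condition]

theorem standardV_of_ph {E : PreZeroHypercover.{w} T} (hE : HTop.IsStandardPh E) : HTop.IsStandardV E where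
  isAffine := hE.isAffine
  finite_index := hE.finite_index
  isAffine_obj := hE.isAffine_obj
  lift := by
    obtain ⟨U, f, ι, hp, hs, ho, he, hc⟩ := hE.exists_proper
    haveI := hp
    haveI := hs
    haveI := ho
    exact valLift_proper E f ι he hc

theorem vCover_of_qc {X Y : Scheme.{u}} (f : X ⟶ Y) [QuasiCompact f]
    (h : HTop.HasValLift (PreZeroHypercover.singleton.{w} f)) :
    HTop.IsVCover (PreZeroHypercover.singleton.{w} f) := by
  classical
  intro U
  haveI : IsAffine (U : Y.Opens).toScheme := U.2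
  let P := pullback (U : Y.Opens).ι f
  haveI : CompactSpace P := QuasiCompact.compactSpace_of_compactSpace (pullback.fst (U : Y.Opens).ι f)
  let 𝒰 := P.affineCover.finiteSubcover
  let F : PreZeroHypercover.{u} (U : Y.Opens).toScheme :=
    ⟨𝒰.I₀, fun j => 𝒰.X j, fun j => 𝒰.f j ≫ pullback.fst (U : Y.Opens).ι f⟩
  have hF : HTop.IsStandardV F :=
    { isAffine := U.2
      finite_index := inferInstanceAs (Finite 𝒰.I₀)
      isAffine_obj := fun j => inferInstanceAs (IsAffine (P.affineCover.X _))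
      lift := fun V _ _ g => by
        obtain ⟨W, _, _, φ, hφ, _, g', hg'⟩ := h V (g ≫ (U : Y.Opens).ι)
        let l : Spec W ⟶ P := pullback.lift (Spec.map φ ≫ g) g' (by rw [Category.assoc]; exact hg'.symm)
        obtain ⟨j, hj⟩ := (𝒰.exists_eq (l.base (cl W)) : _)
        refine ⟨W, inferInstance, inferInstance, φ, hφ, j, IsOpenImmersion.lift (𝒰.f j) l
          (range_le l (𝒰.f j).opensRange hj), ?_⟩
        change IsOpenImmersion.lift _ _ _ ≫ 𝒰.f j ≫ pullback.fst _ _ = _
        rw [← Category.assoc, IsOpenImmersion.lift_fac, pullback.lift_fst] }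
  refine exists_small hF _ fun j => ⟨⟨⟩, 𝒰.f j ≫ pullback.snd _ _, ?_⟩
  change (𝒰.f j ≫ pullback.snd _ _) ≫ f = (𝒰.f j ≫ pullback.fst _ _) ≫ _
  rw [Category.assoc, Category.assoc, pullback.condition]

end Groth.Agent.H6.HTopV
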