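import Groth.Agent.Lib.H6.HTopV
import Groth.Prelude.Def_SGA1
import Mathlib.AlgebraicGeometry.Limits
import Mathlib.AlgebraicGeometry.Morphisms.QuasiCompact

set_option linter.all false
set_option autoImplicit false
set_option backward.isDefEq.respectTransparency.types false

namespace Groth.Agent.H6.HTopV

universe w w' u

open CategoryTheory CategoryTheory.Limits AlgebraicGeometry

variable {T : Scheme.{u}}

theorem vCover_of_hom {E : PreZeroHypercover.{w} T} {E' : PreZeroHypercover.{w'} T} (h : HTop.IsVCover E)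
    (φ : ∀ i, ∃ (j : E'.I₀) (k : E.X i ⟶ E'.X j), k ≫ E'.f j = E.f i) : HTop.IsVCover E' := fun U => by
  obtain ⟨F, hF, hr⟩ := h U
  refine ⟨F, hF, fun m => ?_⟩
  obtain ⟨i, k, hk⟩ := hr m
  obtain ⟨j, l, hl⟩ := φ i
  exact ⟨j, k ≫ l, by rw [Category.assoc, hl, hk]⟩

theorem vCover_sigma_iff (E : PreZeroHypercover.{u} T) :
    HTop.IsVCover E ↔ HTop.IsVCover (PreZeroHypercover.singleton.{0} (Sigma.desc E.f)) := by
  classical
  refine ⟨fun h => vCover_of_hom h fun i => ⟨⟨⟩, Sigma.ι E.X i, Sigma.ι_desc _ _⟩, fun h U => ?_⟩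
  obtain ⟨F, hF, hr⟩ := h U
  choose i₀ k hk using hr
  haveI := hF.finite_index
  have key : ∀ m, ∃ G : PreZeroHypercover.{0} (F.X m), HTop.IsStandardV G ∧
      ∀ l, ∃ (i : E.I₀) (a : G.X l ⟶ E.X i), a ≫ Sigma.ι E.X i = G.f l ≫ k m := fun m => by
    haveI : IsAffine (F.X m) := hF.isAffine_obj m
    have hc : ∀ x : F.X m, ∃ (i : E.I₀) (V : (F.X m).Opens), IsAffineOpen V ∧ x ∈ V ∧
        V ≤ k m ⁻¹ᵁ (Sigma.ι E.X i).opensRange := fun x => by
      obtain ⟨i, y, hy⟩ := (sigmaOpenCover E.X).exists_eq ((k m).base x)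
      obtain ⟨_, ⟨V, hV, rfl⟩, hx, hle⟩ := (F.X m).isBasis_affineOpens.exists_subset_of_mem_open
        (show x ∈ ((k m ⁻¹ᵁ (Sigma.ι E.X i).opensRange : (F.X m).Opens) : Set (F.X m)) from ⟨y, hy⟩)
        (k m ⁻¹ᵁ (Sigma.ι E.X i).opensRange).2
      exact ⟨i, V, hV, hx, hle⟩
    choose i V hV hx hle using hc
    obtain ⟨s, hs⟩ := isCompact_univ.elim_finite_subcover (fun x => (V x : Set (F.X m))) (fun x => (V x).2)
      fun x _ => Set.mem_iUnion.2 ⟨x, hx x⟩
    have hcov : ⨆ x : s, V x.1 = ⊤ := eq_top_iff.2 fun y _ => by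
      obtain ⟨x, hxs, hy⟩ := Set.mem_iUnion₂.1 (hs (Set.mem_univ y))
      exact TopologicalSpace.Opens.mem_iSup.2 ⟨⟨x, hxs⟩, hy⟩
    let H : PreZeroHypercover.{u} (F.X m) := ⟨(s : Type u), fun x => (V x.1).toScheme, fun x => (V x.1).ι⟩
    have h1 : HTop.IsStandardV H := standardV_opens (fun x : s => V x.1) (fun x => hV x.1) hcov
    obtain ⟨n, ⟨e⟩⟩ := Finite.exists_equiv_fin (s : Type u)
    refine ⟨PreZeroHypercover.restrictIndex H e.symm,
      ⟨h1.isAffine, inferInstanceAs (Finite (Fin n)), fun l => h1.isAffine_obj _, valLift_reindex e.symm h1.lift⟩,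
      fun l => ⟨i (e.symm l).1, IsOpenImmersion.lift (Sigma.ι E.X (i (e.symm l).1)) ((V (e.symm l).1).ι ≫ k m) ?_,
        IsOpenImmersion.lift_fac _ _ _⟩⟩
    rintro _ ⟨z, rfl⟩
    exact hle _ z.2
  choose G hG hGr using key
  refine exists_small (standardV_bind hF hG) _ fun ⟨m, l⟩ => ?_
  obtain ⟨i, a, ha⟩ := hGr m l
  refine ⟨i, a, ?_⟩
  change a ≫ E.f i = ((G m).f l ≫ F.f m) ≫ _
  exact (congrArg (a ≫ ·) (Sigma.ι_desc _ i).symm).trans ((Category.assoc _ _ _).symm.trans
    ((congrArg (· ≫ Sigma.desc E.f) ha).trans ((Category.assoc _ _ _).trans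
      ((congrArg ((G m).f l ≫ ·) (hk m)).trans (Category.assoc _ _ _).symm))))

theorem vCover_qc (E : PreZeroHypercover.{w} T) [QuasiCompactCover E] (hflat : ∀ i, Flat (E.f i)) :
    HTop.IsVCover E := fun U => by
  haveI : IsAffine (U : T.Opens).toScheme := U.2
  obtain ⟨n, a, V, hV, heq⟩ := QuasiCompactCover.exists_isAffineOpen_of_isCompact E U.2.isCompact
  have hle : ∀ j, V j ≤ E.f (a j) ⁻¹ᵁ (U : T.Opens) := fun j x hx => by
    show (E.f (a j)).base x ∈ ((U : T.Opens) : Set T)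
    rw [← heq]
    exact Set.mem_iUnion.2 ⟨j, x, hx, rfl⟩
  let F : PreZeroHypercover.{0} (U : T.Opens).toScheme :=
    ⟨Fin n, fun j => (V j).toScheme, fun j => (E.f (a j)).resLE _ _ (hle j)⟩
  refine ⟨F, ⟨U.2, inferInstanceAs (Finite (Fin n)), fun j => hV j, valLift_flat F (fun j => ?_) fun t => ?_⟩,
    fun j => ⟨a j, (V j).ι, ?_⟩⟩
  · haveI := hflat (a j)
    have hf : Flat (F.f j ≫ (U : T.Opens).ι) := by
      change Flat ((E.f (a j)).resLE _ _ (hle j) ≫ (U : T.Opens).ι)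
      rw [Scheme.Hom.resLE_comp_ι]
      infer_instance
    exact MorphismProperty.of_postcomp (W := @Flat) (W' := @IsOpenImmersion) (F.f j) (U : T.Opens).ι
      inferInstance hf
  · have ht : t.1 ∈ ((U : T.Opens) : Set T) := t.2
    rw [← heq] at ht
    obtain ⟨j, x, hx, e⟩ := Set.mem_iUnion.1 ht
    refine ⟨j, ⟨x, hx⟩, (U : T.Opens).ι.isEmbedding.injective ?_⟩
    change ((E.f (a j)).resLE _ _ (hle j) ≫ (U : T.Opens).ι).base ⟨x, hx⟩ = t.1
    rw [Scheme.Hom.resLE_comp_ι]
    exact e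
  · change (V j).ι ≫ E.f (a j) = (E.f (a j)).resLE _ _ (hle j) ≫ _
    rw [Scheme.Hom.resLE_comp_ι]

theorem isClosed_image {R U : Scheme.{u}} [IsAffine R] [IsAffine U] (f : R ⟶ U) {C : Set R} (hC : IsClosed C)
    (hs : StableUnderSpecialization (f.base '' C)) : IsClosed (f.base '' C) := by
  let eR := R.isoSpec.hom.homeomorph
  let eU := U.isoSpec.hom.homeomorph
  have hsq : ∀ x, eU (f.base x) = (Spec.map f.appTop).base (eR x) := fun x => by
    have := congrArg (fun g : R ⟶ Spec Γ(U, ⊤) => g.base x) (Scheme.isoSpec_hom_naturality f)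
    exact this.symm
  have himg : (Spec.map f.appTop).base '' (eR '' C) = eU '' (f.base '' C) := by
    rw [Set.image_image, Set.image_image]
    exact Set.image_congr fun x _ => (hsq x).symm
  have hs' : StableUnderSpecialization (eU '' (f.base '' C)) := by
    rintro a b hab ⟨x, hx, rfl⟩
    refine ⟨eU.symm b, hs ?_ hx, eU.apply_symm_apply b⟩
    have := hab.map eU.symm.continuous
    rwa [eU.symm_apply_apply] at this
  have := PrimeSpectrum.isClosed_image_of_stableUnderSpecialization f.appTop.hom (eR '' C)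
    (eR.isClosedMap _ hC) (himg ▸ hs')
  have h2 : IsClosed (eU '' (f.base '' C)) := himg ▸ this
  simpa [eU.preimage_image] using h2.preimage eU.continuous

theorem closed_of_vCover (E : PreZeroHypercover.{w} T) (hE : HTop.IsVCover E) (S : Set T)
    (hS : ∀ i, IsClosed ((E.f i).base ⁻¹' S)) : IsClosed S := by
  rw [TopologicalSpace.IsOpenCover.isClosed_iff_coe_preimage (iSup_affineOpens_eq_top T)]
  intro U
  obtain ⟨F, hF, hr⟩ := hE U
  haveI := hF.finite_index
  haveI := hF.isAffine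
  haveI := hF.isAffine_obj
  let S' : Set (U : T.Opens).toScheme := (U : T.Opens).ι.base ⁻¹' S
  change IsClosed S'
  have hpre : ∀ j, IsClosed ((F.f j).base ⁻¹' S') := fun j => by
    obtain ⟨i, k, hk⟩ := hr j
    have e : (F.f j).base ⁻¹' S' = k.base ⁻¹' ((E.f i).base ⁻¹' S) := by
      ext x
      exact Iff.of_eq (congrArg (fun g : F.X j ⟶ T => g.base x ∈ S) hk.symm)
    rw [e]
    exact (hS i).preimage k.continuous
  obtain ⟨n, ⟨e⟩⟩ := Finite.exists_equiv_fin F.I₀
  let f : (∐ fun l : ULift.{u} (Fin n) => F.X (e.symm l.down)) ⟶ (U : T.Opens).toScheme :=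
    Sigma.desc fun l => F.f (e.symm l.down)
  have hC : IsClosed (f.base ⁻¹' S') := by
    rw [TopologicalSpace.IsOpenCover.isClosed_iff_coe_preimage
      ((sigmaOpenCover fun l : ULift.{u} (Fin n) => F.X (e.symm l.down)).iSup_opensRange)]
    intro l
    have hι := (Sigma.ι (fun l : ULift.{u} (Fin n) => F.X (e.symm l.down)) l).isOpenEmbedding
    let h := hι.isEmbedding.toHomeomorph
    refine h.isClosed_preimage.1 ?_
    have : (F.f (e.symm l.down)).base ⁻¹' S' =
        h ⁻¹' (Subtype.val ⁻¹' (f.base ⁻¹' S')) := by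
      ext x
      exact Iff.of_eq (congrArg (fun g : F.X (e.symm l.down) ⟶ _ => g.base x ∈ S')
        (Sigma.ι_desc (fun l : ULift.{u} (Fin n) => F.f (e.symm l.down)) l).symm)
    exact this ▸ hpre _
  have himg : f.base '' (f.base ⁻¹' S') = S' := Set.image_preimage_eq S' fun t => by
    obtain ⟨j, x, hx⟩ := surj_of_valLift hF.lift t
    obtain ⟨l, rfl⟩ := e.symm.surjective j
    refine ⟨(Sigma.ι (fun l : ULift.{u} (Fin n) => F.X (e.symm l.down)) ⟨l⟩).base x, ?_⟩
    exact (congrArg (fun g : F.X (e.symm l) ⟶ _ => g.base x)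
      (Sigma.ι_desc (fun l : ULift.{u} (Fin n) => F.f (e.symm l.down)) ⟨l⟩)).trans hx
  rw [← himg]
  refine isClosed_image f hC ?_
  rw [himg]
  intro z' z hz hz'
  obtain ⟨j, w', w, hw, h1, h2⟩ := points_of_valLift hF.lift (𝟙 (U : T.Opens).toScheme) hz
  have hcond : ∀ v, (pullback.fst (𝟙 _) (F.f j)).base v = (F.f j).base ((pullback.snd (𝟙 _) (F.f j)).base v) :=
    fun v => congrArg (fun g : pullback (𝟙 _) (F.f j) ⟶ _ => g.base v)
      ((Category.comp_id _).symm.trans pullback.condition)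
  have := ((hw.map (pullback.snd (𝟙 _) (F.f j)).continuous).mem_closed (hpre j)
    (show (F.f j).base _ ∈ S' from by rw [← hcond, h1]; exact hz'))
  rw [← h2, hcond]
  exact this

theorem univSubmersive_desc (E : PreZeroHypercover.{u} T) (hE : HTop.IsVCover E) :
    SGA1.UnivSubmersive (Sigma.desc E.f) := by
  intro A B i j g hc
  have hE' := vCover_pullback j hE
  have hl : ∀ l, ∃ q : pullback j (E.f l) ⟶ A, q ≫ g = pullback.fst j (E.f l) := fun l =>
    ⟨hc.lift (pullback.fst j (E.f l)) (pullback.snd j (E.f l) ≫ Sigma.ι E.X l)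
      (by rw [Category.assoc, Sigma.ι_desc]; exact pullback.condition), hc.lift_fst _ _ _⟩
  choose q hq using hl
  have hqb : ∀ l x, g.base ((q l).base x) = (pullback.fst j (E.f l)).base x := fun l x =>
    congrArg (fun h : pullback j (E.f l) ⟶ B => h.base x) (hq l)
  show Topology.IsQuotientMap g.base
  rw [Topology.isQuotientMap_iff_isClosed]
  refine ⟨fun b => ?_, fun s => ⟨fun h => h.preimage g.continuous, fun h => closed_of_vCover _ hE' s fun l => ?_⟩⟩
  · obtain ⟨l, x, hx⟩ := surj_of_valLift (valLift_of_vCover hE') b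
    exact ⟨(q l).base x, (hqb l x).trans hx⟩
  · have : (pullback.fst j (E.f l)).base ⁻¹' s = (q l).base ⁻¹' (g.base ⁻¹' s) := by
      ext x; exact Iff.of_eq (congrArg (· ∈ s) (hqb l x).symm)
    exact this ▸ h.preimage (q l).continuous

end Groth.Agent.H6.HTopV
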