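import Mathlib.AlgebraicGeometry.Morphisms.Immersion

set_option linter.all false
set_option autoImplicit false
set_option backward.isDefEq.respectTransparency.types false

/-! An immersion with dense range into a reduced scheme is an open immersion. -/

namespace Groth.Agent.H6.ImmDense

universe u

open CategoryTheory CategoryTheory.Limits AlgebraicGeometry TopologicalSpace

theorem exists_section_on_range {P T : Scheme.{u}} (g : P ⟶ T) [IsImmersion g] [IsReduced T]
    (hd : Dense (Set.range g)) :
    ∃ U : T.Opens, (U : Set T) = Set.range g ∧ ∃ l : (U : Scheme.{u}) ⟶ P, l ≫ g = U.ι := by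
  have hU : (g.coborderRange : Set T) = Set.range g := by
    show coborder (Set.range g) = _
    rw [coborder_eq_union_closure_compl, hd.closure_eq, Set.compl_univ, Set.union_empty]
  haveI : Surjective g.liftCoborder := ⟨fun u => by
    obtain ⟨p, hp⟩ : u.1 ∈ Set.range g := hU ▸ u.2
    refine ⟨p, g.coborderRange.ι.isEmbedding.injective ?_⟩
    rw [← Scheme.Hom.comp_apply, g.liftCoborder_ι, hp]
    rfl⟩
  haveI : IsIso g.liftCoborder := isIso_of_isClosedImmersion_of_surjective _
  refine ⟨g.coborderRange, hU, inv g.liftCoborder, ?_⟩
  rw [IsIso.inv_comp_eq, g.liftCoborder_ι]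

end Groth.Agent.H6.ImmDense
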