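import Mathlib
import Groth.Agent.Lib.FpqcDescent

/-! Immersions descend along coverings which are topological quotient maps compatible with coborders. -/

set_option autoImplicit false
set_option backward.isDefEq.respectTransparency.types false

open CategoryTheory CategoryTheory.Limits AlgebraicGeometry

universe u

namespace Groth.Agent.H6.ImmDescent

theorem isImmersion_of_pullback_fst {X Y Z : Scheme.{u}} {Q : MorphismProperty Scheme.{u}}
    [Q.IsStableUnderBaseChange] [MorphismProperty.DescendsAlong @IsClosedImmersion Q]
    (f : X ⟶ Z) (g : Y ⟶ Z) (hQ : Q f) (hq : Topology.IsQuotientMap f)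
    (hcb : coborder (f ⁻¹' Set.range g) = f ⁻¹' coborder (Set.range g))
    [IsImmersion (pullback.fst f g)] : IsImmersion g := by
  have hlc : IsLocallyClosed (f ⁻¹' Set.range g) := by
    rw [← Scheme.Pullback.range_fst]; exact (pullback.fst f g).isLocallyClosed_range
  have hopen : IsOpen (coborder (Set.range g)) := by
    rw [← hq.isOpen_preimage, ← hcb]; exact hlc.isOpen_coborder
  let U : Z.Opens := ⟨coborder (Set.range g), hopen⟩
  let g' : Y ⟶ U := IsOpenImmersion.lift U.ι g (by
    rw [Scheme.Opens.range_ι]; exact subset_coborder)
  have hg' : g' ≫ U.ι = g := IsOpenImmersion.lift_fac _ _ _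
  let f' := pullback.snd f U.ι
  have hI : IsImmersion (pullback.fst f' g') := by
    have : IsImmersion (pullback.fst f (g' ≫ U.ι)) := by
      rw [hg']; infer_instance
    have : IsImmersion (pullback.fst f' g' ≫ pullback.fst f U.ι) := by
      rw [← pullbackLeftPullbackSndIso_hom_fst]; infer_instance
    exact IsImmersion.of_comp _ (pullback.fst f U.ι)
  have hc : IsClosed (Set.range (pullback.fst f' g')) := by
    rw [Scheme.Pullback.range_fst]
    refine IsClosed.preimage f'.continuous ?_
    have hr : Set.range g' = U.ι ⁻¹' Set.range g := by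
      ext a
      constructor
      · rintro ⟨y, rfl⟩
        exact ⟨y, by rw [← hg']; rfl⟩
      · rintro ⟨y, hy⟩
        refine ⟨y, U.ι.injective ?_⟩
        rw [← hy, ← hg']; rfl
    rw [hr]
    exact isClosed_preimage_val_coborder
  have h1 : IsClosedImmersion (pullback.fst f' g') := .of_isPreimmersion _ hc
  have : IsClosedImmersion g' := MorphismProperty.of_pullback_fst_of_descendsAlong
    (P := @IsClosedImmersion) (Q := Q) (f := f') (Q.pullback_snd _ _ hQ) h1
  rw [← hg']
  infer_instance

end Groth.Agent.H6.ImmDescent
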