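import Mathlib
import Groth.Agent.Lib.H6.ExactElem

set_option autoImplicit false
set_option linter.style.haveILetI false
set_option linter.unusedSectionVars false
set_option backward.isDefEq.respectTransparency.types false
universe v

namespace Groth.Agent.H6IC

open CategoryTheory Limits Opposite

variable {C : Type v} [SmallCategory C] [Abelian C]

instance : (Ind.yoneda (C := C)).Additive := Functor.additive_of_preserves_binary_products _

/-- an exact faithful functor from ind-objects to modules -/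
noncomputable abbrev Φ (C : Type v) [SmallCategory C] [Abelian C] :
    Ind C ⥤ ModuleCat.{v + 1} (Abelian.FreydMitchell.EmbeddingRing (Ind C)) :=
  Abelian.FreydMitchell.functor (Ind C)

instance : (Φ C).Additive := Functor.additive_of_preserves_binary_products _

/-- objects of `C` inside `Ind C` -/
abbrev Mem (X : Ind C) : Prop := (Ind.yoneda (C := C)).essImage X

theorem mem_iso {X Y : Ind C} (e : X ≅ Y) (h : Mem X) : Mem Y :=
  Functor.essImage.ofIso e h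

theorem mem_cokernel {X Y : Ind C} (f : X ⟶ Y) (hX : Mem X) (hY : Mem Y) : Mem (cokernel f) := by
  obtain ⟨X₀, ⟨eX⟩⟩ := hX
  obtain ⟨Y₀, ⟨eY⟩⟩ := hY
  obtain ⟨g, hg⟩ := Ind.yoneda.map_surjective (eX.hom ≫ f ≫ eY.inv)
  refine ⟨cokernel g, ⟨PreservesCokernel.iso Ind.yoneda g ≪≫ cokernel.mapIso _ f eX eY ?_⟩⟩
  rw [hg]; simp

theorem mem_kernel {X Y : Ind C} (f : X ⟶ Y) (hX : Mem X) (hY : Mem Y) : Mem (kernel f) := by
  obtain ⟨X₀, ⟨eX⟩⟩ := hX
  obtain ⟨Y₀, ⟨eY⟩⟩ := hY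
  obtain ⟨g, hg⟩ := Ind.yoneda.map_surjective (eX.hom ≫ f ≫ eY.inv)
  refine ⟨kernel g, ⟨PreservesKernel.iso Ind.yoneda g ≪≫ kernel.mapIso _ f eX eY ?_⟩⟩
  rw [hg]; simp

theorem mem_biprod {X Y : Ind C} (hX : Mem X) (hY : Mem Y) : Mem (X ⊞ Y) := by
  obtain ⟨X₀, ⟨eX⟩⟩ := hX
  obtain ⟨Y₀, ⟨eY⟩⟩ := hY
  haveI : PreservesBinaryBiproducts (Ind.yoneda (C := C)) := preservesBinaryBiproducts_of_preservesBinaryProducts _
  exact ⟨X₀ ⊞ Y₀, ⟨Functor.mapBiprod Ind.yoneda X₀ Y₀ ≪≫ biprod.mapIso eX eY⟩⟩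

/-- compactness: an epimorphism onto an object of `C` is epi on a stage -/
theorem exists_lift {E : Ind C} {X : C} (π : E ⟶ Ind.yoneda.obj X) [Epi π] :
    ∃ (T : C) (g : Ind.yoneda.obj T ⟶ E), Epi (g ≫ π) := by
  classical
  let P := Ind.presentation E
  let F := P.F
  let e : colimit (F ⋙ Ind.yoneda) ≅ E := Ind.colimitPresentationCompYoneda E
  let g : ∀ i, Ind.yoneda.obj (F.obj i) ⟶ E := fun i => colimit.ι (F ⋙ Ind.yoneda) i ≫ e.hom
  choose f hf using fun i => Ind.yoneda.map_surjective (g i ≫ π)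
  let Z : P.I ⥤ C :=
    { obj := fun i => cokernel (f i)
      map := fun {i j} a => cokernel.desc _ (cokernel.π (f j)) (by
        have : F.map a ≫ f j = f i := Ind.yoneda.map_injective (by
          rw [Functor.map_comp, hf, hf, ← Category.assoc]
          congr 1
          show (F ⋙ Ind.yoneda).map a ≫ colimit.ι (F ⋙ Ind.yoneda) j ≫ e.hom =
            colimit.ι (F ⋙ Ind.yoneda) i ≫ e.hom
          rw [← Category.assoc, colimit.w (F ⋙ Ind.yoneda) a])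
        rw [← this, Category.assoc, cokernel.condition, comp_zero])
      map_id := fun i => by ext; simp
      map_comp := fun a b => by ext; simp }
  haveI : IsFiltered P.I := inferInstance
  obtain ⟨i₀⟩ : Nonempty P.I := IsFiltered.nonempty
  let ρ : ∀ i, Ind.yoneda.obj X ⟶ colimit (Z ⋙ Ind.yoneda) := fun i =>
    Ind.yoneda.map (cokernel.π (f i)) ≫ colimit.ι (Z ⋙ Ind.yoneda) i
  have hρw : ∀ {i j} (a : i ⟶ j), ρ i = ρ j := fun {i j} a => by
    show Ind.yoneda.map (cokernel.π (f i)) ≫ colimit.ι (Z ⋙ Ind.yoneda) i = _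
    rw [← colimit.w (Z ⋙ Ind.yoneda) a]
    show Ind.yoneda.map _ ≫ Ind.yoneda.map (Z.map a) ≫ _ = _
    rw [← Category.assoc, ← Functor.map_comp, show cokernel.π (f i) ≫ Z.map a = cokernel.π (f j) from cokernel.π_desc _ _ _]
  have hρ : ∀ i, ρ i = ρ i₀ := fun i => by
    rw [hρw (IsFiltered.leftToMax i i₀), ← hρw (IsFiltered.rightToMax i i₀)]
  have hz : ρ i₀ = 0 := by
    rw [← cancel_epi π, comp_zero, ← cancel_epi e.hom, comp_zero]
    apply colimit.hom_ext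
    intro i
    rw [comp_zero, ← hρ i, ← Category.assoc, ← Category.assoc, ← hf, ← Category.assoc, ← Functor.map_comp,
      cokernel.condition, Functor.map_zero, zero_comp]
  let G : Ind C ⥤ Type v := Ind.inclusion C ⋙ (evaluation Cᵒᵖ (Type v)).obj (op X)
  let eY : ∀ W : C, (G.obj (Ind.yoneda.obj W) ≅ (X ⟶ W)) := fun W =>
    (Ind.yonedaCompInclusion.app W).app (op X)
  let x₁ : G.obj (Ind.yoneda.obj (Z.obj i₀)) := (eY _).inv (cokernel.π (f i₀))
  let x₀ : G.obj (Ind.yoneda.obj (Z.obj i₀)) := (eY _).inv 0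
  let u : G.obj (Ind.yoneda.obj X) := (eY _).inv (𝟙 X)
  have nat : ∀ {W W' : C} (a : W ⟶ W') (b : X ⟶ W),
      G.map (Ind.yoneda.map a) ((eY W).inv b) = (eY W').inv (b ≫ a) := fun {W W'} a b =>
    (ConcreteCategory.congr_hom (NatTrans.congr_app (Ind.yonedaCompInclusion.inv.naturality a) (op X)) b).symm
  have hx : G.map (colimit.ι (Z ⋙ Ind.yoneda) i₀) x₁ = G.map (colimit.ι (Z ⋙ Ind.yoneda) i₀) x₀ := by
    have e1 : x₁ = G.map (Ind.yoneda.map (cokernel.π (f i₀))) u := by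
      rw [nat, Category.id_comp]
    have e2 : x₀ = G.map (Ind.yoneda.map (0 : X ⟶ Z.obj i₀)) u := by
      rw [nat, comp_zero]
    have h1 : ∀ g : Ind.yoneda.obj X ⟶ (Z ⋙ Ind.yoneda).obj i₀,
        G.map (colimit.ι (Z ⋙ Ind.yoneda) i₀) (G.map g u) = G.map (g ≫ colimit.ι (Z ⋙ Ind.yoneda) i₀) u :=
      fun g => (ConcreteCategory.congr_hom (G.map_comp g _) u).symm
    have z1 : Ind.yoneda.map (cokernel.π (f i₀)) ≫ colimit.ι (Z ⋙ Ind.yoneda) i₀ = 0 := hz
    have z0 : Ind.yoneda.map (0 : X ⟶ Z.obj i₀) ≫ colimit.ι (Z ⋙ Ind.yoneda) i₀ = 0 := by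
      rw [Functor.map_zero]; exact zero_comp
    rw [e1, e2]
    refine (h1 _).trans (Eq.trans ?_ (h1 _).symm)
    exact congrArg (fun t => G.map t u) (z1.trans z0.symm)
  obtain ⟨j, a, b, hab⟩ := (Types.FilteredColimit.isColimit_eq_iff _
    (isColimitOfPreserves G (colimit.isColimit (Z ⋙ Ind.yoneda)))).1 hx
  have hπ : cokernel.π (f j) = 0 := by
    have h1 : (eY _).inv (cokernel.π (f i₀) ≫ Z.map a) = (eY _).inv ((0 : X ⟶ Z.obj i₀) ≫ Z.map b) := by
      rw [← nat, ← nat]; exact hab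
    have h2 := congrArg (eY _).hom h1
    simpa [Z] using h2
  haveI := Abelian.epi_of_cokernel_π_eq_zero (f j) hπ
  exact ⟨F.obj j, g j, by rw [← hf]; infer_instance⟩

theorem mem_of_shortExact {A B D : Ind C} (f : A ⟶ B) (g : B ⟶ D) [Mono f] [Epi g] (w : f ≫ g = 0)
    (h : (ShortComplex.mk f g w).Exact) (hA : Mem A) (hD : Mem D) : Mem B := by
  obtain ⟨D₀, ⟨e⟩⟩ := hD
  obtain ⟨T, t, ht⟩ := exists_lift (g ≫ e.inv)
  have hgt : Epi (t ≫ g) := by
    have : t ≫ g = (t ≫ g ≫ e.inv) ≫ e.hom := by simp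
    rw [this]; infer_instance
  let K := kernel (t ≫ g)
  let v : K ⟶ A := h.lift (kernel.ι (t ≫ g) ≫ t) (by
    show (kernel.ι (t ≫ g) ≫ t) ≫ g = 0
    rw [Category.assoc, kernel.condition])
  have hv : v ≫ f = kernel.ι (t ≫ g) ≫ t := h.lift_f _ _
  let m : K ⟶ Ind.yoneda.obj T ⊞ A := biprod.lift (kernel.ι (t ≫ g)) (-v)
  let q : Ind.yoneda.obj T ⊞ A ⟶ B := biprod.desc t f
  have hmq : m ≫ q = 0 := by simp [m, q, hv]
  haveI : Epi q := H6El.epi_of (Φ C) q fun b => by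
    obtain ⟨s, hs⟩ := H6El.surj (Φ C) (t ≫ g) (((Φ C).map g).hom b)
    rw [H6El.map_comp' (Φ C)] at hs
    obtain ⟨a, ha⟩ := H6El.exists_preimage (Φ C) _ h (b - ((Φ C).map t).hom s) (by
      show ((Φ C).map g).hom _ = 0
      rw [map_sub, hs, sub_self])
    refine ⟨((Φ C).map biprod.inl).hom s + ((Φ C).map biprod.inr).hom a, ?_⟩
    rw [map_add, ← H6El.map_comp' (Φ C), ← H6El.map_comp' (Φ C), biprod.inl_desc, biprod.inr_desc]
    show _ + ((Φ C).map f).hom a = b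
    rw [show ((Φ C).map f).hom a = _ from ha, add_sub_cancel]
  have hex : (ShortComplex.mk m q hmq).Exact := H6El.exact_of (Φ C) _ fun x hx => by
    change ((Φ C).map q).hom x = 0 at hx
    obtain ⟨s, hs⟩ : ∃ s, ((Φ C).map biprod.fst).hom x = s := ⟨_, rfl⟩
    obtain ⟨a, ha⟩ : ∃ a, ((Φ C).map biprod.snd).hom x = a := ⟨_, rfl⟩
    have hxe := H6El.biprod_total (Φ C) x
    rw [hs, ha] at hxe
    have hsum : ((Φ C).map t).hom s + ((Φ C).map f).hom a = 0 := by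
      rw [hxe, map_add, ← H6El.map_comp' (Φ C), ← H6El.map_comp' (Φ C), biprod.inl_desc, biprod.inr_desc] at hx
      exact hx
    have hgs : ((Φ C).map (t ≫ g)).hom s = 0 := by
      have := congrArg ((Φ C).map g).hom hsum
      rw [map_add, map_zero, H6El.apply_of_comp_eq_zero (Φ C) w, add_zero, ← H6El.map_comp' (Φ C)] at this
      exact this
    obtain ⟨k, hk⟩ := H6El.exists_kernel_ι (Φ C) _ s hgs
    refine ⟨k, ?_⟩
    have h1 : ((Φ C).map v).hom k = -a := by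
      apply H6El.inj (Φ C) f
      rw [← H6El.map_comp' (Φ C), hv, H6El.map_comp' (Φ C), hk, map_neg]
      exact eq_neg_of_add_eq_zero_left hsum
    show ((Φ C).map m).hom k = x
    rw [H6El.biprod_total (Φ C) (((Φ C).map m).hom k), ← H6El.map_comp' (Φ C) m biprod.fst,
      ← H6El.map_comp' (Φ C) m biprod.snd, biprod.lift_fst, biprod.lift_snd, Functor.map_neg, hk]
    show _ + _ = x
    rw [hxe]
    congr 2
    show -((Φ C).map v).hom k = a
    rw [h1, neg_neg]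
  exact mem_iso ((cokernelIsCokernel m).coconePointUniqueUpToIso hex.gIsCokernel)
    (mem_cokernel m (mem_kernel _ ⟨T, ⟨Iso.refl _⟩⟩ ⟨D₀, ⟨e⟩⟩) (mem_biprod ⟨T, ⟨Iso.refl _⟩⟩ hA))

/-- the middle of a five term exact sequence -/
theorem mem_middle {X₁ X₂ X₃ X₄ X₅ : Ind C} (a : X₁ ⟶ X₂) (b : X₂ ⟶ X₃) (c : X₃ ⟶ X₄) (d : X₄ ⟶ X₅)
    (w₁ : a ≫ b = 0) (w₂ : b ≫ c = 0) (w₃ : c ≫ d = 0) (e₁ : (ShortComplex.mk a b w₁).Exact)
    (e₂ : (ShortComplex.mk b c w₂).Exact) (e₃ : (ShortComplex.mk c d w₃).Exact)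
    (h₁ : Mem X₁) (h₂ : Mem X₂) (h₄ : Mem X₄) (h₅ : Mem X₅) : Mem X₃ := by
  let i : cokernel a ⟶ X₃ := cokernel.desc a b w₁
  let p : X₃ ⟶ kernel d := kernel.lift d c w₃
  haveI : Mono i := e₁.mono_cokernelDesc
  haveI : Epi p := e₃.epi_kernelLift
  have w : i ≫ p = 0 := by
    ext
    simp [i, p, w₂]
  refine mem_of_shortExact i p w (H6El.exact_of (Φ C) _ fun x hx => ?_) (mem_cokernel a h₁ h₂) (mem_kernel d h₄ h₅)
  change ((Φ C).map p).hom x = 0 at hx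
  obtain ⟨y, hy⟩ := H6El.exists_preimage (Φ C) _ e₂ x (by
    show ((Φ C).map c).hom x = 0
    rw [← kernel.lift_ι d c w₃, H6El.map_comp' (Φ C)]
    show ((Φ C).map (kernel.ι d)).hom (((Φ C).map p).hom x) = 0
    rw [hx, map_zero])
  refine ⟨((Φ C).map (cokernel.π a)).hom y, ?_⟩
  show ((Φ C).map i).hom _ = x
  rw [← H6El.map_comp' (Φ C), cokernel.π_desc]
  exact hy

section stab

theorem artin_chain (hart : ∀ X : C, IsArtinianObject X) {Y : Ind C} (hY : Mem Y) (X : ℕ → Ind C)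
    (hX : ∀ k, Mem (X k)) (u : ∀ k, X k ⟶ Y)
    (hu : ∀ k l, k ≤ l → ∀ x, ∃ y, ((Φ C).map (u k)).hom y = ((Φ C).map (u l)).hom x) :
    ∃ N, ∀ k l, N ≤ k → ∀ x, ∃ y, ((Φ C).map (u l)).hom y = ((Φ C).map (u k)).hom x := by
  obtain ⟨Y₀, ⟨eY⟩⟩ := hY
  choose X₀ eX using hX
  choose g hg using fun k => Ind.yoneda.map_surjective ((eX k).some.hom ≫ u k ≫ eY.inv)
  let Ψ : C ⥤ ModuleCat.{v + 1} (Abelian.FreydMitchell.EmbeddingRing (Ind C)) := Ind.yoneda ⋙ Φ C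
  have conv : ∀ k l, imageSubobject (g k) ≤ imageSubobject (g l) ↔
      ∀ x, ∃ y, ((Φ C).map (u l)).hom y = ((Φ C).map (u k)).hom x := by
    intro k l
    rw [H6El.imageSubobject_le_iff Ψ]
    have key : ∀ k (z : (Φ C).obj (Ind.yoneda.obj (X₀ k))),
        (Ψ.map (g k)).hom z = ((Φ C).map eY.inv).hom (((Φ C).map (u k)).hom (((Φ C).map (eX k).some.hom).hom z)) := by
      intro k z
      show ((Φ C).map (Ind.yoneda.map (g k))).hom z = _
      rw [hg, H6El.map_comp' (Φ C), H6El.map_comp' (Φ C)]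
    constructor
    · intro h x
      obtain ⟨z, rfl⟩ := H6El.surj (Φ C) (eX k).some.hom x
      obtain ⟨z', hz'⟩ := h z
      exact ⟨_, H6El.inj (Φ C) eY.inv ((key l z').symm.trans (hz'.trans (key k z)))⟩
    · intro h z
      obtain ⟨y, hy⟩ := h (((Φ C).map (eX k).some.hom).hom z)
      obtain ⟨z', rfl⟩ := H6El.surj (Φ C) (eX l).some.hom y
      exact ⟨z', (key l z').trans ((congrArg ((Φ C).map eY.inv).hom hy).trans (key k z).symm)⟩
  haveI := hart Y₀
  obtain ⟨N, hN⟩ := antitone_chain_condition_of_isArtinianObject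
    (⟨fun k => OrderDual.toDual (imageSubobject (g k)), fun k l h => (conv l k).2 (hu k l h)⟩ : ℕ →o (Subobject Y₀)ᵒᵈ)
  refine ⟨N, fun k l hk => ?_⟩
  by_cases hl : N ≤ l
  · exact (conv k l).1 (le_of_eq ((congrArg OrderDual.ofDual (hN k hk)).symm.trans (congrArg OrderDual.ofDual (hN l hl))))
  · exact hu l k (by omega)

theorem exists_split (n m : ℕ) (hn : 0 < n) (hm : 0 < m) :
    ∃ i m₂ : ℕ, m ∣ n ^ i * m₂ ∧ Nat.Coprime n m₂ := by
  induction m using Nat.strong_induction_on with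
  | _ m ih =>
    by_cases hc : Nat.Coprime n m
    · exact ⟨0, m, by simp, hc⟩
    · have hg0 : 0 < Nat.gcd n m := Nat.gcd_pos_of_pos_left m hn
      have hg1 : 1 < Nat.gcd n m := by
        have : Nat.gcd n m ≠ 1 := hc
        omega
      obtain ⟨m', hm'⟩ := Nat.gcd_dvd_right n m
      have hpos : 0 < m' := by
        rcases Nat.eq_zero_or_pos m' with h | h
        · rw [h, mul_zero] at hm'; omega
        · exact h
      have hlt : m' < m := by
        rw [hm']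
        exact lt_mul_of_one_lt_left hpos hg1
      obtain ⟨i, m₂, h1, h2⟩ := ih m' hlt hpos
      refine ⟨i + 1, m₂, ?_, h2⟩
      rw [hm', pow_succ', mul_assoc]
      exact mul_dvd_mul (Nat.gcd_dvd_left n m) h1

variable (hart : ∀ X : C, IsArtinianObject X) (htor : ∀ X : C, ∃ k : ℕ, 0 < k ∧ k • 𝟙 X = 0)

include htor in
theorem eq_zero_of_torsion {A Z : Ind C} (t : A ⟶ Z)
    (h : ∀ m, 0 < m → ∀ x : (Φ C).obj A, m • x = 0 → ((Φ C).map t).hom x = 0) : t = 0 := by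
  refine Ind.isSeparating_range_yoneda t 0 fun G hG a => ?_
  obtain ⟨X⟩ := hG
  obtain ⟨k, hk, hk'⟩ := htor X
  rw [comp_zero]
  refine H6El.eq_zero_of (Φ C) _ fun z => ?_
  rw [H6El.map_comp' (Φ C)]
  refine h k hk _ ?_
  rw [← map_nsmul, ← H6El.map_nsmul_id (Φ C) k z, ← H6El.map_comp' (Φ C),
    show k • 𝟙 (Ind.yoneda.obj X) = 0 by rw [← Ind.yoneda.map_id, ← Functor.map_nsmul, hk', Functor.map_zero],
    zero_comp, H6El.map_zero' (Φ C)]

include hart htor in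
theorem exists_stable (A : Ind C) (n : ℕ) (hn : 0 < n) (hA : ∀ j, Mem (kernel ((n ^ j) • 𝟙 A))) :
    ∃ N, ∀ k, ∀ x : (Φ C).obj A, ∃ y, n ^ k • y = n ^ N • x := by
  let u : ∀ k, kernel ((n ^ (k + 1)) • 𝟙 A) ⟶ kernel ((n ^ 1) • 𝟙 A) := fun k =>
    kernel.lift _ (kernel.ι _ ≫ ((n ^ k) • 𝟙 A)) (by
      rw [Category.assoc]
      simp only [Preadditive.nsmul_comp, Preadditive.comp_nsmul, Category.id_comp, Category.comp_id, smul_smul]
      have := kernel.condition ((n ^ (k + 1)) • 𝟙 A)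
      simpa [pow_succ, mul_comm] using this)
  have hu : ∀ k z, ((Φ C).map (kernel.ι ((n ^ 1) • 𝟙 A))).hom (((Φ C).map (u k)).hom z) =
      n ^ k • ((Φ C).map (kernel.ι ((n ^ (k + 1)) • 𝟙 A))).hom z := fun k z => by
    rw [← H6El.map_comp' (Φ C), kernel.lift_ι, H6El.map_comp' (Φ C), H6El.map_nsmul_id (Φ C)]
  have mk : ∀ (j : ℕ) (x : (Φ C).obj A), n ^ j • x = 0 → ∃ z, ((Φ C).map (kernel.ι ((n ^ j) • 𝟙 A))).hom z = x :=
    fun j x hx => H6El.exists_kernel_ι (Φ C) _ x (by rw [H6El.map_nsmul_id (Φ C), hx])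
  have kill : ∀ j z, n ^ j • ((Φ C).map (kernel.ι ((n ^ j) • 𝟙 A))).hom z = 0 := fun j z => by
    rw [← H6El.map_nsmul_id (Φ C), ← H6El.map_comp' (Φ C), kernel.condition, H6El.map_zero' (Φ C)]
  obtain ⟨N, hN⟩ := artin_chain hart (hA 1) _ (fun k => hA (k + 1)) u fun k l hkl x => by
    obtain ⟨d, rfl⟩ := Nat.exists_eq_add_of_le hkl
    obtain ⟨z, hz⟩ := mk (k + 1) (n ^ d • ((Φ C).map (kernel.ι ((n ^ (k + d + 1)) • 𝟙 A))).hom x)
      (by rw [smul_smul, ← pow_add, show k + 1 + d = k + d + 1 by omega, kill])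
    exact ⟨z, H6El.inj (Φ C) (kernel.ι ((n ^ 1) • 𝟙 A)) (by rw [hu, hu, hz, smul_smul, ← pow_add])⟩
  have soc : ∀ k (x : (Φ C).obj A), n • x = 0 → (∃ w, n ^ N • w = x) → ∃ y, n ^ k • y = x := by
    intro k x hx ⟨w, hw⟩
    obtain ⟨z, hz⟩ := mk (N + 1) w (by rw [pow_succ', mul_smul, hw, hx])
    obtain ⟨y, hy⟩ := hN N k le_rfl z
    refine ⟨((Φ C).map (kernel.ι ((n ^ (k + 1)) • 𝟙 A))).hom y, ?_⟩
    rw [← hu, hy, hu, hz, hw]
  have main : ∀ j k (x : (Φ C).obj A), n ^ j • x = 0 → (∃ w, n ^ N • w = x) → ∃ y, n ^ k • y = x := by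
    intro j
    induction j with
    | zero => intro k x hx _; exact ⟨0, by simpa using hx.symm⟩
    | succ j ih =>
      rintro k x hx ⟨w, hw⟩
      by_cases hk : N ≤ k
      · obtain ⟨y, hy⟩ := soc (k + j) (n ^ j • x) (by rw [smul_smul, ← pow_succ', hx])
          ⟨n ^ j • w, by rw [← hw, smul_comm]⟩
        obtain ⟨c, rfl⟩ := Nat.exists_eq_add_of_le hk
        obtain ⟨y', hy'⟩ := ih (N + c) (x - n ^ (N + c) • y)
          (by rw [smul_sub, smul_smul, ← pow_add, show j + (N + c) = N + c + j by omega, hy, sub_self])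
          ⟨w - n ^ c • y, by rw [smul_sub, hw, smul_smul, ← pow_add]⟩
        exact ⟨y' + y, by rw [smul_add, hy', sub_add_cancel]⟩
      · obtain ⟨c, hc⟩ := Nat.exists_eq_add_of_le (Nat.le_of_not_le hk)
        exact ⟨n ^ c • w, by rw [smul_smul, ← pow_add, ← hc, hw]⟩
  refine ⟨N, fun k x => ?_⟩
  have h0 : ((n ^ N) • 𝟙 A) ≫ cokernel.π ((n ^ k) • 𝟙 A) = 0 := by
    refine eq_zero_of_torsion htor _ fun m hm x hx => ?_
    obtain ⟨i, m₂, hdvd, hcop⟩ := exists_split n m hn hm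
    have hc' : Nat.Coprime (n ^ (i + k)) m₂ := hcop.pow_left _
    obtain ⟨a, b, hab⟩ := Nat.isCoprime_iff_coprime.2 hc'
    obtain ⟨c, hc⟩ : m ∣ n ^ (i + k) * m₂ := hdvd.trans (mul_dvd_mul_right (pow_dvd_pow n (Nat.le_add_right i k)) m₂)
    have hz : n ^ (i + k) • (b • (m₂ • x)) = 0 := by
      rw [smul_comm, smul_smul (n ^ (i + k)) m₂ x, hc, mul_comm, mul_smul, hx, smul_zero, smul_zero]
    obtain ⟨y₁, hy₁⟩ := main (i + k) k (n ^ N • (b • (m₂ • x)))
      (by rw [smul_comm, hz, smul_zero]) ⟨_, rfl⟩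
    have hsplit : x = a • (n ^ (i + k) • x) + b • (m₂ • x) := by
      rw [← natCast_zsmul x (n ^ (i + k)), ← natCast_zsmul x m₂, smul_smul, smul_smul, ← add_smul, hab, one_smul]
    have hy : n ^ k • (n ^ N • (a • (n ^ i • x)) + y₁) = n ^ N • x := by
      conv_rhs => rw [hsplit]
      rw [smul_add, smul_add, hy₁]
      congr 1
      rw [smul_comm (n ^ k) (n ^ N), smul_comm (n ^ k) a, smul_smul (n ^ k) (n ^ i), ← pow_add, add_comm k i]
    rw [H6El.map_comp' (Φ C), H6El.map_nsmul_id (Φ C), ← hy, ← H6El.map_nsmul_id (Φ C) (n ^ k)]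
    exact H6El.apply_of_comp_eq_zero (Φ C) (cokernel.condition _) _
  obtain ⟨y, hy⟩ := (H6El.comp_cokernel_π_eq_zero_iff (Φ C) _ _).1 h0 x
  rw [H6El.map_nsmul_id (Φ C), H6El.map_nsmul_id (Φ C)] at hy
  exact ⟨y, hy⟩

include hart htor in
theorem mem_cokernel_smul (A : Ind C) (n : ℕ) (hn : 0 < n) (hA : ∀ j, Mem (kernel ((n ^ j) • 𝟙 A))) :
    Mem (cokernel (n • 𝟙 A)) := by
  obtain ⟨N, hN⟩ := exists_stable hart htor A n hn hA
  let q : kernel ((n ^ N) • 𝟙 A) ⟶ cokernel (n • 𝟙 A) := kernel.ι _ ≫ cokernel.π _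
  let u : kernel ((n ^ (N + 1)) • 𝟙 A) ⟶ kernel ((n ^ N) • 𝟙 A) :=
    kernel.lift _ (kernel.ι _ ≫ (n • 𝟙 A)) (by
      rw [Category.assoc]
      simp only [Preadditive.nsmul_comp, Preadditive.comp_nsmul, Category.id_comp, Category.comp_id, smul_smul]
      have := kernel.condition ((n ^ (N + 1)) • 𝟙 A)
      simpa [pow_succ, mul_comm] using this)
  have hw : u ≫ q = 0 := by
    show _ ≫ kernel.ι _ ≫ cokernel.π _ = 0
    rw [kernel.lift_ι_assoc, Category.assoc, cokernel.condition, comp_zero]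
  haveI : Epi q := H6El.epi_of (Φ C) q fun c => by
    obtain ⟨x, rfl⟩ := H6El.surj (Φ C) (cokernel.π (n • 𝟙 A)) c
    obtain ⟨w, hw⟩ := hN (N + 1) x
    obtain ⟨z, hz⟩ := H6El.exists_kernel_ι (Φ C) ((n ^ N) • 𝟙 A) (x - n • w) (by
      rw [H6El.map_nsmul_id (Φ C), smul_sub, smul_smul, ← pow_succ, hw, sub_self])
    refine ⟨z, ?_⟩
    rw [H6El.map_comp' (Φ C), hz, map_sub, ← H6El.map_nsmul_id (Φ C) n w,
      H6El.apply_of_comp_eq_zero (Φ C) (cokernel.condition _), sub_zero]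
  have hex : (ShortComplex.mk u q hw).Exact := H6El.exact_of (Φ C) _ fun x hx => by
    change ((Φ C).map q).hom x = 0 at hx
    rw [H6El.map_comp' (Φ C)] at hx
    obtain ⟨z, hz⟩ := H6El.exists_of_cokernel_π (Φ C) _ _ hx
    rw [H6El.map_nsmul_id (Φ C)] at hz
    obtain ⟨z', hz'⟩ := H6El.exists_kernel_ι (Φ C) ((n ^ (N + 1)) • 𝟙 A) z (by
      rw [H6El.map_nsmul_id (Φ C), pow_succ, mul_smul, hz, ← H6El.map_nsmul_id (Φ C), ← H6El.map_comp' (Φ C),
        kernel.condition, H6El.map_zero' (Φ C)])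
    refine ⟨z', H6El.inj (Φ C) (kernel.ι ((n ^ N) • 𝟙 A)) ?_⟩
    show ((Φ C).map _).hom (((Φ C).map u).hom z') = _
    rw [← H6El.map_comp' (Φ C), kernel.lift_ι, H6El.map_comp' (Φ C), hz', H6El.map_nsmul_id (Φ C), hz]
  exact mem_iso ((cokernelIsCokernel u).coconePointUniqueUpToIso hex.gIsCokernel)
    (mem_cokernel u (hA (N + 1)) (hA N))

end stab

end Groth.Agent.H6IC
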