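import Mathlib
import Groth.Agent.Lib.H6.IndCof

set_option autoImplicit false
set_option linter.style.haveILetI false
set_option linter.unusedSectionVars false
set_option backward.isDefEq.respectTransparency.types false
universe v

namespace Groth.Agent.H6IC

open CategoryTheory Limits

variable {C : Type v} [SmallCategory C] [Abelian C]

theorem mem_ker_coker_of_shortExact (S : ShortComplex (Ind C)) (hS : S.ShortExact) (n : ℕ)
    (hkX : Mem (kernel (n • 𝟙 S.X₁))) (hkY : Mem (kernel (n • 𝟙 S.X₂)))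
    (hcX : Mem (cokernel (n • 𝟙 S.X₁))) (hcY : Mem (cokernel (n • 𝟙 S.X₂))) :
    Mem (kernel (n • 𝟙 S.X₃)) := by
  haveI := hS.mono_f
  haveI := hS.epi_g
  let φ : S ⟶ S := ShortComplex.homMk (n • 𝟙 S.X₁) (n • 𝟙 S.X₂) (n • 𝟙 S.X₃) (by simp) (by simp)
  let I : ShortComplex.SnakeInput (Ind C) :=
    { L₀ := kernel φ
      L₁ := S
      L₂ := S
      L₃ := cokernel φ
      v₀₁ := kernel.ι φ
      v₁₂ := φ
      v₂₃ := cokernel.π φ
      w₀₂ := kernel.condition φ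
      w₁₃ := cokernel.condition φ
      h₀ := kernelIsKernel φ
      h₃ := cokernelIsCokernel φ
      L₁_exact := hS.exact
      epi_L₁_g := hS.epi_g
      L₂_exact := hS.exact
      mono_L₂_f := hS.mono_f }
  let k₁ : I.L₀.X₁ ≅ kernel (n • 𝟙 S.X₁) := PreservesKernel.iso ShortComplex.π₁ φ
  let k₂ : I.L₀.X₂ ≅ kernel (n • 𝟙 S.X₂) := PreservesKernel.iso ShortComplex.π₂ φ
  let k₃ : I.L₀.X₃ ≅ kernel (n • 𝟙 S.X₃) := PreservesKernel.iso ShortComplex.π₃ φ
  let c₁ : I.L₃.X₁ ≅ cokernel (n • 𝟙 S.X₁) := PreservesCokernel.iso ShortComplex.π₁ φ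
  let c₂ : I.L₃.X₂ ≅ cokernel (n • 𝟙 S.X₂) := PreservesCokernel.iso ShortComplex.π₂ φ
  exact mem_iso k₃ (mem_middle I.L₀.f I.L₀.g I.δ I.L₃.f I.L₀.zero I.L₀_g_δ I.δ_L₃_f
    I.L₀_exact I.L₁'_exact I.L₂'_exact
    (mem_iso k₁.symm hkX) (mem_iso k₂.symm hkY) (mem_iso c₁.symm hcX) (mem_iso c₂.symm hcY))

theorem mem_cokernel_smul_of_epi {X Y Z : Ind C} (f : X ⟶ Y) (g : Y ⟶ Z) [Epi g] (w : f ≫ g = 0)
    (h : (ShortComplex.mk f g w).Exact) (n : ℕ)
    (hcX : Mem (cokernel (n • 𝟙 X))) (hcY : Mem (cokernel (n • 𝟙 Y))) :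
    Mem (cokernel (n • 𝟙 Z)) := by
  let f' : cokernel (n • 𝟙 X) ⟶ cokernel (n • 𝟙 Y) := cokernel.map _ _ f f (by simp)
  let g' : cokernel (n • 𝟙 Y) ⟶ cokernel (n • 𝟙 Z) := cokernel.map _ _ g g (by simp)
  have hw : f' ≫ g' = 0 := by
    ext
    simp [f', g', reassoc_of% w]
  haveI : Epi g' := H6El.epi_of (Φ C) _ fun c => by
    obtain ⟨z, rfl⟩ := H6El.surj (Φ C) (cokernel.π (n • 𝟙 Z)) c
    obtain ⟨y, rfl⟩ := H6El.surj (Φ C) g z
    refine ⟨((Φ C).map (cokernel.π (n • 𝟙 Y))).hom y, ?_⟩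
    rw [← H6El.map_comp' (Φ C), ← H6El.map_comp' (Φ C)]
    simp [g']
  have hex : (ShortComplex.mk f' g' hw).Exact := H6El.exact_of (Φ C) _ fun c hc => by
    obtain ⟨y, rfl⟩ := H6El.surj (Φ C) (cokernel.π (n • 𝟙 Y)) c
    change ((Φ C).map g').hom _ = 0 at hc
    rw [← H6El.map_comp' (Φ C), show cokernel.π (n • 𝟙 Y) ≫ g' = g ≫ cokernel.π (n • 𝟙 Z) from cokernel.π_desc _ _ _,
      H6El.map_comp' (Φ C)] at hc
    obtain ⟨z, hz⟩ := H6El.exists_of_cokernel_π (Φ C) _ _ hc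
    obtain ⟨y', rfl⟩ := H6El.surj (Φ C) g z
    obtain ⟨x, hx⟩ := H6El.exists_preimage (Φ C) _ h (y - n • y') (by
      show ((Φ C).map g).hom _ = 0
      rw [map_sub, map_nsmul, ← hz, H6El.map_nsmul_id (Φ C), sub_self])
    refine ⟨((Φ C).map (cokernel.π (n • 𝟙 X))).hom x, ?_⟩
    show ((Φ C).map f').hom _ = _
    rw [← H6El.map_comp' (Φ C), show cokernel.π (n • 𝟙 X) ≫ f' = f ≫ cokernel.π (n • 𝟙 Y) from cokernel.π_desc _ _ _,
      H6El.map_comp' (Φ C), show ((Φ C).map f).hom x = y - n • y' from hx, map_sub, ← H6El.map_nsmul_id (Φ C) n y',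
      H6El.apply_of_comp_eq_zero (Φ C) (cokernel.condition _), sub_zero]
  exact mem_iso ((cokernelIsCokernel f').coconePointUniqueUpToIso hex.gIsCokernel) (mem_cokernel f' hcX hcY)

theorem mem_kernel_smul_kernel {A B : Ind C} (f : A ⟶ B) (n : ℕ)
    (hkA : Mem (kernel (n • 𝟙 A))) (hkB : Mem (kernel (n • 𝟙 B))) :
    Mem (kernel (n • 𝟙 (kernel f))) := by
  let a : kernel (n • 𝟙 (kernel f)) ⟶ kernel (n • 𝟙 A) := kernel.map _ _ (kernel.ι f) (kernel.ι f) (by simp)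
  let b : kernel (n • 𝟙 A) ⟶ kernel (n • 𝟙 B) := kernel.map _ _ f f (by simp)
  have hw : a ≫ b = 0 := by ext; simp [a, b]
  haveI : Mono a := mono_of_mono_fac (show a ≫ kernel.ι _ = kernel.ι (n • 𝟙 (kernel f)) ≫ kernel.ι f from kernel.lift_ι _ _ _)
  have hex : (ShortComplex.mk a b hw).Exact := H6El.exact_of (Φ C) _ fun x hx => by
    change ((Φ C).map b).hom x = 0 at hx
    have h1 : ((Φ C).map f).hom (((Φ C).map (kernel.ι (n • 𝟙 A))).hom x) = 0 := by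
      rw [← H6El.map_comp' (Φ C), show kernel.ι (n • 𝟙 A) ≫ f = b ≫ kernel.ι (n • 𝟙 B) from (kernel.lift_ι _ _ _).symm,
        H6El.map_comp' (Φ C), hx, map_zero]
    obtain ⟨k, hk⟩ := H6El.exists_kernel_ι (Φ C) f _ h1
    obtain ⟨k', hk'⟩ := H6El.exists_kernel_ι (Φ C) (n • 𝟙 (kernel f)) k (by
      apply H6El.inj (Φ C) (kernel.ι f)
      rw [H6El.map_nsmul_id (Φ C), map_nsmul, hk, map_zero, ← H6El.map_nsmul_id (Φ C) n,
        H6El.apply_of_comp_eq_zero (Φ C) (kernel.condition _)])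
    refine ⟨k', H6El.inj (Φ C) (kernel.ι (n • 𝟙 A)) ?_⟩
    show ((Φ C).map _).hom (((Φ C).map a).hom k') = _
    rw [← H6El.map_comp' (Φ C), show a ≫ kernel.ι (n • 𝟙 A) = kernel.ι _ ≫ kernel.ι f from kernel.lift_ι _ _ _,
      H6El.map_comp' (Φ C), hk', hk]
  exact mem_iso ((kernelIsKernel b).conePointUniqueUpToIso hex.fIsKernel) (mem_kernel b hkA hkB)

theorem mem_kernel_smul_cokernel (hart : ∀ X : C, IsArtinianObject X)
    (htor : ∀ X : C, ∃ k : ℕ, 0 < k ∧ k • 𝟙 X = 0) {A B : Ind C} (f : A ⟶ B) (n : ℕ) (hn : 0 < n)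
    (hA : ∀ j, Mem (kernel ((n ^ j) • 𝟙 A))) (hB : ∀ j, Mem (kernel ((n ^ j) • 𝟙 B))) :
    Mem (kernel (n • 𝟙 (cokernel f))) := by
  have k1 : ∀ (Y : Ind C), (∀ j, Mem (kernel ((n ^ j) • 𝟙 Y))) → Mem (kernel (n • 𝟙 Y)) := fun Y h => by
    have h1 := h 1
    rwa [pow_one] at h1
  have hK : ∀ j, Mem (kernel ((n ^ j) • 𝟙 (kernel f))) := fun j => mem_kernel_smul_kernel f _ (hA j) (hB j)
  have cA := mem_cokernel_smul hart htor A n hn hA
  have cB := mem_cokernel_smul hart htor B n hn hB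
  have cK := mem_cokernel_smul hart htor (kernel f) n hn hK
  have h₁ : (ShortComplex.mk (kernel.ι f) (Abelian.coimage.π f) (cokernel.condition _)).ShortExact :=
    { exact := ShortComplex.exact_of_g_is_cokernel _ (cokernelIsCokernel _) }
  have kI := mem_ker_coker_of_shortExact _ h₁ n (k1 _ hK) (k1 _ hA) cK cA
  have cI := mem_cokernel_smul_of_epi _ _ _ h₁.exact n cK cA
  let i : Abelian.coimage f ⟶ B := Abelian.factorThruCoimage f
  have hi : Abelian.coimage.π f ≫ i = f := Abelian.coimage.fac f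
  have w : i ≫ cokernel.π f = 0 := by
    rw [← cancel_epi (Abelian.coimage.π f), ← Category.assoc, hi, cokernel.condition, comp_zero]
  have h₂ : (ShortComplex.mk i (cokernel.π f) w).ShortExact :=
    { exact := H6El.exact_of (Φ C) _ fun b hb => by
        obtain ⟨a, ha⟩ := H6El.exists_of_cokernel_π (Φ C) f b hb
        refine ⟨((Φ C).map (Abelian.coimage.π f)).hom a, ?_⟩
        show ((Φ C).map i).hom _ = b
        rw [← H6El.map_comp' (Φ C), hi, ha]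
      mono_f := inferInstanceAs (Mono (Abelian.factorThruCoimage f))
      epi_g := inferInstanceAs (Epi (cokernel.π f)) }
  exact mem_ker_coker_of_shortExact _ h₂ n kI (k1 _ hB) cI cB

end Groth.Agent.H6IC
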