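import Mathlib.AlgebraicGeometry.Morphisms.Flat
import Mathlib.AlgebraicGeometry.Morphisms.FinitePresentation
import Mathlib.AlgebraicGeometry.Morphisms.FiniteType
import Mathlib.RingTheory.LocalRing.ResidueField.Fiber
import Mathlib.RingTheory.Ideal.GoingDown
import Mathlib.RingTheory.Spectrum.Prime.Topology
import Mathlib.RingTheory.FiniteType
import Mathlib.Topology.Irreducible

set_option linter.all false
set_option autoImplicit false

namespace Groth.Agent.H6.IrrFin

universe u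

open AlgebraicGeometry CategoryTheory TopologicalSpace

theorem minimalPrimes_finite {A B : Type u} [CommRing A] [CommRing B] [Algebra A B]
    [Module.Flat A B] [Algebra.FiniteType A B] (hA : (minimalPrimes A).Finite) :
    (minimalPrimes B).Finite := by
  let S : Set (PrimeSpectrum A) := {p | p.asIdeal ∈ minimalPrimes A}
  haveI : Finite S := by
    have : S.Finite := Set.Finite.of_finite_image (f := PrimeSpectrum.asIdeal)
      (hA.subset (by rintro _ ⟨p, hp, rfl⟩; exact hp)) fun a _ b _ e => PrimeSpectrum.ext e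
    exact this.to_subtype
  haveI hN : ∀ p : PrimeSpectrum A, IsNoetherianRing (p.asIdeal.Fiber B) := fun p =>
    Algebra.FiniteType.isNoetherianRing p.asIdeal.ResidueField _
  let F : Set (PrimeSpectrum B) := ⋃ p : S,
    (fun w => ((PrimeSpectrum.preimageOrderIsoFiber A B p.1).symm w).1) ''
      {w | w.asIdeal ∈ minimalPrimes (p.1.asIdeal.Fiber B)}
  have hF : F.Finite := Set.finite_iUnion fun p => Set.Finite.image _ <| Set.Finite.of_finite_image
    (f := PrimeSpectrum.asIdeal)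
    ((minimalPrimes.finite_of_isNoetherianRing (p.1.asIdeal.Fiber B)).subset
      (by rintro _ ⟨w, hw, rfl⟩; exact hw)) fun a _ b _ e => PrimeSpectrum.ext e
  refine (hF.image PrimeSpectrum.asIdeal).subset fun Q hQ => ?_
  haveI hQp : Q.IsPrime := hQ.1.1
  let p : PrimeSpectrum A := PrimeSpectrum.comap (algebraMap A B) ⟨Q, hQp⟩
  have hp : p ∈ S := by
    refine ⟨⟨p.isPrime, bot_le⟩, fun P' hP' hle => ?_⟩
    haveI := hP'.1
    haveI : Q.LiesOver p.asIdeal := ⟨rfl⟩
    obtain ⟨Q', hle', hQ', hlo⟩ := Ideal.exists_ideal_le_liesOver_of_le (R := A) (p := P') (q := p.asIdeal) Q hle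
    rw [hlo.1]
    exact Ideal.comap_mono (hQ.2 ⟨hQ', bot_le⟩ hle')
  let e := PrimeSpectrum.preimageOrderIsoFiber A B p
  let w := e ⟨⟨Q, hQp⟩, rfl⟩
  have hw : w.asIdeal ∈ minimalPrimes (p.asIdeal.Fiber B) := by
    refine ⟨⟨w.isPrime, bot_le⟩, fun W hW hle => ?_⟩
    let w' : PrimeSpectrum (p.asIdeal.Fiber B) := ⟨W, hW.1⟩
    have h1 : (e.symm w').1.asIdeal ≤ Q := by
      have := e.symm.monotone (show w' ≤ w from hle)
      rw [OrderIso.symm_apply_apply] at this
      exact this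
    have h2 : e.symm w' = ⟨⟨Q, hQp⟩, rfl⟩ := Subtype.ext (PrimeSpectrum.ext
      (le_antisymm h1 (hQ.2 ⟨(e.symm w').1.isPrime, bot_le⟩ h1)))
    have h3 : w' = w := by rw [← e.apply_symm_apply w', h2]
    exact (congrArg PrimeSpectrum.asIdeal h3).ge
  refine ⟨⟨Q, hQp⟩, Set.mem_iUnion.2 ⟨⟨p, hp⟩, w, hw, ?_⟩, rfl⟩
  change (e.symm (e ⟨⟨Q, hQp⟩, rfl⟩)).1 = _
  rw [OrderIso.symm_apply_apply]

theorem spec_finite_iff (R : Type u) [CommRing R] :
    (irreducibleComponents (PrimeSpectrum R)).Finite ↔ (minimalPrimes R).Finite := by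
  have e := (minimalPrimes.equivIrreducibleComponents R).toEquiv
  simp only [← Set.finite_coe_iff]
  exact ⟨fun h => haveI := h; Finite.of_equiv _ (e.trans OrderDual.ofDual).symm,
    fun h => haveI := h; Finite.of_equiv _ (e.trans OrderDual.ofDual)⟩

theorem irr_finite_of_cover {X : Type u} [TopologicalSpace X] {ι : Type u} [Finite ι]
    {Y : ι → Type u} [∀ i, TopologicalSpace (Y i)] (j : ∀ i, Y i → X)
    (hj : ∀ i, Topology.IsOpenEmbedding (j i)) (hcov : ∀ x, ∃ i, x ∈ Set.range (j i))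
    (h : ∀ i, (irreducibleComponents (Y i)).Finite) : (irreducibleComponents X).Finite := by
  refine (Set.finite_iUnion fun i => (h i).image fun C => closure (j i '' C)).subset fun T hT => ?_
  obtain ⟨x, hx⟩ := hT.1.1
  obtain ⟨i, hi⟩ := hcov x
  have hne : (T ∩ Set.range (j i)).Nonempty := ⟨x, hx, hi⟩
  refine Set.mem_iUnion.2 ⟨i, j i ⁻¹' T, preimage_mem_irreducibleComponents hT (hj i) hne, ?_⟩
  change closure (j i '' (j i ⁻¹' T)) = T
  rw [Set.image_preimage_eq_inter_range]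
  exact subset_antisymm (closure_minimal Set.inter_subset_left (isClosed_of_mem_irreducibleComponents _ hT))
    (subset_closure_inter_of_isPreirreducible_of_isOpen hT.1.2 (hj i).isOpen_range hne)

theorem affine_finite_iff {X : Scheme.{u}} {U : X.Opens} (hU : IsAffineOpen U) :
    (irreducibleComponents (U : Type u)).Finite ↔ (minimalPrimes Γ(X, U)).Finite := by
  rw [← spec_finite_iff]
  let h := hU.isoSpec.hom.homeomorph
  constructor
  · intro hf
    exact irr_finite_of_cover (ι := PUnit.{u + 1}) (fun _ => h) (fun _ => h.isOpenEmbedding)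
      (fun x => ⟨⟨⟩, h.surjective x⟩) fun _ => hf
  · intro hf
    exact irr_finite_of_cover (ι := PUnit.{u + 1}) (fun _ => h.symm) (fun _ => h.symm.isOpenEmbedding)
      (fun x => ⟨⟨⟩, h.symm.surjective x⟩) fun _ => hf

theorem finite_irr {Y X : Scheme.{u}} (f : Y ⟶ X) [Flat f] [LocallyOfFinitePresentation f]
    (hX : ∀ U : X.Opens, IsCompact (U : Set X) → (irreducibleComponents (U : Type u)).Finite)
    (V : Y.Opens) (hV : IsCompact (V : Set Y)) : (irreducibleComponents (V : Type u)).Finite := by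
  classical
  have key : ∀ y : V, ∃ (U : X.Opens) (W : Y.Opens), IsAffineOpen U ∧ IsAffineOpen W ∧ y.1 ∈ W ∧ W ≤ V ∧
      W ≤ f ⁻¹ᵁ U := fun y => by
    obtain ⟨_, ⟨U, hU, rfl⟩, hyU, -⟩ := X.isBasis_affineOpens.exists_subset_of_mem_open
      (Set.mem_univ (f.base y.1)) isOpen_univ
    obtain ⟨_, ⟨W, hW, rfl⟩, hyW, hle⟩ := Y.isBasis_affineOpens.exists_subset_of_mem_open
      (show y.1 ∈ ((V ⊓ f ⁻¹ᵁ U : Y.Opens) : Set Y) from ⟨y.2, hyU⟩) (V ⊓ f ⁻¹ᵁ U).2
    exact ⟨U, W, hU, hW, hyW, fun z hz => (hle hz).1, fun z hz => (hle hz).2⟩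
  choose U W hU hW hy hWV hle using key
  obtain ⟨t, ht⟩ := hV.elim_finite_subcover (fun y : V => (W y : Set Y)) (fun y => (W y).2)
    fun y hy' => Set.mem_iUnion.2 ⟨⟨y, hy'⟩, hy _⟩
  refine irr_finite_of_cover (ι := t) (Y := fun i => (W i.1 : Type u))
    (fun i z => ⟨z.1, hWV i.1 z.2⟩) (fun i => ?_) (fun y => ?_) fun i => ?_
  · exact Topology.IsOpenEmbedding.of_comp (g := Subtype.val) _ V.2.isOpenEmbedding_subtypeVal
      (W i.1).2.isOpenEmbedding_subtypeVal
  · obtain ⟨i, hit, hyi⟩ := Set.mem_iUnion₂.1 (ht y.2)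
    exact ⟨⟨i, hit⟩, ⟨y.1, hyi⟩, rfl⟩
  · rw [affine_finite_iff (hW i.1)]
    have hA := (affine_finite_iff (hU i.1)).1 (hX _ (hU i.1).isCompact)
    have hflat : (f.appLE (U i.1) (W i.1) (hle i.1)).hom.Flat :=
      HasRingHomProperty.appLE (P := @Flat) f inferInstance ⟨_, hU i.1⟩ ⟨_, hW i.1⟩ (hle i.1)
    have hft : (f.appLE (U i.1) (W i.1) (hle i.1)).hom.FiniteType :=
      HasRingHomProperty.appLE (P := @LocallyOfFiniteType) f inferInstance ⟨_, hU i.1⟩ ⟨_, hW i.1⟩ (hle i.1)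
    algebraize [(f.appLE (U i.1) (W i.1) (hle i.1)).hom]
    exact minimalPrimes_finite hA

end Groth.Agent.H6.IrrFin
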