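import Mathlib
import Groth.Agent.Lib.H6.ExactElem

set_option autoImplicit false
set_option linter.style.haveILetI false
set_option backward.isDefEq.respectTransparency.types false
set_option maxHeartbeats 1000000
universe v u

namespace Groth.Agent.H6JH

open CategoryTheory Limits

variable {A : Type u} [Category.{v} A] [Abelian A] {X : A}

local notation "Φ" => Abelian.FreydMitchell.functor A

instance : (Abelian.FreydMitchell.functor A).Additive := Functor.additive_of_preserves_binary_products _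

noncomputable def R (S : Subobject X) : Submodule (Abelian.FreydMitchell.EmbeddingRing A) ((Φ).obj X) :=
  LinearMap.range ((Φ).map S.arrow).hom

theorem mem_R {S : Subobject X} {z : (Φ).obj X} : z ∈ R S ↔ ∃ s, ((Φ).map S.arrow).hom s = z := LinearMap.mem_range

theorem R_le {S T : Subobject X} : R S ≤ R T ↔ S ≤ T := by
  rw [H6El.le_iff Φ]
  exact ⟨fun h x => h ⟨x, rfl⟩, fun h => by rintro _ ⟨x, rfl⟩; exact h x⟩

theorem R_inf (S T : Subobject X) : R (S ⊓ T) = R S ⊓ R T := by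
  refine le_antisymm (le_inf (R_le.2 inf_le_left) (R_le.2 inf_le_right)) ?_
  rintro z ⟨⟨s, hs⟩, ⟨t, ht⟩⟩
  let q : (S : A) ⊞ (T : A) ⟶ X := biprod.desc S.arrow (-T.arrow)
  let m := kernel.ι q ≫ biprod.fst ≫ S.arrow
  have hm : m = kernel.ι q ≫ biprod.snd ≫ T.arrow := by
    have e : q = biprod.fst ≫ S.arrow - biprod.snd ≫ T.arrow := by ext <;> simp [q]
    rw [← sub_eq_zero, show m = kernel.ι q ≫ biprod.fst ≫ S.arrow from rfl, ← Preadditive.comp_sub]
    exact (congrArg (kernel.ι q ≫ ·) e.symm).trans (kernel.condition q)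
  have hle : imageSubobject m ≤ S ⊓ T :=
    le_inf (imageSubobject_le _ (kernel.ι q ≫ biprod.fst) (Category.assoc _ _ _))
      (imageSubobject_le _ (kernel.ι q ≫ biprod.snd) ((Category.assoc _ _ _).trans hm.symm))
  refine R_le.2 hle ?_
  let w := ((Φ).map (biprod.inl : (S : A) ⟶ _ ⊞ (T : A))).hom s + ((Φ).map biprod.inr).hom t
  have hw : ((Φ).map q).hom w = 0 := by
    rw [map_add, ← H6El.map_comp' Φ, ← H6El.map_comp' Φ, biprod.inl_desc, biprod.inr_desc, Functor.map_neg]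
    show _ + -((Φ).map T.arrow).hom t = 0
    rw [hs, ht, add_neg_cancel]
  obtain ⟨k, hk⟩ := H6El.exists_kernel_ι Φ q w hw
  refine ⟨((Φ).map (factorThruImageSubobject m)).hom k, ?_⟩
  rw [← H6El.map_comp' Φ, imageSubobject_arrow_comp, H6El.map_comp' Φ, hk, H6El.map_comp' Φ, map_add,
    ← H6El.map_comp' Φ, ← H6El.map_comp' Φ, biprod.inl_fst, biprod.inr_fst, H6El.map_zero' Φ, add_zero,
    CategoryTheory.Functor.map_id]
  exact hs

theorem R_sup (S T : Subobject X) : R (S ⊔ T) = R S ⊔ R T := by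
  refine le_antisymm ?_ (sup_le (R_le.2 le_sup_left) (R_le.2 le_sup_right))
  let q : (S : A) ⊞ (T : A) ⟶ X := biprod.desc S.arrow T.arrow
  have hle : S ⊔ T ≤ imageSubobject q := by
    refine sup_le ?_ ?_
    · exact Subobject.le_of_comm (biprod.inl ≫ factorThruImageSubobject q)
        (by rw [Category.assoc, imageSubobject_arrow_comp, biprod.inl_desc])
    · exact Subobject.le_of_comm (biprod.inr ≫ factorThruImageSubobject q)
        (by rw [Category.assoc, imageSubobject_arrow_comp, biprod.inr_desc])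
  refine (R_le.2 hle).trans ?_
  rintro _ ⟨y, rfl⟩
  obtain ⟨w, rfl⟩ := H6El.surj Φ (factorThruImageSubobject q) y
  rw [← H6El.map_comp' Φ, imageSubobject_arrow_comp, H6El.biprod_total Φ w, map_add, ← H6El.map_comp' Φ,
    ← H6El.map_comp' Φ _ q, biprod.inl_desc, biprod.inr_desc]
  exact Submodule.add_mem_sup ⟨_, rfl⟩ ⟨_, rfl⟩

instance : IsModularLattice (Subobject X) where
  sup_inf_le_assoc_of_le {x} y {z} hxz := by
    rw [← R_le, R_inf, R_sup, R_sup, R_inf]
    exact IsModularLattice.sup_inf_le_assoc_of_le (R y) (R_le.2 hxz)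

theorem ofLE_apply {a b : Subobject X} (h : a ≤ b) (x : (Φ).obj (a : A)) :
    ((Φ).map b.arrow).hom (((Φ).map (Subobject.ofLE a b h)).hom x) = ((Φ).map a.arrow).hom x := by
  rw [← H6El.map_comp' Φ, Subobject.ofLE_arrow]

theorem mem_of_π {a b : Subobject X} (h : a ≤ b) (x : (Φ).obj (b : A))
    (hx : ((Φ).map (cokernel.π (Subobject.ofLE a b h))).hom x = 0) : ((Φ).map b.arrow).hom x ∈ R a := by
  obtain ⟨y, hy⟩ := H6El.exists_of_cokernel_π Φ _ x hx
  exact ⟨y, by rw [← hy, ofLE_apply]⟩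

theorem π_eq_zero {a b : Subobject X} (h : a ≤ b) (x : (Φ).obj (b : A)) (hx : ((Φ).map b.arrow).hom x ∈ R a) :
    ((Φ).map (cokernel.π (Subobject.ofLE a b h))).hom x = 0 := by
  obtain ⟨y, hy⟩ := hx
  rw [show x = ((Φ).map (Subobject.ofLE a b h)).hom y from H6El.inj Φ b.arrow (by rw [ofLE_apply, hy])]
  exact H6El.apply_of_comp_eq_zero Φ (cokernel.condition _) y

theorem covBy_of_simple {a b : Subobject X} (h : a ≤ b) (hs : Simple (cokernel (Subobject.ofLE a b h))) : a ⋖ b := by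
  refine ⟨lt_of_le_of_ne h fun e => ?_, fun c hac hcb => ?_⟩
  · subst e
    have : cokernel.π (Subobject.ofLE a a h) = 0 := H6El.eq_zero_of Φ _ fun x => π_eq_zero h x ⟨x, rfl⟩
    exact @Simple.not_isZero _ _ _ _ hs ((IsZero.iff_id_eq_zero _).2 (by rw [← cancel_epi (cokernel.π (Subobject.ofLE a a h)), this, zero_comp, zero_comp]))
  · let g := Subobject.ofLE c b hcb.le ≫ cokernel.π (Subobject.ofLE a b h)
    by_cases hz : image.ι g = 0
    · refine hac.not_ge (R_le.1 ?_)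
      rintro _ ⟨x, rfl⟩
      rw [← ofLE_apply hcb.le]
      refine mem_of_π h _ ?_
      rw [← H6El.map_comp' Φ]
      show ((Φ).map g).hom x = 0
      rw [← image.fac g, hz, comp_zero, H6El.map_zero' Φ]
    · haveI := (@Simple.mono_isIso_iff_nonzero _ _ _ _ hs _ (image.ι g) _).2 hz
      haveI : Epi g := by rw [← image.fac g]; infer_instance
      refine hcb.not_ge (R_le.1 ?_)
      rintro _ ⟨x, rfl⟩
      obtain ⟨y, hy⟩ := H6El.surj Φ g (((Φ).map (cokernel.π (Subobject.ofLE a b h))).hom x)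
      rw [H6El.map_comp' Φ] at hy
      have h0 := mem_of_π h (x - ((Φ).map (Subobject.ofLE c b hcb.le)).hom y) (by rw [map_sub, hy, sub_self])
      rw [map_sub, ofLE_apply] at h0
      have := add_mem (R_le.2 hac.le h0) (⟨y, rfl⟩ : ((Φ).map c.arrow).hom y ∈ R c)
      rwa [sub_add_cancel] at this

/-- quotient of an interval, as a relation -/
def E (p q : Subobject X × Subobject X) : Prop :=
  ∀ (hp : p.1 ≤ p.2) (hq : q.1 ≤ q.2),
    Nonempty (cokernel (Subobject.ofLE p.1 p.2 hp) ≅ cokernel (Subobject.ofLE q.1 q.2 hq))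

theorem second_iso (x y : Subobject X) :
    Nonempty (cokernel (Subobject.ofLE (x ⊓ y) y inf_le_right) ≅ cokernel (Subobject.ofLE x (x ⊔ y) le_sup_left)) := by
  let φ : cokernel (Subobject.ofLE (x ⊓ y) y inf_le_right) ⟶ cokernel (Subobject.ofLE x (x ⊔ y) le_sup_left) :=
    cokernel.desc _ (Subobject.ofLE y (x ⊔ y) le_sup_right ≫ cokernel.π _) (H6El.eq_zero_of Φ _ fun z => by
      rw [H6El.map_comp' Φ, H6El.map_comp' Φ]
      refine π_eq_zero _ _ ?_
      rw [ofLE_apply, ofLE_apply]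
      exact R_le.2 inf_le_left ⟨z, rfl⟩)
  have hφ : ∀ z, ((Φ).map φ).hom (((Φ).map (cokernel.π _)).hom z) =
      ((Φ).map (cokernel.π (Subobject.ofLE x (x ⊔ y) le_sup_left))).hom (((Φ).map (Subobject.ofLE y (x ⊔ y) le_sup_right)).hom z) :=
    fun z => by rw [← H6El.map_comp' Φ, cokernel.π_desc, H6El.map_comp' Φ]
  haveI : Mono φ := H6El.mono_of Φ φ ((injective_iff_map_eq_zero _).2 fun c hc => by
    obtain ⟨z, rfl⟩ := H6El.surj Φ (cokernel.π _) c
    rw [hφ] at hc
    have h0 := mem_of_π _ _ hc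
    rw [ofLE_apply] at h0
    exact π_eq_zero _ _ (by rw [R_inf]; exact ⟨h0, z, rfl⟩))
  haveI : Epi φ := H6El.epi_of Φ φ fun c => by
    obtain ⟨w, rfl⟩ := H6El.surj Φ (cokernel.π _) c
    have h0 : ((Φ).map (x ⊔ y).arrow).hom w ∈ R x ⊔ R y := by rw [← R_sup]; exact ⟨w, rfl⟩
    obtain ⟨a, ha, _, ⟨z, rfl⟩, hab⟩ := Submodule.mem_sup.1 h0
    refine ⟨((Φ).map (cokernel.π _)).hom z, ?_⟩
    rw [hφ, ← sub_eq_zero, ← map_sub]
    refine π_eq_zero _ _ ?_
    rw [map_sub, ofLE_apply, ← hab]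
    simpa using neg_mem ha
  haveI := isIso_of_mono_of_epi φ
  exact ⟨asIso φ⟩

theorem iso_E {p q : Subobject X × Subobject X} (h : JordanHolderLattice.Iso p q) : p.1 ≤ p.2 → E p q := by
  intro hp
  have key : (p.1 ≤ p.2 ↔ q.1 ≤ q.2) ∧ E p q := by
    refine JordanHolderLattice.Iso.rel (fun p q => (p.1 ≤ p.2 ↔ q.1 ≤ q.2) ∧ E p q) ?_ ?_ ?_ ?_ h
    · exact fun {x} => ⟨Iff.rfl, fun _ _ => ⟨Iso.refl _⟩⟩
    · exact fun {x y} h => ⟨h.1.symm, fun h1 h2 => ⟨(h.2 h2 h1).some.symm⟩⟩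
    · exact fun {x y z} h h' => ⟨h.1.trans h'.1, fun h1 h2 => ⟨(h.2 h1 (h.1.1 h1)).some ≪≫ (h'.2 (h.1.1 h1) h2).some⟩⟩
    · intro x y _
      exact ⟨⟨fun _ => inf_le_right, fun _ => le_sup_left⟩, fun _ _ => ⟨(second_iso x y).some.symm⟩⟩
  exact key.2

end Groth.Agent.H6JH
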