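import Mathlib

set_option autoImplicit false
set_option backward.isDefEq.respectTransparency.types false
universe u

namespace Groth.Agent.H6Kan

open CategoryTheory Simplicial Opposite

variable {Xs Ys : SimplicialObject AddCommGrpCat.{u}} (f : Xs ⟶ Ys)

theorem dd {n : ℕ} {i j : Fin (n + 2)} (H : i ≤ j) (z : Xs _⦋n + 2⦌) :
    Xs.δ i (Xs.δ j.succ z) = Xs.δ j (Xs.δ i.castSucc z) :=
  ConcreteCategory.congr_hom (Xs.δ_comp_δ H) z

theorem ds_self {n : ℕ} (i : Fin (n + 1)) (z : Xs _⦋n⦌) : Xs.δ i.castSucc (Xs.σ i z) = z :=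
  ConcreteCategory.congr_hom Xs.δ_comp_σ_self z

theorem ds_succ {n : ℕ} (i : Fin (n + 1)) (z : Xs _⦋n⦌) : Xs.δ i.succ (Xs.σ i z) = z :=
  ConcreteCategory.congr_hom Xs.δ_comp_σ_succ z

theorem ds_le {n : ℕ} {i : Fin (n + 2)} {j : Fin (n + 1)} (H : i ≤ j.castSucc) (z : Xs _⦋n + 1⦌) :
    Xs.δ i.castSucc (Xs.σ j.succ z) = Xs.σ j (Xs.δ i z) :=
  ConcreteCategory.congr_hom (Xs.δ_comp_σ_of_le H) z

theorem ds_gt {n : ℕ} {i : Fin (n + 2)} {j : Fin (n + 1)} (H : j.castSucc < i) (z : Xs _⦋n + 1⦌) :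
    Xs.δ i.succ (Xs.σ j.castSucc z) = Xs.σ j (Xs.δ i z) :=
  ConcreteCategory.congr_hom (Xs.δ_comp_σ_of_gt H) z

theorem nat_δ {n : ℕ} (i : Fin (n + 2)) (z : Xs _⦋n + 1⦌) :
    f.app (op ⦋n⦌) (Xs.δ i z) = Ys.δ i (f.app (op ⦋n + 1⦌) z) :=
  ConcreteCategory.congr_hom (SimplicialObject.δ_naturality f i) z

theorem nat_σ {n : ℕ} (i : Fin (n + 1)) (z : Xs _⦋n⦌) :
    f.app (op ⦋n + 1⦌) (Xs.σ i z) = Ys.σ i (f.app (op ⦋n⦌) z) :=
  ConcreteCategory.congr_hom (SimplicialObject.σ_naturality f i) z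

/-- horn fillers in the kernel of `f` -/
theorem fill_succ {m : ℕ} (k : Fin (m + 3)) (x : Fin (m + 3) → Xs _⦋m + 1⦌)
    (hx : ∀ j, j ≠ k → f.app (op ⦋m + 1⦌) (x j) = 0)
    (hc : ∀ i j : Fin (m + 2), i ≤ j → i.castSucc ≠ k → j.succ ≠ k →
      Xs.δ i (x j.succ) = Xs.δ j (x i.castSucc)) :
    ∃ w : Xs _⦋m + 2⦌, f.app (op ⦋m + 2⦌) w = 0 ∧ ∀ j, j ≠ k → Xs.δ j w = x j := by
  have A : ∀ r : ℕ, r ≤ k.val → ∃ w : Xs _⦋m + 2⦌, f.app (op ⦋m + 2⦌) w = 0 ∧
      ∀ j, j.val < r → Xs.δ j w = x j := by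
    intro r
    induction r with
    | zero => exact fun _ => ⟨0, map_zero _, fun j h => absurd h (by omega)⟩
    | succ r ih =>
      intro hr
      obtain ⟨w, hw0, hw⟩ := ih (by omega)
      have hk := k.isLt
      let a : Fin (m + 2) := ⟨r, by omega⟩
      have hak : a.castSucc ≠ k := fun h => by
        have := congrArg Fin.val h
        simp [a] at this; omega
      refine ⟨w + Xs.σ a (x a.castSucc - Xs.δ a.castSucc w), ?_, fun j hj => ?_⟩
      · rw [map_add, hw0, nat_σ, map_sub, hx _ hak, nat_δ, hw0, map_zero, sub_zero, map_zero, zero_add]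
      · rw [map_add]
        rcases Nat.lt_succ_iff_lt_or_eq.1 hj with h | h
        · obtain ⟨i, rfl⟩ : ∃ i : Fin (m + 2), i.castSucc = j := ⟨⟨j.val, by omega⟩, Fin.ext rfl⟩
          simp only [Fin.val_castSucc] at h
          obtain ⟨b, hb⟩ : ∃ b : Fin (m + 1), b.succ = a := ⟨⟨r - 1, by omega⟩, Fin.ext (by simp [a]; omega)⟩
          have hbv : b.val + 1 = r := by
            have := congrArg Fin.val hb
            simpa [a] using this
          have hib : i ≤ b.castSucc := Fin.le_def.2 (by simp; omega)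
          rw [← hb, ds_le hib, map_sub]
          have e1 : (b.succ).castSucc = (b.castSucc).succ := (Fin.succ_castSucc b).symm
          rw [e1, hc i b.castSucc hib (fun h' => by have := congrArg Fin.val h'; simp at this; omega)
            (by rw [← e1, hb]; exact hak), dd hib, hw _ (by simpa using h), sub_self, map_zero, add_zero]
        · obtain rfl : j = a.castSucc := Fin.ext h
          rw [ds_self, add_sub_cancel]
  have B : ∀ r : ℕ, ∃ w : Xs _⦋m + 2⦌, f.app (op ⦋m + 2⦌) w = 0 ∧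
      ∀ j, j ≠ k → (j.val < k.val ∨ m + 3 ≤ j.val + r) → Xs.δ j w = x j := by
    intro r
    induction r with
    | zero =>
      obtain ⟨w, hw0, hw⟩ := A k.val le_rfl
      exact ⟨w, hw0, fun j _ h => hw j (h.resolve_right (by omega))⟩
    | succ r ih =>
      obtain ⟨w, hw0, hw⟩ := ih
      by_cases hr : m + 3 ≤ k.val + (r + 1)
      · refine ⟨w, hw0, fun j hj h => hw j hj ?_⟩
        have : j.val ≠ k.val := fun h' => hj (Fin.ext h')
        omega
      let a : Fin (m + 2) := ⟨m + 1 - r, by omega⟩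
      have hav : a.val + r = m + 1 := by simp [a]; omega
      have hak : a.succ ≠ k := fun h => by
        have := congrArg Fin.val h
        simp at this; omega
      refine ⟨w + Xs.σ a (x a.succ - Xs.δ a.succ w), ?_, fun j hj h => ?_⟩
      · rw [map_add, hw0, nat_σ, map_sub, hx _ hak, nat_δ, hw0, map_zero, sub_zero, map_zero, zero_add]
      · rw [map_add]
        rcases lt_trichotomy j.val (a.val + 1) with h' | h' | h'
        · have hjk : j.val < k.val := by
            have : j.val ≠ k.val := fun h' => hj (Fin.ext h')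
            omega
          obtain ⟨i, rfl⟩ : ∃ i : Fin (m + 2), i.castSucc = j := ⟨⟨j.val, by omega⟩, Fin.ext rfl⟩
          simp only [Fin.val_castSucc] at hjk h'
          obtain ⟨b, hb⟩ : ∃ b : Fin (m + 1), b.succ = a := ⟨⟨a.val - 1, by omega⟩, Fin.ext (by simp; omega)⟩
          have hbv : b.val + 1 = a.val := by
            have := congrArg Fin.val hb
            simpa using this
          have hib : i ≤ b.castSucc := Fin.le_def.2 (by simp; omega)
          have hia : i ≤ a := Fin.le_def.2 (by simp; omega)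
          conv_lhs => rw [← hb]
          rw [ds_le hib, map_sub]
          have e1 := hc i a hia hj hak
          have e2 := dd hia w
          rw [hb, e1, e2, hw _ hj (Or.inl (by simpa using hjk)), sub_self, map_zero, add_zero]
        · obtain rfl : j = a.succ := Fin.ext (by simpa using h')
          rw [ds_succ, add_sub_cancel]
        · obtain ⟨i, rfl⟩ : ∃ i : Fin (m + 2), i.succ = j :=
            ⟨⟨j.val - 1, by omega⟩, Fin.ext (by simp; omega)⟩
          simp only [Fin.val_succ] at h'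
          obtain ⟨b, hb⟩ : ∃ b : Fin (m + 1), b.castSucc = a := ⟨⟨a.val, by have := i.isLt; omega⟩, Fin.ext rfl⟩
          have hbv : b.val = a.val := by
            have := congrArg Fin.val hb
            simpa using this
          have hbi : b.castSucc < i := by
            simp [Fin.lt_def]; omega
          have hsi : b.succ ≤ i := Fin.le_def.2 (by simp; omega)
          have e0 : b.succ.castSucc = a.succ := by rw [← hb, Fin.succ_castSucc]
          conv_lhs => rw [← hb]
          rw [ds_gt hbi, map_sub, hb, ← e0,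
            ← hc b.succ i hsi (by rw [e0]; exact hak) hj, ← dd hsi,
            hw _ hj (Or.inr (by simp; omega)), sub_self, map_zero, add_zero]
  obtain ⟨w, hw0, hw⟩ := B (m + 3)
  exact ⟨w, hw0, fun j hj => hw j hj (Or.inr (by omega))⟩

theorem kan (hf : ∀ n : SimplexCategoryᵒᵖ, Function.Surjective (f.app n)) :
    SSet.modelCategoryQuillen.J.rlp (X := Xs ⋙ forget AddCommGrpCat.{u}) (Y := Ys ⋙ forget AddCommGrpCat.{u})
      (Functor.whiskerRight f (forget AddCommGrpCat.{u})) := by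
  intro A B g hg
  simp only [SSet.modelCategoryQuillen.J, MorphismProperty.iSup_iff] at hg
  obtain ⟨n, ⟨k⟩⟩ := hg
  refine ⟨fun {a b} sq => ?_⟩
  let x : Fin (n + 2) → Xs _⦋n⦌ := fun j =>
    if h : j = k then 0 else SSet.yonedaEquiv (SSet.horn.ι k j h ≫ a)
  let y : Ys _⦋n + 1⦌ := SSet.yonedaEquiv b
  obtain ⟨x₀, hx₀⟩ := hf (op ⦋n + 1⦌) y
  have hxy : ∀ j, j ≠ k → f.app (op ⦋n⦌) (x j) = Ys.δ j y := by
    intro j hj
    simp only [x, dif_neg hj]
    have h := congrArg (fun t => SSet.horn.ι k j hj ≫ t) sq.w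
    rw [SSet.horn.ι_ι_assoc] at h
    have := congrArg SSet.yonedaEquiv h
    rw [SSet.stdSimplex.yonedaEquiv_δ_comp, ← Category.assoc, SSet.yonedaEquiv_comp] at this
    exact this
  have hK : ∀ j, j ≠ k → f.app (op ⦋n⦌) (x j - Xs.δ j x₀) = 0 := fun j hj => by
    rw [map_sub, hxy j hj, nat_δ, hx₀, sub_self]
  have key : ∃ w : Xs _⦋n + 1⦌, f.app (op ⦋n + 1⦌) w = 0 ∧ ∀ j, j ≠ k → Xs.δ j w = x j - Xs.δ j x₀ := by
    cases n with
    | zero =>
      have hjj : ∀ j j' : Fin 2, j ≠ k → j' ≠ k → j = j' := fun j j' h h' => by omega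
      obtain ⟨j, hj⟩ := exists_ne k
      refine ⟨Xs.σ 0 (x j - Xs.δ j x₀), by rw [nat_σ, hK j hj, map_zero], fun j' hj' => ?_⟩
      obtain rfl := hjj j j' hj hj'
      fin_cases j
      · exact ds_self 0 _
      · exact ds_succ 0 _
    | succ m =>
      refine fill_succ f k (fun j => x j - Xs.δ j x₀) hK fun i j hij hi hj => ?_
      rw [map_sub, map_sub, dd hij]
      congr 1
      simp only [x, dif_neg hi, dif_neg hj]
      have h : SSet.stdSimplex.δ i ≫ SSet.horn.ι k j.succ hj =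
          SSet.stdSimplex.δ j ≫ SSet.horn.ι k i.castSucc hi := by
        rw [← cancel_mono (SSet.horn (m + 1 + 1) k).ι, Category.assoc, Category.assoc,
          SSet.horn.ι_ι, SSet.horn.ι_ι]
        exact CosimplicialObject.δ_comp_δ SSet.stdSimplex hij
      have := congrArg SSet.yonedaEquiv (congrArg (fun t => t ≫ a) h)
      simp only [Category.assoc] at this
      rw [SSet.stdSimplex.yonedaEquiv_δ_comp, SSet.stdSimplex.yonedaEquiv_δ_comp] at this
      exact this
  obtain ⟨w, hw0, hw⟩ := key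
  refine ⟨⟨{ l := SSet.yonedaEquiv.symm (x₀ + w : Xs _⦋n + 1⦌), fac_left := ?_, fac_right := ?_ }⟩⟩
  · refine SSet.horn.hom_ext _ _ fun j hj => ?_
    rw [← SSet.horn.yonedaEquiv_ι k j hj, ← SSet.yonedaEquiv_comp, ← SSet.yonedaEquiv_comp,
      SSet.horn.ι_ι_assoc, SSet.stdSimplex.yonedaEquiv_δ_comp, Equiv.apply_symm_apply]
    show Xs.δ j (x₀ + w) = _
    rw [map_add, hw j hj, add_sub_cancel]
    simp only [x, dif_neg hj]
  · apply SSet.yonedaEquiv.injective
    rw [SSet.yonedaEquiv_comp, Equiv.apply_symm_apply]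
    show f.app (op ⦋n + 1⦌) (x₀ + w) = y
    rw [map_add, hw0, hx₀, add_zero]

end Groth.Agent.H6Kan
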