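import Mathlib
import Groth.Agent.Lib.H6.KanFill

set_option autoImplicit false
set_option backward.isDefEq.respectTransparency.types false
set_option maxHeartbeats 1000000
universe u

namespace Groth.Agent.H6Kan

open CategoryTheory Simplicial Opposite AlgebraicTopology

theorem exists_bdry {K L : ChainComplex AddCommGrpCat.{u} ℕ} (φ : K ⟶ L) [QuasiIso φ]
    (hφ : ∀ n, Function.Surjective (φ.f n)) (n k : ℕ) (hk : (ComplexShape.down ℕ).next n = k)
    (z : K.X n) (hz : K.d n k z = 0) (hz0 : φ.f n z = 0) :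
    ∃ v : K.X (n + 1), φ.f (n + 1) v = 0 ∧ K.d (n + 1) n v = z := by
  have cyc : ∀ (C : ChainComplex AddCommGrpCat.{u} ℕ) i j, (ComplexShape.down ℕ).next i = j → ∀ x : C.X i,
      C.d i j x = 0 → ∃ y : C.cycles i, C.iCycles i y = x := fun C i j hj x hx =>
    (ShortComplex.ab_exact_iff _).1
      (ShortComplex.exact_of_f_is_kernel (ShortComplex.mk (C.iCycles i) (C.d i j) (C.iCycles_d i j))
        (C.cyclesIsKernel i j hj)) x hx
  have bd : ∀ (C : ChainComplex AddCommGrpCat.{u} ℕ) i, ∀ y : C.cycles i, C.homologyπ i y = 0 →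
      ∃ u : C.X (i + 1), C.toCycles (i + 1) i u = y := fun C i y hy =>
    (ShortComplex.ab_exact_iff _).1
      (ShortComplex.exact_of_g_is_cokernel (ShortComplex.mk (C.toCycles (i + 1) i) (C.homologyπ i)
        (C.toCycles_comp_homologyπ (i + 1) i))
        (C.homologyIsCokernel (i + 1) i (ChainComplex.prev ℕ i))) y hy
  have nat : ∀ i (y : K.cycles i),
      L.iCycles i (HomologicalComplex.cyclesMap φ i y) = φ.f i (K.iCycles i y) := fun i y =>
    ConcreteCategory.congr_hom (HomologicalComplex.cyclesMap_i φ i) y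
  have natπ : ∀ i (y : K.cycles i),
      HomologicalComplex.homologyMap φ i (K.homologyπ i y) = L.homologyπ i (HomologicalComplex.cyclesMap φ i y) :=
    fun i y => ConcreteCategory.congr_hom (HomologicalComplex.homologyπ_naturality φ i) y
  have inj : ∀ (C : ChainComplex AddCommGrpCat.{u} ℕ) i, Function.Injective (C.iCycles i) := fun C i =>
    (AddCommGrpCat.mono_iff_injective _).1 inferInstance
  have bij : ∀ i, Function.Bijective (HomologicalComplex.homologyMap φ i) := fun i => by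
    haveI : IsIso (HomologicalComplex.homologyMap φ i) := inferInstance
    exact ConcreteCategory.bijective_of_isIso _
  obtain ⟨zc, rfl⟩ := cyc K n k hk z hz
  have h0 : HomologicalComplex.cyclesMap φ n zc = 0 := inj L n (by rw [nat, hz0, map_zero])
  obtain ⟨u, hu⟩ := bd K n zc ((bij n).1 (by rw [natπ, h0, map_zero, map_zero]))
  have hdu : K.d (n + 1) n u = K.iCycles n zc := by
    rw [← hu]
    exact (ConcreteCategory.congr_hom (K.toCycles_i (i := n + 1) (j := n)) u).symm
  obtain ⟨yc, hyc⟩ := cyc L (n + 1) n (ChainComplex.next_nat_succ n) (φ.f (n + 1) u) (by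
    have := ConcreteCategory.congr_hom (φ.comm (n + 1) n) u
    exact this.trans ((congrArg (φ.f n) hdu).trans hz0))
  obtain ⟨h, hh⟩ := (bij (n + 1)).2 (L.homologyπ (n + 1) yc)
  obtain ⟨cc, hcc⟩ := (AddCommGrpCat.epi_iff_surjective (K.homologyπ (n + 1))).1 inferInstance h
  obtain ⟨y', hy'⟩ := bd L (n + 1) (yc - HomologicalComplex.cyclesMap φ (n + 1) cc) (by
    rw [map_sub, ← natπ, hcc, hh, sub_self])
  obtain ⟨t, rfl⟩ := hφ (n + 2) y'
  refine ⟨u - K.iCycles (n + 1) cc - K.d (n + 2) (n + 1) t, ?_, ?_⟩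
  · have e1 : φ.f (n + 1) (K.d (n + 2) (n + 1) t) = L.d (n + 2) (n + 1) (φ.f (n + 2) t) :=
      (ConcreteCategory.congr_hom (φ.comm (n + 2) (n + 1)) t).symm
    have e2 : L.d (n + 2) (n + 1) (φ.f (n + 2) t) = φ.f (n + 1) u - φ.f (n + 1) (K.iCycles (n + 1) cc) := by
      rw [← hyc, ← nat, ← map_sub, ← hy']
      exact (ConcreteCategory.congr_hom (L.toCycles_i (i := n + 2) (j := n + 1)) _).symm
    rw [map_sub, map_sub, e1, e2, sub_self]
  · have e1 : K.d (n + 1) n (K.iCycles (n + 1) cc) = 0 :=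
      ConcreteCategory.congr_hom (K.iCycles_d (n + 1) n) cc
    have e2 : K.d (n + 1) n (K.d (n + 2) (n + 1) t) = 0 :=
      ConcreteCategory.congr_hom (K.d_comp_d (n + 2) (n + 1) n) t
    rw [map_sub, map_sub, e1, e2, sub_zero, sub_zero, hdu]

variable {Xs Ys : SimplicialObject AddCommGrpCat.{u}} (f : Xs ⟶ Ys)

theorem d_apply {n : ℕ} (v : Xs _⦋n + 1⦌) :
    ((alternatingFaceMapComplex AddCommGrpCat.{u}).obj Xs).d (n + 1) n v =
      ∑ i : Fin (n + 2), (-1 : ℤ) ^ (i : ℕ) • Xs.δ i v := by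
  rw [alternatingFaceMapComplex_obj_d]
  refine (map_sum (AddMonoidHom.mk' (fun g : Xs _⦋n + 1⦌ ⟶ Xs _⦋n⦌ => g v) (fun _ _ => rfl)) _ _).trans ?_
  exact Finset.sum_congr rfl fun i _ =>
    map_zsmul (AddMonoidHom.mk' (fun g : Xs _⦋n + 1⦌ ⟶ Xs _⦋n⦌ => g v) (fun _ _ => rfl)) _ _

theorem fill_sphere (hf : ∀ n : SimplexCategoryᵒᵖ, Function.Surjective (f.app n))
    [QuasiIso ((alternatingFaceMapComplex AddCommGrpCat.{u}).map f)] {n : ℕ} (z : Xs _⦋n⦌)
    (hz0 : f.app (op ⦋n⦌) z = 0) (hz : ∀ m, ∀ h : n = m + 1, ∀ i, Xs.δ (n := m) i (h ▸ z) = 0) :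
    ∃ v : Xs _⦋n + 1⦌, f.app (op ⦋n + 1⦌) v = 0 ∧ (∀ j : Fin (n + 1), Xs.δ j.succ v = 0) ∧ Xs.δ 0 v = z := by
  let φ := (alternatingFaceMapComplex AddCommGrpCat.{u}).map f
  obtain ⟨v, hv0, hv⟩ := exists_bdry φ (fun m => hf _) n ((ComplexShape.down ℕ).next n) rfl z (by
    cases n with
    | zero =>
      rw [HomologicalComplex.shape _ _ _ (by simp)]
      rfl
    | succ m =>
      rw [ChainComplex.next_nat_succ, d_apply]
      exact Finset.sum_eq_zero fun i _ => by rw [hz m rfl i, smul_zero]) hz0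
  let P := (DoldKan.PInfty : (alternatingFaceMapComplex AddCommGrpCat.{u}).obj Xs ⟶ _)
  have hP : ∀ j : Fin (n + 1), Xs.δ j.succ (P.f (n + 1) v) = 0 := fun j =>
    ConcreteCategory.congr_hom (DoldKan.HigherFacesVanish.of_P (X := Xs) (n + 1) n j (by omega)) v
  refine ⟨P.f (n + 1) v, ?_, hP, ?_⟩
  · have := ConcreteCategory.congr_hom (DoldKan.PInfty_f_naturality (n + 1) f) v
    refine Eq.trans this.symm ?_
    rw [ConcreteCategory.comp_apply, show f.app (op ⦋n + 1⦌) v = 0 from hv0]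
    exact map_zero _
  · have hcomm := ConcreteCategory.congr_hom (P.comm (n + 1) n) v
    have hPz : P.f n z = z := by
      cases n with
      | zero => rfl
      | succ m =>
        let φz : AddCommGrpCat.of (ULift.{u} ℤ) ⟶ Xs _⦋m + 1⦌ :=
          AddCommGrpCat.ofHom ((zmultiplesHom (Xs _⦋m + 1⦌) z).comp AddEquiv.ulift.toAddMonoidHom)
        have hvan : DoldKan.HigherFacesVanish (m + 1) φz := fun j _ => by
          refine ConcreteCategory.hom_ext _ _ fun a => ?_
          show Xs.δ j.succ (a.down • z) = 0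
          rw [map_zsmul, hz m rfl, smul_zero]
        have := ConcreteCategory.congr_hom hvan.comp_P_eq_self ⟨1⟩
        have h1 : φz ⟨1⟩ = z := one_zsmul z
        rw [ConcreteCategory.comp_apply, h1] at this
        exact this
    have h2 : ((alternatingFaceMapComplex AddCommGrpCat.{u}).obj Xs).d (n + 1) n (P.f (n + 1) v) = z :=
      hcomm.trans ((congrArg (P.f n) hv).trans hPz)
    rw [d_apply, Fin.sum_univ_succ, Finset.sum_eq_zero (fun i _ => by rw [hP i, smul_zero]), add_zero] at h2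
    simpa using h2

theorem trivial_kan (hf : ∀ n : SimplexCategoryᵒᵖ, Function.Surjective (f.app n))
    [QuasiIso ((alternatingFaceMapComplex AddCommGrpCat.{u}).map f)] :
    SSet.modelCategoryQuillen.I.rlp (X := Xs ⋙ forget AddCommGrpCat.{u}) (Y := Ys ⋙ forget AddCommGrpCat.{u})
      (Functor.whiskerRight f (forget AddCommGrpCat.{u})) := by
  intro A B g hg
  simp only [SSet.modelCategoryQuillen.I] at hg
  obtain ⟨m⟩ := hg
  refine ⟨fun {a b} sq => ?_⟩
  cases m with
  | zero =>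
    obtain ⟨x, hx⟩ := hf (op ⦋0⦌) (SSet.yonedaEquiv b)
    refine ⟨⟨{ l := SSet.yonedaEquiv.symm x, fac_left := ?_, fac_right := ?_ }⟩⟩
    · ext
    · apply SSet.yonedaEquiv.injective
      rw [SSet.yonedaEquiv_comp, Equiv.apply_symm_apply]
      exact hx
  | succ n =>
    let x : Fin (n + 2) → Xs _⦋n⦌ := fun j => SSet.yonedaEquiv (SSet.boundary.ι j ≫ a)
    let y : Ys _⦋n + 1⦌ := SSet.yonedaEquiv b
    obtain ⟨x₀, hx₀⟩ := hf (op ⦋n + 1⦌) y
    have hxy : ∀ j, f.app (op ⦋n⦌) (x j) = Ys.δ j y := by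
      intro j
      have h := congrArg (fun t => SSet.boundary.ι j ≫ t) sq.w
      rw [SSet.boundary.ι_ι_assoc] at h
      have := congrArg SSet.yonedaEquiv h
      rw [SSet.stdSimplex.yonedaEquiv_δ_comp, ← Category.assoc, SSet.yonedaEquiv_comp] at this
      exact this
    let e : Fin (n + 2) → Xs _⦋n⦌ := fun j => x j - Xs.δ j x₀
    have he : ∀ j, f.app (op ⦋n⦌) (e j) = 0 := fun j => by
      simp only [e]; rw [map_sub, hxy j, nat_δ, hx₀, sub_self]
    have hce : ∀ p, ∀ h : n = p + 1, ∀ i j : Fin (p + 2), i ≤ j →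
        Xs.δ i (h ▸ e (h ▸ j.succ)) = Xs.δ j (h ▸ e (h ▸ i.castSucc)) := by
      rintro p rfl i j hij
      simp only [e, map_sub]
      rw [dd hij]
      congr 1
      simp only [x]
      have h : SSet.stdSimplex.δ i ≫ SSet.boundary.ι j.succ =
          SSet.stdSimplex.δ j ≫ SSet.boundary.ι i.castSucc := by
        rw [← cancel_mono (SSet.boundary (p + 1 + 1)).ι, Category.assoc, Category.assoc,
          SSet.boundary.ι_ι, SSet.boundary.ι_ι]
        exact CosimplicialObject.δ_comp_δ SSet.stdSimplex hij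
      have := congrArg SSet.yonedaEquiv (congrArg (fun t => t ≫ a) h)
      simp only [Category.assoc] at this
      rw [SSet.stdSimplex.yonedaEquiv_δ_comp, SSet.stdSimplex.yonedaEquiv_δ_comp] at this
      exact this
    obtain ⟨w, hw0, hw⟩ : ∃ w : Xs _⦋n + 1⦌, f.app (op ⦋n + 1⦌) w = 0 ∧ ∀ j : Fin (n + 1), Xs.δ j.succ w = e j.succ := by
      cases n with
      | zero =>
        refine ⟨Xs.σ 0 (e 1), by rw [nat_σ, he, map_zero], fun j => ?_⟩
        fin_cases j
        exact ds_succ 0 _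
      | succ p =>
        obtain ⟨w, hw0, hw⟩ := fill_succ f 0 e (fun j _ => he j) fun i j hij _ _ => hce p rfl i j hij
        exact ⟨w, hw0, fun j => hw _ (Fin.succ_ne_zero j)⟩
    obtain ⟨v, hv0, hv, hv'⟩ := fill_sphere f hf (e 0 - Xs.δ 0 w)
      (by rw [map_sub, he, nat_δ, hw0, map_zero, sub_zero]) (by
        rintro p rfl i
        have h1 := hce p rfl 0 i (Fin.zero_le _)
        simp only [Fin.castSucc_zero] at h1
        show Xs.δ i (e 0 - Xs.δ 0 w) = 0
        rw [map_sub, ← h1]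
        have h2 := dd (Fin.zero_le i) w
        simp only [Fin.castSucc_zero] at h2
        rw [← h2, hw i, sub_self])
    refine ⟨⟨{ l := SSet.yonedaEquiv.symm (x₀ + (w + v) : Xs _⦋n + 1⦌), fac_left := ?_, fac_right := ?_ }⟩⟩
    · refine SSet.boundary.hom_ext fun j => SSet.yonedaEquiv.injective ?_
      rw [SSet.boundary.ι_ι_assoc, SSet.stdSimplex.yonedaEquiv_δ_comp, Equiv.apply_symm_apply]
      show Xs.δ j (x₀ + (w + v)) = x j
      rw [map_add, map_add]
      cases j using Fin.cases with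
      | zero => rw [hv', add_sub_cancel, show e 0 = x 0 - Xs.δ 0 x₀ from rfl, add_sub_cancel]
      | succ i => rw [hw i, hv i, add_zero, show e i.succ = x i.succ - Xs.δ i.succ x₀ from rfl, add_sub_cancel]
    · apply SSet.yonedaEquiv.injective
      rw [SSet.yonedaEquiv_comp, Equiv.apply_symm_apply]
      show f.app (op ⦋n + 1⦌) (x₀ + (w + v)) = y
      rw [map_add, map_add, hw0, hv0, hx₀, add_zero, add_zero]

end Groth.Agent.H6Kan
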