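import Mathlib
set_option autoImplicit false
set_option backward.isDefEq.respectTransparency.types false
set_option maxHeartbeats 1000000

namespace Groth.Agent.H6KoszulExt
universe u
open CategoryTheory RingTheory.Sequence
open scoped Pointwise

variable {A : Type u} [CommRing A]

noncomputable def iota (J : Ideal A) (M : ModuleCat.{u} A) (hM : ∀ a ∈ J, ∀ m : M, a • m = 0) :
    M →ₗ[A] (ModuleCat.of A (A ⧸ J) ⟶ M) where
  toFun m := ModuleCat.ofHom (Submodule.liftQ J (LinearMap.toSpanSingleton A M m) fun a ha =>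
    LinearMap.mem_ker.2 (hM a ha m))
  map_add' m n := ModuleCat.hom_ext (Submodule.linearMap_qext _ (LinearMap.ext_ring (smul_add (1 : A) m n)))
  map_smul' a m := ModuleCat.hom_ext (Submodule.linearMap_qext _ (LinearMap.ext_ring (smul_comm (1 : A) a m)))

theorem iota_bijective (J : Ideal A) (M : ModuleCat.{u} A) (hM : ∀ a ∈ J, ∀ m : M, a • m = 0) :
    Function.Bijective (iota J M hM) := by
  refine ⟨fun m n h => ?_, fun φ => ⟨φ.hom (Submodule.Quotient.mk 1),
    ModuleCat.hom_ext (Submodule.linearMap_qext _ (LinearMap.ext_ring (one_smul A _)))⟩⟩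
  exact (one_smul A m).symm.trans ((LinearMap.congr_fun (congrArg ModuleCat.Hom.hom h) (Submodule.Quotient.mk 1)).trans (one_smul A n))

noncomputable def Φ (J : Ideal A) (i : ℕ) {κ : Type} [Fintype κ]
    (e : κ → Abelian.Ext (ModuleCat.of A (A ⧸ J)) (ModuleCat.of A (A ⧸ J)) i)
    (M : ModuleCat.{u} A) (hM : ∀ a ∈ J, ∀ m : M, a • m = 0) :
    (κ → M) →ₗ[A] Abelian.Ext (ModuleCat.of A (A ⧸ J)) M i where
  toFun c := ∑ k, (e k).comp (Abelian.Ext.mk₀ (iota J M hM (c k))) (add_zero i)
  map_add' c d := by simp [Abelian.Ext.mk₀_add, Abelian.Ext.comp_add, Finset.sum_add_distrib]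
  map_smul' a c := by simp [Abelian.Ext.mk₀_smul, Abelian.Ext.comp_smul, Finset.smul_sum]

theorem zero_case (J : Ideal A) (M : ModuleCat.{u} A) (hM : ∀ a ∈ J, ∀ m : M, a • m = 0) :
    Function.Bijective (Φ J 0 (κ := Unit) (fun _ => Abelian.Ext.mk₀ (𝟙 _)) M hM) := by
  have hu : ∀ c, Φ J 0 (κ := Unit) (fun _ => Abelian.Ext.mk₀ (𝟙 _)) M hM c =
      Abelian.Ext.mk₀ (iota J M hM (c ())) := fun c => by simp [Φ]
  refine ⟨fun c d h => ?_, fun z => ?_⟩
  · rw [hu, hu] at h
    exact funext fun _ => (iota_bijective J M hM).1 ((Abelian.Ext.mk₀_bijective _ _).1 h)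
  · obtain ⟨φ, rfl⟩ := (Abelian.Ext.mk₀_bijective _ _).2 z
    obtain ⟨m, rfl⟩ := (iota_bijective J M hM).2 φ
    exact ⟨fun _ => m, hu _⟩

theorem main : ∀ (xs : List A), IsWeaklyRegular A xs → ∀ i : ℕ,
    ∃ (κ : Type) (_ : Fintype κ) (e : κ →
        Abelian.Ext (ModuleCat.of A (A ⧸ Ideal.ofList xs)) (ModuleCat.of A (A ⧸ Ideal.ofList xs)) i),
      Fintype.card κ = xs.length.choose i ∧
      ∀ (M : ModuleCat.{u} A) (hM : ∀ a ∈ Ideal.ofList xs, ∀ m : M, a • m = 0),
        Function.Bijective (Φ _ i e M hM) := by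
  intro xs
  induction xs using List.reverseRecOn with
  | nil =>
    intro _ i
    set J := Ideal.ofList ([] : List A) with hJ
    cases i with
    | zero => exact ⟨Unit, inferInstance, fun _ => Abelian.Ext.mk₀ (𝟙 _), by simp, zero_case J⟩
    | succ j =>
      have e0 : (A ⧸ J) ≃ₗ[A] A :=
        (Submodule.quotEquivOfEq _ ⊥ Ideal.ofList_nil).trans (Submodule.quotEquivOfEqBot ⊥ rfl)
      haveI : Module.Projective A (A ⧸ J) := Module.Projective.of_equiv e0.symm
      haveI : Projective (ModuleCat.of A (A ⧸ J)) := ModuleCat.projective_of_categoryTheory_projective _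
      refine ⟨Empty, inferInstance, Empty.elim, by simp, fun M hM => ⟨fun c d _ => funext fun k => k.elim, fun z => ⟨0, ?_⟩⟩⟩
      rw [map_zero]
      exact z.eq_zero_of_projective.symm
  | append_singleton xs y ih =>
    intro h i
    rw [isWeaklyRegular_append_iff] at h
    set J := Ideal.ofList xs with hJ
    set J' := Ideal.ofList (xs ++ [y]) with hJ'
    have hsup : J' = J ⊔ Ideal.span {y} := by rw [hJ', hJ, Ideal.ofList_append, Ideal.ofList_singleton]
    have hyreg : IsSMulRegular (A ⧸ J) y := by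
      have h2 := ((isWeaklyRegular_cons_iff _ _ _).mp h.2).1
      exact ((Submodule.quotEquivOfEq _ J (by rw [smul_eq_mul, Ideal.mul_top])).isSMulRegular_congr y).mp h2
    let f : (A ⧸ J) →ₗ[A] (A ⧸ J) := y • LinearMap.id
    let g : (A ⧸ J) →ₗ[A] (A ⧸ J') := Submodule.factor (hsup ▸ le_sup_left : J ≤ J')
    have hfg : Function.Exact f g := by
      intro q
      obtain ⟨a, rfl⟩ := Ideal.Quotient.mk_surjective q
      constructor
      · intro hq
        have ha : a ∈ J' := Ideal.Quotient.eq_zero_iff_mem.mp hq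
        rw [hsup] at ha
        obtain ⟨b, hb, c, hc, rfl⟩ := Submodule.mem_sup.mp ha
        obtain ⟨r, rfl⟩ := Ideal.mem_span_singleton.mp hc
        exact ⟨Ideal.Quotient.mk J r, by
          show y • Ideal.Quotient.mk J r = _
          rw [map_add, Ideal.Quotient.eq_zero_iff_mem.mpr hb, zero_add, Algebra.smul_def, Ideal.Quotient.algebraMap_eq, map_mul]⟩
      · rintro ⟨r, hr⟩
        obtain ⟨r, rfl⟩ := Ideal.Quotient.mk_surjective r
        rw [← hr]
        show g (y • Ideal.Quotient.mk J r) = 0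
        rw [Algebra.smul_def, Ideal.Quotient.algebraMap_eq, ← map_mul]
        exact Ideal.Quotient.eq_zero_iff_mem.mpr (hsup ▸ Ideal.mem_sup_right (Ideal.mem_span_singleton.mpr ⟨r, rfl⟩))
    have hgs : Function.Surjective g := Submodule.factor_surjective _
    let S : ShortComplex (ModuleCat.{u} A) := ShortComplex.mk (ModuleCat.ofHom f) (ModuleCat.ofHom g)
      (ModuleCat.hom_ext (LinearMap.ext fun z => hfg.apply_apply_eq_zero z))
    have hS : S.ShortExact :=
      { exact := (ShortComplex.ShortExact.moduleCat_exact_iff_function_exact S).mpr hfg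
        mono_f := (ModuleCat.mono_iff_injective _).mpr hyreg
        epi_g := (ModuleCat.epi_iff_surjective _).mpr hgs }
    have hyM : ∀ (M : ModuleCat.{u} A), (∀ a ∈ J', ∀ m : M, a • m = 0) → ∀ (n : ℕ) (z : Abelian.Ext S.X₁ M n),
        y • z = 0 := by
      intro M hM n z
      have h0 : y • 𝟙 M = 0 := ModuleCat.hom_ext (LinearMap.ext fun m =>
        hM y (hsup ▸ Ideal.mem_sup_right (Ideal.mem_span_singleton_self y)) m)
      calc y • z = z.comp (Abelian.Ext.mk₀ (y • 𝟙 M)) (add_zero n) := by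
            rw [Abelian.Ext.mk₀_smul, Abelian.Ext.comp_smul, Abelian.Ext.comp_mk₀_id]
        _ = 0 := by rw [h0, Abelian.Ext.mk₀_zero, Abelian.Ext.comp_zero]
    have hf0 : ∀ (M : ModuleCat.{u} A), (∀ a ∈ J', ∀ m : M, a • m = 0) → ∀ (n : ℕ) (z : Abelian.Ext S.X₂ M n),
        (Abelian.Ext.mk₀ S.f).comp z (zero_add n) = 0 := by
      intro M hM n z
      rw [show S.f = y • 𝟙 S.X₁ from rfl, Abelian.Ext.mk₀_smul, Abelian.Ext.smul_comp]
      exact hyM M hM n _
    have hJJ : ∀ {M : ModuleCat.{u} A}, (∀ a ∈ J', ∀ m : M, a • m = 0) → ∀ a ∈ J, ∀ m : M, a • m = 0 :=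
      fun hM a ha => hM a (hsup ▸ Ideal.mem_sup_left ha)
    have hiota : ∀ (M : ModuleCat.{u} A) (hM : ∀ a ∈ J', ∀ m : M, a • m = 0) (m : M),
        iota J M (hJJ hM) m = S.g ≫ iota J' M hM m := fun M hM m =>
      ModuleCat.hom_ext (Submodule.linearMap_qext _ (LinearMap.ext_ring rfl))
    have hX3 : ∀ a ∈ J', ∀ m : (S.X₃ : Type u), a • m = 0 := by
      intro a ha m
      obtain ⟨b, rfl⟩ := Submodule.Quotient.mk_surjective _ m
      exact (Submodule.Quotient.mk_eq_zero _).2 (J'.mul_mem_right b ha)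
    cases i with
    | zero => exact ⟨Unit, inferInstance, fun _ => Abelian.Ext.mk₀ (𝟙 _), by simp, zero_case J'⟩
    | succ j =>
      obtain ⟨κ, _, e, hcard, he⟩ := ih h.1 j
      obtain ⟨κ1, _, e1, hcard1, he1⟩ := ih h.1 (j + 1)
      have h1j : 1 + j = j + 1 := add_comm _ _
      have hu : ∀ t, ∃ u : Abelian.Ext S.X₃ S.X₃ (j + 1),
          (Abelian.Ext.mk₀ S.g).comp u (zero_add _) = (e1 t).comp (Abelian.Ext.mk₀ S.g) (add_zero _) :=
        fun t => Abelian.Ext.contravariant_sequence_exact₂ hS _ _ (hf0 S.X₃ hX3 _ _)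
      choose u hu using hu
      refine ⟨κ ⊕ κ1, inferInstance,
        Sum.elim (fun k => hS.extClass.comp ((e k).comp (Abelian.Ext.mk₀ S.g) (add_zero j)) h1j) u,
        by rw [Fintype.card_sum, hcard, hcard1, List.length_append]; exact (Nat.choose_succ_succ _ _).symm, fun M hM => ?_⟩
      let L : Abelian.Ext S.X₁ M j → Abelian.Ext S.X₃ M (j + 1) := fun z => hS.extClass.comp z h1j
      have hLinj : ∀ z, L z = 0 → z = 0 := by
        intro z hz
        obtain ⟨w, hw⟩ := Abelian.Ext.contravariant_sequence_exact₁ hS M z h1j hz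
        rw [← hw]
        exact hf0 M hM _ w
      have hsplit : ∀ c : κ ⊕ κ1 → M, Φ J' (j + 1) (Sum.elim
            (fun k => hS.extClass.comp ((e k).comp (Abelian.Ext.mk₀ S.g) (add_zero j)) h1j) u) M hM c =
          L (Φ J j e M (hJJ hM) fun k => c (Sum.inl k)) +
          ∑ t, (u t).comp (Abelian.Ext.mk₀ (iota J' M hM (c (Sum.inr t)))) (add_zero _) := by
        intro c
        simp only [Φ, LinearMap.coe_mk, AddHom.coe_mk, Fintype.sum_sum_type, Sum.elim_inl, Sum.elim_inr, L,
          Abelian.Ext.comp_sum]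
        congr 1
        refine Finset.sum_congr rfl fun k _ => ?_
        rw [hiota, Abelian.Ext.comp_assoc_of_third_deg_zero, Abelian.Ext.comp_assoc_of_third_deg_zero,
          Abelian.Ext.mk₀_comp_mk₀]
      have hgL : ∀ z, (Abelian.Ext.mk₀ S.g).comp (L z) (zero_add _) = 0 := fun z => hS.comp_extClass_assoc z h1j
      have hg : ∀ c : κ ⊕ κ1 → M, (Abelian.Ext.mk₀ S.g).comp (L (Φ J j e M (hJJ hM) fun k => c (Sum.inl k)) +
          ∑ t, (u t).comp (Abelian.Ext.mk₀ (iota J' M hM (c (Sum.inr t)))) (add_zero _)) (zero_add _) =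
          Φ J (j + 1) e1 M (hJJ hM) fun t => c (Sum.inr t) := by
        intro c
        rw [Abelian.Ext.comp_add, hgL, zero_add, Abelian.Ext.comp_sum]
        refine Finset.sum_congr rfl fun t _ => ?_
        rw [← Abelian.Ext.comp_assoc_of_third_deg_zero, hu, hiota,
          Abelian.Ext.comp_assoc_of_third_deg_zero, Abelian.Ext.mk₀_comp_mk₀]
      constructor
      · rw [← LinearMap.ker_eq_bot, LinearMap.ker_eq_bot']
        intro c hc
        rw [hsplit] at hc
        have h1 := hg c
        rw [hc, Abelian.Ext.comp_zero] at h1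
        have hb := (he1 M (hJJ hM)).1 (a₂ := 0) (h1.symm.trans (map_zero _).symm)
        rw [Finset.sum_eq_zero (fun t _ => by
          rw [show c (Sum.inr t) = 0 from congrFun hb t, map_zero,
            Abelian.Ext.mk₀_zero, Abelian.Ext.comp_zero]), add_zero] at hc
        have ha := (he M (hJJ hM)).1 (a₂ := 0) ((hLinj _ hc).trans (map_zero _).symm)
        funext k
        cases k with
        | inl i => exact congrFun ha i
        | inr i => exact congrFun hb i
      · intro z
        obtain ⟨b, hb⟩ := (he1 M (hJJ hM)).2 ((Abelian.Ext.mk₀ S.g).comp z (zero_add _))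
        let c0 : κ ⊕ κ1 → M := Sum.elim 0 b
        have hg0 := hg c0
        rw [← hsplit c0, show (fun t => c0 (Sum.inr t)) = b from rfl, hb] at hg0
        obtain ⟨P, hP⟩ : ∃ P, P = Φ J' (j + 1) (Sum.elim
            (fun k => hS.extClass.comp ((e k).comp (Abelian.Ext.mk₀ S.g) (add_zero j)) h1j) u) M hM c0 := ⟨_, rfl⟩
        rw [← hP] at hg0
        have h0 : (Abelian.Ext.mk₀ S.g).comp (z - P) (zero_add _) = 0 := by
          rw [sub_eq_add_neg, Abelian.Ext.comp_add, Abelian.Ext.comp_neg, hg0, add_neg_cancel]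
        obtain ⟨w, hw⟩ := Abelian.Ext.contravariant_sequence_exact₃ hS M _ h0 h1j
        obtain ⟨a, ha⟩ := (he M (hJJ hM)).2 w
        refine ⟨c0 + Sum.elim a 0, ?_⟩
        rw [map_add, ← hP, hsplit (Sum.elim a 0), Finset.sum_eq_zero (fun t _ => by
          simp only [Sum.elim_inr, Pi.zero_apply, map_zero, Abelian.Ext.mk₀_zero, Abelian.Ext.comp_zero]), add_zero,
          show (fun k => Sum.elim a (0 : κ1 → M) (Sum.inl k)) = a from rfl, ha]
        show _ + hS.extClass.comp w h1j = z
        rw [hw, add_sub_cancel]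

end Groth.Agent.H6KoszulExt
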