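import Mathlib
import Groth.Prelude.Def_W4c2quivmodsheafKron

set_option autoImplicit false

namespace Groth.Agent.H6Kron
open KronMod

variable {K : Type*} [Field K] {V W : Type*} [AddCommGroup V] [Module K V] [FiniteDimensional K V]
  [AddCommGroup W] [Module K W] [FiniteDimensional K W] {n : ℕ} (f : Fin n → (V →ₗ[K] W))

def sumMap : (Fin n → V) →ₗ[K] W := ∑ j, (f j).comp (LinearMap.proj j)

theorem sumMap_apply (v : Fin n → V) : sumMap f v = ∑ j, f j (v j) := by simp [sumMap]

theorem sumMap_single (j : Fin n) (v : V) : sumMap f (Pi.single j v) = f j v := by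
  rw [sumMap_apply, Finset.sum_eq_single j (fun i _ h => by rw [Pi.single_eq_of_ne h, map_zero]) (by simp), Pi.single_eq_same]

theorem surj (h : IsSemistable f) (hV : 0 < Module.finrank K V) : Function.Surjective (sumMap f) := by
  rw [← LinearMap.range_eq_top]
  by_contra hne
  have hlt := Submodule.finrank_lt hne
  have := h.2 ⊤ (LinearMap.range (sumMap f)) (fun j => by
    rintro _ ⟨v, -, rfl⟩; exact ⟨Pi.single j v, sumMap_single f j v⟩)
    (fun h0 => by
      have := congrArg (fun X : Submodule K V => Module.finrank K X) h0.1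
      simp only [finrank_top, finrank_bot] at this
      omega) (fun h0 => hne h0.2)
  rw [finrank_top, mul_comm] at this
  exact absurd (Nat.le_of_mul_le_mul_left this hV) (not_le.2 hlt)

theorem inj (h : IsSemistable f) (hW : 0 < Module.finrank K W) : Function.Injective (LinearMap.pi f) := by
  rw [← LinearMap.ker_eq_bot]
  by_contra hne
  have := h.2 (LinearMap.ker (LinearMap.pi f)) ⊥ (fun j => by
    rintro _ ⟨v, hv, rfl⟩; exact (Submodule.mem_bot K).2 (congrFun hv j))
    (fun h0 => hne h0.1) (fun h0 => by
      have := congrArg (fun X : Submodule K W => Module.finrank K X) h0.2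
      simp only [finrank_top, finrank_bot] at this
      omega)
  rw [finrank_bot, mul_zero, Nat.le_zero, mul_eq_zero] at this
  rcases this with h1 | h1
  · omega
  · exact hne (Submodule.finrank_eq_zero.1 h1)

theorem finrank_fin_fun (M : Type*) [AddCommGroup M] [Module K M] [FiniteDimensional K M] :
    Module.finrank K (Fin n → M) = n * Module.finrank K M := by
  simp [Module.finrank_pi_fintype]

theorem le_of_inj {V' : Submodule K V} {W' : Submodule K W} (h : IsSubrep f V' W')
    (hi : Function.Injective (LinearMap.pi f)) : Module.finrank K V' ≤ n * Module.finrank K W' := by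
  let g : V' →ₗ[K] (Fin n → W') := LinearMap.pi fun j =>
    ((f j).comp V'.subtype).codRestrict W' fun v => h j ⟨v, v.2, rfl⟩
  have hg : Function.Injective g := fun a b hab => Subtype.ext <| hi <| funext fun j =>
    congrArg (fun w => ((w j : W') : W)) hab
  have := LinearMap.finrank_le_finrank_of_injective hg
  rwa [finrank_fin_fun] at this

theorem le_of_inj_sum {V' : Submodule K V} {W' : Submodule K W} (h : IsSubrep f V' W')
    (hi : Function.Injective (sumMap f)) : n * Module.finrank K V' ≤ Module.finrank K W' := by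
  let g : (Fin n → V') →ₗ[K] W' := ((sumMap f).comp
    (LinearMap.pi fun j => V'.subtype.comp (LinearMap.proj j))).codRestrict W' fun v => by
      rw [LinearMap.comp_apply, sumMap_apply]
      exact sum_mem fun j _ => h j ⟨v j, (v j).2, rfl⟩
  have hg : Function.Injective g := fun a b hab => funext fun j => Subtype.ext <|
    congrFun (hi (congrArg (fun w : W' => (w : W)) hab)) j
  have := LinearMap.finrank_le_finrank_of_injective hg
  rwa [finrank_fin_fun] at this

theorem ss_iff_sum (hV : 0 < Module.finrank K V) (hW : Module.finrank K W = n * Module.finrank K V) :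
    IsSemistable f ↔ Function.Bijective (sumMap f) := by
  constructor
  · intro h
    exact ⟨(LinearMap.injective_iff_surjective_of_finrank_eq_finrank (by rw [finrank_fin_fun, hW])).2 (surj f h hV), surj f h hV⟩
  · intro h
    refine ⟨by omega, fun V' W' hs _ _ => ?_⟩
    have h1 := le_of_inj_sum f hs h.1
    rw [hW, mul_comm n, mul_assoc]
    exact Nat.mul_le_mul_left _ h1

theorem ss_iff_pi (hW : 0 < Module.finrank K W) (hV : Module.finrank K V = n * Module.finrank K W) :
    IsSemistable f ↔ Function.Bijective (LinearMap.pi f) := by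
  constructor
  · intro h
    exact ⟨inj f h hW, (LinearMap.injective_iff_surjective_of_finrank_eq_finrank (by rw [finrank_fin_fun, hV])).1 (inj f h hW)⟩
  · intro h
    refine ⟨by omega, fun V' W' hs _ _ => ?_⟩
    have h1 := le_of_inj f hs h.1
    rw [hV, mul_comm n, mul_assoc]
    exact Nat.mul_le_mul_left _ h1

theorem stable_ss (h : IsStable f) : IsSemistable f :=
  ⟨h.1, fun V' W' a b c => (h.2 V' W' a b c).le⟩

theorem stable_iff_sum (hV : 0 < Module.finrank K V) (hW : Module.finrank K W = n * Module.finrank K V) :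
    IsStable f ↔ (IsSemistable f ∧ Module.finrank K V = 1) := by
  constructor
  · intro h
    have hbij := (ss_iff_sum f hV hW).1 (stable_ss f h)
    refine ⟨stable_ss f h, ?_⟩
    by_contra hne
    obtain ⟨v, hv⟩ := Module.finrank_pos_iff_exists_ne_zero.1 hV
    let L := K ∙ v
    have hL : Module.finrank K L = 1 := finrank_span_singleton hv
    let P : (Fin n → L) →ₗ[K] W := (sumMap f).comp (LinearMap.pi fun j => L.subtype.comp (LinearMap.proj j))
    have hP : Module.finrank K (LinearMap.range P) ≤ n := by
      have := LinearMap.finrank_range_le P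
      rwa [finrank_fin_fun, hL, mul_one] at this
    have hsub : IsSubrep f L (LinearMap.range P) := fun j => by
      rintro _ ⟨x, hx, rfl⟩
      refine ⟨Pi.single j ⟨x, hx⟩, ?_⟩
      rw [LinearMap.comp_apply, ← sumMap_single f j x]
      congr 1
      funext i
      by_cases hij : i = j
      · subst hij; simp
      · simp [hij]
    have hlt := h.2 L (LinearMap.range P) hsub
      (fun h0 => by
        have := congrArg (fun X : Submodule K V => Module.finrank K X) h0.1
        simp only [hL, finrank_bot] at this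
        omega)
      (fun h0 => by
        have := congrArg (fun X : Submodule K V => Module.finrank K X) h0.1
        simp only [hL, finrank_top] at this
        omega)
    rw [hL, hW, mul_one, mul_comm n] at hlt
    exact absurd (Nat.lt_of_mul_lt_mul_left hlt) (not_lt.2 hP)
  · rintro ⟨h, h1⟩
    refine ⟨h.1, fun V' W' hs hb ht => ?_⟩
    have hb' := (ss_iff_sum f hV hW).1 h
    have hv := Submodule.finrank_le V'
    rw [h1, one_mul]
    rcases Nat.lt_or_ge (Module.finrank K V') 1 with hv0 | hv1
    · have hV0 : V' = ⊥ := Submodule.finrank_eq_zero.1 (by omega)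
      have hW0 : W' ≠ ⊥ := fun e => hb ⟨hV0, e⟩
      have := Submodule.finrank_eq_zero.not.2 hW0
      rw [show Module.finrank K V' = 0 by omega, mul_zero]
      omega
    · exfalso
      have hVt : V' = ⊤ := Submodule.eq_top_of_finrank_eq (by omega)
      refine ht ⟨hVt, eq_top_iff.2 fun w _ => ?_⟩
      obtain ⟨v, rfl⟩ := hb'.2 w
      rw [sumMap_apply]
      exact sum_mem fun j _ => hs j ⟨v j, by rw [hVt]; trivial, rfl⟩

theorem stable_iff_pi (hW : 0 < Module.finrank K W) (hV : Module.finrank K V = n * Module.finrank K W) :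
    IsStable f ↔ (IsSemistable f ∧ Module.finrank K W = 1) := by
  constructor
  · intro h
    have hbij := (ss_iff_pi f hW hV).1 (stable_ss f h)
    refine ⟨stable_ss f h, ?_⟩
    by_contra hne
    obtain ⟨w, hw⟩ := Module.finrank_pos_iff_exists_ne_zero.1 hW
    let W' := K ∙ w
    have hL : Module.finrank K W' = 1 := finrank_span_singleton hw
    let e := LinearEquiv.ofBijective (LinearMap.pi f) hbij
    let P : (Fin n → W') →ₗ[K] V := e.symm.toLinearMap.comp (LinearMap.pi fun j => W'.subtype.comp (LinearMap.proj j))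
    have hPi : Function.Injective P := e.symm.injective.comp fun a b hab => funext fun j => Subtype.ext (congrFun hab j)
    have hP : Module.finrank K (LinearMap.range P) = n := by
      rw [LinearMap.finrank_range_of_inj hPi, finrank_fin_fun, hL, mul_one]
    have hsub : IsSubrep f (LinearMap.range P) W' := fun j => by
      rintro _ ⟨_, ⟨x, rfl⟩, rfl⟩
      have h1 : f j (P x) = (x j : W) := congrFun (e.apply_symm_apply _) j
      rw [h1]
      exact (x j).2
    have hlt := h.2 _ W' hsub
      (fun h0 => by
        have := congrArg (fun X : Submodule K W => Module.finrank K X) h0.2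
        simp only [hL, finrank_bot] at this
        omega)
      (fun h0 => by
        have := congrArg (fun X : Submodule K W => Module.finrank K X) h0.2
        simp only [hL, finrank_top] at this
        omega)
    rw [hP, hL, mul_one, hV, mul_comm] at hlt
    exact lt_irrefl _ hlt
  · rintro ⟨h, h1⟩
    refine ⟨h.1, fun V' W' hs hb ht => ?_⟩
    have hb' := (ss_iff_pi f hW hV).1 h
    have hw := Submodule.finrank_le W'
    rw [h1, one_mul]
    have h2 := le_of_inj f hs hb'.1
    rcases Nat.lt_or_ge (Module.finrank K W') 1 with hw0 | hw1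
    · exfalso
      rw [show Module.finrank K W' = 0 by omega, mul_zero] at h2
      exact hb ⟨Submodule.finrank_eq_zero.1 (by omega), Submodule.finrank_eq_zero.1 (by omega)⟩
    · have hWt : W' = ⊤ := Submodule.eq_top_of_finrank_eq (by omega)
      have hVt : V' ≠ ⊤ := fun e => ht ⟨e, hWt⟩
      rw [show Module.finrank K W' = 1 by omega, mul_one]
      exact Submodule.finrank_lt hVt

theorem dual_dir (h : IsSemistable fun j => (f j).dualMap) : IsSemistable f ∧
    ((IsStable fun j => (f j).dualMap) → IsStable f) := by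
  have hdim : 0 < Module.finrank K V + Module.finrank K W := by
    have := h.1
    rw [Subspace.dual_finrank_eq, Subspace.dual_finrank_eq] at this
    omega
  have hann : ∀ {V' : Submodule K V} {W' : Submodule K W}, IsSubrep f V' W' →
      IsSubrep (fun j => (f j).dualMap) W'.dualAnnihilator V'.dualAnnihilator := fun {V' W'} hs j => by
    rintro _ ⟨φ, hφ, rfl⟩
    rw [Submodule.mem_dualAnnihilator]
    exact fun v hv => (Submodule.mem_dualAnnihilator φ).1 hφ _ (hs j ⟨v, hv, rfl⟩)
  have key : ∀ {V' : Submodule K V} {W' : Submodule K W}, IsSubrep f V' W' → ¬(V' = ⊥ ∧ W' = ⊥) →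
      ¬(V' = ⊤ ∧ W' = ⊤) → ¬(W'.dualAnnihilator = ⊥ ∧ V'.dualAnnihilator = ⊥) ∧
      ¬(W'.dualAnnihilator = ⊤ ∧ V'.dualAnnihilator = ⊤) := by
    intro V' W' _ hb ht
    have a1 := Subspace.finrank_add_finrank_dualAnnihilator_eq V'
    have a2 := Subspace.finrank_add_finrank_dualAnnihilator_eq W'
    constructor <;> rintro ⟨e1, e2⟩ <;> rw [e1] at a2 <;> rw [e2] at a1
    · rw [finrank_bot, add_zero] at a1 a2
      exact ht ⟨Submodule.eq_top_of_finrank_eq a1, Submodule.eq_top_of_finrank_eq a2⟩
    · rw [finrank_top, Subspace.dual_finrank_eq] at a1 a2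
      exact hb ⟨Submodule.finrank_eq_zero.1 (by omega), Submodule.finrank_eq_zero.1 (by omega)⟩
  refine ⟨⟨hdim, fun V' W' hs hb ht => ?_⟩, fun h' => ⟨hdim, fun V' W' hs hb ht => ?_⟩⟩
  · have h1 := h.2 _ _ (hann hs) (key hs hb ht).1 (key hs hb ht).2
    rw [Subspace.dual_finrank_eq, Subspace.dual_finrank_eq] at h1
    have a1 := Subspace.finrank_add_finrank_dualAnnihilator_eq V'
    have a2 := Subspace.finrank_add_finrank_dualAnnihilator_eq W'
    zify at h1 a1 a2 ⊢
    rw [← a1, ← a2] at h1 ⊢
    nlinarith
  · have h1 := h'.2 _ _ (hann hs) (key hs hb ht).1 (key hs hb ht).2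
    rw [Subspace.dual_finrank_eq, Subspace.dual_finrank_eq] at h1
    have a1 := Subspace.finrank_add_finrank_dualAnnihilator_eq V'
    have a2 := Subspace.finrank_add_finrank_dualAnnihilator_eq W'
    zify at h1 a1 a2 ⊢
    rw [← a1, ← a2] at h1 ⊢
    nlinarith

theorem congr_iso {V₂ W₂ : Type*} [AddCommGroup V₂] [Module K V₂] [AddCommGroup W₂] [Module K W₂]
    (f' : Fin n → (V₂ →ₗ[K] W₂)) (g : V ≃ₗ[K] V₂) (e : W ≃ₗ[K] W₂) (hfe : ∀ j v, e (f j v) = f' j (g v)) :
    (IsSemistable f' → IsSemistable f) ∧ (IsStable f' → IsStable f) := by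
  have hV := g.finrank_eq
  have hW := e.finrank_eq
  have hm : ∀ (V' : Submodule K V) (W' : Submodule K W), IsSubrep f V' W' →
      IsSubrep f' (V'.map g.toLinearMap) (W'.map e.toLinearMap) := fun V' W' hs j => by
    rintro _ ⟨_, ⟨v, hv, rfl⟩, rfl⟩
    exact ⟨f j v, hs j ⟨v, hv, rfl⟩, hfe j v⟩
  have hne : ∀ (V' : Submodule K V) (W' : Submodule K W),
      ((V'.map g.toLinearMap = ⊥ ∧ W'.map e.toLinearMap = ⊥) → (V' = ⊥ ∧ W' = ⊥)) ∧
      ((V'.map g.toLinearMap = ⊤ ∧ W'.map e.toLinearMap = ⊤) → (V' = ⊤ ∧ W' = ⊤)) := fun V' W' =>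
    ⟨fun h => ⟨(Submodule.map_eq_bot_iff (p := V') (e := g)).1 h.1, (Submodule.map_eq_bot_iff (p := W') (e := e)).1 h.2⟩,
     fun h => ⟨(Submodule.map_eq_top_iff (p := V') (e := g)).1 h.1, (Submodule.map_eq_top_iff (p := W') (e := e)).1 h.2⟩⟩
  refine ⟨fun h => ⟨by rw [hV, hW]; exact h.1, fun V' W' hs hb ht => ?_⟩,
    fun h => ⟨by rw [hV, hW]; exact h.1, fun V' W' hs hb ht => ?_⟩⟩
  · have := h.2 _ _ (hm V' W' hs) (fun z => hb ((hne V' W').1 z)) (fun z => ht ((hne V' W').2 z))
    rwa [LinearEquiv.finrank_map_eq, LinearEquiv.finrank_map_eq, ← hV, ← hW] at this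
  · have := h.2 _ _ (hm V' W' hs) (fun z => hb ((hne V' W').1 z)) (fun z => ht ((hne V' W').2 z))
    rwa [LinearEquiv.finrank_map_eq, LinearEquiv.finrank_map_eq, ← hV, ← hW] at this

theorem dual_iff : (IsSemistable f ↔ IsSemistable (fun j => (f j).dualMap)) ∧
    (IsStable f ↔ IsStable (fun j => (f j).dualMap)) := by
  have h2 := fun h => dual_dir (fun j => (f j).dualMap) h
  have he : ∀ j v, Module.evalEquiv K W (f j v) = (f j).dualMap.dualMap (Module.evalEquiv K V v) := fun j v => rfl
  have hc := congr_iso (fun j => (f j).dualMap.dualMap) f (Module.evalEquiv K V).symm (Module.evalEquiv K W).symm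
    (fun j v => by
      obtain ⟨v, rfl⟩ := (Module.evalEquiv K V).surjective v
      rw [← he, LinearEquiv.symm_apply_apply, LinearEquiv.symm_apply_apply])
  exact ⟨⟨fun h => (h2 (hc.1 h)).1, fun h => (dual_dir f h).1⟩,
    ⟨fun h => (h2 (hc.1 (stable_ss f h))).2 (hc.2 h), fun h => (dual_dir f (stable_ss _ h)).2 h⟩⟩

end Groth.Agent.H6Kron
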