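import Mathlib
import Groth.Prelude.Def_ZClos
import Groth.Agent.Lib.H6.ZBasic

set_option autoImplicit false
set_option linter.all false
set_option maxHeartbeats 800000
set_option backward.isDefEq.respectTransparency.types false

/-! Z-pure and Z-closed modules: criteria. -/

universe u

open CategoryTheory CategoryTheory.Limits AlgebraicGeometry TopologicalSpace Opposite

namespace Groth.Agent.H6.ZApps

open ZBasic

variable {X : Scheme.{u}}

theorem app_injective_of_mono {M N : X.Modules} (φ : M ⟶ N) [Mono φ] (U : X.Opens) :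
    Function.Injective (φ.app U) := by
  have : Mono ((Scheme.Modules.toPresheaf X).map φ) := inferInstance
  have : Mono (((Scheme.Modules.toPresheaf X).map φ).app (op U)) := inferInstance
  exact (AddCommGrpCat.mono_iff_injective (φ.app U)).1 this

theorem exists_compact_cover (V : X.Opens) : ∃ (ι : Type u) (W : ι → X.Opens) (hW : ∀ i, W i ≤ V),
    V ≤ iSup W ∧ ∀ i, IsCompact (W i : Set X) := by
  choose W hW hx hWV using fun x : (V : Set X) => exists_isAffineOpen_mem_and_subset (X := X) (x := x.1) (U := V) x.2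
  exact ⟨(V : Set X), W, hWV, fun x hxV => Opens.mem_iSup.2 ⟨⟨x, hxV⟩, hx ⟨x, hxV⟩⟩, fun i => (hW i).isCompact⟩

theorem mono_of_compact {M N : X.Modules} (φ : M ⟶ N) (h : ∀ V : X.Opens, IsCompact (V : Set X) → Function.Injective (φ.app V)) :
    Mono φ := by
  have hall : ∀ V : X.Opens, Function.Injective (φ.app V) := fun V s t hst => by
    obtain ⟨ι, W, hW, hcov, hWc⟩ := exists_compact_cover V
    refine ext_cover M W hW hcov fun i => h _ (hWc i) ?_
    rw [res_naturality, res_naturality, hst]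
  haveI : Mono ((Scheme.Modules.toPresheaf X).map φ) := by
    haveI : ∀ U, Mono (((Scheme.Modules.toPresheaf X).map φ).app U) := fun U =>
      (AddCommGrpCat.mono_iff_injective _).2 (hall U.unop)
    exact NatTrans.mono_of_mono_app _
  exact (Scheme.Modules.toPresheaf X).mono_of_mono_map this

theorem isIso_iff_bijective {M N : X.Modules} (φ : M ⟶ N) :
    IsIso φ ↔ ∀ V : X.Opens, Function.Bijective (φ.app V) := by
  rw [Scheme.Modules.Hom.isIso_iff_isIso_app]
  exact forall_congr' fun V => ConcreteCategory.isIso_iff_bijective _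

theorem isIso_of_compact {M N : X.Modules} (φ : M ⟶ N) (h : ∀ V : X.Opens, IsCompact (V : Set X) → Function.Bijective (φ.app V)) :
    IsIso φ := by
  haveI := mono_of_compact φ fun V hV => (h V hV).1
  refine (isIso_iff_bijective φ).2 fun V => ⟨app_injective_of_mono φ V, fun t => ?_⟩
  obtain ⟨ι, W, hW, hcov, hWc⟩ := exists_compact_cover V
  choose s hs using fun i => (h _ (hWc i)).2 (res N (hW i) t)
  obtain ⟨g, hg⟩ := glue M W hW hcov s fun i j => app_injective_of_mono φ _ (by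
    rw [res_naturality, res_naturality, hs, hs, res_res, res_res])
  exact ⟨g, ext_cover N W hW hcov fun i => by rw [← res_naturality, hg, hs]⟩

theorem res_bijective_of_le_of_le (F : X.Modules) {V W : X.Opens} (h : V ≤ W) (h' : W ≤ V) : Function.Bijective (res F h) :=
  res_injective_of_eq F h (le_antisymm h h')

variable [IsLocallyNoetherian X] {Z : Set X} (F : X.Modules)

theorem compact_P (T : ZClos.Cl Z) {V : X.Opens} (hV : IsCompact (V : Set X)) : IsCompact (P Z T V : Set X) :=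
  isCompact_of_subset hV (P_le T V)

theorem rho_eq_zero_iff {V : X.Opens} (hV : IsCompact (V : Set X)) (s : F.presheaf.obj (op V)) :
    (ZClos.rhoApp Z F).app V s = 0 ↔ ∃ T : ZClos.Cl Z, res F (P_le T V) s = 0 := by
  constructor
  · intro h
    rw [rho_eq F ⊥] at h
    obtain ⟨T', hT, h'⟩ := exists_of_mk_eq_zero F hV h
    exact ⟨T', (res_res F (P_mono hT le_rfl) (P_le ⊥ V) s).symm.trans h'⟩
  · rintro ⟨T, h⟩
    rw [rho_eq F T, h, map_zero]

theorem isZPure_iff : ZClos.IsZPure Z F ↔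
    ∀ (T : ZClos.Cl Z) (V : X.Opens), IsCompact (V : Set X) → Function.Injective (res F (P_le T V)) := by
  constructor
  · intro h T V hV
    rw [injective_iff_map_eq_zero]
    intro s hs
    haveI : Mono (ZClos.rhoApp Z F) := h
    exact app_injective_of_mono (ZClos.rhoApp Z F) V (((rho_eq_zero_iff F hV s).2 ⟨T, hs⟩).trans (map_zero _).symm)
  · intro h
    refine mono_of_compact _ fun V hV => ?_
    rw [injective_iff_map_eq_zero]
    intro s hs
    obtain ⟨T, hT⟩ := (rho_eq_zero_iff F hV s).1 hs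
    exact h T V hV (hT.trans (map_zero _).symm)

theorem isZClosed_iff : ZClos.IsZClosed Z F ↔
    ∀ (T : ZClos.Cl Z) (V : X.Opens), IsCompact (V : Set X) → Function.Bijective (res F (P_le T V)) := by
  constructor
  · intro h T V hV
    haveI : IsIso (ZClos.rhoApp Z F) := h
    have hinj := (isZPure_iff F).1 (show ZClos.IsZPure Z F from (inferInstance : Mono (ZClos.rhoApp Z F)))
    refine ⟨hinj T V hV, fun t => ?_⟩
    obtain ⟨s0, hs0⟩ := ((isIso_iff_bijective (ZClos.rhoApp Z F)).1 h V).2 (mk F T V t)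
    rw [rho_eq F T] at hs0
    obtain ⟨T', hT, h'⟩ := exists_of_mk_eq_zero F hV (s := res F (P_le T V) s0 - t) (by rw [map_sub, hs0, sub_self])
    refine ⟨s0, sub_eq_zero.1 (hinj T' _ (compact_P T hV) ?_)⟩
    rw [map_zero]
    have hle : P Z T' (P Z T V) ≤ P Z T' V := P_mono le_rfl (P_le T V)
    rw [show res F (P_le T' (P Z T V)) _ = res F hle (res F (P_mono hT le_rfl) (res F (P_le T V) s0 - t)) from
      (res_res F hle (P_mono hT le_rfl) _).symm, h', map_zero]
  · intro h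
    refine isIso_of_compact _ fun V hV => ⟨?_, fun σ => ?_⟩
    · haveI : Mono (ZClos.rhoApp Z F) := (isZPure_iff F).2 fun T V hV => (h T V hV).1
      exact app_injective_of_mono _ V
    · obtain ⟨T, s, rfl⟩ := exists_mk F hV σ
      obtain ⟨s0, rfl⟩ := (h T V hV).2 s
      exact ⟨s0, rho_eq F T V s0⟩

theorem inf_le_P (T : ZClos.Cl Z) (V : X.Opens) : V ⊓ T.U ≤ P Z T V := fun _ h => mem_P.2 ⟨h.2, h.1⟩

theorem P_le_inf (T : ZClos.Cl Z) (V : X.Opens) : P Z T V ≤ V ⊓ T.U := fun _ h => ⟨(mem_P.1 h).2, (mem_P.1 h).1⟩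

theorem injective_inf_iff (T : ZClos.Cl Z) (V : X.Opens) :
    Function.Injective (res F (inf_le_left : V ⊓ T.U ≤ V)) ↔ Function.Injective (res F (P_le T V)) := by
  have e : ⇑(res F (inf_le_left : V ⊓ T.U ≤ V)) = res F (inf_le_P T V) ∘ res F (P_le T V) :=
    funext fun s => (res_res F _ _ s).symm
  rw [e]
  exact (res_bijective_of_le_of_le F (inf_le_P T V) (P_le_inf T V)).1.of_comp_iff _

theorem bijective_inf_iff (T : ZClos.Cl Z) (V : X.Opens) :
    Function.Bijective (res F (inf_le_left : V ⊓ T.U ≤ V)) ↔ Function.Bijective (res F (P_le T V)) := by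
  have e : ⇑(res F (inf_le_left : V ⊓ T.U ≤ V)) = res F (inf_le_P T V) ∘ res F (P_le T V) :=
    funext fun s => (res_res F _ _ s).symm
  rw [e]
  exact Function.Bijective.of_comp_iff' (res_bijective_of_le_of_le F (inf_le_P T V) (P_le_inf T V)) _

theorem toDiagram_app (T : ZClos.Cl Z) (V : X.Opens) (s : F.presheaf.obj (op V)) :
    (ZClos.toDiagram Z F T).app V s = res F (P_le T V) s := rfl

theorem isZPure_iff_mono : ZClos.IsZPure Z F ↔ ∀ T : ZClos.Cl Z, Mono (ZClos.toDiagram Z F T) := by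
  rw [isZPure_iff]
  exact ⟨fun h T => mono_of_compact _ fun V hV a b hab => h T V hV hab,
    fun h T V hV a b hab => by haveI := h T; exact app_injective_of_mono (ZClos.toDiagram Z F T) V hab⟩

theorem isZClosed_iff_isIso : ZClos.IsZClosed Z F ↔ ∀ T : ZClos.Cl Z, IsIso (ZClos.toDiagram Z F T) := by
  rw [isZClosed_iff]
  exact ⟨fun h T => isIso_of_compact _ fun V hV => h T V hV,
    fun h T V hV => (isIso_iff_bijective (ZClos.toDiagram Z F T)).1 (h T) V⟩

/-- the Z-closure is Z-closed. -/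
theorem isZClosed_H0 : ZClos.IsZClosed Z ((ZClos.H0 Z).obj F) := by
  rw [isZClosed_iff]
  intro T V hV
  have hW := compact_P T hV
  constructor
  · rw [injective_iff_map_eq_zero]
    intro σ hσ
    obtain ⟨T1, s, rfl⟩ := exists_mk F hV σ
    rw [mk_res] at hσ
    obtain ⟨T', hT, h'⟩ := exists_of_mk_eq_zero F hW hσ
    have hle : P Z (T' ⊔ T) V ≤ P Z T' (P Z T V) := fun y hy =>
      mem_P.2 ⟨ZClos.Cl.U_anti le_sup_left (mem_P.1 hy).1, mem_P.2 ⟨ZClos.Cl.U_anti le_sup_right (mem_P.1 hy).1, (mem_P.1 hy).2⟩⟩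
    rw [← mk_trans F (hT.trans le_sup_left : T1 ≤ T' ⊔ T) s]
    have h2 : res F (P_mono (hT.trans le_sup_left : T1 ≤ T' ⊔ T) le_rfl) s = 0 := by
      have h3 := congrArg (res F hle) h'
      rw [map_zero, res_res, res_res] at h3
      exact h3
    rw [h2, map_zero]
  · intro τ
    obtain ⟨T1, s, rfl⟩ := exists_mk F hW τ
    have hle : P Z (T1 ⊔ T) V ≤ P Z T1 (P Z T V) := fun y hy =>
      mem_P.2 ⟨ZClos.Cl.U_anti le_sup_left (mem_P.1 hy).1, mem_P.2 ⟨ZClos.Cl.U_anti le_sup_right (mem_P.1 hy).1, (mem_P.1 hy).2⟩⟩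
    refine ⟨mk F (T1 ⊔ T) V (res F hle s), ?_⟩
    rw [mk_res, res_res]
    exact mk_trans F (le_sup_left : T1 ≤ T1 ⊔ T) s

/-- a section with vanishing germs outside `Z` dies off a closed subset in `Z`. -/
theorem exists_res_eq_zero (hZ : StableUnderSpecialization Z) {W : X.Opens} (s : F.presheaf.obj (op W))
    (h : ∀ x (hx : x ∈ W), x ∉ Z → F.presheaf.germ W x hx s = 0) :
    ∃ T : ZClos.Cl Z, ∀ (V : X.Opens) (hV : V ≤ W), V ≤ T.U → res F hV s = 0 := by
  let O : X.Opens := ⨆ (O' : X.Opens) (hO : O' ≤ W) (_ : res F hO s = 0), O'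
  have hmem : ∀ {x}, x ∈ O ↔ ∃ (O' : X.Opens) (hO : O' ≤ W), res F hO s = 0 ∧ x ∈ O' := by
    intro x
    simp only [O, Opens.mem_iSup]
    exact ⟨fun ⟨O', hO, h0, hx⟩ => ⟨O', hO, h0, hx⟩, fun ⟨O', hO, h0, hx⟩ => ⟨O', hO, h0, hx⟩⟩
  obtain ⟨T, hT⟩ := exists_cl hZ (S := (W : Set X) ∩ (O : Set X)ᶜ) (W.isOpen.isLocallyClosed.inter O.isOpen.isClosed_compl.isLocallyClosed) (by
    rintro x ⟨hxW, hxO⟩
    by_contra hxZ
    obtain ⟨W', hW', hxW', h0⟩ := exists_res_eq_zero_of_germ F hxW (h x hxW hxZ)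
    exact hxO (hmem.2 ⟨W', hW', h0, hxW'⟩))
  refine ⟨T, fun V hV hVT => ?_⟩
  refine ext_cover F (fun p : {O' : X.Opens // ∃ hO : O' ≤ W, res F hO s = 0} => p.1 ⊓ V) (fun p => inf_le_right) ?_ fun p => ?_
  · intro x hx
    by_contra hxp
    refine hVT hx (hT ⟨hV hx, fun hxO => hxp ?_⟩)
    obtain ⟨O', hO, h0, hxO'⟩ := hmem.1 hxO
    exact Opens.mem_iSup.2 ⟨⟨O', hO, h0⟩, hxO', hx⟩
  · obtain ⟨O', hO, h0⟩ := p
    rw [res_res, map_zero, ← res_res F (inf_le_left : O' ⊓ V ≤ O') hO s, h0, map_zero]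

/-- off `Z` the canonical map is bijective on stalks. -/
theorem isZClosedAt_of_not_mem {x : X} (hx : x ∉ Z) : ZClos.IsZClosedAt Z F x := by
  have hrho : ∀ (W : X.Opens) (hxW : x ∈ W) (s : F.presheaf.obj (op W)),
      ZClos.rhoStalk Z F x (F.presheaf.germ W x hxW s) = ((ZClos.H0 Z).obj F).presheaf.germ W x hxW ((ZClos.rhoApp Z F).app W s) := by
    intro W hxW s
    exact TopCat.Presheaf.stalkFunctor_map_germ_apply W x hxW (ZClos.rhoApp Z F).mapPresheaf s
  constructor
  · rw [injective_iff_map_eq_zero]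
    intro y hy
    obtain ⟨W, hxW, s, rfl⟩ := F.presheaf.exists_germ_eq (x := x) y
    rw [hrho, rho_eq F ⊥] at hy
    obtain ⟨T', hT, W', hW', hxW', h0⟩ := exists_of_germ_mk_eq_zero F hxW hy
    rw [res_res] at h0
    have h1 := TopCat.Presheaf.germ_res_apply F.presheaf (homOfLE ((P_mono hT hW').trans (P_le ⊥ W))) x (mem_P.2 ⟨not_mem_Z hx, hxW'⟩) s
    rw [show F.presheaf.map (homOfLE ((P_mono hT hW').trans (P_le ⊥ W))).op s = 0 from h0, map_zero] at h1
    exact h1.symm
  · intro y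
    obtain ⟨T, W, hxW, s, hs⟩ := exists_mk_of_germ F y
    have hxP : x ∈ P Z T W := mem_P.2 ⟨not_mem_Z hx, hxW⟩
    refine ⟨F.presheaf.germ (P Z T W) x hxP s, ?_⟩
    rw [hrho, rho_eq F T, ← hs, ← mk_res F (P_le T W) s]
    exact TopCat.Presheaf.germ_res_apply ((ZClos.H0 Z).obj F).presheaf (homOfLE (P_le T W)) x hxP _

end Groth.Agent.H6.ZApps
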