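import Mathlib
import Groth.Prelude.Def_ZClos
import Groth.Prelude.Def_CAlg
import Groth.Agent.Lib.H2Depth
import Groth.Agent.Lib.H2DepthMore
import Groth.Agent.Lib.H6.ZStalk
import Groth.Agent.Lib.H6.ZApps

set_option autoImplicit false
set_option linter.all false
set_option maxHeartbeats 1000000
set_option backward.isDefEq.respectTransparency.types false

/-! Z-pure / Z-closed at a point and depth. -/

universe u

open CategoryTheory CategoryTheory.Limits AlgebraicGeometry TopologicalSpace Opposite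
open Groth.Agent.H2Depth

namespace Groth.Agent.H6.ZDepth

open ZBasic ZStalk ZApps

section Local

variable {R : Type u} [CommRing R] [IsLocalRing R] [IsNoetherianRing R] {M : Type u} [AddCommGroup M] [Module R M]
  [Module.Finite R M]

theorem one_le_depth_iff :
    (1 : ℕ∞) ≤ LocCoh.depth R M ↔ ∀ u : M, (∀ r ∈ IsLocalRing.maximalIdeal R, r • u = 0) → u = 0 := by
  rcases subsingleton_or_nontrivial M with hs | hn
  · refine iff_of_true ?_ fun u _ => Subsingleton.elim _ _
    rw [LocCoh.depth, LocCoh.idealDepth, if_pos (Subsingleton.elim _ _)]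
    exact le_top
  · have htop := H2DepthMore.smul_top_ne_top (M := M) (le_refl (IsLocalRing.maximalIdeal R))
    rw [LocCoh.depth, show (1 : ℕ∞) = ((1 : ℕ) : ℕ∞) from rfl, ← hasReg_iff_le_idealDepth htop]
    constructor
    · intro h u hu
      obtain ⟨r, hr, hreg, -⟩ := h.exists_cons
      exact hreg (show r • u = r • 0 by rw [hu r hr, smul_zero])
    · intro h
      by_contra hc
      obtain ⟨u, hu, hu'⟩ := exists_killed_of_noReg (M := M) (I := IsLocalRing.maximalIdeal R)
        fun r hr hreg => hc (HasReg.cons hr hreg (HasReg.zero _))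
      exact hu (h u hu')

theorem not_two_le {a : R} (ha : a ∈ IsLocalRing.maximalIdeal R) (hreg : IsSMulRegular M a) {u : M}
    (hu : ∀ w, a • w ≠ u) (hmu : ∀ r ∈ IsLocalRing.maximalIdeal R, ∃ w, a • w = r • u) :
    ¬ (2 : ℕ∞) ≤ LocCoh.depth R M := by
  haveI : Nontrivial M := nontrivial_of_ne u 0 fun h => hu 0 (by rw [smul_zero, h])
  intro h
  have htop := H2DepthMore.smul_top_ne_top (M := M) (le_refl (IsLocalRing.maximalIdeal R))
  rw [LocCoh.depth, show (2 : ℕ∞) = ((2 : ℕ) : ℕ∞) from rfl, ← hasReg_iff_le_idealDepth htop] at h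
  obtain ⟨r, hr, hregr, -⟩ := (HasReg.quot ha hreg h).exists_cons
  have h0 : (Submodule.Quotient.mk u : QuotSMulTop a M) = 0 := by
    refine hregr ?_
    show r • (Submodule.Quotient.mk u : QuotSMulTop a M) = r • 0
    rw [smul_zero, ← Submodule.Quotient.mk_smul, mk_eq_zero_iff_exists]
    exact hmu r hr
  obtain ⟨w, hw⟩ := mk_eq_zero_iff_exists.1 h0
  exact hu w hw

theorem exists_of_not_two_le {a : R} (ha : a ∈ IsLocalRing.maximalIdeal R) (hreg : IsSMulRegular M a)
    (h : ¬ (2 : ℕ∞) ≤ LocCoh.depth R M) :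
    ∃ u : M, (∀ w, a • w ≠ u) ∧ ∀ r ∈ IsLocalRing.maximalIdeal R, ∃ w, a • w = r • u := by
  have hn : NoReg (IsLocalRing.maximalIdeal R) (QuotSMulTop a M) := fun r hr hregr =>
    h (le_idealDepth (k := 2) (HasReg.cons ha hreg (HasReg.cons hr hregr (HasReg.zero _))))
  obtain ⟨y, hy, hy'⟩ := exists_killed_of_noReg hn
  obtain ⟨u, rfl⟩ := Submodule.Quotient.mk_surjective _ y
  refine ⟨u, fun w hw => hy (mk_eq_zero_iff_exists.2 ⟨w, hw⟩), fun r hr => mk_eq_zero_iff_exists.1 ?_⟩
  rw [Submodule.Quotient.mk_smul]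
  exact hy' r hr

theorem regular_mod_pow {a b : R} (hb : ∀ u w : M, b • u = a • w → ∃ w', a • w' = u) (ha : IsSMulRegular M a) :
    ∀ (n k : ℕ) (u w : M), b ^ k • u = a ^ n • w → ∃ w', a ^ n • w' = u := by
  have hbk : ∀ (k : ℕ) (u w : M), b ^ k • u = a • w → ∃ w', a • w' = u := by
    intro k
    induction k with
    | zero => exact fun u w h => ⟨w, by rw [pow_zero, one_smul] at h; exact h.symm⟩
    | succ k ih =>
      intro u w h
      rw [pow_succ, mul_smul] at h
      obtain ⟨w', hw'⟩ := ih _ _ h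
      exact hb u w' hw'.symm
  intro n
  induction n with
  | zero => exact fun k u w _ => ⟨u, by rw [pow_zero, one_smul]⟩
  | succ n ih =>
    intro k u w h
    rw [pow_succ', mul_smul] at h
    obtain ⟨u1, rfl⟩ := hbk k u _ h
    rw [smul_comm] at h
    obtain ⟨w', hw'⟩ := ih k u1 w (ha h)
    exact ⟨w', by rw [pow_succ', mul_smul, hw']⟩

end Local

variable {X : Scheme.{u}} [IsLocallyNoetherian X] {Z : Set X} {F : X.Modules} [F.IsQuasicoherent]
  [hft : SheafOfModules.IsFiniteType (R := X.ringCatSheaf) F]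
include hft

theorem finite_stalk (x : X) : Module.Finite (X.presheaf.stalk x) (F.presheaf.stalk x) := by
  obtain ⟨V, hV, hx, -⟩ := exists_isAffineOpen_mem_and_subset (X := X) (x := x) (U := ⊤) trivial
  obtain ⟨G, hG⟩ := (LQcoh.finite_sections F hV).fg_top
  classical
  refine ⟨⟨G.image (gM F hx), eq_top_iff.2 fun y _ => ?_⟩⟩
  obtain ⟨u, s, hu, hus⟩ := exists_eq_smul hV hx y
  have hmem : ∀ t : Γ(F, V), gM F hx t ∈ Submodule.span (X.presheaf.stalk x) (↑(G.image (gM F hx)) : Set (F.presheaf.stalk x)) := by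
    intro t
    have ht : t ∈ Submodule.span Γ(X, V) (G : Set Γ(F, V)) := hG ▸ trivial
    induction ht using Submodule.span_induction with
    | mem a ha => exact Submodule.subset_span (Finset.mem_image_of_mem _ ha)
    | zero => rw [map_zero]; exact zero_mem _
    | add a b _ _ ha hb => rw [map_add]; exact add_mem ha hb
    | smul c a _ ha => rw [gM_smul]; exact Submodule.smul_mem _ _ ha
  have h2 : y = (↑(isUnit_gO hx hu).unit⁻¹ : X.presheaf.stalk x) • gM F hx s := by
    rw [← hus, smul_smul, IsUnit.val_inv_mul, one_smul]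
  rw [h2]
  exact Submodule.smul_mem _ _ (hmem s)

variable {V : X.Opens} (hV : IsAffineOpen V)
include hV

omit hft [F.IsQuasicoherent] in
theorem mem_maximalIdeal_iff {x : X} (hx : x ∈ V) {u : Γ(X, V)} :
    gO hx u ∈ IsLocalRing.maximalIdeal (X.presheaf.stalk x) ↔ u ∈ (hV.primeIdealOf ⟨x, hx⟩).asIdeal := by
  rw [mem_primeIdeal_iff hV hx, X.mem_basicOpen u x hx]
  exact Iff.rfl

omit hft [F.IsQuasicoherent] in
theorem exists_eq_smul_O {x : X} (hx : x ∈ V) (r : X.presheaf.stalk x) :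
    ∃ u c : Γ(X, V), x ∈ X.basicOpen u ∧ gO hx u * r = gO hx c := by
  letI : Algebra Γ(X, V) (X.presheaf.stalk x) := (X.presheaf.germ V x hx).hom.toAlgebra
  haveI : IsLocalization.AtPrime (X.presheaf.stalk x) (hV.primeIdealOf ⟨x, hx⟩).asIdeal := hV.isLocalization_stalk ⟨x, hx⟩
  obtain ⟨⟨c, u⟩, hcu⟩ := IsLocalization.surj (hV.primeIdealOf ⟨x, hx⟩).asIdeal.primeCompl r
  refine ⟨u.1, c, by_contra fun h => u.2 ((mem_primeIdeal_iff hV hx).2 h), ?_⟩
  rw [mul_comm]
  exact hcu

theorem one_le_depth_iff_ass {x : X} (hx : x ∈ V) :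
    (1 : ℕ∞) ≤ LocCoh.depth (X.presheaf.stalk x) (F.presheaf.stalk x) ↔
      (hV.primeIdealOf ⟨x, hx⟩).asIdeal ∉ associatedPrimes Γ(X, V) Γ(F, V) := by
  haveI := finite_stalk (F := F) x
  haveI : IsNoetherianRing Γ(X, V) := IsLocallyNoetherian.component_noetherian ⟨V, hV⟩
  rw [one_le_depth_iff]
  constructor
  · intro h hass
    obtain ⟨-, w, hw⟩ := isAssociatedPrime_iff.1 hass
    have h0 : gM F hx w = 0 := h _ fun r hr => by
      obtain ⟨u, c, hu, huc⟩ := exists_eq_smul_O hV hx r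
      have hc : c ∈ (hV.primeIdealOf ⟨x, hx⟩).asIdeal := by
        rw [← mem_maximalIdeal_iff hV hx, ← huc]
        exact Ideal.mul_mem_left _ _ hr
      rw [hw] at hc
      have hc0 : c • w = 0 := by simpa using Submodule.mem_colon_singleton.1 hc
      refine (isUnit_gO hx hu).smul_eq_zero.1 ?_
      rw [smul_smul, huc, ← gM_smul, hc0, map_zero]
    obtain ⟨u, hu, hu0⟩ := (gM_eq_zero_iff hV hx w).1 h0
    exact hu (hw ▸ Submodule.mem_colon_singleton.2 (by simpa using hu0))
  · intro h y hy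
    by_contra hy0
    obtain ⟨u, s, hu, hus⟩ := exists_eq_smul hV hx y
    have hs : gM F hx s ≠ 0 := by
      rw [← hus]
      exact fun h0 => hy0 ((isUnit_gO hx hu).smul_eq_zero.1 h0)
    obtain ⟨G, hG⟩ := (IsNoetherian.noetherian (hV.primeIdealOf ⟨x, hx⟩).asIdeal)
    have hkill : ∀ c : (G : Set Γ(X, V)), ∃ v ∉ (hV.primeIdealOf ⟨x, hx⟩).asIdeal, v • (c : Γ(X, V)) • s = 0 := fun c => by
      refine (gM_eq_zero_iff hV hx _).1 ?_
      rw [gM_smul, ← hus, smul_comm, hy _ ((mem_maximalIdeal_iff hV hx).2 (hG ▸ Submodule.subset_span c.2)), smul_zero]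
    choose v hv hv0 using hkill
    have hvp : (∏ c, v c) ∉ (hV.primeIdealOf ⟨x, hx⟩).asIdeal := fun hmem => by
      obtain ⟨c, -, hc⟩ := ((hV.primeIdealOf ⟨x, hx⟩).isPrime.prod_mem_iff).1 hmem
      exact hv c hc
    apply h
    refine isAssociatedPrime_iff.2 ⟨(hV.primeIdealOf ⟨x, hx⟩).isPrime, (∏ c, v c) • s, le_antisymm ?_ ?_⟩
    · conv_lhs => rw [← hG]
      refine Submodule.span_le.2 fun c hc => Submodule.mem_colon_singleton.2 ?_
      obtain ⟨d, hd⟩ : v ⟨c, hc⟩ ∣ ∏ c, v c := Finset.dvd_prod_of_mem v (Finset.mem_univ _)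
      rw [Submodule.mem_bot, hd, smul_smul, show c * (v ⟨c, hc⟩ * d) = d * (v ⟨c, hc⟩ * c) by ring, mul_smul, mul_smul,
        hv0 ⟨c, hc⟩, smul_zero]
    · intro c hc
      refine annihilator_le hV hx ?_ (u := c) (by simpa using Submodule.mem_colon_singleton.1 hc)
      rw [gM_smul]
      exact fun h0 => hs ((isUnit_gO hx (by_contra fun h' => hvp ((mem_primeIdeal_iff hV hx).2 h'))).smul_eq_zero.1 h0)

end Groth.Agent.H6.ZDepth
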