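import Mathlib
import Groth.Prelude.Def_ZClos
import Groth.Prelude.Def_CAlg
import Groth.Agent.Lib.H6.ZDepth

set_option autoImplicit false
set_option linter.all false
set_option maxHeartbeats 1000000
set_option backward.isDefEq.respectTransparency.types false

/-! Z-pure / Z-closed at a point and depth along `Z`. -/

universe u

open CategoryTheory CategoryTheory.Limits AlgebraicGeometry TopologicalSpace Opposite

namespace Groth.Agent.H6.ZPoint

open ZBasic ZStalk ZApps ZDepth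

variable {X : Scheme.{u}} {Z : Set X} (F : X.Modules)

theorem rho_germ {W : X.Opens} {x : X} (hx : x ∈ W) (s : F.presheaf.obj (op W)) :
    ZClos.rhoStalk Z F x (F.presheaf.germ W x hx s) =
      ((ZClos.H0 Z).obj F).presheaf.germ W x hx ((ZClos.rhoApp Z F).app W s) :=
  TopCat.Presheaf.stalkFunctor_map_germ_apply W x hx (ZClos.rhoApp Z F).mapPresheaf s

theorem eq_zero_of_germs {W : X.Opens} (s : F.presheaf.obj (op W))
    (h : ∀ z (hz : z ∈ W), F.presheaf.germ W z hz s = 0) : s = 0 :=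
  TopCat.Presheaf.section_ext (⟨F.presheaf, F.isSheaf⟩ : TopCat.Sheaf Ab.{u} X) W s 0 fun z hz =>
    (h z hz).trans (map_zero _).symm

variable [IsLocallyNoetherian X] {F} [F.IsQuasicoherent] [hft : SheafOfModules.IsFiniteType (R := X.ringCatSheaf) F]
include hft

theorem injective_rhoStalk (hZ : StableUnderSpecialization Z) {x : X}
    (h : ∀ x' : X, x' ⤳ x → x' ∈ Z → (1 : ℕ∞) ≤ LocCoh.depth (X.presheaf.stalk x') (F.presheaf.stalk x')) :
    Function.Injective (ZClos.rhoStalk Z F x) := by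
  rw [injective_iff_map_eq_zero]
  intro y hy
  obtain ⟨W, hxW, s, rfl⟩ := F.presheaf.exists_germ_eq (x := x) y
  rw [rho_germ, rho_eq F ⊥] at hy
  obtain ⟨T, hT, W', hW', hxW', h0⟩ := exists_of_germ_mk_eq_zero F hxW hy
  rw [res_res] at h0
  obtain ⟨V, hV, hxV, hVW⟩ := exists_isAffineOpen_mem_and_subset (X := X) (x := x) (U := W') hxW'
  haveI : IsNoetherianRing Γ(X, V) := IsLocallyNoetherian.component_noetherian ⟨V, hV⟩
  have hle : V ≤ W := fun z hz => hW' (hVW hz)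
  show gM F hxW s = 0
  rw [← gM_res F hle hxV s]
  by_contra hne
  obtain ⟨q, hq, hqp, hq'⟩ := exists_ass_le hV hxV hne
  obtain ⟨x', hx', rfl⟩ := exists_point hV q hq.isPrime
  have hx'T : x' ∈ (T.1 : Set X) := by
    by_contra hT'
    have hxP : x' ∈ P Z T V := mem_P.2 ⟨hT', hx'⟩
    have h1 : res F (P_mono le_rfl (show V ≤ W' from hVW) : P Z T V ≤ P Z T W') (res F ((P_mono hT hW').trans (P_le ⊥ W)) s) = 0 := by
      rw [show res F ((P_mono hT hW').trans (P_le ⊥ W)) s = 0 from h0, map_zero]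
    rw [res_res] at h1
    have h2 : gM F hx' (res F hle s) = 0 := by
      rw [gM_res, ← gM_res F ((P_le T V).trans hle) hxP s]
      exact (congrArg _ h1).trans (map_zero _)
    obtain ⟨v, hv, hv0⟩ := (gM_eq_zero_iff hV hx' _).1 h2
    exact hv (hq' v hv0)
  exact (one_le_depth_iff_ass hV hx').1 (h x' ((specializes_iff hV hx' hxV).2 hqp) (T.2 hx'T)) hq

theorem one_le_depth_of_injective (hZ : StableUnderSpecialization Z) {x : X}
    (h : Function.Injective (ZClos.rhoStalk Z F x)) {x' : X} (hs : x' ⤳ x) (hx'Z : x' ∈ Z) :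
    (1 : ℕ∞) ≤ LocCoh.depth (X.presheaf.stalk x') (F.presheaf.stalk x') := by
  obtain ⟨V, hV, hxV, -⟩ := exists_isAffineOpen_mem_and_subset (X := X) (x := x) (U := ⊤) trivial
  have hx' : x' ∈ V := hs.mem_open V.2 hxV
  rw [one_le_depth_iff_ass hV hx']
  intro hass
  haveI : IsNoetherianRing Γ(X, V) := IsLocallyNoetherian.component_noetherian ⟨V, hV⟩
  obtain ⟨-, w, hw⟩ := isAssociatedPrime_iff.1 hass
  let T : ZClos.Cl Z := ⟨⟨closure {x'}, isClosed_closure⟩, fun z hz => hZ (specializes_iff_mem_closure.2 hz) hx'Z⟩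
  have h1 : res F (P_le T V) w = 0 := eq_zero_of_germs F _ fun z hz => by
    have hzV : z ∈ V := (mem_P.1 hz).2
    show gM F hz (res F (P_le T V) w) = 0
    rw [gM_res, gM_eq_zero_iff hV hzV]
    obtain ⟨c, hc, hc'⟩ := SetLike.not_le_iff_exists.1 (fun hle => (mem_P.1 hz).1
      (specializes_iff_mem_closure.1 ((specializes_iff hV hx' hzV).2 hle)))
    rw [hw] at hc
    exact ⟨c, hc', by simpa using Submodule.mem_colon_singleton.1 hc⟩
  have h2 : gM F hxV w = 0 := h (by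
    show ZClos.rhoStalk Z F x (F.presheaf.germ V x hxV w) = _
    rw [rho_germ, rho_eq F T, h1, map_zero, map_zero, map_zero])
  obtain ⟨u, hu, hu0⟩ := (gM_eq_zero_iff hV hxV w).1 h2
  exact hu ((specializes_iff hV hx' hxV).1 hs (hw ▸ Submodule.mem_colon_singleton.2 (by simpa using hu0)))

omit hft [F.IsQuasicoherent] [IsLocallyNoetherian X] in
/-- prime avoidance for associated primes below a prime. -/
theorem exists_avoid {A : Type u} [CommRing A] [IsNoetherianRing A] {M : Type u} [AddCommGroup M] [Module A M] [Module.Finite A M]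
    (I p : Ideal A) (h : ∀ q ∈ associatedPrimes A M, q ≤ p → ¬ I ≤ q) :
    ∃ a ∈ I, ∀ q ∈ associatedPrimes A M, q ≤ p → a ∉ q := by
  classical
  let S := ((associatedPrimes.finite A M).toFinset).filter (fun q => q ≤ p)
  by_contra hc
  push Not at hc
  have hsub : (I : Set A) ⊆ ⋃ q ∈ (↑S : Set (Ideal A)), (q : Set A) := fun a ha => by
    obtain ⟨q, hq, hqp, haq⟩ := hc a ha
    exact Set.mem_iUnion₂.2 ⟨q, Finset.mem_filter.2 ⟨(Set.Finite.mem_toFinset _).2 hq, hqp⟩, haq⟩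
  obtain ⟨q, hq, hle⟩ := (Ideal.subset_union_prime (s := S) (f := id) ⊤ ⊤
    (fun q hq _ _ => ((Set.Finite.mem_toFinset _).1 (Finset.mem_filter.1 hq).1).isPrime)).1 hsub
  obtain ⟨hq1, hq2⟩ := Finset.mem_filter.1 hq
  exact h q ((Set.Finite.mem_toFinset _).1 hq1) hq2 hle

theorem two_le_depth_of_bijective (hZ : StableUnderSpecialization Z) {x : X}
    (h : Function.Bijective (ZClos.rhoStalk Z F x)) {x' : X} (hs : x' ⤳ x) (hx'Z : x' ∈ Z) :
    (2 : ℕ∞) ≤ LocCoh.depth (X.presheaf.stalk x') (F.presheaf.stalk x') := by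
  classical
  obtain ⟨V, hV, hxV, -⟩ := exists_isAffineOpen_mem_and_subset (X := X) (x := x) (U := ⊤) trivial
  have hx' : x' ∈ V := hs.mem_open V.2 hxV
  haveI : IsNoetherianRing Γ(X, V) := IsLocallyNoetherian.component_noetherian ⟨V, hV⟩
  haveI := LQcoh.finite_sections F hV
  haveI := finite_stalk (F := F) x'
  have hpure : ∀ r : X, r ⤳ x → r ∈ Z → (1 : ℕ∞) ≤ LocCoh.depth (X.presheaf.stalk r) (F.presheaf.stalk r) :=
    fun r hr hrZ => one_le_depth_of_injective hZ h.1 hr hrZ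
  have hqp : (hV.primeIdealOf ⟨x', hx'⟩).asIdeal ≤ (hV.primeIdealOf ⟨x, hxV⟩).asIdeal := (specializes_iff hV hx' hxV).1 hs
  obtain ⟨a, haq, ha⟩ := exists_avoid (M := Γ(F, V)) (hV.primeIdealOf ⟨x', hx'⟩).asIdeal (hV.primeIdealOf ⟨x, hxV⟩).asIdeal
    fun r hr hrp hle => by
      obtain ⟨z, hz, rfl⟩ := exists_point hV r hr.isPrime
      exact (one_le_depth_iff_ass hV hz).1 (hpure z ((specializes_iff hV hz hxV).2 hrp)
        (hZ ((specializes_iff hV hx' hz).2 hle) hx'Z)) hr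
  have hregx := regular_gM hV hxV (F := F) ha
  have hregx' := regular_gM hV hx' (F := F) (a := a) fun r hr hrq => ha r hr (hrq.trans hqp)
  by_contra hd
  obtain ⟨u', hu', hmu'⟩ := exists_of_not_two_le ((mem_maximalIdeal_iff hV hx').2 haq) hregx' hd
  obtain ⟨u0, m0, hu0, hu0m⟩ := exists_eq_smul hV hx' u'
  -- generators of the prime of `x'`
  obtain ⟨G, hG⟩ := IsNoetherian.noetherian (hV.primeIdealOf ⟨x', hx'⟩).asIdeal
  have hstep : ∀ c : {c // c ∈ G}, ∃ (v : Γ(X, V)) (w : Γ(F, V)), v ∉ (hV.primeIdealOf ⟨x', hx'⟩).asIdeal ∧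
      (v * c) • m0 = a • w := by
    intro c
    obtain ⟨w, hw⟩ := hmu' (gO hx' (c : Γ(X, V))) ((mem_maximalIdeal_iff hV hx').2 (hG ▸ Submodule.subset_span c.2))
    obtain ⟨u1, w1, hu1, hu1w⟩ := exists_eq_smul hV hx' w
    have h0 : gM F hx' ((u1 * c) • m0 - a • (u0 • w1)) = 0 := by
      rw [map_sub, gM_smul, gM_smul, gM_smul, ← hu1w, ← hu0m, map_mul]
      simp only [smul_smul]
      rw [show gO hx' u1 * gO hx' (c : Γ(X, V)) * gO hx' u0 = gO hx' u0 * gO hx' u1 * gO hx' (c : Γ(X, V)) by ring,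
        show gO hx' a * (gO hx' u0 * gO hx' u1) = gO hx' u0 * gO hx' u1 * gO hx' a by ring]
      simp only [mul_smul, hw]
      exact sub_self _
    obtain ⟨v, hv, hv0⟩ := (gM_eq_zero_iff hV hx' _).1 h0
    refine ⟨v * u1, v • u0 • w1, (hV.primeIdealOf ⟨x', hx'⟩).isPrime.mul_notMem hv
      (fun h' => (mem_primeIdeal_iff hV hx').1 h' hu1), ?_⟩
    rw [smul_sub, sub_eq_zero] at hv0
    rw [smul_comm a v, ← hv0, smul_smul]
    congr 1
    ring
  choose v w hv hvw using hstep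
  let m : Γ(F, V) := (∏ c, v c) • m0
  have hcm : ∀ c : {c // c ∈ G}, ∃ y : Γ(F, V), (c : Γ(X, V)) • m = a • y := fun c => by
    obtain ⟨d, hd⟩ : v c ∣ ∏ c, v c := Finset.dvd_prod_of_mem v (Finset.mem_univ _)
    refine ⟨d • w c, ?_⟩
    rw [smul_comm a d, ← hvw]
    simp only [m, hd, smul_smul]
    congr 1
    ring
  choose yc hyc using hcm
  have hm : ∀ z : F.presheaf.stalk x', gO hx' a • z ≠ gM F hx' m := by
    intro z hz
    have hP : IsUnit (gO hx' (∏ c, v c)) := isUnit_gO hx' (by_contra fun hP => by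
      obtain ⟨c, -, hc⟩ := ((hV.primeIdealOf ⟨x', hx'⟩).isPrime.prod_mem_iff).1 ((mem_primeIdeal_iff hV hx').2 hP)
      exact hv c hc)
    refine hu' ((↑(isUnit_gO hx' hu0).unit⁻¹ * ↑hP.unit⁻¹ : X.presheaf.stalk x') • z) ?_
    rw [smul_comm, hz]
    simp only [m]
    rw [gM_smul, ← hu0m, smul_smul, smul_smul,
      show (↑(isUnit_gO hx' hu0).unit⁻¹ * ↑hP.unit⁻¹ : X.presheaf.stalk x') * gO hx' (∏ c, v c) * gO hx' u0 =
        (↑(isUnit_gO hx' hu0).unit⁻¹ * gO hx' u0) * (↑hP.unit⁻¹ * gO hx' (∏ c, v c)) by ring,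
      IsUnit.val_inv_mul, IsUnit.val_inv_mul, one_mul, one_smul]
  -- shrink so that `a` is regular
  obtain ⟨Gk, hGk⟩ := IsNoetherian.noetherian (LinearMap.ker (LinearMap.lsmul Γ(X, V) Γ(F, V) a))
  have hk : ∀ k : {k // k ∈ Gk}, ∃ e ∉ (hV.primeIdealOf ⟨x, hxV⟩).asIdeal, e • (k : Γ(F, V)) = 0 := fun k => by
    refine (gM_eq_zero_iff hV hxV _).1 (hregx ?_)
    show gO hxV a • gM F hxV (k : Γ(F, V)) = gO hxV a • 0
    have hk0 : a • (k : Γ(F, V)) = 0 := (hGk ▸ Submodule.subset_span k.2 : (k : Γ(F, V)) ∈ LinearMap.ker (LinearMap.lsmul Γ(X, V) Γ(F, V) a))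
    rw [smul_zero, ← gM_smul, hk0, map_zero]
  choose e he he0 using hk
  let hh : Γ(X, V) := ∏ k, e k
  have hxh : x ∈ X.basicOpen hh := by
    by_contra hxh
    obtain ⟨k, -, hk⟩ := ((hV.primeIdealOf ⟨x, hxV⟩).isPrime.prod_mem_iff).1 ((mem_primeIdeal_iff hV hxV).2 hxh)
    exact he k hk
  have hker : ∀ y : Γ(F, V), a • y = 0 → hh • y = 0 := fun y hy => by
    have hy' : y ∈ Submodule.span Γ(X, V) (Gk : Set Γ(F, V)) := by rw [hGk]; exact hy
    induction hy' using Submodule.span_induction with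
    | mem k hk => exact (by
        obtain ⟨d, hd⟩ : e ⟨k, hk⟩ ∣ hh := Finset.dvd_prod_of_mem e (Finset.mem_univ _)
        rw [hd, mul_comm, mul_smul, he0 ⟨k, hk⟩, smul_zero])
    | zero => rw [smul_zero]
    | add b c hb hc ihb ihc =>
      have hb0 : a • b = 0 := by rw [hGk] at hb; exact hb
      have hc0 : a • c = 0 := by rw [hGk] at hc; exact hc
      rw [smul_add, ihb hb0, ihc hc0, add_zero]
    | smul r b hb ihb =>
      have hb0 : a • b = 0 := by rw [hGk] at hb; exact hb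
      rw [smul_comm, ihb hb0, smul_zero]
  have hregW : ∀ (W : X.Opens) (hW : W ≤ X.basicOpen hh) (d : Γ(F, W)),
      (X.presheaf.map (homOfLE (hW.trans (X.basicOpen_le hh))).op).hom a • d = 0 → d = 0 := by
    intro W hW d hd
    refine eq_zero_of_germs F d fun z hz => ?_
    have hzV : z ∈ V := X.basicOpen_le hh (hW hz)
    obtain ⟨u, s, hu, hus⟩ := exists_eq_smul hV hzV (gM F hz d)
    have h0 : gO hzV a • gM F hz d = 0 := by
      have := congrArg (gM F hz) hd
      rw [gM_smul, map_zero] at this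
      have e1 : gO hz ((X.presheaf.map (homOfLE (hW.trans (X.basicOpen_le hh))).op).hom a) = gO hzV a :=
        TopCat.Presheaf.germ_res_apply X.presheaf (homOfLE (hW.trans (X.basicOpen_le hh))) z hz a
      rwa [e1] at this
    have h1 : gM F hzV (a • s) = 0 := by rw [gM_smul, ← hus, smul_comm, h0, smul_zero]
    obtain ⟨v', hv', hv'0⟩ := (gM_eq_zero_iff hV hzV _).1 h1
    have h2 : gM F hzV s = 0 := by
      rw [gM_eq_zero_iff hV hzV]
      refine ⟨hh * v', (hV.primeIdealOf ⟨z, hzV⟩).isPrime.mul_notMem (fun h' => (mem_primeIdeal_iff hV hzV).1 h' (hW hz)) hv', ?_⟩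
      rw [mul_smul]
      exact hker _ (by rw [smul_comm]; exact hv'0)
    rw [h2] at hus
    exact (isUnit_gO hzV hu).smul_eq_zero.1 hus
  -- the section on the complement of the closure of `x'`
  let T : ZClos.Cl Z := ⟨⟨closure {x'}, isClosed_closure⟩, fun z hz => hZ (specializes_iff_mem_closure.2 hz) hx'Z⟩
  let D : {c // c ∈ G} → X.Opens := fun c => P Z T (X.basicOpen hh) ⊓ X.basicOpen (c : Γ(X, V))
  have hDV : ∀ c, D c ≤ V := fun c => inf_le_right.trans (X.basicOpen_le _)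
  have hunit : ∀ c, IsUnit ((X.presheaf.map (homOfLE (hDV c)).op).hom (c : Γ(X, V))) := fun c =>
    isUnit_res_of_le (c : Γ(X, V)) (inf_le_right : D c ≤ _)
  let sc : ∀ c, Γ(F, D c) := fun c => (↑(hunit c).unit⁻¹ : Γ(X, D c)) • (res F (hDV c) (yc c) : Γ(F, D c))
  have hasc : ∀ c, (X.presheaf.map (homOfLE (hDV c)).op).hom a • sc c = (res F (hDV c) m : Γ(F, D c)) := fun c => by
    simp only [sc]
    rw [smul_comm, ← res_smul, ← hyc, res_smul, smul_smul, IsUnit.val_inv_mul, one_smul]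
  have hcov : P Z T (X.basicOpen hh) ≤ iSup D := by
    intro z hz
    have hzV : z ∈ V := X.basicOpen_le hh (mem_P.1 hz).2
    obtain ⟨c, hc, hc'⟩ : ∃ c ∈ G, c ∉ (hV.primeIdealOf ⟨z, hzV⟩).asIdeal := by
      by_contra hc
      push Not at hc
      refine (mem_P.1 hz).1 (specializes_iff_mem_closure.1 ((specializes_iff hV hx' hzV).2 ?_))
      rw [← hG]
      exact Submodule.span_le.2 fun c hcG => hc c hcG
    exact Opens.mem_iSup.2 ⟨⟨c, hc⟩, hz, by_contra fun h' => hc' ((mem_primeIdeal_iff hV hzV).2 h')⟩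
  obtain ⟨g, hg⟩ := glue F D (fun c => inf_le_left) hcov sc fun c c' => by
    rw [← sub_eq_zero]
    refine hregW (D c ⊓ D c') (fun z hz => (mem_P.1 hz.1.1).2) _ ?_
    have key : ∀ (e : {c // c ∈ G}) (hle : D c ⊓ D c' ≤ D e),
        (X.presheaf.map (homOfLE ((show D c ⊓ D c' ≤ X.basicOpen hh from fun z hz => (mem_P.1 hz.1.1).2).trans (X.basicOpen_le hh))).op).hom a •
          (res F hle (sc e) : Γ(F, D c ⊓ D c')) = res F (hle.trans (hDV e)) m := by
      intro e hle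
      have h1 := congrArg (res F hle) (hasc e)
      rw [res_res, res_smul] at h1
      refine Eq.trans ?_ h1
      congr 1
      rw [← CommRingCat.comp_apply, ← Functor.map_comp]
      rfl
    rw [smul_sub, key c inf_le_left, key c' inf_le_right, sub_self]
  have hag : ∀ (hPV : P Z T (X.basicOpen hh) ≤ V), (X.presheaf.map (homOfLE hPV).op).hom a • (g : Γ(F, P Z T (X.basicOpen hh))) = res F hPV m :=
    fun hPV => ext_cover F D (fun c => inf_le_left) hcov fun c => by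
      rw [res_smul, res_res, hg]
      refine Eq.trans ?_ (hasc c)
      congr 1
      rw [← CommRingCat.comp_apply, ← Functor.map_comp]
      rfl
  -- use bijectivity at `x`
  obtain ⟨y, hy⟩ := h.2 (((ZClos.H0 Z).obj F).presheaf.germ _ x hxh (mk F T (X.basicOpen hh) g))
  obtain ⟨W4, hxW4, t, rfl⟩ := F.presheaf.exists_germ_eq (x := x) y
  rw [rho_germ, rho_eq F T] at hy
  obtain ⟨W5, hxW5, i4, i5, e5⟩ := ((ZClos.H0 Z).obj F).presheaf.germ_eq x hxW4 hxh _ _ hy
  have h5 : mk F T W5 (res F ((P_mono le_rfl i4.le).trans (P_le T W4)) t - res F (P_mono le_rfl i5.le) g) = 0 := by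
    rw [map_sub, sub_eq_zero]
    have e6 : res ((ZClos.H0 Z).obj F) i4.le (mk F T W4 (res F (P_le T W4) t)) =
        res ((ZClos.H0 Z).obj F) i5.le (mk F T (X.basicOpen hh) g) := e5
    rw [mk_res, mk_res, res_res] at e6
    exact e6
  obtain ⟨T', hT, W6, hW6, hxW6, h6⟩ := exists_of_germ_mk_eq_zero F hxW5 ((congrArg _ h5).trans (map_zero _))
  rw [map_sub, sub_eq_zero, res_res, res_res] at h6
  have hW6V : W6 ≤ V := hW6.trans (i5.le.trans (X.basicOpen_le hh))
  have hW64 : W6 ≤ W4 := hW6.trans i4.le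
  let d : Γ(F, W6) := (X.presheaf.map (homOfLE hW6V).op).hom a • (res F hW64 t : Γ(F, W6)) - res F hW6V m
  have hd0 : ZClos.rhoStalk Z F x (F.presheaf.germ W6 x hxW6 d) = 0 := by
    rw [rho_germ, rho_eq F T']
    have h7 : res F (P_le T' W6) d = 0 := by
      have hPP : P Z T' W6 ≤ P Z T (X.basicOpen hh) := P_mono hT (hW6.trans i5.le)
      have h8 := congrArg (res F hPP) (hag (((P_le T _)).trans (X.basicOpen_le hh)))
      rw [res_smul, res_res] at h8
      simp only [d, map_sub]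
      rw [res_smul, res_res, res_res, sub_eq_zero]
      refine Eq.trans ?_ h8
      congr 1
      · rw [← CommRingCat.comp_apply, ← Functor.map_comp, ← CommRingCat.comp_apply, ← Functor.map_comp]
        rfl
    rw [h7, map_zero, map_zero]
  have hx0 : gM F hxW6 d = 0 := h.1 (hd0.trans (map_zero _).symm)
  have hay : gO hxV a • gM F hxW4 t = gM F hxV m := by
    simp only [d, map_sub, sub_eq_zero] at hx0
    rw [gM_smul, gM_res, gM_res] at hx0
    refine Eq.trans ?_ hx0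
    congr 1
    exact (TopCat.Presheaf.germ_res_apply X.presheaf (homOfLE hW6V) x hxW6 a).symm
  obtain ⟨u, s, hu, hus⟩ := exists_eq_smul hV hxV (gM F hxW4 t)
  have h9 : gM F hxV (a • s - u • m) = 0 := by rw [map_sub, gM_smul, gM_smul, ← hus, ← hay, smul_comm, sub_self]
  obtain ⟨v1, hv1, hv10⟩ := (gM_eq_zero_iff hV hxV _).1 h9
  have hu' : IsUnit (gO hx' u) := isUnit_gO hx' (hs.mem_open (X.basicOpen u).2 hu)
  have hv1' : IsUnit (gO hx' v1) := isUnit_gO hx' (hs.mem_open (X.basicOpen v1).2 (by_contra fun h' => hv1 ((mem_primeIdeal_iff hV hxV).2 h')))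
  refine hm ((↑hu'.unit⁻¹ : X.presheaf.stalk x') • gM F hx' s) ?_
  have h10 := congrArg (gM F hx') hv10
  rw [gM_smul, map_zero, hv1'.smul_eq_zero, map_sub, sub_eq_zero, gM_smul, gM_smul] at h10
  rw [smul_comm, h10, smul_smul, IsUnit.val_inv_mul, one_smul]

theorem regular_mod {V : X.Opens} (hV : IsAffineOpen V) {x : X} (hxV : x ∈ V) [IsNoetherianRing Γ(X, V)] [Module.Finite Γ(X, V) Γ(F, V)]
    {a b : Γ(X, V)} (hb : ∀ q ∈ associatedPrimes Γ(X, V) (QuotSMulTop a Γ(F, V)), q ≤ (hV.primeIdealOf ⟨x, hxV⟩).asIdeal → b ∉ q)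
    (u w : F.presheaf.stalk x) (h : gO hxV b • u = gO hxV a • w) : ∃ w', gO hxV a • w' = u := by
  by_contra hne
  push Not at hne
  obtain ⟨u0, s, hu0, hs⟩ := exists_eq_smul hV hxV u
  obtain ⟨u1, t, hu1, ht⟩ := exists_eq_smul hV hxV w
  have h0 : gM F hxV ((u1 * b) • s - a • (u0 • t)) = 0 := by
    rw [map_sub, gM_smul, gM_smul, gM_smul, ← hs, ← ht, sub_eq_zero, map_mul]
    simp only [smul_smul]
    rw [show gO hxV u1 * gO hxV b * gO hxV u0 = (gO hxV u0 * gO hxV u1) * gO hxV b by ring,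
      show gO hxV a * (gO hxV u0 * gO hxV u1) = (gO hxV u0 * gO hxV u1) * gO hxV a by ring,
      mul_smul, mul_smul, h]
    simp only [smul_smul, mul_assoc]
  obtain ⟨v, hv, hv0⟩ := (gM_eq_zero_iff hV hxV _).1 h0
  let N : Submodule Γ(X, V) (QuotSMulTop a Γ(F, V)) := Submodule.span Γ(X, V) {Submodule.Quotient.mk ((v * u1) • s)}
  have hle : Module.annihilator Γ(X, V) N ≤ (hV.primeIdealOf ⟨x, hxV⟩).asIdeal := by
    intro c hc
    by_contra hcp
    have h1 : (Submodule.Quotient.mk ((c * (v * u1)) • s) : QuotSMulTop a Γ(F, V)) = 0 := by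
      rw [mul_smul, Submodule.Quotient.mk_smul]
      exact congrArg Subtype.val (Module.mem_annihilator.1 hc ⟨_, Submodule.mem_span_singleton_self _⟩)
    obtain ⟨t', ht'⟩ := H2Depth.mk_eq_zero_iff_exists.1 h1
    have hunit : IsUnit (gO hxV (c * (v * u1) * 1) * gO hxV u0) := by
      refine IsUnit.mul ?_ (isUnit_gO hxV hu0)
      rw [mul_one, map_mul, map_mul]
      exact (isUnit_gO hxV (by_contra fun h' => hcp ((mem_primeIdeal_iff hV hxV).2 h'))).mul
        ((isUnit_gO hxV (by_contra fun h' => hv ((mem_primeIdeal_iff hV hxV).2 h'))).mul (isUnit_gO hxV hu1))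
    refine hne ((↑hunit.unit⁻¹ : X.presheaf.stalk x) • gM F hxV t') ?_
    have h2 := congrArg (gM F hxV) ht'
    rw [gM_smul, gM_smul, ← hs] at h2
    rw [smul_comm, h2, smul_smul, smul_smul, mul_assoc,
      show gO hxV (c * (v * u1)) * gO hxV u0 = gO hxV (c * (v * u1) * 1) * gO hxV u0 by rw [mul_one],
      IsUnit.val_inv_mul, one_smul]
  obtain ⟨q, hq, hqp⟩ := Ideal.exists_minimalPrimes_le hle
  refine hb q (associatedPrimes.subset_of_injective N.injective_subtype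
    (Module.associatedPrimes.minimalPrimes_annihilator_subset_associatedPrimes Γ(X, V) N hq)) hqp (hq.1.2 ?_)
  rw [Module.mem_annihilator]
  rintro ⟨z, hz⟩
  obtain ⟨r, rfl⟩ := Submodule.mem_span_singleton.1 hz
  refine Subtype.ext ?_
  show b • r • (Submodule.Quotient.mk ((v * u1) • s) : QuotSMulTop a Γ(F, V)) = 0
  rw [smul_comm, ← Submodule.Quotient.mk_smul, show (Submodule.Quotient.mk (b • (v * u1) • s) : QuotSMulTop a Γ(F, V)) = 0 from
    H2Depth.mk_eq_zero_iff_exists.2 ⟨v • u0 • t, by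
      rw [smul_sub, sub_eq_zero] at hv0
      rw [smul_comm a v, ← hv0]
      simp only [smul_smul]
      congr 1
      ring⟩, smul_zero]

theorem surjective_rhoStalk (hZ : StableUnderSpecialization Z) {x : X}
    (h : ∀ x' : X, x' ⤳ x → x' ∈ Z → (2 : ℕ∞) ≤ LocCoh.depth (X.presheaf.stalk x') (F.presheaf.stalk x')) :
    Function.Surjective (ZClos.rhoStalk Z F x) := by
  classical
  intro y
  obtain ⟨T, W, hxW, s0, rfl⟩ := exists_mk_of_germ F y
  obtain ⟨V, hV, hxV, hVW⟩ := exists_isAffineOpen_mem_and_subset (X := X) (x := x) (U := W) hxW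
  haveI : IsNoetherianRing Γ(X, V) := IsLocallyNoetherian.component_noetherian ⟨V, hV⟩
  haveI := LQcoh.finite_sections F hV
  have hVW' : V ≤ W := hVW
  have h1 : ∀ x' : X, x' ⤳ x → x' ∈ Z → (1 : ℕ∞) ≤ LocCoh.depth (X.presheaf.stalk x') (F.presheaf.stalk x') :=
    fun x' hs hz => le_trans (by norm_num) (h x' hs hz)
  obtain ⟨I, hI⟩ := (PrimeSpectrum.isClosed_iff_zeroLocus_ideal _).1 (T.1.isClosed.preimage hV.fromSpec.continuous)
  have hmemT : ∀ z (hz : z ∈ V), z ∈ (T.1 : Set X) ↔ I ≤ (hV.primeIdealOf ⟨z, hz⟩).asIdeal := fun z hz => by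
    have h2 : hV.fromSpec (hV.primeIdealOf ⟨z, hz⟩) ∈ (T.1 : Set X) ↔
        hV.primeIdealOf ⟨z, hz⟩ ∈ PrimeSpectrum.zeroLocus (I : Set Γ(X, V)) :=
      Set.ext_iff.1 hI (hV.primeIdealOf ⟨z, hz⟩)
    rw [hV.fromSpec_primeIdealOf] at h2
    exact h2.trans Iff.rfl
  obtain ⟨a, haI, ha⟩ := exists_avoid (M := Γ(F, V)) I (hV.primeIdealOf ⟨x, hxV⟩).asIdeal fun r hr hrp hle => by
    obtain ⟨z, hz, rfl⟩ := exists_point hV r hr.isPrime
    exact (one_le_depth_iff_ass hV hz).1 (h1 z ((specializes_iff hV hz hxV).2 hrp) (T.2 ((hmemT z hz).2 hle))) hr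
  obtain ⟨b, hbI, hb⟩ := exists_avoid (M := QuotSMulTop a Γ(F, V)) I (hV.primeIdealOf ⟨x, hxV⟩).asIdeal fun q hq hqp hle => by
    obtain ⟨z, hz, rfl⟩ := exists_point hV q hq.isPrime
    haveI := finite_stalk (F := F) z
    obtain ⟨-, w', hw'⟩ := isAssociatedPrime_iff.1 hq
    obtain ⟨w, rfl⟩ := Submodule.Quotient.mk_surjective _ w'
    refine not_two_le ((mem_maximalIdeal_iff hV hz).2 (hle haI)) (regular_gM hV hz fun r hr hrq => ha r hr (hrq.trans hqp))
      (u := gM F hz w) (fun e he => ?_) (fun r hr => ?_) (h z ((specializes_iff hV hz hxV).2 hqp) (T.2 ((hmemT z hz).2 hle)))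
    · obtain ⟨u, s, hu, hus⟩ := exists_eq_smul hV hz e
      have h0 : gM F hz (a • s - u • w) = 0 := by rw [map_sub, gM_smul, gM_smul, ← hus, ← he, smul_comm, sub_self]
      obtain ⟨v, hv, hv0⟩ := (gM_eq_zero_iff hV hz _).1 h0
      refine (hV.primeIdealOf ⟨z, hz⟩).isPrime.mul_notMem hv (fun h' => (mem_primeIdeal_iff hV hz).1 h' hu) ?_
      rw [hw']
      refine Submodule.mem_colon_singleton.2 ?_
      rw [Submodule.mem_bot, ← Submodule.Quotient.mk_smul, H2Depth.mk_eq_zero_iff_exists]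
      refine ⟨v • s, ?_⟩
      rw [smul_sub, sub_eq_zero] at hv0
      rw [smul_comm, hv0, smul_smul]
    · obtain ⟨u, c, hu, huc⟩ := exists_eq_smul_O hV hz r
      have hc : c ∈ (hV.primeIdealOf ⟨z, hz⟩).asIdeal := by
        rw [← mem_maximalIdeal_iff hV hz, ← huc]
        exact Ideal.mul_mem_left _ _ hr
      rw [hw'] at hc
      have hc0 := Submodule.mem_colon_singleton.1 hc
      rw [Submodule.mem_bot, ← Submodule.Quotient.mk_smul, H2Depth.mk_eq_zero_iff_exists] at hc0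
      obtain ⟨w1, hw1⟩ := hc0
      refine ⟨(↑(isUnit_gO hz hu).unit⁻¹ : X.presheaf.stalk z) • gM F hz w1, ?_⟩
      rw [smul_comm, ← gM_smul, hw1, gM_smul, ← huc, smul_smul, ← mul_assoc, IsUnit.val_inv_mul, one_mul]
  have hDP : ∀ c ∈ I, X.basicOpen c ≤ P Z T V := fun c hc z hz => mem_P.2
    ⟨fun hzT => (mem_primeIdeal_iff hV (X.basicOpen_le c hz)).1 ((hmemT z (X.basicOpen_le c hz)).1 hzT hc) hz, X.basicOpen_le c hz⟩
  let s : Γ(F, P Z T V) := res F (P_mono le_rfl hVW') s0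
  obtain ⟨Na, ma, hma⟩ := (LQcoh.locAt_of_qcoh F hV a).1 (res F (hDP a haI) s)
  obtain ⟨Nb, mb, hmb⟩ := (LQcoh.locAt_of_qcoh F hV b).1 (res F (hDP b hbI) s)
  let N := Na + Nb
  have hlift : ∀ (c : Γ(X, V)) (hc : c ∈ I) (Nc : ℕ) (mc : Γ(F, V)),
      (res F (X.basicOpen_le c) mc : Γ(F, X.basicOpen c)) = (X.presheaf.map (homOfLE (X.basicOpen_le c)).op).hom (c ^ Nc) • (res F (hDP c hc) s : Γ(F, X.basicOpen c)) →
      ∀ j : ℕ, (res F (X.basicOpen_le c) (c ^ j • mc) : Γ(F, X.basicOpen c)) =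
        (X.presheaf.map (homOfLE (X.basicOpen_le c)).op).hom (c ^ (j + Nc)) • (res F (hDP c hc) s : Γ(F, X.basicOpen c)) :=
    fun c hc Nc mc e j => by rw [ZStalk.res_smul, e, pow_add, map_mul, mul_smul]
  obtain ⟨ma1, hma1d⟩ : ∃ m : Γ(F, V), m = a ^ Nb • ma := ⟨_, rfl⟩
  obtain ⟨mb1, hmb1d⟩ : ∃ m : Γ(F, V), m = b ^ Na • mb := ⟨_, rfl⟩
  have hma1 : (res F (X.basicOpen_le a) ma1 : Γ(F, X.basicOpen a)) =
      (X.presheaf.map (homOfLE (X.basicOpen_le a)).op).hom (a ^ N) • (res F (hDP a haI) s : Γ(F, X.basicOpen a)) := by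
    rw [hma1d, hlift a haI Na ma hma Nb, Nat.add_comm]
  have hmb1 : (res F (X.basicOpen_le b) mb1 : Γ(F, X.basicOpen b)) =
      (X.presheaf.map (homOfLE (X.basicOpen_le b)).op).hom (b ^ N) • (res F (hDP b hbI) s : Γ(F, X.basicOpen b)) := by
    rw [hmb1d]; exact hlift b hbI Nb mb hmb Na
  have hab : X.basicOpen (a * b) = X.basicOpen a ⊓ X.basicOpen b := X.basicOpen_mul a b
  obtain ⟨K, hK⟩ := (LQcoh.locAt_of_qcoh F hV (a * b)).2 (b ^ N • ma1 - a ^ N • mb1) (by
    show res F (X.basicOpen_le (a * b)) _ = 0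
    have e1 : ∀ (c : Γ(X, V)) (hc : c ∈ I) (hle : X.basicOpen (a * b) ≤ X.basicOpen c) (mc : Γ(F, V)),
        (res F (X.basicOpen_le c) mc : Γ(F, X.basicOpen c)) = (X.presheaf.map (homOfLE (X.basicOpen_le c)).op).hom (c ^ N) • (res F (hDP c hc) s : Γ(F, X.basicOpen c)) →
        (res F (X.basicOpen_le (a * b)) mc : Γ(F, X.basicOpen (a * b))) =
          (X.presheaf.map (homOfLE (X.basicOpen_le (a * b))).op).hom (c ^ N) • (res F (hle.trans (hDP c hc)) s : Γ(F, X.basicOpen (a * b))) := by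
      intro c hc hle mc e
      have h2 := congrArg (res F hle) e
      rw [res_res, ZStalk.res_smul, res_res] at h2
      refine h2.trans ?_
      congr 1
      rw [← CommRingCat.comp_apply, ← Functor.map_comp]
      rfl
    rw [map_sub, ZStalk.res_smul, ZStalk.res_smul, e1 a haI (hab.le.trans inf_le_left) ma1 hma1,
      e1 b hbI (hab.le.trans inf_le_right) mb1 hmb1, smul_smul, smul_smul, sub_eq_zero]
    congr 1
    exact mul_comm _ _)
  let N' := K + N
  have hmab : b ^ N' • (a ^ K • ma1) = a ^ N' • (b ^ K • mb1) := by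
    rw [smul_sub, sub_eq_zero, mul_pow, smul_smul, smul_smul] at hK
    simp only [N', pow_add, smul_smul]
    rw [show b ^ K * b ^ N * a ^ K = a ^ K * b ^ K * b ^ N by ring,
      show a ^ K * a ^ N * b ^ K = a ^ K * b ^ K * a ^ N by ring]
    exact hK
  have hma' := hlift a haI N ma1 hma1 K
  haveI := finite_stalk (F := F) x
  obtain ⟨t, ht⟩ := regular_mod_pow (fun u w e => regular_mod hV hxV hb u w e) (regular_gM hV hxV (F := F) ha) N' N'
    (gM F hxV (a ^ K • ma1)) (gM F hxV (b ^ K • mb1)) (by rw [← map_pow, ← map_pow, ← gM_smul, ← gM_smul, hmab])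
  obtain ⟨W1, hxW1, t1, rfl⟩ := F.presheaf.exists_germ_eq (x := x) t
  obtain ⟨W2a, hxW2a, i1, iV, e2⟩ := F.presheaf.germ_eq x (U := W1 ⊓ V) (V := V) (show x ∈ W1 ⊓ V from ⟨hxW1, hxV⟩) hxV
    ((X.presheaf.map (homOfLE inf_le_right).op).hom (a ^ N') • (res F inf_le_left t1 : Γ(F, W1 ⊓ V)))
    (a ^ K • ma1) (by
      show gM F (show x ∈ W1 ⊓ V from ⟨hxW1, hxV⟩) _ = gM F hxV _
      rw [gM_smul, gM_res, ← ht, ← map_pow]
      congr 1
      exact TopCat.Presheaf.germ_res_apply X.presheaf (homOfLE inf_le_right) x ⟨hxW1, hxV⟩ (a ^ N'))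
  obtain ⟨W2, hW2, hxW2, hW2a⟩ := exists_isAffineOpen_mem_and_subset (X := X) (x := x) (U := W2a) hxW2a
  have hW2V : W2 ≤ V := fun z hz => iV.le (hW2a hz)
  have hW21 : W2 ≤ W1 := fun z hz => (i1.le (hW2a hz)).1
  let O := P Z T W2
  have hOV : O ≤ V := (P_le T W2).trans hW2V
  let d : Γ(F, O) := res F (P_mono le_rfl hW2V) s - res F ((P_le T W2).trans hW21) t1
  have e2' : res F i1.le ((X.presheaf.map (homOfLE (inf_le_right : W1 ⊓ V ≤ V)).op).hom (a ^ N') • (res F inf_le_left t1 : Γ(F, W1 ⊓ V))) =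
      res F iV.le (a ^ K • ma1) := e2
  let Da : X.Opens := O ⊓ X.basicOpen a
  have hDa : Da ≤ X.basicOpen a := inf_le_right
  have hDaV : Da ≤ V := hDa.trans (X.basicOpen_le a)
  have hDa2 : Da ≤ W2a := fun z hz => hW2a ((mem_P.1 hz.1).2)
  have hunit : IsUnit ((X.presheaf.map (homOfLE hDaV).op).hom a) := isUnit_res_of_le a hDa
  have hdDa : res F (inf_le_left : Da ≤ O) d = 0 := by
    have h3 := congrArg (res F hDa) hma'
    have h4 := congrArg (res F hDa2) e2'
    rw [res_res, ZStalk.res_smul, res_res] at h3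
    rw [res_res, res_res, ZStalk.res_smul, res_res] at h4
    simp only [d, map_sub]
    rw [res_res, res_res, sub_eq_zero]
    refine (hunit.pow N').smul_left_cancel.1 ?_
    rw [← map_pow]
    have e3 : ∀ (U : X.Opens) (hU : Da ≤ U) (hUV : U ≤ V) (r : Γ(X, V)),
        (X.presheaf.map (homOfLE hU).op).hom ((X.presheaf.map (homOfLE hUV).op).hom r) = (X.presheaf.map (homOfLE hDaV).op).hom r :=
      fun U hU hUV r => by rw [← CommRingCat.comp_apply, ← Functor.map_comp]; rfl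
    simp only [ZStalk.res_smul, res_res, e3, map_pow] at h3 h4 ⊢
    rw [← h3, h4]
  obtain ⟨K2, hK2⟩ := LQcoh.exists_pow_kill F (compact_P T hW2.isCompact) ((X.presheaf.map (homOfLE hOV).op).hom a) d (by
    show res F _ d = 0
    have hle : X.basicOpen ((X.presheaf.map (homOfLE hOV).op).hom a) ≤ Da := by
      rw [Scheme.basicOpen_res]
    rw [← res_res F hle (inf_le_left : Da ≤ O) d, hdDa, map_zero])
  have hgerm : ∀ z (hz : z ∈ O), z ⤳ x → gM F hz d = 0 := by
    intro z hz hzx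
    have hzV : z ∈ V := hOV hz
    have hreg : IsSMulRegular (F.presheaf.stalk z) (gO hzV a ^ K2) :=
      (regular_gM hV hzV fun r hr hrz => ha r hr (hrz.trans ((specializes_iff hV hzV hxV).1 hzx))).pow _
    have h5 := congrArg (gM F hz) hK2
    rw [gM_smul, map_zero, map_pow,
      show gO hz ((X.presheaf.map (homOfLE hOV).op).hom a) = gO hzV a from TopCat.Presheaf.germ_res_apply X.presheaf (homOfLE hOV) z hz a] at h5
    exact hreg (h5.trans (smul_zero _).symm)
  let O0 : X.Opens := ⨆ (O' : X.Opens) (hO : O' ≤ O) (_ : res F hO d = 0), O'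
  have hS : x ∉ closure ((O : Set X) ∩ (O0 : Set X)ᶜ) := fun hx => by
    obtain ⟨z, ⟨hzO, hz0⟩, hzx⟩ := exists_specializes_of_mem_closure
      (O.isOpen.isLocallyClosed.inter O0.isOpen.isClosed_compl.isLocallyClosed) hx
    obtain ⟨W', hW', hzW', h0⟩ := exists_res_eq_zero_of_germ F hzO (hgerm z hzO hzx)
    exact hz0 (by simp only [O0, Opens.coe_iSup, Set.mem_iUnion]; exact ⟨W', hW', h0, hzW'⟩)
  let W3 : X.Opens := W2 ⊓ ⟨(closure ((O : Set X) ∩ (O0 : Set X)ᶜ))ᶜ, isClosed_closure.isOpen_compl⟩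
  have hW3 : W3 ≤ W2 := inf_le_left
  have hxW3 : x ∈ W3 := ⟨hxW2, hS⟩
  have hd3 : res F (P_mono le_rfl hW3 : P Z T W3 ≤ O) d = 0 := eq_zero_of_germs F _ fun z hz => by
    have hzO : z ∈ O := P_mono le_rfl hW3 hz
    show gM F hz (res F (P_mono le_rfl hW3 : P Z T W3 ≤ O) d) = 0
    rw [gM_res]
    have hz0 : z ∈ O0 := by_contra fun hz0 => (mem_P.1 hz).2.2 (subset_closure ⟨hzO, hz0⟩)
    simp only [O0, Opens.mem_iSup] at hz0
    obtain ⟨O', hO, h0, hzO'⟩ := hz0
    rw [← gM_res F hO hzO' d, h0, map_zero]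
  refine ⟨F.presheaf.germ W3 x hxW3 (res F (hW3.trans hW21) t1), ?_⟩
  rw [rho_germ, rho_eq F T]
  have h3W : W3 ≤ W := fun z hz => hVW (hW2V (hW3 hz))
  simp only [d, map_sub, s] at hd3
  rw [sub_eq_zero, res_res, res_res, res_res] at hd3
  rw [res_res, ← hd3]
  rw [show res F (((P_mono le_rfl hW3).trans (P_mono le_rfl hW2V)).trans (P_mono le_rfl hVW')) s0 = res F (P_mono le_rfl h3W) s0 from rfl, ← mk_res F h3W]
  exact TopCat.Presheaf.germ_res_apply ((ZClos.H0 Z).obj F).presheaf (homOfLE h3W) x hxW3 (mk F T W s0)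

end Groth.Agent.H6.ZPoint
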