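import Groth.Agent.Lib.H6.LTDvr

/-! Translations between the Lubin–Tate lemma and power series notation. -/

namespace Groth.Agent.H6.LT

open MvPowerSeries

universe u v w

variable {R : Type u} [CommRing R] {σ : Type v} {τ : Type w}

theorem fX_unit {π : R} {q : ℕ} {f : PowerSeries R} (hf : f = π • PowerSeries.X + PowerSeries.X ^ q) :
    (fun _ : Unit => (f : MvPowerSeries Unit R)) = fX π q := by
  funext i
  rw [hf, MvPowerSeries.smul_eq_C_mul]
  rfl

theorem cm_unit_iff {π : R} {q : ℕ} {f : PowerSeries R} (hf : f = π • PowerSeries.X + PowerSeries.X ^ q)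
    {g : PowerSeries R} (hg : Low 1 (g : MvPowerSeries Unit R)) :
    PowerSeries.subst g f = PowerSeries.subst f g ↔ Cm π q (g : MvPowerSeries Unit R) := by
  rw [cm_iff, ← fX_unit hf, subst_eq_poly hg π q f hf]
  rfl

theorem cm_two_iff [Finite σ] {π : R} {q : ℕ} {f : PowerSeries R} (hf : f = π • PowerSeries.X + PowerSeries.X ^ q)
    {G : MvPowerSeries σ R} (hG : Low 1 G) :
    PowerSeries.subst G f = MvPowerSeries.subst (fun i : σ => PowerSeries.subst (MvPowerSeries.X i : MvPowerSeries σ R) f) G ↔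
      Cm π q G := by
  rw [cm_iff, subst_eq_poly hG π q f hf, subst_X_eq_fX π q f hf]

theorem lin_unit_iff (g : PowerSeries R) (α : R) :
    Lin (g : MvPowerSeries Unit R) (fun _ => α) ↔ g.constantCoeff = 0 ∧ g.coeff 1 = α := by
  rw [lin_iff]
  exact and_congr Iff.rfl ⟨fun h => h (), fun h _ => h⟩

theorem lin_two_iff (G : MvPowerSeries (Fin 2) R) :
    Lin G ![1, 1] ↔ G.constantCoeff = 0 ∧ G.coeff (Finsupp.single 0 1) = 1 ∧ G.coeff (Finsupp.single 1 1) = 1 := by
  rw [lin_iff, Fin.forall_fin_two]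
  rfl

/-- solutions of the linear equation `p(f(X)) = π p` -/
def LinEq [Finite σ] (π : R) (q : ℕ) (p : MvPowerSeries σ R) : Prop := C π * p = p.subst (fX π q)

theorem LinEq.comp [Finite σ] [Finite τ] {π : R} {q : ℕ} (hq : 1 ≤ q) {p : MvPowerSeries σ R} (hp : LinEq π q p)
    {a : σ → MvPowerSeries τ R} (ha : ∀ i, Low 1 (a i)) (hac : ∀ i, Cm π q (a i)) : LinEq π q (p.subst a) := by
  have hA := hasSubst_of_low ha
  have hF : HasSubst (fX π q : σ → MvPowerSeries σ R) := hasSubst_of_low (low_fX π hq)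
  have hG : HasSubst (fX π q : τ → MvPowerSeries τ R) := hasSubst_of_low (low_fX π hq)
  have h := congrArg (MvPowerSeries.subst a) hp
  rw [subst_mul hA, subst_C, subst_comp_subst_apply hF hA] at h
  unfold LinEq
  rw [h, subst_comp_subst_apply hA hG]
  congr 1
  funext i
  have := hac i
  rw [cm_iff] at this
  rw [← this, fX, subst_add hA, subst_mul hA, subst_C, subst_pow hA, subst_X hA]

theorem LinEq.sub [Finite σ] {π : R} {q : ℕ} (hq : 1 ≤ q) {p r : MvPowerSeries σ R} (hp : LinEq π q p)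
    (hr : LinEq π q r) : LinEq π q (p - r) := by
  unfold LinEq at *
  rw [mul_sub, hp, hr, subst_sub (hasSubst_of_low (low_fX π hq))]

theorem LinEq.smul [Finite σ] {π : R} {q : ℕ} (hq : 1 ≤ q) {p : MvPowerSeries σ R} (hp : LinEq π q p) (c : R) :
    LinEq π q (C c * p) := by
  unfold LinEq at *
  rw [mul_left_comm, hp, subst_mul (hasSubst_of_low (low_fX π hq)), subst_C]

theorem LinEq.eq_zero [Finite σ] {π : R} {q : ℕ} (hq : 2 ≤ q)
    (hreg : ∀ d, 2 ≤ d → ∀ x : R, (π - π ^ d) * x = 0 → x = 0) {p : MvPowerSeries σ R} (hp : LinEq π q p)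
    (h2 : Low 2 p) : p = 0 := by
  refine uniq (p := (0 : MvPowerSeries σ R)) hq nl_zero hreg (fun e _ => map_zero _) (by rwa [sub_zero]) ?_ ?_
  · have : (0 : MvPowerSeries σ R).subst (fX π q) = 0 := by
      rw [← coe_substAlgHom (hasSubst_of_low (low_fX π (q := q) (by omega))), map_zero]
    simp [E, this]
  · unfold LinEq at hp
    simp [E, hp]

theorem cm_map [Finite σ] {S : Type*} [CommRing S] (φ : R →+* S) {π : R} {q : ℕ} (hq : 1 ≤ q) {p : MvPowerSeries σ R}
    (hp : Cm π q p) : Cm (φ π) q (map φ p) := by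
  rw [cm_iff] at hp ⊢
  have h := congrArg (map φ) hp
  rw [map_add, map_mul, map_pow, map_C, map_subst (hasSubst_of_low (low_fX π hq))] at h
  rw [h]
  congr 1
  funext i
  simp [fX]

theorem lin_map [Fintype σ] {S : Type*} [CommRing S] (φ : R →+* S) {p : MvPowerSeries σ R} {c : σ → R}
    (hp : Lin p c) : Lin (map φ p) (fun i => φ (c i)) := by
  rw [lin_iff] at hp ⊢
  refine ⟨by rw [constantCoeff_map, hp.1, map_zero], fun i => by rw [coeff_map, hp.2]⟩

end Groth.Agent.H6.LT
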