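import Mathlib

/-! The degree-by-degree Lubin–Tate lemma. -/

namespace Groth.Agent.H6.LT

open MvPowerSeries

universe u v w

variable {R : Type u} [CommRing R] {σ : Type v} {τ : Type w}

/-- all coefficients of degree `< d` vanish -/
def Low (d : ℕ) (h : MvPowerSeries σ R) : Prop := ∀ e, Finsupp.degree e < d → coeff e h = 0

theorem low_zero (h : MvPowerSeries σ R) : Low 0 h := fun e he => absurd he (Nat.not_lt_zero _)

theorem low_one_iff (h : MvPowerSeries σ R) : Low 1 h ↔ constantCoeff h = 0 := by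
  constructor
  · intro hl
    rw [← coeff_zero_eq_constantCoeff_apply]
    exact hl 0 (by simp)
  · intro hc e he
    rw [Nat.lt_one_iff, Finsupp.degree_eq_zero_iff] at he
    subst he
    rw [coeff_zero_eq_constantCoeff_apply, hc]

theorem Low.mono {d d' : ℕ} {h : MvPowerSeries σ R} (hl : Low d h) (hd : d' ≤ d) : Low d' h :=
  fun e he => hl e (lt_of_lt_of_le he hd)

theorem Low.add {d : ℕ} {g h : MvPowerSeries σ R} (hg : Low d g) (hh : Low d h) : Low d (g + h) :=
  fun e he => by rw [map_add, hg e he, hh e he, add_zero]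

theorem Low.sub {d : ℕ} {g h : MvPowerSeries σ R} (hg : Low d g) (hh : Low d h) : Low d (g - h) :=
  fun e he => by rw [map_sub, hg e he, hh e he, sub_zero]

theorem Low.sum {ι : Type*} (s : Finset ι) {d : ℕ} (g : ι → MvPowerSeries σ R) (hg : ∀ i ∈ s, Low d (g i)) :
    Low d (∑ i ∈ s, g i) :=
  fun e he => by rw [map_sum]; exact Finset.sum_eq_zero fun i hi => hg i hi e he

theorem Low.mul {a b : ℕ} {g h : MvPowerSeries σ R} (hg : Low a g) (hh : Low b h) : Low (a + b) (g * h) := by
  classical
  intro e he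
  rw [coeff_mul]
  refine Finset.sum_eq_zero fun p hp => ?_
  rw [Finset.HasAntidiagonal.mem_antidiagonal] at hp
  have hdeg : Finsupp.degree p.1 + Finsupp.degree p.2 = Finsupp.degree e := by rw [← map_add, hp]
  by_cases h1 : Finsupp.degree p.1 < a
  · rw [hg _ h1, zero_mul]
  · rw [hh _ (by omega), mul_zero]

theorem Low.pow {h : MvPowerSeries σ R} (hh : Low 1 h) : ∀ n, Low n (h ^ n) := by
  intro n
  induction n with
  | zero => exact low_zero _
  | succ n ih => rw [pow_succ]; exact ih.mul hh

theorem low_prod_pow {ι : Type*} (a : ι → MvPowerSeries σ R) (ha : ∀ i, Low 1 (a i)) (d : ι →₀ ℕ) :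
    Low (Finsupp.degree d) (d.prod fun s n => a s ^ n) := by
  classical
  rw [Finsupp.degree_apply, Finsupp.prod]
  induction d.support using Finset.induction_on with
  | empty => exact low_zero _
  | @insert i s hi ih =>
    rw [Finset.sum_insert hi, Finset.prod_insert hi]
    exact ((ha i).pow (d i)).mul ih

theorem hasSubst_of_low [Finite σ] {a : σ → MvPowerSeries τ R} (ha : ∀ i, Low 1 (a i)) : HasSubst a :=
  hasSubst_of_constantCoeff_zero fun i => (low_one_iff _).1 (ha i)

theorem Low.subst [Finite σ] {d : ℕ} {h : MvPowerSeries σ R} (hl : Low d h) {a : σ → MvPowerSeries τ R}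
    (ha : ∀ i, Low 1 (a i)) : Low d (h.subst a) := by
  intro e he
  rw [coeff_subst (hasSubst_of_low ha), finsum_eq_zero_of_forall_eq_zero]
  intro c
  by_cases hc : Finsupp.degree c < d
  · rw [hl c hc, zero_smul]
  · rw [low_prod_pow a ha c e (by omega), smul_zero]

theorem low_pow_add_sub {d : ℕ} {p h : MvPowerSeries σ R} (hd : 1 ≤ d) (hp : Low 1 p) (hh : Low d h) :
    ∀ m, 2 ≤ m → Low (d + 1) ((p + h) ^ m - p ^ m) := by
  have aux : ∀ m, 1 ≤ m → Low d ((p + h) ^ m - p ^ m) ∧ (2 ≤ m → Low (d + 1) ((p + h) ^ m - p ^ m)) := by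
    intro m hm
    induction m, hm using Nat.le_induction with
    | base => exact ⟨by simpa using hh, fun h2 => absurd h2 (by omega)⟩
    | succ m hm ih =>
      have e : (p + h) ^ (m + 1) - p ^ (m + 1) = (p + h) ^ m * h + ((p + h) ^ m - p ^ m) * p := by ring
      have h1 : Low (d + 1) ((p + h) ^ m * h) := by
        have := ((hp.add (hh.mono hd)).pow m).mono hm |>.mul hh
        exact this.mono (by omega)
      have h2 : Low (d + 1) (((p + h) ^ m - p ^ m) * p) := (ih.1.mul hp)
      rw [e]
      exact ⟨(h1.add h2).mono (Nat.le_succ d), fun _ => h1.add h2⟩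
  exact fun m hm => (aux m (by omega)).2 hm

/-- `f(X_i)` for `f = π T + T^q`. -/
noncomputable def fX (π : R) (q : ℕ) (i : σ) : MvPowerSeries σ R := C π * X i + X i ^ q

theorem low_fX (π : R) {q : ℕ} (hq : 1 ≤ q) (i : σ) : Low 1 (fX π q i) := by
  rw [low_one_iff, fX, map_add, map_mul, map_pow, constantCoeff_X, mul_zero, zero_pow (by omega), add_zero]

theorem coeff_subst_fX [Finite σ] (π : R) {q : ℕ} (hq : 2 ≤ q) {d : ℕ} {h : MvPowerSeries σ R} (hl : Low d h)
    (e : σ →₀ ℕ) (he : Finsupp.degree e ≤ d) :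
    coeff e (h.subst (fX π q)) = π ^ Finsupp.degree e * coeff e h := by
  classical
  have hprod : ∀ c : σ →₀ ℕ, (c.prod fun s n => fX π q s ^ n) =
      monomial c 1 * (c.prod fun s n => (C π + X s ^ (q - 1) : MvPowerSeries σ R) ^ n) := by
    intro c
    rw [monomial_one_eq, ← Finsupp.prod_mul]
    refine Finsupp.prod_congr fun s _ => ?_
    rw [← mul_pow, fX, mul_add, mul_comm (X s) (C π), ← pow_succ', Nat.sub_add_cancel (by omega)]
  have hconst : ∀ c : σ →₀ ℕ, constantCoeff (c.prod fun s n => (C π + X s ^ (q - 1) : MvPowerSeries σ R) ^ n) =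
      π ^ Finsupp.degree c := by
    intro c
    rw [map_finsuppProd, Finsupp.degree_apply, ← Finset.prod_pow_eq_pow_sum, Finsupp.prod]
    refine Finset.prod_congr rfl fun s _ => ?_
    rw [map_pow, map_add, map_pow, constantCoeff_C, constantCoeff_X, zero_pow (by omega), add_zero]
  rw [coeff_subst (hasSubst_of_low (low_fX π (by omega))), finsum_eq_single _ e]
  · rw [hprod, coeff_monomial_mul, if_pos le_rfl, tsub_self, coeff_zero_eq_constantCoeff_apply, hconst, one_mul,
      smul_eq_mul, mul_comm]
  · intro c hc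
    rw [hprod, coeff_monomial_mul]
    split_ifs with hle
    · have hlt : Finsupp.degree c < Finsupp.degree e := by
        obtain ⟨x, rfl⟩ := exists_add_of_le hle
        rw [map_add]
        have : Finsupp.degree x ≠ 0 := fun h0 => hc (by rw [(Finsupp.degree_eq_zero_iff x).1 h0, add_zero])
        omega
      rw [hl c (by omega), zero_smul]
    · rw [smul_zero]

/-- An admissible non-linear term. -/
structure NL (N : MvPowerSeries σ R → MvPowerSeries σ R) : Prop where
  base : ∀ p, Low 1 p → Low 2 (N p)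
  step : ∀ p h d, 1 ≤ d → Low 1 p → Low d h → Low (d + 1) (N (p + h) - N p)

theorem nl_zero : NL (fun _ : MvPowerSeries σ R => 0) :=
  ⟨fun _ _ e _ => map_zero (coeff e), fun _ _ _ _ _ _ e _ => by simp⟩

theorem nl_pow {q : ℕ} (hq : 2 ≤ q) : NL (fun p : MvPowerSeries σ R => p ^ q) :=
  ⟨fun _ hp => (hp.pow q).mono hq, fun _ _ _ hd hp hh => low_pow_add_sub hd hp hh q hq⟩

/-- The defect `π p + N p - p(f(X))`. -/
noncomputable def E (π : R) (q : ℕ) (N : MvPowerSeries σ R → MvPowerSeries σ R) (p : MvPowerSeries σ R) :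
    MvPowerSeries σ R := C π * p + N p - p.subst (fX π q)

variable [Finite σ] {π : R} {q : ℕ} {N : MvPowerSeries σ R → MvPowerSeries σ R}

theorem coeff_E_add (hq : 2 ≤ q) (hN : NL N) {d : ℕ} (hd : 1 ≤ d) {p h : MvPowerSeries σ R} (hp : Low 1 p)
    (hh : Low d h) (e : σ →₀ ℕ) (he : Finsupp.degree e ≤ d) :
    coeff e (E π q N (p + h)) = coeff e (E π q N p) + (π - π ^ Finsupp.degree e) * coeff e h := by
  have e1 := hN.step p h d hd hp hh e (by omega)
  rw [map_sub, sub_eq_zero] at e1
  simp only [E, map_sub, map_add, subst_add (hasSubst_of_low (low_fX π (q := q) (by omega))), coeff_C_mul,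
    coeff_subst_fX π hq hh e he, e1]
  ring

theorem low_E (hq : 2 ≤ q) (hN : NL N) {p : MvPowerSeries σ R} (hp : Low 1 p) : Low 2 (E π q N p) := by
  intro e he
  simp only [E, map_sub, map_add, coeff_C_mul, hN.base p hp e he]
  rw [coeff_subst_fX π hq hp e (by omega)]
  rcases Nat.eq_zero_or_pos (Finsupp.degree e) with h0 | h0
  · rw [hp e (by omega)]; ring
  · rw [show Finsupp.degree e = 1 by omega]; ring

theorem uniq (hq : 2 ≤ q) (hN : NL N) (hreg : ∀ d, 2 ≤ d → ∀ x : R, (π - π ^ d) * x = 0 → x = 0)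
    {p p' : MvPowerSeries σ R} (hp : Low 1 p) (hlin : Low 2 (p' - p)) (h : E π q N p = 0) (h' : E π q N p' = 0) :
    p' = p := by
  have key : ∀ d, 2 ≤ d → Low d (p' - p) := by
    intro d hd
    induction d, hd using Nat.le_induction with
    | base => exact hlin
    | succ d hd ih =>
      intro e he
      rcases Nat.lt_or_ge (Finsupp.degree e) d with hlt | hge
      · exact ih e hlt
      · have hed : Finsupp.degree e = d := by omega
        have := coeff_E_add (π := π) hq hN (by omega) hp ih e hed.le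
        rw [add_sub_cancel, h, h', map_zero, zero_add, hed, eq_comm] at this
        exact hreg d hd _ this
  ext e
  have := key (Finsupp.degree e + 2) (by omega) e (by omega)
  rwa [map_sub, sub_eq_zero] at this

theorem exists_sol (hq : 2 ≤ q) (hN : NL N) (L : MvPowerSeries σ R) (hL : Low 1 L)
    (hsol : ∀ p, Low 1 p → ∀ e : σ →₀ ℕ, 2 ≤ Finsupp.degree e →
      ∃ r, coeff e (E π q N p) + (π - π ^ Finsupp.degree e) * r = 0) :
    ∃ p, Low 1 p ∧ Low 2 (p - L) ∧ E π q N p = 0 := by
  classical
  have step : ∀ (d : ℕ) (p : MvPowerSeries σ R), ∃ h, (Low 1 p → 2 ≤ d → Low d h ∧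
      ∀ e, Finsupp.degree e = d → coeff e (E π q N (p + h)) = 0) := by
    intro d p
    by_cases hc : Low 1 p ∧ 2 ≤ d
    · have hr : ∀ e : σ →₀ ℕ, ∃ r, Finsupp.degree e = d → coeff e (E π q N p) + (π - π ^ d) * r = 0 := by
        intro e
        by_cases he : Finsupp.degree e = d
        · obtain ⟨r, hr⟩ := hsol p hc.1 e (he ▸ hc.2)
          exact ⟨r, fun _ => he ▸ hr⟩
        · exact ⟨0, fun h => absurd h he⟩
      choose r hr using hr
      let h : MvPowerSeries σ R := fun e => if Finsupp.degree e = d then r e else 0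
      have hce : ∀ e, coeff e h = if Finsupp.degree e = d then r e else 0 := fun e => rfl
      refine ⟨h, fun _ _ => ⟨fun e he => ?_, fun e he => ?_⟩⟩
      · rw [hce, if_neg (by omega)]
      · rw [coeff_E_add hq hN (by omega) hc.1 (fun e' he' => by rw [hce, if_neg (by omega)]) e he.le, hce, if_pos he, he]
        exact hr e he
    · exact ⟨0, fun a b => absurd ⟨a, b⟩ hc⟩
  choose h hh using step
  let s : ℕ → MvPowerSeries σ R := fun n => n.rec L (fun n p => p + h (n + 2) p)
  have hs0 : ∀ n, Low 1 (s n) := by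
    intro n
    induction n with
    | zero => exact hL
    | succ n ih => exact ih.add ((hh _ _ ih (by omega)).1.mono (by omega))
  have hsE : ∀ n, Low (n + 2) (E π q N (s n)) := by
    intro n
    induction n with
    | zero => exact low_E hq hN (hs0 0)
    | succ n ih =>
      intro e he
      obtain ⟨h1, h2⟩ := hh (n + 2) (s n) (hs0 n) (by omega)
      rcases Nat.lt_or_ge (Finsupp.degree e) (n + 2) with hlt | hge
      · show coeff e (E π q N (s n + h (n + 2) (s n))) = 0
        rw [coeff_E_add hq hN (by omega) (hs0 n) h1 e hlt.le, ih e hlt, h1 e hlt, mul_zero, add_zero]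
      · exact h2 e (by omega)
  have hstab : ∀ n k e, Finsupp.degree e < n + 2 → coeff e (s (n + k)) = coeff e (s n) := by
    intro n k e he
    induction k with
    | zero => rfl
    | succ k ih =>
      show coeff e (s (n + k) + h (n + k + 2) (s (n + k))) = _
      rw [map_add, (hh _ _ (hs0 _) (by omega)).1 e (by omega), add_zero, ih]
  let p : MvPowerSeries σ R := fun e => coeff e (s (Finsupp.degree e))
  have hp : ∀ n, Low (n + 2) (p - s n) := by
    intro n e he
    rw [map_sub, show coeff e p = coeff e (s (Finsupp.degree e)) from rfl]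
    rcases Nat.le_total n (Finsupp.degree e) with hle | hle
    · obtain ⟨k, hk⟩ := Nat.exists_eq_add_of_le hle
      rw [hk, hstab n k e he, sub_self]
    · obtain ⟨k, hk⟩ := Nat.exists_eq_add_of_le hle
      rw [hk, hstab _ k e (by omega), sub_self]
  have hpL : Low 2 (p - L) := hp 0
  have hp1 : Low 1 p := by
    have := (hpL.mono (by omega : 1 ≤ 2)).add hL
    rwa [sub_add_cancel] at this
  refine ⟨p, hp1, hpL, ?_⟩
  ext e
  have h1 := coeff_E_add (π := π) hq hN (by omega : 1 ≤ Finsupp.degree e + 2) (hs0 (Finsupp.degree e))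
    (hp (Finsupp.degree e)) e (by omega)
  rw [add_sub_cancel, hp (Finsupp.degree e) e (by omega), mul_zero, add_zero, hsE (Finsupp.degree e) e (by omega)] at h1
  rw [h1, map_zero]

end Groth.Agent.H6.LT
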