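import Groth.Agent.Lib.H6.LTCore

/-! Lubin–Tate series over a discrete valuation ring. -/

namespace Groth.Agent.H6.LT

open MvPowerSeries

universe u v w

variable {R : Type u} [CommRing R] {σ : Type v} {τ : Type w}

theorem subst_eq_poly {a : MvPowerSeries τ R} (ha : Low 1 a) (π : R) (q : ℕ) (f : PowerSeries R)
    (hf : f = π • PowerSeries.X + PowerSeries.X ^ q) : PowerSeries.subst a f = C π * a + a ^ q := by
  have hs : PowerSeries.HasSubst a := PowerSeries.HasSubst.of_constantCoeff_zero ((low_one_iff a).1 ha)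
  rw [hf, PowerSeries.subst_add hs, PowerSeries.subst_smul hs, PowerSeries.subst_pow hs, PowerSeries.subst_X hs,
    MvPowerSeries.smul_eq_C_mul]

theorem low_X (i : σ) : Low 1 (X i : MvPowerSeries σ R) := (low_one_iff _).2 (constantCoeff_X i)

theorem subst_X_eq_fX (π : R) (q : ℕ) (f : PowerSeries R) (hf : f = π • PowerSeries.X + PowerSeries.X ^ q) :
    (fun i : σ => PowerSeries.subst (X i : MvPowerSeries σ R) f) = fX π q := by
  funext i; rw [subst_eq_poly (low_X i) π q f hf]; rfl

/-- `p` commutes with `π T + T^q`. -/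
def Cm [Finite σ] (π : R) (q : ℕ) (p : MvPowerSeries σ R) : Prop := E π q (fun p => p ^ q) p = 0

theorem cm_iff [Finite σ] (π : R) (q : ℕ) (p : MvPowerSeries σ R) :
    Cm π q p ↔ C π * p + p ^ q = p.subst (fX π q) := sub_eq_zero

theorem cm_X [Finite σ] (π : R) {q : ℕ} (hq : 1 ≤ q) (i : σ) : Cm π q (X i : MvPowerSeries σ R) := by
  rw [cm_iff, subst_X (hasSubst_of_low (low_fX π hq))]; rfl

theorem cm_comp [Finite σ] [Finite τ] {π : R} {q : ℕ} (hq : 1 ≤ q) {p : MvPowerSeries σ R} (hp : Cm π q p)
    {a : σ → MvPowerSeries τ R} (ha : ∀ i, Low 1 (a i)) (hac : ∀ i, Cm π q (a i)) : Cm π q (p.subst a) := by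
  rw [cm_iff] at hp ⊢
  have hA := hasSubst_of_low ha
  have hF : HasSubst (fX π q : σ → MvPowerSeries σ R) := hasSubst_of_low (low_fX π hq)
  have hG : HasSubst (fX π q : τ → MvPowerSeries τ R) := hasSubst_of_low (low_fX π hq)
  have h := congrArg (MvPowerSeries.subst a) hp
  rw [subst_add hA, subst_mul hA, subst_C, subst_pow hA, subst_comp_subst_apply hF hA] at h
  rw [h, subst_comp_subst_apply hA hG]
  congr 1
  funext i
  have := hac i
  rw [cm_iff] at this
  rw [← this, fX, subst_add hA, subst_mul hA, subst_C, subst_pow hA, subst_X hA]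

/-- linear part `∑ cᵢ Xᵢ` and no constant term -/
def Lin [Fintype σ] (p : MvPowerSeries σ R) (c : σ → R) : Prop := Low 2 (p - ∑ i, C (c i) * X i)

theorem low_linForm [Fintype σ] (c : σ → R) : Low 1 (∑ i, C (c i) * X i : MvPowerSeries σ R) :=
  Low.sum _ _ fun i _ => by rw [low_one_iff, map_mul, constantCoeff_X, mul_zero]

theorem Lin.low [Fintype σ] {p : MvPowerSeries σ R} {c : σ → R} (h : Lin p c) : Low 1 p := by
  have := (h.mono (by omega : 1 ≤ 2)).add (low_linForm c)
  rwa [sub_add_cancel] at this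

theorem exists_single_of_degree_one {e : σ →₀ ℕ} (he : Finsupp.degree e = 1) : ∃ i, e = Finsupp.single i 1 := by
  classical
  obtain ⟨i, hi⟩ : e.support.Nonempty := by
    rw [Finsupp.support_nonempty_iff]; intro h; simp [h] at he
  refine ⟨i, ?_⟩
  have hle : Finsupp.single i 1 ≤ e := Finsupp.single_le_iff.2 (Nat.one_le_iff_ne_zero.2 (Finsupp.mem_support_iff.1 hi))
  obtain ⟨c, hc⟩ := exists_add_of_le hle
  have : Finsupp.degree c = 0 := by
    have h2 := congrArg Finsupp.degree hc
    rw [map_add, Finsupp.degree_single, he] at h2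
    omega
  rw [hc, (Finsupp.degree_eq_zero_iff c).1 this, add_zero]

theorem coeff_linForm [Fintype σ] (c : σ → R) (i : σ) :
    coeff (Finsupp.single i 1) (∑ j, C (c j) * X j : MvPowerSeries σ R) = c i := by
  classical
  rw [map_sum, Finset.sum_eq_single i]
  · rw [coeff_C_mul, coeff_X, if_pos rfl, mul_one]
  · intro j _ hj
    rw [coeff_C_mul, coeff_X, if_neg, mul_zero]
    intro h; exact hj (Finsupp.single_left_injective one_ne_zero h).symm
  · intro h; exact absurd (Finset.mem_univ i) h

theorem lin_iff [Fintype σ] (p : MvPowerSeries σ R) (c : σ → R) :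
    Lin p c ↔ constantCoeff p = 0 ∧ ∀ i, coeff (Finsupp.single i 1) p = c i := by
  constructor
  · intro h
    refine ⟨(low_one_iff p).1 h.low, fun i => ?_⟩
    have := h (Finsupp.single i 1) (by rw [Finsupp.degree_single]; omega)
    rwa [map_sub, coeff_linForm, sub_eq_zero] at this
  · rintro ⟨h0, h1⟩ e he
    rcases Nat.eq_zero_or_pos (Finsupp.degree e) with hd | hd
    · rw [map_sub, (low_linForm c) e (by omega), (low_one_iff p).2 h0 e (by omega), sub_zero]
    · obtain ⟨i, rfl⟩ := exists_single_of_degree_one (e := e) (by omega)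
      rw [map_sub, coeff_linForm, h1, sub_self]

theorem lin_X [Fintype σ] [DecidableEq σ] (i : σ) : Lin (X i : MvPowerSeries σ R) (Pi.single i 1) := by
  rw [lin_iff]
  refine ⟨constantCoeff_X i, fun j => ?_⟩
  rw [coeff_X, Pi.single_apply]
  by_cases h : j = i
  · subst h; simp
  · rw [if_neg (fun h' => h (Finsupp.single_left_injective one_ne_zero h')), if_neg h]

theorem lin_comp [Fintype σ] [Fintype τ] {p : MvPowerSeries σ R} {c : σ → R} (hp : Lin p c)
    {a : σ → MvPowerSeries τ R} {b : σ → τ → R} (ha : ∀ i, Lin (a i) (b i)) :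
    Lin (p.subst a) (fun j => ∑ i, c i * b i j) := by
  have hA := hasSubst_of_low fun i => (ha i).low
  have h := (Low.subst hp fun i => (ha i).low)
  rw [subst_sub hA] at h
  have hsum : (∑ i, C (c i) * X i : MvPowerSeries σ R).subst a = ∑ i, C (c i) * a i := by
    rw [← coe_substAlgHom hA, map_sum]
    refine Finset.sum_congr rfl fun i _ => ?_
    rw [coe_substAlgHom hA, subst_mul hA, subst_C, subst_X hA]
  rw [hsum] at h
  unfold Lin
  have e : (∑ j, C (∑ i, c i * b i j) * X j : MvPowerSeries τ R) = ∑ i, C (c i) * ∑ j, C (b i j) * X j := by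
    simp only [map_sum, Finset.sum_mul, Finset.mul_sum, map_mul, mul_assoc]
    exact Finset.sum_comm
  rw [e]
  have h2 : Low 2 (∑ i, C (c i) * (a i - ∑ j, C (b i j) * X j)) :=
    Low.sum _ _ fun i _ e he => by rw [coeff_C_mul, ha i e he, mul_zero]
  have h3 := h.add h2
  simp only [mul_sub, Finset.sum_sub_distrib, sub_add_sub_cancel] at h3
  exact h3

section dvr

variable {O : Type u} [CommRing O] [IsDomain O] [IsDiscreteValuationRing O]
  [Finite (IsLocalRing.ResidueField O)] {π : O} (hπ : Irreducible π)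

theorem two_le_card : 2 ≤ Nat.card (IsLocalRing.ResidueField O) := Finite.one_lt_card

include hπ in
theorem regular (d : ℕ) (hd : 2 ≤ d) (x : O) (h : (π - π ^ d) * x = 0) : x = 0 := by
  rcases mul_eq_zero.1 h with h' | h'
  · exfalso
    refine hπ.not_isUnit (IsUnit.of_mul_eq_one (π ^ (d - 2)) ?_)
    have : π * (1 - π * π ^ (d - 2)) = 0 := by
      rw [mul_sub, mul_one, ← pow_succ', ← pow_succ', show d - 2 + 1 + 1 = d by omega]; exact h'
    have := (mul_eq_zero.1 this).resolve_left hπ.ne_zero
    linear_combination -this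
  · exact h'

include hπ in
theorem exists_cm [Fintype σ] (c : σ → O) :
    ∃ p : MvPowerSeries σ O, Lin p c ∧ Cm π (Nat.card (IsLocalRing.ResidueField O)) p := by
  classical
  set q := Nat.card (IsLocalRing.ResidueField O) with hqdef
  have hq : 2 ≤ q := two_le_card
  obtain ⟨p, -, h2, h3⟩ := exists_sol (π := π) (q := q) hq (nl_pow hq) (∑ i, C (c i) * X i) (low_linForm c) (by
    intro p hp e he
    letI := Fintype.ofFinite (IsLocalRing.ResidueField O)
    haveI := CharP.exists (IsLocalRing.ResidueField O)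
    obtain ⟨ℓ, hℓ⟩ := CharP.exists (IsLocalRing.ResidueField O)
    obtain ⟨n, hp', hn⟩ := FiniteField.card (IsLocalRing.ResidueField O) ℓ
    haveI : Fact ℓ.Prime := ⟨hp'⟩
    haveI : ExpChar (IsLocalRing.ResidueField O) ℓ := ExpChar.prime hp'
    have hqn : q = ℓ ^ (n : ℕ) := by rw [hqdef, Nat.card_eq_fintype_card]; exact hn
    have hres : map (IsLocalRing.residue O) (E π q (fun p => p ^ q) p) = 0 := by
      have hπ0 : IsLocalRing.residue O π = 0 := by
        rw [IsLocalRing.residue_eq_zero_iff, IsLocalRing.mem_maximalIdeal]; exact hπ.not_isUnit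
      simp only [E, map_sub, map_add, map_mul, map_pow, map_C, hπ0, map_zero, zero_mul, zero_add,
        map_subst (hasSubst_of_low (low_fX π (q := q) (by omega)))]
      rw [sub_eq_zero]
      have hid : iterateFrobenius (IsLocalRing.ResidueField O) ℓ (n : ℕ) = RingHom.id _ := by
        ext x
        rw [iterateFrobenius_def, RingHom.id_apply, ← hn]
        exact FiniteField.pow_card x
      have h := map_iterateFrobenius_expand ℓ hp'.ne_zero (map (IsLocalRing.residue O) p) (n : ℕ)
      rw [hid, map_id, RingHom.id_apply] at h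
      conv_lhs => rw [hqn, ← h]
      have : (fun i : σ => map (IsLocalRing.residue O) (fX π q i)) = fun i => (X i : MvPowerSeries σ (IsLocalRing.ResidueField O)) ^ q := by
        funext i; simp [fX, hπ0]
      rw [this, expand, substAlgHom_apply]
      simp only [hqn]
    have hdvd : π ∣ coeff e (E π q (fun p => p ^ q) p) := by
      have h := congrArg (coeff e) hres
      rw [coeff_map, map_zero, IsLocalRing.residue_eq_zero_iff, hπ.maximalIdeal_eq] at h
      exact Ideal.mem_span_singleton.1 h
    obtain ⟨b, hb⟩ := hdvd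
    have hu : IsUnit (1 - π ^ (Finsupp.degree e - 1)) := by
      refine IsLocalRing.isUnit_one_sub_self_of_mem_nonunits _ ?_
      rw [mem_nonunits_iff, isUnit_pow_iff (by omega)]
      exact hπ.not_isUnit
    obtain ⟨u, hu'⟩ := hu
    refine ⟨-((u⁻¹ : Oˣ) : O) * b, ?_⟩
    rw [hb, show π - π ^ Finsupp.degree e = π * (u : O) by
      rw [hu', mul_sub, mul_one, ← pow_succ', Nat.sub_add_cancel (by omega : 1 ≤ Finsupp.degree e)]]
    calc π * b + π * (u : O) * (-((u⁻¹ : Oˣ) : O) * b) = π * b - π * ((u : O) * ((u⁻¹ : Oˣ) : O)) * b := by ring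
      _ = 0 := by rw [Units.mul_inv]; ring)
  exact ⟨p, h2, h3⟩

include hπ in
theorem cm_unique [Fintype σ] {p p' : MvPowerSeries σ O} {c : σ → O} (hp : Lin p c) (hp' : Lin p' c)
    (h : Cm π (Nat.card (IsLocalRing.ResidueField O)) p) (h' : Cm π (Nat.card (IsLocalRing.ResidueField O)) p') :
    p' = p := by
  refine uniq two_le_card (nl_pow two_le_card) (regular hπ) hp.low ?_ h h'
  have := Low.sub hp' hp
  rwa [sub_sub_sub_cancel_right] at this

end dvr

end Groth.Agent.H6.LT
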