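import Mathlib

/-! Invariant functions on the λ-line. -/

namespace Groth.Agent.H6.LambdaLine

open Polynomial

universe u

variable {k : Type u} [Field k] (σ τ : RatFunc k ≃ₐ[k] RatFunc k)

/-- `x` -/
noncomputable abbrev φ : Polynomial k →+* RatFunc k := algebraMap (Polynomial k) (RatFunc k)

theorem φ_injective : Function.Injective (φ (k := k)) := RatFunc.algebraMap_injective k

theorem σ_φ (hσ : σ RatFunc.X = (RatFunc.X : RatFunc k)⁻¹) (P : Polynomial k) :
    σ (φ P) = P.eval₂ (algebraMap k (RatFunc k)) (RatFunc.X : RatFunc k)⁻¹ := by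
  induction P using Polynomial.induction_on' with
  | add p q hp hq => rw [map_add, map_add, hp, hq, eval₂_add]
  | monomial n a =>
    rw [← C_mul_X_pow_eq_monomial, map_mul φ, map_pow φ, RatFunc.algebraMap_X, map_mul σ, map_pow σ, hσ, eval₂_mul,
      eval₂_C, eval₂_pow, eval₂_X, show φ (C a) = algebraMap k (RatFunc k) a from (IsScalarTower.algebraMap_apply k (Polynomial k) (RatFunc k) a).symm,
      AlgEquiv.commutes]

theorem φ_reflect (hσ : σ RatFunc.X = (RatFunc.X : RatFunc k)⁻¹) {w : ℕ} {P : Polynomial k}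
    (h : P.natDegree ≤ w) : φ (P.reflect w) = σ (φ P) * RatFunc.X ^ w := by
  have hX : (RatFunc.X : RatFunc k) ≠ 0 := RatFunc.X_ne_zero
  letI : Invertible ((RatFunc.X : RatFunc k)⁻¹) := ⟨RatFunc.X, mul_inv_cancel₀ hX, inv_mul_cancel₀ hX⟩
  have h1 := eval₂_reflect_mul_pow (algebraMap k (RatFunc k)) (RatFunc.X : RatFunc k)⁻¹ w P h
  have h2 : eval₂ (algebraMap k (RatFunc k)) (⅟((RatFunc.X : RatFunc k)⁻¹)) (P.reflect w) = φ (P.reflect w) := by
    show eval₂ (algebraMap k (RatFunc k)) (RatFunc.X : RatFunc k) (P.reflect w) = _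
    induction P.reflect w using Polynomial.induction_on' with
    | add p q hp hq => rw [map_add, eval₂_add, hp, hq]
    | monomial n a =>
      rw [← C_mul_X_pow_eq_monomial, map_mul φ, map_pow φ, RatFunc.algebraMap_X, eval₂_mul, eval₂_C, eval₂_pow, eval₂_X,
        show φ (C a) = algebraMap k (RatFunc k) a from (IsScalarTower.algebraMap_apply k (Polynomial k) (RatFunc k) a).symm]
  rw [σ_φ σ hσ, ← h1, h2, inv_pow, mul_assoc, inv_mul_cancel₀ (pow_ne_zero _ hX), mul_one]

theorem natDegree_le (hσ : σ RatFunc.X = (RatFunc.X : RatFunc k)⁻¹) {w : ℕ} {P : Polynomial k} {e : Polynomial k}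
    (h : σ (φ P) * RatFunc.X ^ w = φ e) : P.natDegree ≤ w := by
  by_contra hlt
  push_neg at hlt
  obtain ⟨d, hd⟩ := Nat.exists_eq_add_of_lt hlt
  have h1 := φ_reflect σ hσ (le_refl P.natDegree)
  rw [hd, add_assoc, pow_add, ← mul_assoc, h, ← RatFunc.algebraMap_X, ← map_pow φ, ← map_mul φ] at h1
  have h2 := congrArg (fun q => q.coeff 0) (φ_injective h1)
  simp only [coeff_reflect, mul_coeff_zero, coeff_X_pow] at h2
  rw [revAt_zero, ← add_assoc, ← hd, if_neg (by omega), mul_zero, coeff_natDegree, leadingCoeff_eq_zero] at h2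
  rw [h2, natDegree_zero] at hlt
  omega

/-- The polynomial `X² - X + 1`. -/
noncomputable def Q : Polynomial k := X ^ 2 - X + 1

/-- The polynomial `X² (X - 1)²`. -/
noncomputable def D : Polynomial k := X ^ 2 * (X - 1) ^ 2

theorem σ_Q (hσ : σ RatFunc.X = (RatFunc.X : RatFunc k)⁻¹) : σ (φ Q) * RatFunc.X ^ 2 = φ Q := by
  have hX : (RatFunc.X : RatFunc k) ≠ 0 := RatFunc.X_ne_zero
  simp only [Q, map_add, map_sub, map_pow, map_one, RatFunc.algebraMap_X, hσ]
  field_simp
  ring

theorem τ_Q (hτ : τ RatFunc.X = 1 - (RatFunc.X : RatFunc k)) : τ (φ Q) = φ Q := by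
  simp only [Q, map_add, map_sub, map_pow, map_one, RatFunc.algebraMap_X, hτ]
  ring

theorem σ_D (hσ : σ RatFunc.X = (RatFunc.X : RatFunc k)⁻¹) : σ (φ D) * RatFunc.X ^ 6 = φ D := by
  have hX : (RatFunc.X : RatFunc k) ≠ 0 := RatFunc.X_ne_zero
  simp only [D, map_mul, map_sub, map_pow, map_one, RatFunc.algebraMap_X, hσ]
  field_simp
  ring

theorem τ_D (hτ : τ RatFunc.X = 1 - (RatFunc.X : RatFunc k)) : τ (φ D) = φ D := by
  simp only [D, map_mul, map_sub, map_pow, map_one, RatFunc.algebraMap_X, hτ]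
  ring

theorem τ_φ (hτ : τ RatFunc.X = 1 - (RatFunc.X : RatFunc k)) (P : Polynomial k) :
    τ (φ P) = φ (P.comp (1 - X)) := by
  induction P using Polynomial.induction_on' with
  | add p q hp hq => rw [map_add, map_add, hp, hq, add_comp, map_add]
  | monomial n a =>
    rw [← C_mul_X_pow_eq_monomial, map_mul φ, map_pow φ, RatFunc.algebraMap_X, map_mul τ, map_pow τ, hτ, mul_comp, C_comp,
      pow_comp, X_comp, map_mul φ, map_pow φ, map_sub φ, map_one φ, RatFunc.algebraMap_X,
      show φ (C a) = algebraMap k (RatFunc k) a from (IsScalarTower.algebraMap_apply k (Polynomial k) (RatFunc k) a).symm,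
      AlgEquiv.commutes]

theorem mem_adjoin (h2 : (2 : k) ≠ 0) (hσ : σ RatFunc.X = (RatFunc.X : RatFunc k)⁻¹)
    (hτ : τ RatFunc.X = 1 - (RatFunc.X : RatFunc k)) :
    ∀ (N : ℕ) (P : Polynomial k), τ (φ P) = φ P → σ (φ P) * RatFunc.X ^ (6 * N) = φ P →
      φ P / φ D ^ N ∈ Algebra.adjoin k ({φ Q ^ 3 / φ D} : Set (RatFunc k)) := by
  have hD : φ (k := k) D ≠ 0 := by
    rw [Ne, ← map_zero (φ (k := k)), φ_injective.eq_iff, D]
    exact mul_ne_zero (pow_ne_zero _ X_ne_zero) (pow_ne_zero _ (X_sub_C_ne_zero (1 : k)))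
  intro N
  induction N with
  | zero =>
    intro P _ hP
    have hd := natDegree_le σ hσ hP
    rw [Nat.mul_zero, Nat.le_zero] at hd
    rw [eq_C_of_natDegree_eq_zero hd, pow_zero, div_one,
      show φ (C (P.coeff 0)) = algebraMap k (RatFunc k) (P.coeff 0) from (IsScalarTower.algebraMap_apply k (Polynomial k) (RatFunc k) _).symm]
    exact Subalgebra.algebraMap_mem _ _
  | succ N ih =>
    intro P hτP hσP
    set c := P.coeff 0 with hc
    set P' := P - C c * Q ^ (3 * (N + 1)) with hP'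
    have hφC : φ (C c) = algebraMap k (RatFunc k) c := (IsScalarTower.algebraMap_apply k (Polynomial k) (RatFunc k) _).symm
    have hτ' : τ (φ P') = φ P' := by
      rw [hP', map_sub φ, map_sub τ, hτP, map_mul φ, map_mul τ, hφC, AlgEquiv.commutes, map_pow φ, map_pow τ, τ_Q τ hτ]
    have hσ' : σ (φ P') * RatFunc.X ^ (6 * (N + 1)) = φ P' := by
      rw [hP', map_sub φ, map_sub σ, sub_mul, hσP, map_mul φ, map_mul σ, hφC, AlgEquiv.commutes, map_pow φ, map_pow σ,
        mul_assoc, show 6 * (N + 1) = 2 * (3 * (N + 1)) by ring, pow_mul RatFunc.X 2, ← mul_pow, σ_Q σ hσ]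
    have h0 : P'.eval 0 = 0 := by
      rw [hP', eval_sub, eval_mul, eval_C, eval_pow, ← coeff_zero_eq_eval_zero]
      simp [Q, ← hc]
    have hcomp : P'.comp (1 - X) = P' := φ_injective (by rw [← τ_φ τ hτ, hτ'])
    have h1 : P'.eval 1 = 0 := by
      rw [← hcomp, eval_comp]; simpa using h0
    obtain ⟨R, hR⟩ : X * (X - C 1) ∣ P' := by
      refine IsCoprime.mul_dvd ?_ ?_ ?_
      · exact ⟨1, -1, by simp⟩
      · exact X_dvd_iff.2 (by rw [coeff_zero_eq_eval_zero]; exact h0)
      · exact dvd_iff_isRoot.2 h1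
    rw [map_one] at hR
    have hX : (RatFunc.X : RatFunc k) ≠ 0 := RatFunc.X_ne_zero
    have hX1 : (RatFunc.X : RatFunc k) - 1 ≠ 0 := by
      rw [← RatFunc.algebraMap_X, ← map_one (φ (k := k)), ← map_sub φ, Ne, ← map_zero (φ (k := k)), φ_injective.eq_iff]
      exact X_sub_C_ne_zero (1 : k)
    have hφR : φ P' = RatFunc.X * (RatFunc.X - 1) * φ R := by
      rw [hR, map_mul φ, map_mul φ, map_sub φ, map_one φ, RatFunc.algebraMap_X]
    have hτR : τ (φ R) = φ R := by
      have h := hτ'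
      rw [hφR, map_mul τ, map_mul τ, map_sub τ, map_one τ, hτ,
        show (1 - RatFunc.X) * (1 - RatFunc.X - 1) = (RatFunc.X * (RatFunc.X - 1) : RatFunc k) by ring] at h
      exact mul_left_cancel₀ (mul_ne_zero hX hX1) h
    have hσR : σ (φ R) * RatFunc.X ^ (6 * N + 3) = φ (-R) := by
      have h := hσ'
      rw [hφR, map_mul σ, map_mul σ, map_sub σ, map_one σ, hσ, show 6 * (N + 1) = (6 * N + 3) + 3 by ring, pow_add] at h
      rw [map_neg]
      apply mul_left_cancel₀ (mul_ne_zero hX hX1)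
      have e : (RatFunc.X : RatFunc k)⁻¹ * (RatFunc.X⁻¹ - 1) * RatFunc.X ^ 3 = -(RatFunc.X * (RatFunc.X - 1)) := by
        field_simp; ring
      linear_combination -h + (σ (φ R) * RatFunc.X ^ (6 * N + 3)) * e
    have hdR := natDegree_le σ hσ hσR
    have hrefl : R.reflect (6 * N + 3) = -R := φ_injective (by rw [φ_reflect σ hσ hdR, hσR])
    have hR1 : R.eval 1 = 0 := by
      letI : Invertible (1 : k) := invertibleOne
      have h := eval₂_reflect_mul_pow (RingHom.id k) (1 : k) (6 * N + 3) R hdR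
      rw [invOf_one, one_pow, mul_one, hrefl, eval₂_id, eval₂_id, eval_neg] at h
      have : (2 : k) * R.eval 1 = 0 := by linear_combination -h
      exact (mul_eq_zero.1 this).resolve_left h2
    have hRcomp : R.comp (1 - X) = R := φ_injective (by rw [← τ_φ τ hτ, hτR])
    have hR0 : R.eval 0 = 0 := by
      rw [← hRcomp, eval_comp]; simpa using hR1
    obtain ⟨T, hT⟩ : X * (X - C 1) ∣ R := by
      refine IsCoprime.mul_dvd ?_ ?_ ?_
      · exact ⟨1, -1, by simp⟩
      · exact X_dvd_iff.2 (by rw [coeff_zero_eq_eval_zero]; exact hR0)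
      · exact dvd_iff_isRoot.2 hR1
    rw [map_one] at hT
    have hPT : φ P' = φ D * φ T := by
      rw [hR, hT, D, ← map_mul φ]; congr 1; ring
    have hτT : τ (φ T) = φ T := by
      have h := hτ'
      rw [hPT, map_mul τ, τ_D τ hτ] at h
      exact mul_left_cancel₀ hD h
    have hσT : σ (φ T) * RatFunc.X ^ (6 * N) = φ T := by
      have h := hσ'
      rw [hPT, map_mul σ, show 6 * (N + 1) = 6 + 6 * N by ring, pow_add, mul_mul_mul_comm, σ_D σ hσ] at h
      exact mul_left_cancel₀ hD h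
    have hsplit : φ P / φ D ^ (N + 1) =
        algebraMap k (RatFunc k) c * (φ Q ^ 3 / φ D) ^ (N + 1) + φ T / φ D ^ N := by
      have hPe : φ P = φ D * φ T + algebraMap k (RatFunc k) c * φ Q ^ (3 * (N + 1)) := by
        rw [← hPT, hP', map_sub φ, map_mul φ, hφC, map_pow φ]; ring
      rw [hPe, div_pow, ← pow_mul, add_div, add_comm]
      congr 1
      · rw [mul_div_assoc]
      · rw [pow_succ', mul_div_mul_left _ _ hD]
    have hj : φ Q ^ 3 / φ D ∈ Algebra.adjoin k ({φ Q ^ 3 / φ D} : Set (RatFunc k)) :=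
      Algebra.subset_adjoin (Set.mem_singleton (φ Q ^ 3 / φ D))
    rw [hsplit]
    refine Subalgebra.add_mem _ ?_ (ih T hτT hσT)
    refine Subalgebra.mul_mem _ ?_ (Subalgebra.pow_mem _ hj (N + 1))
    exact Subalgebra.algebraMap_mem _ c

end Groth.Agent.H6.LambdaLine
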