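import Mathlib

/-! Rationality of `exp (∑ F(q^v) t^v / v)` forces `F` to be an integral Laurent polynomial. -/

set_option autoImplicit false

namespace Groth.Agent.H6LE

open Polynomial

theorem denom_dvd (N Dn D : ℚ[X]) (hcop : IsCoprime N Dn) (hD : D ≠ 0)
    (q : ℚ) (hq : 1 < q) (n₀ : ℕ)
    (hrec : ∀ n, n₀ ≤ n → ∑ j ∈ Finset.range (D.natDegree + 1),
      D.coeff j * (N.eval (q ^ (n - j + 1)) / Dn.eval (q ^ (n - j + 1))) = 0) (hDn : Dn ≠ 0) :
    Dn ∣ ∏ l ∈ Finset.range D.natDegree, Dn.comp (C (q ^ (D.natDegree - l)) * X) := by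
  classical
  set k := D.natDegree with hk
  let s : ℕ → ℚ[X] := fun j => C (q ^ (k - j)) * X
  let Φ : ℚ[X] := ∑ j ∈ Finset.range (k + 1),
    C (D.coeff j) * N.comp (s j) * ∏ l ∈ (Finset.range (k + 1)).erase j, Dn.comp (s l)
  have hinj : Function.Injective (fun n : ℕ => q ^ n) := (pow_right_strictMono₀ hq).injective
  have hΦ : Φ = 0 := by
    refine Polynomial.eq_zero_of_infinite_isRoot _ ?_
    obtain ⟨B, hB⟩ : ∃ B, ∀ n, B ≤ n → Dn.eval (q ^ n) ≠ 0 := by
      have hfin : {n : ℕ | Dn.eval (q ^ n) = 0}.Finite :=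
        (Polynomial.finite_setOf_isRoot hDn).preimage hinj.injOn
      obtain ⟨B, hB⟩ := hfin.bddAbove
      exact ⟨B + 1, fun n hn h => absurd (hB h) (by omega)⟩
    refine Set.Infinite.mono ?_ ((Set.Ici_infinite (n₀ + B + 1)).image hinj.injOn)
    rintro _ ⟨n, hn, rfl⟩
    rw [Set.mem_Ici] at hn
    show Φ.eval (q ^ n) = 0
    have hz : ∀ j ∈ Finset.range (k + 1), Dn.eval (q ^ (k - j) * q ^ n) ≠ 0 := fun j _ => by
      rw [← pow_add]; exact hB _ (by omega)
    have h := hrec (n - 1 + k) (by omega)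
    simp only [Φ, s, eval_finset_sum, eval_mul, eval_C, eval_prod, eval_comp, eval_X]
    have h2 : ∀ j ∈ Finset.range (k + 1),
        D.coeff j * N.eval (q ^ (k - j) * q ^ n) * ∏ l ∈ (Finset.range (k + 1)).erase j, Dn.eval (q ^ (k - l) * q ^ n) =
        (D.coeff j * (N.eval (q ^ (n - 1 + k - j + 1)) / Dn.eval (q ^ (n - 1 + k - j + 1)))) *
          ∏ l ∈ Finset.range (k + 1), Dn.eval (q ^ (k - l) * q ^ n) := by
      intro j hj
      have hj' := Finset.mem_range.1 hj
      rw [← Finset.mul_prod_erase _ _ hj, show n - 1 + k - j + 1 = (k - j) + n by omega, pow_add]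
      field_simp [hz j hj]
    rw [Finset.sum_congr rfl h2, ← Finset.sum_mul, h, zero_mul]
  have hs : s k = X := by simp [s]
  have hrest : Dn ∣ ∑ j ∈ Finset.range k,
      C (D.coeff j) * N.comp (s j) * ∏ l ∈ (Finset.range (k + 1)).erase j, Dn.comp (s l) := by
    refine Finset.dvd_sum fun j hj => Dvd.dvd.mul_left ?_ _
    have hj' := Finset.mem_range.1 hj
    have hkm : k ∈ (Finset.range (k + 1)).erase j := Finset.mem_erase.2 ⟨by omega, Finset.self_mem_range_succ k⟩
    have := Finset.dvd_prod_of_mem (fun l => Dn.comp (s l)) hkm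
    simpa [hs] using this
  have hsplit : Φ = (∑ j ∈ Finset.range k,
      C (D.coeff j) * N.comp (s j) * ∏ l ∈ (Finset.range (k + 1)).erase j, Dn.comp (s l)) +
      C (D.coeff k) * (N * ∏ l ∈ Finset.range k, Dn.comp (s l)) := by
    simp only [Φ]
    rw [Finset.sum_range_succ, hs, comp_X, show (Finset.range (k + 1)).erase k = Finset.range k by
      ext l; simp; omega, mul_assoc]
  rw [hΦ] at hsplit
  have hd : Dn ∣ C (D.coeff k) * (N * ∏ l ∈ Finset.range k, Dn.comp (s l)) := by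
    rw [eq_neg_of_add_eq_zero_right hsplit.symm]
    exact hrest.neg_right
  have hu : IsUnit (C (D.coeff k)) :=
    isUnit_C.2 (IsUnit.mk0 _ (by rw [hk]; exact Polynomial.leadingCoeff_ne_zero.2 hD))
  exact hcop.symm.dvd_of_dvd_mul_left ((hu.dvd_mul_left).1 hd)

theorem eq_X_pow (Dn : ℚ[X]) (hmon : Dn.Monic) (q : ℚ) (hq : 1 < q) (k : ℕ)
    (h : Dn ∣ ∏ l ∈ Finset.range k, Dn.comp (C (q ^ (k - l)) * X)) : Dn = X ^ Dn.natDegree := by
  classical
  let DC := Dn.map (algebraMap ℚ ℂ)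
  have hall : ∀ α ∈ DC.roots, α = 0 := by
    by_contra hne
    push Not at hne
    obtain ⟨α₁, hα₁, hne⟩ := hne
    obtain ⟨α, hα, hmax⟩ := Finset.exists_max_image DC.roots.toFinset (fun z : ℂ => ‖z‖)
      ⟨α₁, Multiset.mem_toFinset.2 hα₁⟩
    have hαne : 0 < ‖α‖ := lt_of_lt_of_le (norm_pos_iff.2 hne) (hmax α₁ (Multiset.mem_toFinset.2 hα₁))
    have hαroot : aeval α Dn = 0 := by
      rw [Multiset.mem_toFinset, mem_roots', IsRoot, eval_map, ← aeval_def] at hα
      exact hα.2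
    obtain ⟨w, hw⟩ := h
    have h0 := congrArg (aeval α) hw
    rw [map_mul, hαroot, zero_mul, map_prod, Finset.prod_eq_zero_iff] at h0
    obtain ⟨l, hl, hl0⟩ := h0
    rw [aeval_comp, map_mul, aeval_C, aeval_X] at hl0
    have hmem : algebraMap ℚ ℂ (q ^ (k - l)) * α ∈ DC.roots.toFinset := by
      rw [Multiset.mem_toFinset, mem_roots', IsRoot, eval_map, ← aeval_def]
      exact ⟨(hmon.map _).ne_zero, hl0⟩
    have h1 := hmax _ hmem
    rw [norm_mul, map_pow, norm_pow] at h1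
    have hq' : (1 : ℝ) < ‖algebraMap ℚ ℂ q‖ := by
      rw [eq_ratCast, Complex.norm_ratCast]
      rw [abs_of_pos (by exact_mod_cast lt_trans one_pos hq)]
      exact_mod_cast hq
    have hl' := Finset.mem_range.1 hl
    have h2 : (1 : ℝ) < ‖algebraMap ℚ ℂ q‖ ^ (k - l) := one_lt_pow₀ hq' (by omega)
    nlinarith
  apply Polynomial.map_injective (algebraMap ℚ ℂ) (algebraMap ℚ ℂ).injective
  have hspl := IsAlgClosed.splits DC
  rw [Polynomial.map_pow, map_X]
  show DC = _
  rw [hspl.eq_prod_roots_of_monic (hmon.map _), Multiset.eq_replicate_card.2 hall, Multiset.map_replicate,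
    Multiset.prod_replicate, map_zero, sub_zero, ← hspl.natDegree_eq_card_roots]
  simp [DC]

theorem key_cancel {K : Type*} [Field K] (P Q M rest : K[X]) (r c : K) (hr : r ≠ 0) (hP : P ≠ 0) (hQ : Q ≠ 0)
    (other : K[X]) (hM : M = C (c * r) * rest + (1 - C r * X) * other) (hrest : rest.eval r⁻¹ ≠ 0)
    (hid : M * (P * Q) = (derivative P * Q - P * derivative Q) * ((1 - C r * X) * rest)) :
    ∃ z : ℤ, c = (z : K) := by
  obtain ⟨P1, hP1, hP1'⟩ := exists_eq_pow_rootMultiplicity_mul_and_not_dvd P hP r⁻¹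
  obtain ⟨Q1, hQ1, hQ1'⟩ := exists_eq_pow_rootMultiplicity_mul_and_not_dvd Q hQ r⁻¹
  rw [dvd_iff_isRoot] at hP1' hQ1'
  generalize P.rootMultiplicity r⁻¹ = i at hP1
  generalize Q.rootMultiplicity r⁻¹ = j at hQ1
  refine ⟨(j : ℤ) - i, ?_⟩
  have hd : ∀ n : ℕ, derivative ((X - C r⁻¹) ^ n) * (X - C r⁻¹) = C (n : K) * (X - C r⁻¹) ^ n := by
    intro n
    rcases n with _ | m
    · simp
    · rw [derivative_pow, derivative_sub, derivative_X, derivative_C, sub_zero, mul_one, Nat.add_sub_cancel, pow_succ]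
      ring
  have hlin : (1 - C r * X : K[X]) = -C r * (X - C r⁻¹) := by
    rw [mul_sub, neg_mul, neg_mul, ← C_mul, mul_inv_cancel₀ hr, map_one]
    ring
  set L : K[X] := X - C r⁻¹ with hL
  have hW : (derivative P * Q - P * derivative Q) * L =
      L ^ (i + j) * ((C (i : K) - C (j : K)) * (P1 * Q1) + L * (derivative P1 * Q1 - P1 * derivative Q1)) := by
    rw [hP1, hQ1, derivative_mul, derivative_mul, pow_add]
    linear_combination (L ^ j * P1 * Q1) * hd i - (L ^ i * P1 * Q1) * hd j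
  have hLne : L ^ (i + j) ≠ 0 := pow_ne_zero _ (X_sub_C_ne_zero _)
  have hid2 : M * (P1 * Q1) =
      -C r * rest * ((C (i : K) - C (j : K)) * (P1 * Q1) + L * (derivative P1 * Q1 - P1 * derivative Q1)) := by
    apply mul_left_cancel₀ hLne
    calc L ^ (i + j) * (M * (P1 * Q1)) = M * (P * Q) := by rw [hP1, hQ1, pow_add]; ring
      _ = -C r * rest * ((derivative P * Q - P * derivative Q) * L) := by rw [hid, hlin]; ring
      _ = _ := by rw [hW]; ring
  have hev := congrArg (eval r⁻¹) hid2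
  simp [hM, hL, hr] at hev
  have hne : eval r⁻¹ rest * (eval r⁻¹ P1 * eval r⁻¹ Q1) * r ≠ 0 :=
    mul_ne_zero (mul_ne_zero hrest (mul_ne_zero hP1' hQ1')) hr
  push_cast
  apply mul_right_cancel₀ hne
  linear_combination hev

end Groth.Agent.H6LE
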