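import Mathlib

set_option autoImplicit false
set_option linter.all false
set_option backward.isDefEq.respectTransparency.types false
set_option maxHeartbeats 1000000
universe u

open TensorProduct

namespace Groth.Agent.H6.LeastFree

theorem quot_one_tmul {A : Type u} [CommRing A] (J : Ideal A) {M : Type u} [AddCommGroup M] [Module A M] (x : M) :
    TensorProduct.quotTensorEquivQuotSMul M J ((1 : A ⧸ J) ⊗ₜ[A] x) = Submodule.Quotient.mk x := by
  have h := TensorProduct.quotTensorEquivQuotSMul_mk_tmul J (1 : A) x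
  rw [one_smul] at h
  exact h

theorem injective_of_flat {A : Type u} [CommRing A] (J : Ideal A) (hJ : IsNilpotent J)
    {F M : Type u} [AddCommGroup F] [Module A F] [AddCommGroup M] [Module A M] [Module.Flat A M]
    (φ : F →ₗ[A] M) (hs : Function.Surjective φ) (hinj : Function.Injective (φ.lTensor (A ⧸ J))) :
    Function.Injective φ := by
  let K := LinearMap.ker φ
  have h1 : Function.Injective (K.subtype.lTensor (A ⧸ J)) :=
    lTensor_injective_of_exact_of_exact_of_rTensor_injective
      (LinearMap.exact_subtype_mkQ J) J.mkQ_surjective (LinearMap.exact_subtype_ker_map φ) hs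
      (Module.Flat.iff_rTensor_injective'.1 ‹_› J)
      (Module.Flat.lTensor_preserves_injective_linearMap _ K.injective_subtype)
  have h2 : ∀ x : K, x ∈ J • (⊤ : Submodule A K) := by
    intro x
    have h3 : (1 : A ⧸ J) ⊗ₜ[A] x = 0 := by
      apply h1
      apply hinj
      rw [map_zero, map_zero, LinearMap.lTensor_tmul, LinearMap.lTensor_tmul]
      show (1 : A ⧸ J) ⊗ₜ[A] φ x.1 = 0
      rw [LinearMap.mem_ker.1 x.2, tmul_zero]
    have h4 := congrArg (TensorProduct.quotTensorEquivQuotSMul K J) h3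
    rw [map_zero] at h4
    rw [quot_one_tmul] at h4
    exact (Submodule.Quotient.mk_eq_zero _).1 h4
  obtain ⟨n, hn⟩ := hJ
  have h5 : ∀ m : ℕ, (⊤ : Submodule A K) ≤ J ^ m • ⊤ := by
    intro m
    induction m with
    | zero => simp
    | succ m ih =>
      intro x hx
      have := Submodule.smul_mono (le_refl (J ^ m)) (fun y (_ : y ∈ (⊤ : Submodule A K)) => h2 y) (ih hx)
      rwa [← Submodule.smul_assoc, smul_eq_mul, ← pow_succ] at this
  rw [← LinearMap.ker_eq_bot]
  refine eq_bot_iff.2 fun x hx => ?_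
  have h6 := h5 n (Submodule.mem_top (x := (⟨x, hx⟩ : K)))
  rw [hn, Submodule.zero_eq_bot, Submodule.bot_smul, Submodule.mem_bot] at h6
  exact congrArg Subtype.val h6

theorem bijective_baseChange {A : Type u} [CommRing A] {F M : Type u} [AddCommGroup F] [Module A F]
    [AddCommGroup M] [Module A M] (φ : F →ₗ[A] M) (hs : Function.Surjective φ)
    (A' : Type u) [CommRing A'] [Algebra A A'] (hz : ∀ x ∈ LinearMap.ker φ, (1 : A') ⊗ₜ[A] x = 0) :
    Function.Bijective (φ.baseChange A') := by
  have hex := lTensor_exact A' (φ.exact_subtype_ker_map) hs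
  refine ⟨?_, fun z => LinearMap.lTensor_surjective A' hs z⟩
  rw [← LinearMap.ker_eq_bot]
  refine eq_bot_iff.2 fun z hz' => ?_
  obtain ⟨w, rfl⟩ := (hex z).1 hz'
  rw [Submodule.mem_bot]
  have : ∀ w, LinearMap.lTensor A' (LinearMap.ker φ).subtype w = 0 := by
    intro w
    induction w with
    | zero => simp
    | add a c ha hc => rw [map_add, ha, hc, add_zero]
    | tmul a x =>
      rw [LinearMap.lTensor_tmul, ← mul_one a, ← smul_eq_mul, ← smul_tmul']
      show a • ((1 : A') ⊗ₜ[A] (x : F)) = 0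
      rw [hz x.1 x.2, smul_zero]
  exact this w

theorem main {A : Type u} [CommRing A] (M : Type u) [AddCommGroup M] [Module A M]
    (J : Ideal A) (hJ : IsNilpotent J) (hfree : Module.Free (A ⧸ J) ((A ⧸ J) ⊗[A] M)) :
    ∃ R₀ : Ideal A,
      IsLeast {R : Ideal A | Module.Free (A ⧸ R) ((A ⧸ R) ⊗[A] M)} R₀ ∧
      IsLeast {R : Ideal A | Module.Flat (A ⧸ R) ((A ⧸ R) ⊗[A] M)} R₀ ∧
      ∀ (A' : Type u) [CommRing A'] [Algebra A A'],
        (Module.Free A' (A' ⊗[A] M) ↔ Ideal.map (algebraMap A A') R₀ = ⊥) ∧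
        (Module.Flat A' (A' ⊗[A] M) ↔ Ideal.map (algebraMap A A') R₀ = ⊥) := by
  classical
  let ι := Module.Free.ChooseBasisIndex (A ⧸ J) ((A ⧸ J) ⊗[A] M)
  let b := Module.Free.chooseBasis (A ⧸ J) ((A ⧸ J) ⊗[A] M)
  have hlift : ∀ z : (A ⧸ J) ⊗[A] M, ∃ m : M, (1 : A ⧸ J) ⊗ₜ[A] m = z :=
    TensorProduct.mk_surjective A M (A ⧸ J) Ideal.Quotient.mk_surjective
  choose m hm using fun i => hlift (b i)
  let φ : (ι →₀ A) →ₗ[A] M := Finsupp.linearCombination A m
  let φJ := φ.baseChange (A ⧸ J)
  let bF : Module.Basis ι (A ⧸ J) ((A ⧸ J) ⊗[A] (ι →₀ A)) := Algebra.TensorProduct.basis (A ⧸ J) Finsupp.basisSingleOne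
  have hφJ : φJ = (bF.equiv b (Equiv.refl ι)).toLinearMap := bF.ext fun i => by
    rw [LinearEquiv.coe_coe, Module.Basis.equiv_apply, Equiv.refl_apply]
    simp [φJ, bF, φ, hm]
  have hφJb : Function.Bijective φJ := by rw [hφJ]; exact LinearEquiv.bijective _
  have hs : Function.Surjective φ := by
    obtain ⟨n, hn⟩ := hJ
    have h1 : ∀ x : M, x ∈ LinearMap.range φ ⊔ J • (⊤ : Submodule A M) := by
      intro x
      obtain ⟨y, hy⟩ := hφJb.2 ((1 : A ⧸ J) ⊗ₜ[A] x)
      obtain ⟨f, rfl⟩ := TensorProduct.mk_surjective A (ι →₀ A) (A ⧸ J) Ideal.Quotient.mk_surjective y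
      have h4 := congrArg (TensorProduct.quotTensorEquivQuotSMul M J) hy
      have h5 : x - φ f ∈ J • (⊤ : Submodule A M) := by
        rw [← Submodule.Quotient.eq]
        simp only [φJ, TensorProduct.mk_apply, LinearMap.baseChange_tmul, quot_one_tmul] at h4
        exact h4.symm
      exact Submodule.mem_sup.2 ⟨φ f, ⟨f, rfl⟩, x - φ f, h5, add_sub_cancel _ _⟩
    have h2 : ∀ k : ℕ, (⊤ : Submodule A M) ≤ LinearMap.range φ ⊔ J ^ k • (⊤ : Submodule A M) := by
      intro k
      induction k with
      | zero => simp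
      | succ k ih =>
        refine ih.trans (sup_le le_sup_left ?_)
        refine (Submodule.smul_mono le_rfl (fun x (_ : x ∈ (⊤ : Submodule A M)) => h1 x)).trans ?_
        rw [Submodule.smul_sup, ← Submodule.smul_assoc, smul_eq_mul, ← pow_succ]
        exact sup_le_sup_right Submodule.smul_le_right _
    have h3 := h2 n
    rw [hn, Submodule.zero_eq_bot, Submodule.bot_smul, sup_bot_eq] at h3
    exact LinearMap.range_eq_top.1 (top_le_iff.1 h3)
  let R₀ : Ideal A := Ideal.span {a | ∃ x ∈ LinearMap.ker φ, ∃ i, x i = a}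
  have key : ∀ (A' : Type u) [CommRing A'] [Algebra A A'],
      (Module.Free A' (A' ⊗[A] M) ↔ Ideal.map (algebraMap A A') R₀ = ⊥) ∧
        (Module.Flat A' (A' ⊗[A] M) ↔ Ideal.map (algebraMap A A') R₀ = ⊥) := by
    intro A' _ _
    let φ' := φ.baseChange A'
    let bF' : Module.Basis ι A' (A' ⊗[A] (ι →₀ A)) := Algebra.TensorProduct.basis A' Finsupp.basisSingleOne
    have hrepr : ∀ (x : ι →₀ A) (i : ι), bF'.repr ((1 : A') ⊗ₜ[A] x) i = algebraMap A A' (x i) := by
      intro x i
      simp [bF', Algebra.algebraMap_eq_smul_one]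
    have hback : Ideal.map (algebraMap A A') R₀ = ⊥ → Module.Free A' (A' ⊗[A] M) := by
      intro hR
      have hz : ∀ x ∈ LinearMap.ker φ, (1 : A') ⊗ₜ[A] x = 0 := by
        intro x hx
        apply bF'.repr.injective
        ext i
        rw [hrepr, map_zero]
        have : algebraMap A A' (x i) ∈ Ideal.map (algebraMap A A') R₀ :=
          Ideal.mem_map_of_mem _ (Ideal.subset_span ⟨x, hx, i, rfl⟩)
        rw [hR, Ideal.mem_bot] at this
        simpa using this
      have hbij : Function.Bijective φ' := bijective_baseChange φ hs A' hz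
      exact Module.Free.of_basis (bF'.map (LinearEquiv.ofBijective φ' hbij))
    have hfwd : Module.Flat A' (A' ⊗[A] M) → Ideal.map (algebraMap A A') R₀ = ⊥ := by
      intro hflat
      let J' := J.map (algebraMap A A')
      have hJ' : IsNilpotent J' := by
        obtain ⟨n, hn⟩ := hJ
        exact ⟨n, by rw [← Ideal.map_pow, hn, Submodule.zero_eq_bot, Ideal.map_bot]; rfl⟩
      let B := A' ⧸ J'
      let q : (A ⧸ J) →ₐ[A] B := Ideal.Quotient.liftₐ J (Algebra.ofId A B) fun a ha => by
        show Ideal.Quotient.mk J' (algebraMap A A' a) = 0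
        exact Ideal.Quotient.eq_zero_iff_mem.2 (Ideal.mem_map_of_mem _ ha)
      let e := LinearEquiv.ofBijective φJ hφJb
      let ψ : M →ₗ[A] B ⊗[A] (ι →₀ A) := (LinearMap.rTensor (ι →₀ A) q.toLinearMap).comp
        ((e.symm.toLinearMap.restrictScalars A).comp (TensorProduct.mk A (A ⧸ J) M 1))
      have hψ : ∀ f, ψ (φ f) = (1 : B) ⊗ₜ[A] f := by
        intro f
        show LinearMap.rTensor (ι →₀ A) q.toLinearMap (e.symm ((1 : A ⧸ J) ⊗ₜ[A] φ f)) = _
        rw [show (1 : A ⧸ J) ⊗ₜ[A] φ f = e ((1 : A ⧸ J) ⊗ₜ[A] f) from rfl, e.symm_apply_apply, LinearMap.rTensor_tmul]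
        simp
      have hinjB : Function.Injective (φ.lTensor B) := by
        have hli : ∀ z, (LinearMap.liftBaseChange B ψ) (φ.lTensor B z) = z := by
          intro z
          induction z with
          | zero => simp
          | add a c ha hc => rw [map_add, map_add, ha, hc]
          | tmul a x =>
            rw [LinearMap.lTensor_tmul, LinearMap.liftBaseChange_tmul, hψ, smul_tmul', smul_eq_mul, mul_one]
        exact Function.LeftInverse.injective hli
      let eF := TensorProduct.AlgebraTensorModule.cancelBaseChange A A' A' B (ι →₀ A)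
      let eM := TensorProduct.AlgebraTensorModule.cancelBaseChange A A' A' B M
      have hcomm : ∀ z, eM (φ'.lTensor B z) = φ.lTensor B (eF z) := by
        intro z
        induction z with
        | zero => simp
        | add a c ha hc => simp [map_add, ha, hc]
        | tmul a y =>
          induction y with
          | zero => simp
          | add y₁ y₂ h₁ h₂ => simp only [tmul_add, map_add, h₁, h₂]
          | tmul c x => simp [eF, eM, φ']
      have hinj' : Function.Injective (φ'.lTensor B) := fun x y hxy => by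
        apply eF.injective
        apply hinjB
        rw [← hcomm, ← hcomm, hxy]
      have hφ' : Function.Injective φ' :=
        injective_of_flat J' hJ' φ' (LinearMap.lTensor_surjective A' hs) hinj'
      rw [Ideal.map_eq_bot_iff_le_ker, Ideal.span_le]
      rintro _ ⟨x, hx, i, rfl⟩
      have h0 : (1 : A') ⊗ₜ[A] x = 0 := hφ' (by
        rw [map_zero, LinearMap.baseChange_tmul, LinearMap.mem_ker.1 hx, tmul_zero])
      rw [SetLike.mem_coe, RingHom.mem_ker, ← hrepr, h0, map_zero, Finsupp.zero_apply]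
    refine ⟨⟨fun h => hfwd inferInstance, hback⟩, ⟨hfwd, fun h => ?_⟩⟩
    haveI := hback h
    infer_instance
  have hR0 : Ideal.map (algebraMap A (A ⧸ R₀)) R₀ = ⊥ := Ideal.map_quotient_self R₀
  refine ⟨R₀, ⟨(key (A ⧸ R₀)).1.2 hR0, fun R hR => ?_⟩, ⟨(key (A ⧸ R₀)).2.2 hR0, fun R hR => ?_⟩, key⟩
  · have := (key (A ⧸ R)).1.1 hR
    rw [Ideal.map_eq_bot_iff_le_ker] at this
    simpa [Ideal.Quotient.algebraMap_eq] using this
  · have := (key (A ⧸ R)).2.1 hR
    rw [Ideal.map_eq_bot_iff_le_ker] at this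
    simpa [Ideal.Quotient.algebraMap_eq] using this

end Groth.Agent.H6.LeastFree
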