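import Mathlib

set_option autoImplicit false

universe w
open CategoryTheory CategoryTheory.Limits Opposite

namespace Groth.Agent.H6LimitExactWF

variable {I : Type w} [LinearOrder I] [WellFoundedLT I]
  (K : Iᵒᵖ ⥤ CochainComplex AddCommGrpCat.{w} ℤ)

noncomputable abbrev X (n : ℤ) (β : I) : Type w := (K.obj (op β)).X n

noncomputable abbrev res (n : ℤ) {γ β : I} (h : γ ≤ β) : X K n β →+ X K n γ :=
  ((K.map (homOfLE h).op).f n).hom

noncomputable abbrev dd (i j : ℤ) (β : I) : X K i β →+ X K j β := ((K.obj (op β)).d i j).hom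

theorem res_res (n : ℤ) {a b c : I} (h₁ : a ≤ b) (h₂ : b ≤ c) (x : X K n c) :
    res K n h₁ (res K n h₂ x) = res K n (h₁.trans h₂) x := by
  have e : K.map (homOfLE h₂).op ≫ K.map (homOfLE h₁).op = K.map (homOfLE (h₁.trans h₂)).op := by
    rw [← K.map_comp]; rfl
  exact congrArg (fun φ : K.obj (op c) ⟶ K.obj (op a) => (φ.f n).hom x) e

theorem res_dd (i j : ℤ) {a b : I} (h : a ≤ b) (x : X K i b) :
    res K j h (dd K i j b x) = dd K i j a (res K i h x) := by
  exact (congrArg (fun φ => φ.hom x) ((K.map (homOfLE h).op).comm i j)).symm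

variable (hac : ∀ (β : I) (n : ℤ), (K.obj (op β)).ExactAt n)
  (hsurj : ∀ (β : I) (n : ℤ) (x : ∀ γ : {γ : I // γ < β}, X K n γ.1),
      (∀ (γ γ' : {γ : I // γ < β}) (h : γ.1 ≤ γ'.1), res K n h (x γ') = x γ) →
      ∃ y : X K n β, ∀ γ : {γ : I // γ < β}, res K n γ.2.le y = x γ)

include hac in
theorem exists_preimage (β : I) (n : ℤ) (x : X K n β) (hx : dd K n (n + 1) β x = 0) :
    ∃ y, dd K (n - 1) n β y = x := by
  have h := ((K.obj (op β)).exactAt_iff' (n - 1) n (n + 1) (by simp) (by simp)).1 (hac β n)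
  rw [ShortComplex.ab_exact_iff] at h
  exact h x hx

/-- the kernel of `K β → lim_{γ < β} K γ` is exact -/
def L (β : I) : Prop := ∀ (n : ℤ) (u : X K n β), dd K n (n + 1) β u = 0 →
  (∀ γ, ∀ h : γ < β, res K n h.le u = 0) →
  ∃ v, dd K (n - 1) n β v = u ∧ ∀ γ, ∀ h : γ < β, res K (n - 1) h.le v = 0

include hsurj in
theorem families (S : Set I) (hS : ∀ a b, a ≤ b → b ∈ S → a ∈ S) (hL : ∀ β ∈ S, L K β)
    (n : ℤ) (x : ∀ β, β ∈ S → X K n β) (hd : ∀ β hβ, dd K n (n + 1) β (x β hβ) = 0)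
    (hc : ∀ a b (h : a ≤ b) (hb : b ∈ S), res K n h (x b hb) = x a (hS a b h hb)) :
    ∃ y : ∀ β, X K (n - 1) β, (∀ β hβ, dd K (n - 1) n β (y β) = x β hβ) ∧
      ∀ a b (h : a < b), b ∈ S → res K (n - 1) h.le (y b) = y a := by
  classical
  let cond : ∀ β : I, (∀ γ, γ < β → X K (n - 1) γ) → X K (n - 1) β → Prop := fun β prev z =>
    (∀ hβ : β ∈ S, dd K (n - 1) n β z = x β hβ) ∧ ∀ γ, ∀ h : γ < β, res K (n - 1) h.le z = prev γ h
  let y : ∀ β, X K (n - 1) β := wellFounded_lt.fix fun β prev =>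
    if h : ∃ z, cond β prev z then h.choose else 0
  suffices hQ : ∀ β, β ∈ S → cond β (fun γ _ => y γ) (y β) from
    ⟨y, fun β hβ => (hQ β hβ).1 hβ, fun a b h hb => (hQ b hb).2 a h⟩
  intro β
  induction β using WellFoundedLT.induction with
  | _ β ih =>
    intro hβ
    have key : ∃ z, cond β (fun γ _ => y γ) z := by
      obtain ⟨z₀, hz₀⟩ := hsurj β (n - 1) (fun γ => y γ.1) (fun γ γ' h => by
        rcases h.lt_or_eq with h' | h'
        · exact (ih γ'.1 γ'.2 (hS _ _ γ'.2.le hβ)).2 γ.1 h'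
        · obtain rfl : γ = γ' := Subtype.ext h'
          show res K (n - 1) (le_refl γ.1) (y γ.1) = y γ.1
          simp [res])
      have h1 : dd K n (n + 1) β (x β hβ - dd K (n - 1) n β z₀) = 0 := by
        rw [map_sub, hd, zero_sub, neg_eq_zero]
        exact congrArg (fun φ => φ.hom z₀) ((K.obj (op β)).d_comp_d (n - 1) n (n + 1))
      have h2 : ∀ γ, ∀ h : γ < β, res K n h.le (x β hβ - dd K (n - 1) n β z₀) = 0 := fun γ h => by
        rw [map_sub, hc, res_dd, hz₀ ⟨γ, h⟩, (ih γ h (hS _ _ h.le hβ)).1 (hS _ _ h.le hβ), sub_self]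
      obtain ⟨v, hv, hv'⟩ := hL β hβ n _ h1 h2
      refine ⟨z₀ + v, fun _ => ?_, fun γ h => ?_⟩
      · rw [map_add, hv, add_sub_cancel]
      · rw [map_add, hv' γ h, add_zero]; exact hz₀ ⟨γ, h⟩
    have e : y β = key.choose := by
      show wellFounded_lt.fix _ β = _
      rw [WellFounded.fix_eq, dif_pos key]
    rw [e]
    exact key.choose_spec

include hac hsurj in
theorem L_all (β : I) : L K β := by
  induction β using WellFoundedLT.induction with
  | _ β ih =>
    intro n u hu hu0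
    obtain ⟨v, hv⟩ := exists_preimage K hac β n u hu
    obtain ⟨w, hw1, hw2⟩ := families K hsurj {γ | γ < β} (fun a b h hb => lt_of_le_of_lt h hb)
      (fun γ h => ih γ h) (n - 1) (fun γ h => res K (n - 1) (le_of_lt h) v)
      (fun γ h => by
        rw [← res_dd, show (n - 1 + 1 : ℤ) = n by ring, hv]; exact hu0 γ h)
      (fun a b h hb => res_res K _ h (le_of_lt hb) v)
    obtain ⟨w', hw'⟩ := hsurj β (n - 1 - 1) (fun γ => w γ.1) (fun γ γ' h => by
      rcases h.lt_or_eq with h' | h'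
      · exact hw2 _ _ h' γ'.2
      · obtain rfl : γ = γ' := Subtype.ext h'
        show res K (n - 1 - 1) (le_refl γ.1) (w γ.1) = w γ.1
        simp [res])
    refine ⟨v - dd K (n - 1 - 1) (n - 1) β w', ?_, fun γ h => ?_⟩
    · rw [map_sub, hv, sub_eq_self]
      exact congrArg (fun φ => φ.hom w') ((K.obj (op β)).d_comp_d (n - 1 - 1) (n - 1) n)
    · rw [map_sub, res_dd, hw' ⟨γ, h⟩, hw1 γ h, sub_self]

include hac hsurj in
theorem main (n : ℤ) : (limit K).ExactAt n := by
  rw [(limit K).exactAt_iff' (n - 1) n (n + 1) (by simp) (by simp), ShortComplex.ab_exact_iff]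
  intro (x : (limit K).X n) hx
  have hx' : ((limit K).d n (n + 1)).hom x = 0 := hx
  have comm : ∀ (i j : ℤ) (β : I) (z : (limit K).X i),
      ((limit.π K (op β)).f j).hom (((limit K).d i j).hom z) = dd K i j β (((limit.π K (op β)).f i).hom z) := by
    intro i j β z
    exact (congrArg (fun φ => φ.hom z) ((limit.π K (op β)).comm i j)).symm
  obtain ⟨y, hy1, hy2⟩ := families K hsurj Set.univ (fun _ _ _ _ => trivial) (fun β _ => L_all K hac hsurj β) n
    (fun β _ => ((limit.π K (op β)).f n).hom x)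
    (fun β _ => by rw [← comm, hx', map_zero])
    (fun a b h _ => by
      exact congrArg (fun φ : limit K ⟶ K.obj (op a) => (φ.f n).hom x) (limit.w K (homOfLE h).op))
  let F := HomologicalComplex.eval AddCommGrpCat.{w} (ComplexShape.up ℤ) (n - 1)
  have hl := isLimitOfPreserves (F ⋙ forget AddCommGrpCat.{w}) (limit.isLimit K)
  obtain ⟨z, hz, -⟩ := (Types.isLimit_iff _).1 ⟨hl⟩ (fun β => y β.unop) (by
    rintro ⟨b⟩ ⟨a⟩ f
    have hab : a ≤ b := leOfHom f.unop
    have ef : f = (homOfLE hab).op := Subsingleton.elim _ _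
    subst ef
    rcases hab.lt_or_eq with h' | h'
    · exact hy2 a b h' trivial
    · subst h'
      show res K (n - 1) (le_refl a) (y a) = y a
      simp [res])
  change (limit K).X (n - 1) at z
  refine ⟨z, ?_⟩
  have hl2 := isLimitOfPreserves ((HomologicalComplex.eval AddCommGrpCat.{w} (ComplexShape.up ℤ) n) ⋙ forget AddCommGrpCat.{w}) (limit.isLimit K)
  have hfun : ∀ β, ((limit.π K β).f n).hom (((limit K).d (n - 1) n).hom z) = ((limit.π K β).f n).hom x := by
    intro β
    obtain ⟨b⟩ := β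
    exact ((comm (n - 1) n b z).trans (congrArg (fun t => dd K (n - 1) n b t) (hz (op b)))).trans (hy1 b trivial)
  obtain ⟨w₀, -, huniq⟩ := (Types.isLimit_iff _).1 ⟨hl2⟩ (fun β => ((limit.π K β).f n).hom x) (by
    intro a b f
    exact congrArg (fun φ : limit K ⟶ K.obj b => (φ.f n).hom x) (limit.w K f))
  exact (huniq _ hfun).trans (huniq _ fun _ => rfl).symm

end Groth.Agent.H6LimitExactWF
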