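import Mathlib

set_option autoImplicit false
set_option maxHeartbeats 1000000

universe u

namespace Groth.Agent.H6LocDvd

abbrev Cyc (A : Type u) [CommRing A] (M : Type u) [AddCommGroup M] [Module A M] : Submodule A (M →ₗ[A] M) :=
  Submodule.span A {e | ∃ (a : A) (φ : (A ⧸ Ideal.span {a}) →ₗ[A] M) (ψ : M →ₗ[A] A ⧸ Ideal.span {a}),
    e = φ ∘ₗ ψ}

theorem exists_dvd_all {A : Type u} [CommRing A] (hd : ∀ a b : A, a ∣ b ∨ b ∣ a) {ι : Type*}
    (t : Finset ι) (v : ι → A) (ht : t.Nonempty) : ∃ i ∈ t, ∀ j ∈ t, v i ∣ v j := by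
  induction ht using Finset.Nonempty.cons_induction with
  | singleton i => exact ⟨i, by simp, by simp⟩
  | cons i t hi ht ih =>
    obtain ⟨k, hk, hk'⟩ := ih
    rcases hd (v i) (v k) with h | h
    · refine ⟨i, by simp, fun j hj => ?_⟩
      rcases Finset.mem_cons.1 hj with rfl | hj
      · exact dvd_rfl
      · exact h.trans (hk' j hj)
    · refine ⟨k, by simp [hk], fun j hj => ?_⟩
      rcases Finset.mem_cons.1 hj with rfl | hj
      · exact h
      · exact hk' j hj

theorem id_mem {A : Type u} [CommRing A] (hd : ∀ a b : A, a ∣ b ∨ b ∣ a) : ∀ (n : ℕ) (M : Type u)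
    [AddCommGroup M] [Module A M] [Module.FinitePresentation A M] (x : Fin n → M),
    Submodule.span A (Set.range x) = ⊤ → (LinearMap.id : M →ₗ[A] M) ∈ Cyc A M := by
  classical
  intro n
  induction n with
  | zero =>
    intro M _ _ _ x hx
    have : (LinearMap.id : M →ₗ[A] M) = 0 := LinearMap.ext fun m => by
      have hm : m ∈ Submodule.span A (Set.range x) := hx ▸ Submodule.mem_top
      rw [Set.range_eq_empty, Submodule.span_empty, Submodule.mem_bot] at hm
      simp [hm]
    rw [this]
    exact zero_mem _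
  | succ n ih =>
    intro M _ _ _ x hx
    let p := Fintype.linearCombination A x
    have hp : Function.Surjective p := by
      rw [← LinearMap.range_eq_top, Fintype.range_linearCombination]
      exact hx
    obtain ⟨G, hG⟩ := Module.FinitePresentation.fg_ker p hp
    obtain ⟨i0, a, c, hc1, hdiv, hcx⟩ : ∃ (i0 : Fin (n + 1)) (a : A) (c : Fin (n + 1) → A), c i0 = 1 ∧
        (∀ r ∈ G, a ∣ r i0) ∧ a • p c = 0 := by
      rcases (G ×ˢ (Finset.univ : Finset (Fin (n + 1)))).eq_empty_or_nonempty with h | h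
      · refine ⟨0, 0, Pi.single 0 1, by simp, fun r hr => ?_, by simp⟩
        have : (r, (0 : Fin (n + 1))) ∈ G ×ˢ Finset.univ := by simp [hr]
        simp [h] at this
      · obtain ⟨⟨r, i0⟩, hr, hmin⟩ := exists_dvd_all hd _ (fun q : (Fin (n + 1) → A) × Fin (n + 1) => q.1 q.2) h
        choose c hc using fun j => hmin (r, j) (by simp [(Finset.mem_product.1 hr).1])
        refine ⟨i0, r i0, Function.update c i0 1, by simp, fun s hs => hmin (s, i0) (by simp [hs]), ?_⟩
        have hrk : r ∈ LinearMap.ker p := hG ▸ Submodule.subset_span (Finset.mem_product.1 hr).1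
        rw [← map_smul, ← LinearMap.mem_ker]
        convert hrk using 1
        funext j
        by_cases hj : j = i0
        · subst hj; simp
        · rw [Pi.smul_apply, Function.update_of_ne hj, smul_eq_mul]; exact (hc j).symm
    let ψ0 : (Fin (n + 1) → A) →ₗ[A] A ⧸ Ideal.span {a} := (Submodule.mkQ _).comp (LinearMap.proj i0)
    have hker : LinearMap.ker p ≤ LinearMap.ker ψ0 := by
      rw [← hG, Submodule.span_le]
      intro r hr
      exact (Submodule.Quotient.mk_eq_zero _).2 (Ideal.mem_span_singleton.2 (hdiv r hr))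
    let ψ : M →ₗ[A] A ⧸ Ideal.span {a} :=
      (Submodule.liftQ _ ψ0 hker).comp (p.quotKerEquivOfSurjective hp).symm.toLinearMap
    have hψ : ∀ v, ψ (p v) = ψ0 v := by
      intro v
      have : (p.quotKerEquivOfSurjective hp).symm (p v) = Submodule.Quotient.mk v :=
        (LinearEquiv.symm_apply_eq _).2 rfl
      simp [ψ, this]
    let φ : (A ⧸ Ideal.span {a}) →ₗ[A] M :=
      Submodule.liftQ _ (LinearMap.toSpanSingleton A M (p c)) (by
        rw [Ideal.span, Submodule.span_le, Set.singleton_subset_iff]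
        exact hcx)
    have hφ1 : φ (Submodule.Quotient.mk 1) = p c := one_smul A (p c)
    have hfix : φ (ψ (p c)) = p c := by
      rw [hψ]
      show φ (Submodule.Quotient.mk (c i0)) = _
      rw [hc1, hφ1]
    let N := Submodule.span A {p c}
    let σ : (M ⧸ N) →ₗ[A] M := N.liftQ (LinearMap.id - φ ∘ₗ ψ) (by
      rw [Submodule.span_le, Set.singleton_subset_iff]
      simp [hfix])
    have hid : (LinearMap.id : M →ₗ[A] M) = φ ∘ₗ ψ + σ ∘ₗ N.mkQ := LinearMap.ext fun m => by simp [σ]
    haveI : Module.FinitePresentation A (M ⧸ N) :=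
      Module.finitePresentation_of_surjective N.mkQ N.mkQ_surjective (by
        rw [Submodule.ker_mkQ]; exact Submodule.fg_span_singleton _)
    have hgen : Submodule.span A (Set.range (N.mkQ ∘ x ∘ i0.succAbove)) = ⊤ := by
      rw [eq_top_iff, ← Submodule.range_mkQ N, LinearMap.range_eq_map, ← hx, Submodule.map_span,
        Submodule.span_le]
      rintro _ ⟨_, ⟨j, rfl⟩, rfl⟩
      rcases eq_or_ne j i0 with rfl | hj
      · have h0 : N.mkQ (p c) = 0 := (Submodule.Quotient.mk_eq_zero _).2 (Submodule.mem_span_singleton_self _)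
        rw [show p c = ∑ k, c k • x k from Fintype.linearCombination_apply A x c, map_sum,
          Fin.sum_univ_succAbove _ j, hc1, one_smul] at h0
        rw [eq_neg_of_add_eq_zero_left h0]
        refine neg_mem (Submodule.sum_mem _ fun k _ => ?_)
        rw [map_smul]
        exact Submodule.smul_mem _ _ (Submodule.subset_span ⟨k, rfl⟩)
      · obtain ⟨k, rfl⟩ := Fin.exists_succAbove_eq hj
        exact Submodule.subset_span ⟨k, rfl⟩
    rw [hid]
    refine Submodule.add_mem _ (Submodule.subset_span ⟨a, φ, ψ, rfl⟩) ?_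
    have h2 := ih (M ⧸ N) _ hgen
    suffices ∀ e ∈ Cyc A (M ⧸ N), σ ∘ₗ e ∘ₗ N.mkQ ∈ Cyc A M by simpa using this _ h2
    intro e he
    induction he using Submodule.span_induction with
    | mem e he =>
      obtain ⟨b, φ', ψ', rfl⟩ := he
      exact Submodule.subset_span ⟨b, σ ∘ₗ φ', ψ' ∘ₗ N.mkQ, rfl⟩
    | zero => simp
    | add e1 e2 _ _ h1 h2 =>
      rw [LinearMap.add_comp, LinearMap.comp_add]
      exact add_mem h1 h2
    | smul b e _ h =>
      rw [LinearMap.smul_comp, LinearMap.comp_smul]
      exact Submodule.smul_mem _ b h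

theorem exists_scalar_mem (R : Type u) [CommRing R] (m : Ideal R) [m.IsPrime]
    (hd : ∀ a b : Localization.AtPrime m, a ∣ b ∨ b ∣ a)
    (M : Type u) [AddCommGroup M] [Module R M] [Module.FinitePresentation R M] :
    ∃ s : R, s ∉ m ∧ s • (LinearMap.id : M →ₗ[R] M) ∈ Cyc R M := by
  classical
  let p := m.primeCompl
  let A := Localization.AtPrime m
  let L := LocalizedModule p M
  let mk : M →ₗ[R] L := LocalizedModule.mkLinearMap p M
  haveI : Module.FinitePresentation A L := inferInstance
  obtain ⟨n, x, hx⟩ := Module.Finite.exists_fin (R := A) (M := L)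
  suffices key : ∀ e ∈ Cyc A L, ∃ s : p, ∃ g ∈ Cyc R M, ∀ v, mk (g v) = (s : R) • e (mk v) by
    obtain ⟨s, g, hg, hgv⟩ := key _ (id_mem hd n L x hx)
    obtain ⟨T, hT⟩ := (Module.Finite.fg_top : (⊤ : Submodule R M).FG)
    have h1 : ∀ v, ∃ t : p, t • g v = t • ((s : R) • v) := fun v =>
      (IsLocalizedModule.eq_iff_exists p mk).1 (by rw [hgv, map_smul]; rfl)
    choose t ht using h1
    let u : p := ∏ v ∈ T, t v
    refine ⟨(u : R) * s, (u * s).2, ?_⟩
    have : ((u : R) * s) • (LinearMap.id : M →ₗ[R] M) = (u : R) • g := by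
      refine LinearMap.ext_on hT ?_
      intro v hv
      simp only [LinearMap.smul_apply, LinearMap.id_apply, mul_smul]
      have hu : (u : R) = (∏ w ∈ T.erase v, (t w : R)) * (t v : R) := by
        simp only [u, Submonoid.coe_finset_prod]
        rw [← Finset.prod_erase_mul _ _ hv]
      rw [hu, mul_smul, mul_smul]
      have h2 := ht v
      rw [Submonoid.smul_def, Submonoid.smul_def] at h2
      rw [h2]
    rw [this]
    exact Submodule.smul_mem _ _ hg
  intro e he
  induction he using Submodule.span_induction with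
  | mem e he =>
    obtain ⟨a, φ, ψ, rfl⟩ := he
    obtain ⟨⟨f, t0⟩, hf⟩ := IsLocalization.surj p a
    have hspan : Ideal.span {a} = Submodule.localized' A p (Algebra.linearMap R A) (Ideal.span {f}) := by
      rw [Ideal.span, Ideal.span, Submodule.localized'_span, Set.image_singleton]
      show Ideal.span {a} = Ideal.span {algebraMap R A f}
      rw [← hf, Ideal.span_singleton_mul_right_unit (IsLocalization.map_units A t0)]
    let Q : (R ⧸ Ideal.span {f}) →ₗ[R] (A ⧸ Submodule.localized' A p (Algebra.linearMap R A) (Ideal.span {f})) :=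
      Submodule.toLocalizedQuotient' A p (Algebra.linearMap R A) (Ideal.span {f})
    let E := Submodule.quotEquivOfEq _ _ hspan
    let x := φ (Submodule.Quotient.mk 1)
    obtain ⟨⟨y, s1⟩, hy⟩ := IsLocalizedModule.surj p mk x
    have hfx : f • x = 0 := by
      rw [← algebraMap_smul A f x, ← map_smul, ← Submodule.Quotient.mk_smul,
        (Submodule.Quotient.mk_eq_zero _).2, map_zero]
      rw [smul_eq_mul, mul_one, Ideal.mem_span_singleton]
      exact ⟨algebraMap R A (t0 : R), hf.symm⟩
    obtain ⟨s2, hs2⟩ := (IsLocalizedModule.eq_zero_iff p mk).1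
      (show mk (f • y) = 0 by rw [map_smul, ← hy, smul_comm, hfx, smul_zero])
    let φg : (R ⧸ Ideal.span {f}) →ₗ[R] M :=
      Submodule.liftQ _ (LinearMap.toSpanSingleton R M (s2 • y)) (by
        rw [Ideal.span, Submodule.span_le, Set.singleton_subset_iff]
        show f • s2 • y = 0
        rw [smul_comm, hs2])
    obtain ⟨h, s3, hh⟩ := Module.FinitePresentation.exists_lift_of_isLocalizedModule p Q
      (((E.toLinearMap ∘ₗ ψ).restrictScalars R) ∘ₗ mk)
    refine ⟨s3 * s2 * s1, φg ∘ₗ h, Submodule.subset_span ⟨f, φg, h, rfl⟩, fun v => ?_⟩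
    obtain ⟨r, hr⟩ := Submodule.Quotient.mk_surjective _ (h v)
    have h3 : Submodule.Quotient.mk (algebraMap R A r) = (s3 : R) • E (ψ (mk v)) := by
      have := LinearMap.congr_fun hh v
      rw [LinearMap.comp_apply, ← hr] at this
      exact this
    have h4 : (Submodule.Quotient.mk (algebraMap R A r) : A ⧸ Ideal.span {a}) = (s3 : R) • ψ (mk v) := by
      apply E.injective
      exact h3.trans (LinearMap.CompatibleSMul.map_smul E.toLinearMap (s3 : R) (ψ (mk v))).symm
    have h5 : (Submodule.Quotient.mk (algebraMap R A r) : A ⧸ Ideal.span {a}) =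
        algebraMap R A r • Submodule.Quotient.mk 1 := by
      rw [← Submodule.Quotient.mk_smul, smul_eq_mul, mul_one]
    rw [LinearMap.comp_apply, ← hr]
    show mk (r • s2 • y) = _
    rw [Submonoid.smul_def, map_smul, map_smul, ← hy, LinearMap.comp_apply]
    rw [Submonoid.coe_mul, Submonoid.coe_mul, mul_assoc, mul_comm, mul_smul,
      ← LinearMap.CompatibleSMul.map_smul φ (s3 : R) (ψ (mk v)), ← h4, h5, map_smul, algebraMap_smul,
      Submonoid.smul_def, mul_smul, smul_comm r, smul_comm r]
  | zero => exact ⟨1, 0, zero_mem _, fun v => by simp⟩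
  | add e1 e2 _ _ h1 h2 =>
    obtain ⟨s, g, hg, hgv⟩ := h1
    obtain ⟨s', g', hg', hgv'⟩ := h2
    refine ⟨s * s', (s' : R) • g + (s : R) • g',
      add_mem (Submodule.smul_mem _ _ hg) (Submodule.smul_mem _ _ hg'), fun v => ?_⟩
    simp [hgv, hgv', mul_smul, smul_add, smul_comm (s : R) (s' : R)]
  | smul c e _ h =>
    obtain ⟨s, g, hg, hgv⟩ := h
    obtain ⟨⟨r, t⟩, hrt⟩ := IsLocalization.surj p c
    refine ⟨t * s, r • g, Submodule.smul_mem _ _ hg, fun v => ?_⟩
    rw [LinearMap.smul_apply, map_smul, hgv, LinearMap.smul_apply, Submonoid.coe_mul, mul_smul,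
      ← algebraMap_smul A r, ← hrt, mul_comm, mul_smul, algebraMap_smul, smul_comm c (s : R)]

end Groth.Agent.H6LocDvd
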