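import Mathlib
import Groth.Agent.Lib.H6.LocDvdTotal

set_option autoImplicit false
set_option maxHeartbeats 1000000

universe u

namespace Groth.Agent.H6LocDvd

theorem iso_pi {A : Type u} [CommRing A] (hd : ∀ a b : A, a ∣ b ∨ b ∣ a) : ∀ (n : ℕ) (M : Type u)
    [AddCommGroup M] [Module A M] [Module.FinitePresentation A M] (x : Fin n → M),
    Submodule.span A (Set.range x) = ⊤ →
      ∃ (m : ℕ) (f : Fin m → A), Nonempty (M ≃ₗ[A] ((i : Fin m) → A ⧸ Ideal.span {f i})) := by
  classical
  intro n
  induction n with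
  | zero =>
    intro M _ _ _ x hx
    haveI : Subsingleton M := subsingleton_of_forall_eq 0 fun m => by
      have hm : m ∈ Submodule.span A (Set.range x) := hx ▸ Submodule.mem_top
      rw [Set.range_eq_empty, Submodule.span_empty, Submodule.mem_bot] at hm
      exact hm
    exact ⟨0, Fin.elim0, ⟨LinearEquiv.ofSubsingleton _ _⟩⟩
  | succ n ih =>
    intro M _ _ _ x hx
    let p := Fintype.linearCombination A x
    have hp : Function.Surjective p := by
      rw [← LinearMap.range_eq_top, Fintype.range_linearCombination]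
      exact hx
    obtain ⟨G, hG⟩ := Module.FinitePresentation.fg_ker p hp
    obtain ⟨i0, a, c, hc1, hdiv, hcx⟩ : ∃ (i0 : Fin (n + 1)) (a : A) (c : Fin (n + 1) → A), c i0 = 1 ∧
        (∀ r ∈ G, a ∣ r i0) ∧ a • p c = 0 := by
      rcases (G ×ˢ (Finset.univ : Finset (Fin (n + 1)))).eq_empty_or_nonempty with h | h
      · refine ⟨0, 0, Pi.single 0 1, by simp, fun r hr => ?_, by simp⟩
        have : (r, (0 : Fin (n + 1))) ∈ G ×ˢ Finset.univ := by simp [hr]
        simp [h] at this
      · obtain ⟨⟨r, i0⟩, hr, hmin⟩ := exists_dvd_all hd _ (fun q : (Fin (n + 1) → A) × Fin (n + 1) => q.1 q.2) h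
        choose c hc using fun j => hmin (r, j) (by simp [(Finset.mem_product.1 hr).1])
        refine ⟨i0, r i0, Function.update c i0 1, by simp, fun s hs => hmin (s, i0) (by simp [hs]), ?_⟩
        have hrk : r ∈ LinearMap.ker p := hG ▸ Submodule.subset_span (Finset.mem_product.1 hr).1
        rw [← map_smul, ← LinearMap.mem_ker]
        convert hrk using 1
        funext j
        by_cases hj : j = i0
        · subst hj; simp
        · rw [Pi.smul_apply, Function.update_of_ne hj, smul_eq_mul]; exact (hc j).symm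
    let ψ0 : (Fin (n + 1) → A) →ₗ[A] A ⧸ Ideal.span {a} := (Submodule.mkQ _).comp (LinearMap.proj i0)
    have hker : LinearMap.ker p ≤ LinearMap.ker ψ0 := by
      rw [← hG, Submodule.span_le]
      intro r hr
      exact (Submodule.Quotient.mk_eq_zero _).2 (Ideal.mem_span_singleton.2 (hdiv r hr))
    let ψ : M →ₗ[A] A ⧸ Ideal.span {a} :=
      (Submodule.liftQ _ ψ0 hker).comp (p.quotKerEquivOfSurjective hp).symm.toLinearMap
    have hψ : ∀ v, ψ (p v) = ψ0 v := by
      intro v
      have : (p.quotKerEquivOfSurjective hp).symm (p v) = Submodule.Quotient.mk v :=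
        (LinearEquiv.symm_apply_eq _).2 rfl
      simp [ψ, this]
    let φ : (A ⧸ Ideal.span {a}) →ₗ[A] M :=
      Submodule.liftQ _ (LinearMap.toSpanSingleton A M (p c)) (by
        rw [Ideal.span, Submodule.span_le, Set.singleton_subset_iff]
        exact hcx)
    have hφ1 : φ (Submodule.Quotient.mk 1) = p c := one_smul A (p c)
    have hfix : φ (ψ (p c)) = p c := by
      rw [hψ]
      show φ (Submodule.Quotient.mk (c i0)) = _
      rw [hc1, hφ1]
    let N := Submodule.span A {p c}
    let σ : (M ⧸ N) →ₗ[A] M := N.liftQ (LinearMap.id - φ ∘ₗ ψ) (by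
      rw [Submodule.span_le, Set.singleton_subset_iff]
      simp [hfix])
    have hid : (LinearMap.id : M →ₗ[A] M) = φ ∘ₗ ψ + σ ∘ₗ N.mkQ := LinearMap.ext fun m => by simp [σ]
    haveI : Module.FinitePresentation A (M ⧸ N) :=
      Module.finitePresentation_of_surjective N.mkQ N.mkQ_surjective (by
        rw [Submodule.ker_mkQ]; exact Submodule.fg_span_singleton _)
    have hgen : Submodule.span A (Set.range (N.mkQ ∘ x ∘ i0.succAbove)) = ⊤ := by
      rw [eq_top_iff, ← Submodule.range_mkQ N, LinearMap.range_eq_map, ← hx, Submodule.map_span,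
        Submodule.span_le]
      rintro _ ⟨_, ⟨j, rfl⟩, rfl⟩
      rcases eq_or_ne j i0 with rfl | hj
      · have h0 : N.mkQ (p c) = 0 := (Submodule.Quotient.mk_eq_zero _).2 (Submodule.mem_span_singleton_self _)
        rw [show p c = ∑ k, c k • x k from Fintype.linearCombination_apply A x c, map_sum,
          Fin.sum_univ_succAbove _ j, hc1, one_smul] at h0
        rw [eq_neg_of_add_eq_zero_left h0]
        refine neg_mem (Submodule.sum_mem _ fun k _ => ?_)
        rw [map_smul]
        exact Submodule.smul_mem _ _ (Submodule.subset_span ⟨k, rfl⟩)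
      · obtain ⟨k, rfl⟩ := Fin.exists_succAbove_eq hj
        exact Submodule.subset_span ⟨k, rfl⟩
    obtain ⟨m, fs, ⟨E⟩⟩ := ih (M ⧸ N) _ hgen
    have hsec : ∀ q, ψ (φ q) = q := by
      intro q
      obtain ⟨r, rfl⟩ := Submodule.Quotient.mk_surjective _ q
      show ψ (r • p c) = _
      rw [map_smul, hψ]
      show r • Submodule.Quotient.mk (c i0) = _
      rw [hc1, ← Submodule.Quotient.mk_smul, smul_eq_mul, mul_one]
    let F : M →ₗ[A] (A ⧸ Ideal.span {a}) × (M ⧸ N) := ψ.prod N.mkQ
    have hF : Function.Bijective F := by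
      constructor
      · rw [← LinearMap.ker_eq_bot, LinearMap.ker_eq_bot']
        intro v hv
        have h1 : v = φ (ψ v) + σ (N.mkQ v) := LinearMap.congr_fun hid v
        rw [show ψ v = 0 from congrArg Prod.fst hv, show N.mkQ v = 0 from congrArg Prod.snd hv, map_zero, map_zero, add_zero] at h1
        exact h1
      · rintro ⟨q, w⟩
        obtain ⟨v, rfl⟩ := N.mkQ_surjective w
        refine ⟨v + φ (q - ψ v), Prod.ext ?_ ?_⟩
        · show ψ (v + φ (q - ψ v)) = q
          rw [map_add, hsec, add_sub_cancel]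
        · show N.mkQ (v + φ (q - ψ v)) = N.mkQ v
          obtain ⟨r, hr⟩ := Submodule.Quotient.mk_surjective _ (q - ψ v)
          rw [map_add, ← hr]
          have h0 : N.mkQ (φ (Submodule.Quotient.mk r)) = 0 :=
            (Submodule.Quotient.mk_eq_zero _).2 (Submodule.smul_mem N r (Submodule.mem_span_singleton_self _))
          rw [h0, add_zero]
    refine ⟨m + 1, Fin.cons a fs, ⟨((LinearEquiv.ofBijective F hF).trans ((LinearEquiv.refl A _).prodCongr E)).trans
      (Fin.consLinearEquiv A (fun i => A ⧸ Ideal.span {(Fin.cons a fs : Fin (m + 1) → A) i}))⟩⟩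

end Groth.Agent.H6LocDvd
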