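import Mathlib

set_option autoImplicit false
set_option linter.all false
universe u

open Polynomial

namespace Groth.Agent.H6.LogPole

variable {R : Type u} [CommRing R] [IsDomain R] [Algebra ℂ R] {d r : ℕ} (θ : Fin r → R)

theorem isUnit_c (hθ : ∀ i k, i ≠ k → IsUnit (θ i - θ k)) (i : Fin r) :
    IsUnit (∏ k ∈ Finset.univ.erase i, (θ i - θ k)) :=
  IsUnit.prod_iff.2 fun k hk => hθ i k (Finset.ne_of_mem_erase hk).symm

theorem eval_prod_erase (i : Fin r) :
    (∏ k ∈ Finset.univ.erase i, (X - C (θ k))).eval (θ i) = ∏ k ∈ Finset.univ.erase i, (θ i - θ k) := by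
  simp [eval_prod]

theorem eval_prod_erase_ne {i k : Fin r} (h : k ≠ i) :
    (∏ k ∈ Finset.univ.erase i, (X - C (θ k))).eval (θ k) = 0 := by
  rw [eval_prod]
  exact Finset.prod_eq_zero (Finset.mem_erase.2 ⟨h, Finset.mem_univ k⟩) (by simp)

variable (Θ : R[X]) (hΘ : Θ = ∏ i, (X - C (θ i)))
include hΘ

theorem eval_Θ (i : Fin r) : Θ.eval (θ i) = 0 := by
  rw [hΘ, eval_prod]
  exact Finset.prod_eq_zero (Finset.mem_univ i) (by simp)

theorem eval_derivative_Θ (i : Fin r) :
    (derivative Θ).eval (θ i) = ∏ k ∈ Finset.univ.erase i, (θ i - θ k) := by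
  rw [hΘ, derivative_prod_finset, eval_finsetSum,
    Finset.sum_eq_single i (fun k _ hk => by rw [eval_mul, eval_prod_erase_ne θ hk.symm, zero_mul])
      (fun h => absurd (Finset.mem_univ i) h)]
  rw [eval_mul, eval_prod_erase]
  simp

theorem dvd_of_eval (hθ : ∀ i k, i ≠ k → IsUnit (θ i - θ k)) (p : R[X])
    (hp : ∀ i, p.eval (θ i) = 0) : Θ ∣ p := by
  rw [hΘ]
  exact Fintype.prod_dvd_of_coprime (fun i k h => isCoprime_X_sub_C_of_isUnit_sub (hθ i k h))
    fun i => dvd_iff_isRoot.2 (hp i)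

variable (D₀ : (Fin d → R[X]) →+ (Fin d → R[X]))
  (hD₀ : ∀ (p : R[X]) (v : Fin d → R[X]), D₀ (p • v) = (Θ * derivative p) • v + p • D₀ v)
  (Res : Fin r → ((Fin d → R) →ₗ[R] (Fin d → R)))
  (hRes : ∀ (i : Fin r) (m : Fin d → R) (j : Fin d),
    (D₀ (fun j => C (m j)) j).eval (θ i) = (∏ k ∈ Finset.univ.erase i, (θ i - θ k)) * Res i m j)
include hD₀ hRes

theorem eval_D₀ (u : Fin d → R[X]) (i : Fin r) (j : Fin d) :
    (D₀ u j).eval (θ i) =
      (∏ k ∈ Finset.univ.erase i, (θ i - θ k)) * Res i (fun l => (u l).eval (θ i)) j := by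
  classical
  let e : Fin d → Fin d → R := fun l => Pi.single l 1
  have hu : u = ∑ l, u l • fun j => C (e l j) := by
    funext j
    simp [e, Finset.sum_apply, Pi.single_apply, apply_ite C]
  have hv : (fun l => (u l).eval (θ i)) = ∑ l, (u l).eval (θ i) • e l := by
    funext j
    simp [e, Finset.sum_apply, Pi.single_apply]
  rw [hv, map_sum]
  conv_lhs => rw [hu, map_sum]
  simp only [hD₀, Finset.sum_apply, Pi.add_apply, Pi.smul_apply, smul_eq_mul, eval_finsetSum, eval_add,
    eval_mul, eval_Θ θ Θ hΘ, zero_mul, zero_add, hRes, map_smul, Finset.mul_sum]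
  exact Finset.sum_congr rfl fun l _ => by ring

theorem eval_op (u : Fin d → R[X]) (N : ℕ) (i : Fin r) (j : Fin d) :
    ((D₀ u - (C (N : R) * derivative Θ) • u) j).eval (θ i) =
      (∏ k ∈ Finset.univ.erase i, (θ i - θ k)) *
        (Res i - (N : R) • (LinearMap.id : (Fin d → R) →ₗ[R] (Fin d → R))) (fun l => (u l).eval (θ i)) j := by
  simp only [Pi.sub_apply, Pi.smul_apply, smul_eq_mul, eval_sub, eval_mul, eval_C,
    eval_D₀ θ Θ hΘ D₀ hD₀ Res hRes, eval_derivative_Θ θ Θ hΘ, LinearMap.sub_apply, LinearMap.smul_apply,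
    LinearMap.id_apply]
  ring

variable (hχ : ∀ i : Fin r, ∃ χ : ℂ[X], (Res i).charpoly = χ.map (algebraMap ℂ R) ∧
      ∀ n : ℤ, n ≠ 0 → χ.eval (n : ℂ) ≠ 0)
include hχ

omit hD₀ hRes hΘ in
theorem res_bijective {N : ℕ} (hN : N ≠ 0) (i : Fin r) :
    Function.Bijective (Res i - (N : R) • LinearMap.id : (Fin d → R) →ₗ[R] (Fin d → R)) := by
  obtain ⟨χ, h1, h2⟩ := hχ i
  have h3 : IsUnit ((Res i).charpoly.eval (N : R)) := by
    rw [h1, ← map_natCast (algebraMap ℂ R), eval_map, eval₂_hom]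
    exact (isUnit_iff_ne_zero.2 (by simpa using h2 N (by exact_mod_cast hN))).map _
  rw [LinearMap.eval_charpoly] at h3
  rw [← Module.End.isUnit_iff]
  have h4 : IsUnit (algebraMap R (Module.End R (Fin d → R)) (N : R) - Res i) :=
    (LinearMap.isUnit_iff_isUnit_det _).2 h3
  have h5 := h4.neg
  rw [neg_sub] at h5
  exact h5

theorem exists_preimage (hθ : ∀ i k, i ≠ k → IsUnit (θ i - θ k)) {N : ℕ} (hN : N ≠ 0) (v : Fin d → R[X]) :
    ∃ g h : Fin d → R[X], D₀ g - (C (N : R) * derivative Θ) • g = v + Θ • h := by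
  classical
  let c : Fin r → R := fun i => ∏ k ∈ Finset.univ.erase i, (θ i - θ k)
  choose m hm using fun i => (res_bijective Res hχ hN i).2
    (fun j => Ring.inverse (c i) * (v j).eval (θ i))
  let g : Fin d → R[X] := fun j => ∑ i, C (Ring.inverse (c i) * m i j) * ∏ k ∈ Finset.univ.erase i, (X - C (θ k))
  have hg : ∀ i, (fun l => (g l).eval (θ i)) = m i := fun i => funext fun l => by
    simp only [g, eval_finsetSum, eval_mul, eval_C]
    rw [Finset.sum_eq_single i (fun k _ hk => by rw [eval_prod_erase_ne θ hk.symm, mul_zero])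
      (fun h => absurd (Finset.mem_univ i) h), eval_prod_erase, mul_comm (Ring.inverse (c i)), mul_assoc,
      Ring.inverse_mul_cancel _ (isUnit_c θ hθ i), mul_one]
  have hd : ∀ j, Θ ∣ (D₀ g - (C (N : R) * derivative Θ) • g) j - v j := fun j =>
    dvd_of_eval θ Θ hΘ hθ _ fun i => by
      rw [eval_sub, eval_op θ Θ hΘ D₀ hD₀ Res hRes, hg, hm]
      simp [c, Ring.mul_inverse_cancel_left _ _ (isUnit_c θ hθ i)]
  choose h hh using hd
  exact ⟨g, h, funext fun j => by rw [Pi.add_apply, Pi.smul_apply, smul_eq_mul, ← hh]; ring⟩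

theorem dvd_of_op_dvd (hθ : ∀ i k, i ≠ k → IsUnit (θ i - θ k)) {N : ℕ} (hN : N ≠ 0) (u : Fin d → R[X])
    (h : ∀ j, Θ ∣ (D₀ u - (C (N : R) * derivative Θ) • u) j) (j : Fin d) : Θ ∣ u j := by
  refine dvd_of_eval θ Θ hΘ hθ _ fun i => ?_
  have h0 : (Res i - (N : R) • (LinearMap.id : (Fin d → R) →ₗ[R] (Fin d → R))) (fun l => (u l).eval (θ i)) = 0 := by
    funext l
    obtain ⟨q, hq⟩ := h l
    have := congrArg (eval (θ i)) hq
    rw [eval_op θ Θ hΘ D₀ hD₀ Res hRes, eval_mul, eval_Θ θ Θ hΘ, zero_mul] at this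
    exact (mul_eq_zero.1 this).resolve_left (isUnit_c θ hθ i).ne_zero
  exact congrFun ((res_bijective Res hχ hN i).1 (h0.trans (map_zero _).symm)) j

omit hD₀ hRes hΘ hχ in
theorem isUnit_pow_smul_inj (N : ℕ) {x y : Fin d → Localization.Away Θ} (h : Θ ^ N • x = Θ ^ N • y) : x = y := by
  funext j
  have := congrFun h j
  simp only [Pi.smul_apply, Algebra.smul_def, map_pow] at this
  exact ((IsLocalization.Away.algebraMap_isUnit Θ).pow N).mul_left_cancel this

omit hD₀ hRes hΘ hχ in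
theorem exists_smul_eq (w : Fin d → Localization.Away Θ) :
    ∃ (N : ℕ) (u : Fin d → R[X]), Θ ^ N • w = fun j => algebraMap R[X] (Localization.Away Θ) (u j) := by
  obtain ⟨⟨_, N, rfl⟩, hb⟩ := IsLocalization.exist_integer_multiples (Submonoid.powers Θ) Finset.univ w
  choose u hu using fun j => hb j (Finset.mem_univ j)
  exact ⟨N, u, funext fun j => (hu j).symm⟩

variable (D : (Fin d → Localization.Away Θ) →+ (Fin d → Localization.Away Θ))
  (hD : ∀ (p : R[X]) (w : Fin d → Localization.Away Θ), D (p • w) = (Θ * derivative p) • w + p • D w)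
  (hDD₀ : ∀ v : Fin d → R[X], D (fun j => algebraMap R[X] (Localization.Away Θ) (v j)) =
        fun j => algebraMap R[X] (Localization.Away Θ) (D₀ v j))
include hD hDD₀

omit hD₀ hRes hΘ hχ in
theorem pow_smul_D (N : ℕ) (w : Fin d → Localization.Away Θ) (u : Fin d → R[X])
    (h : Θ ^ N • w = fun j => algebraMap R[X] (Localization.Away Θ) (u j)) :
    Θ ^ N • D w = fun j => algebraMap R[X] (Localization.Away Θ) ((D₀ u - (C (N : R) * derivative Θ) • u) j) := by
  have h1 := hD (Θ ^ N) w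
  rw [h, hDD₀] at h1
  have h2 : (Θ * derivative (Θ ^ N)) • w = (C (N : R) * derivative Θ) • (Θ ^ N • w) := by
    rw [smul_smul]
    congr 1
    rcases N with _ | N
    · simp
    · rw [derivative_pow, Nat.add_sub_cancel, pow_succ]
      ring
  rw [h2, h] at h1
  funext j
  have := congrFun h1 j
  simp only [Pi.add_apply, Pi.smul_apply, Pi.sub_apply] at this ⊢
  simp only [Algebra.smul_def, map_sub, smul_eq_mul, map_mul, Algebra.algebraMap_self, RingHom.id_apply] at this ⊢
  rw [this]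
  ring

theorem surj (hθ : ∀ i k, i ≠ k → IsUnit (θ i - θ k)) (w : Fin d → Localization.Away Θ) :
    ∃ (w' : Fin d → Localization.Away Θ) (v : Fin d → R[X]),
      w = D w' + fun j => algebraMap R[X] (Localization.Away Θ) (v j) := by
  obtain ⟨N, u, h⟩ := exists_smul_eq Θ w
  induction N generalizing w u with
  | zero => exact ⟨0, u, by rw [map_zero, zero_add, ← h, pow_zero, one_smul]⟩
  | succ N ih =>
    obtain ⟨g, q, hg⟩ := exists_preimage θ Θ hΘ D₀ hD₀ Res hRes hχ hθ N.succ_ne_zero u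
    let w' : Fin d → Localization.Away Θ := fun j =>
      algebraMap R[X] (Localization.Away Θ) (g j) * (IsLocalization.Away.invSelf Θ) ^ (N + 1)
    have hw' : Θ ^ (N + 1) • w' = fun j => algebraMap R[X] (Localization.Away Θ) (g j) := funext fun j => by
      simp only [w', Pi.smul_apply, Algebra.smul_def, map_pow]
      rw [mul_left_comm, ← mul_pow, IsLocalization.Away.mul_invSelf, one_pow, mul_one]
    have hk := pow_smul_D Θ D₀ D hD hDD₀ (N + 1) w' g hw'
    rw [hg] at hk
    obtain ⟨w'', v, hv⟩ := ih (w - D w') (-q) (isUnit_pow_smul_inj Θ 1 (by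
      rw [pow_one, smul_smul, ← pow_succ', smul_sub, hk, h]
      funext j
      simp [Algebra.smul_def]))
    exact ⟨w' + w'', v, by rw [map_add, add_assoc, ← hv]; abel⟩

theorem inj (hθ : ∀ i k, i ≠ k → IsUnit (θ i - θ k)) (f : Fin d → Localization.Away Θ)
    (hf : ∃ v : Fin d → R[X], D f = fun j => algebraMap R[X] (Localization.Away Θ) (v j)) :
    ∃ v : Fin d → R[X], f = fun j => algebraMap R[X] (Localization.Away Θ) (v j) := by
  obtain ⟨v, hv⟩ := hf
  obtain ⟨N, u, h⟩ := exists_smul_eq Θ f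
  have hΘ0 : Θ ≠ 0 := hΘ ▸ (monic_prod_X_sub_C θ Finset.univ).ne_zero
  have hi : Function.Injective (algebraMap R[X] (Localization.Away Θ)) :=
    IsLocalization.injective _ (powers_le_nonZeroDivisors_of_noZeroDivisors hΘ0)
  induction N generalizing u with
  | zero => exact ⟨u, by rw [← h, pow_zero, one_smul]⟩
  | succ N ih =>
    have hk := pow_smul_D Θ D₀ D hD hDD₀ (N + 1) f u h
    have hd := dvd_of_op_dvd θ Θ hΘ D₀ hD₀ Res hRes hχ hθ N.succ_ne_zero u fun j => by
      have := congrFun hk j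
      rw [hv, Pi.smul_apply, Algebra.smul_def, ← map_mul] at this
      exact ⟨Θ ^ N * v j, by rw [← hi this, pow_succ']; ring⟩
    choose q hq using hd
    refine ih q (isUnit_pow_smul_inj Θ 1 ?_)
    rw [pow_one, smul_smul, ← pow_succ', h]
    funext j
    simp [Algebra.smul_def, hq]

end Groth.Agent.H6.LogPole
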