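import Groth.Agent.Lib.H6.DVRVal
import Groth.Agent.Lib.H6.DVRDom3
import Groth.Agent.Lib.H6.SubtrVal
import Mathlib.AlgebraicGeometry.Morphisms.UniversallyInjective
import Mathlib.LinearAlgebra.Dual.Lemmas

set_option linter.all false
set_option autoImplicit false
set_option backward.isDefEq.respectTransparency.types false

/-! Monomorphisms: residue fields, field points, valuative lifting with a prescribed residue point. -/

namespace Groth.Agent.H6.MonoVal

universe u

open CategoryTheory CategoryTheory.Limits AlgebraicGeometry IsLocalRing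
open scoped TensorProduct

theorem mem_range_of_tmul_eq {k L : Type u} [Field k] [CommRing L] [Nontrivial L] [Algebra k L] (b : L)
    (h : (b ⊗ₜ[k] (1 : L) : L ⊗[k] L) = (1 : L) ⊗ₜ[k] b) : ∃ c, algebraMap k L c = b := by
  by_contra hb
  have hmem : b ∉ Submodule.span k {(1 : L)} := fun hm => by
    obtain ⟨c, hc⟩ := Submodule.mem_span_singleton.1 hm
    exact hb ⟨c, by rw [← hc, Algebra.smul_def, mul_one]⟩
  obtain ⟨φ, hφb, hφ⟩ := Submodule.exists_dual_map_eq_bot_of_notMem hmem inferInstance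
  have h1 : φ (1 : L) = 0 := by
    have : φ (1 : L) ∈ (Submodule.span k {(1 : L)}).map φ := ⟨1, Submodule.mem_span_singleton_self _, rfl⟩
    rwa [hφ, Submodule.mem_bot] at this
  have h3 := congrArg ((TensorProduct.lid k L).toLinearMap ∘ₗ φ.rTensor L) h
  simp only [LinearMap.comp_apply, LinearEquiv.coe_coe, LinearMap.rTensor_tmul, TensorProduct.lid_tmul] at h3
  rw [h1, zero_smul, Algebra.smul_def, mul_one] at h3
  exact hφb ((algebraMap k L).injective (h3.trans (map_zero _).symm))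

theorem surjective_of_mono_point {X Y : Scheme.{u}} (f : Y ⟶ X) [Mono f] (k L : Type u) [Field k] [Field L] [Algebra k L]
    (q : Spec (CommRingCat.of k) ⟶ X) (p : Spec (CommRingCat.of L) ⟶ Y) [Mono p]
    (h : p ≫ f = Spec.map (CommRingCat.ofHom (algebraMap k L)) ≫ q) : Function.Surjective (algebraMap k L) := fun b => by
  let i₁ : CommRingCat.of L ⟶ CommRingCat.of (L ⊗[k] L) := CommRingCat.ofHom Algebra.TensorProduct.includeLeftRingHom
  let i₂ : CommRingCat.of L ⟶ CommRingCat.of (L ⊗[k] L) :=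
    CommRingCat.ofHom (Algebra.TensorProduct.includeRight (R := k) (A := L) (B := L)).toRingHom
  have hk : CommRingCat.ofHom (algebraMap k L) ≫ i₁ = CommRingCat.ofHom (algebraMap k L) ≫ i₂ := by
    ext c
    exact ((Algebra.TensorProduct.includeLeft (R := k) (S := k) (A := L) (B := L)).commutes c).trans
      ((Algebra.TensorProduct.includeRight (R := k) (A := L) (B := L)).commutes c).symm
  have h' : i₁ = i₂ := by
    apply Spec.map_injective
    rw [← cancel_mono p, ← cancel_mono f, Category.assoc, Category.assoc, h, ← Spec.map_comp_assoc, ← Spec.map_comp_assoc, hk]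
  exact mem_range_of_tmul_eq b (congrArg (fun g => g.hom b) h')

theorem residueFieldMap_bijective {X Y : Scheme.{u}} (f : Y ⟶ X) [Mono f] (y : Y) :
    Function.Bijective (f.residueFieldMap y).hom :=
  ⟨(f.residueFieldMap y).hom.injective,
    @surjective_of_mono_point X Y f _ (X.residueField (f y)) (Y.residueField y) _ _ (f.residueFieldMap y).hom.toAlgebra
      (X.fromSpecResidueField (f y)) (Y.fromSpecResidueField y) (inferInstanceAs (Mono (Y.fromSpecResidueField y)))
      (Scheme.Hom.SpecMap_residueFieldMap_fromSpecResidueField f y).symm⟩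

/-- a field point over `f y` lifts -/
theorem exists_lift_field {X Y : Scheme.{u}} (f : Y ⟶ X) [Mono f] {L : Type u} [Field L]
    (p : Spec (CommRingCat.of L) ⟶ X) (y : Y) (h : p (closedPoint L) = f y) :
    ∃ l : Spec (CommRingCat.of L) ⟶ Y, l ≫ f = p ∧ l (closedPoint L) = y := by
  obtain ⟨⟨x, φ⟩, rfl⟩ := (Scheme.SpecToEquivOfField L X).symm.surjective p
  rw [Scheme.SpecToEquivOfField_symm_apply] at h ⊢
  rw [Scheme.Hom.comp_apply, Scheme.fromSpecResidueField_apply] at h
  obtain rfl : x = f y := h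
  haveI : IsIso (f.residueFieldMap y) :=
    (ConcreteCategory.isIso_iff_bijective _).2 (residueFieldMap_bijective f y)
  refine ⟨Spec.map (inv (f.residueFieldMap y) ≫ φ) ≫ Y.fromSpecResidueField y, ?_, ?_⟩
  · rw [Category.assoc, ← Scheme.Hom.SpecMap_residueFieldMap_fromSpecResidueField, ← Spec.map_comp_assoc,
      IsIso.hom_inv_id_assoc]
  · rw [Scheme.Hom.comp_apply, Scheme.fromSpecResidueField_apply]

theorem exists_residue_lift {X Y : Scheme.{u}} (f : Y ⟶ X) [Mono f] {R : Type u} [CommRing R] [IsLocalRing R]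
    (g : Spec (CommRingCat.of R) ⟶ X) (y : Y) (h : g (closedPoint R) = f y) :
    ∃ l₀ : Spec (CommRingCat.of (ResidueField R)) ⟶ Y,
      l₀ ≫ f = Spec.map (CommRingCat.ofHom (residue R)) ≫ g := by
  obtain ⟨l, hl, -⟩ := exists_lift_field f (Spec.map (CommRingCat.ofHom (residue R)) ≫ g) y (by
    rw [Scheme.Hom.comp_apply, ← h]
    congr 1
    exact PrimeSpectrum.comap_residue _ _)
  exact ⟨l, hl⟩

/-- liftings along a monomorphism: the upper triangle is automatic -/
theorem hasLift_of_exists {X Y : Scheme.{u}} {f : Y ⟶ X} [Mono f] (S : ValuativeCommSq f)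
    (l : Spec (CommRingCat.of S.R) ⟶ Y) (hl : l ≫ f = S.i₂) : S.commSq.HasLift :=
  ⟨⟨⟨l, (cancel_mono f).1 (by rw [Category.assoc, hl]; exact S.commSq.w.symm), hl⟩⟩⟩

theorem evaluation_fromSpec {X : Scheme.{u}} {W : X.Opens} (hW : IsAffineOpen W) (x : X) (hx : x ∈ W) :
    Spec.map (X.evaluation W x hx) ≫ hW.fromSpec = X.fromSpecResidueField x := by
  rw [Scheme.fromSpecResidueField, ← IsAffineOpen.fromSpecStalk_eq_fromSpecStalk hW hx, ← Scheme.germ_residue,
    Spec.map_comp, Category.assoc]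
  rfl

theorem exists_fraction {X : Scheme.{u}} {W : X.Opens} (hW : IsAffineOpen W) (x : X) (hx : x ∈ W)
    (z : X.residueField x) : ∃ a b, z = X.evaluation W x hx a / X.evaluation W x hx b := by
  obtain ⟨t, ht⟩ := X.residue_surjective x z
  letI := TopCat.Presheaf.algebra_section_stalk X.presheaf ⟨x, hx⟩
  haveI := hW.isLocalization_stalk ⟨x, hx⟩
  obtain ⟨a, b, hab⟩ := IsLocalization.exists_mk'_eq (hW.primeIdealOf ⟨x, hx⟩).asIdeal.primeCompl t
  refine ⟨a, b, ?_⟩
  have hu : IsUnit (X.presheaf.germ W x hx (b : Γ(X, W))) := IsLocalization.map_units (X.presheaf.stalk x) b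
  rw [eq_div_iff (show X.evaluation W x hx (b : Γ(X, W)) ≠ 0 from (hu.map (X.residue x).hom).ne_zero), ← ht, ← hab]
  show X.residue x _ * X.residue x _ = X.residue x _
  rw [← map_mul]
  congr 1
  exact IsLocalization.mk'_spec _ a b

theorem exists_valuativeLift {X Y : Scheme.{u}} [IsLocallyNoetherian X] (f : Y ⟶ X) [Mono f]
    (H : ∀ S : ValuativeCommSq f, IsDiscreteValuationRing S.R →
        (∃ l₀ : Spec (CommRingCat.of (ResidueField S.R)) ⟶ Y,
            l₀ ≫ f = Spec.map (CommRingCat.ofHom (residue S.R)) ≫ S.i₂) →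
          S.commSq.HasLift)
    (S : ValuativeCommSq f) (y₀ : Y) (hy₀ : S.i₂ (closedPoint S.R) = f y₀) : S.commSq.HasLift := by
  let x₁ := S.i₂ (Spec.map (CommRingCat.ofHom (algebraMap S.R S.K)) (closedPoint S.K))
  have hx₁ : x₁ = f (S.i₁ (closedPoint S.K)) := by
    rw [← Scheme.Hom.comp_apply, S.commSq.w, Scheme.Hom.comp_apply]
  have hsp : x₁ ⤳ f y₀ := hy₀ ▸ (IsLocalRing.specializes_closedPoint (R := S.R) _).map S.i₂.continuous
  obtain ⟨W, hW, hyW, -⟩ := exists_isAffineOpen_mem_and_subset (X := X) (x := f y₀) (U := ⊤) trivial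
  obtain ⟨a, ha⟩ := DVRVal.exists_factor hW S.i₂ (DVRVal.mem_of_closed S.i₂ (hy₀ ▸ hyW))
  haveI : IsNoetherianRing Γ(X, W) := IsLocallyNoetherian.component_noetherian ⟨W, hW⟩
  have hinjK := IsFractionRing.injective S.R S.K
  have hxW : x₁ ∈ W := hsp.mem_open W.isOpen hyW
  -- the map κ(x₁) → K
  obtain ⟨⟨x, ι⟩, hι'⟩ := (Scheme.SpecToEquivOfField S.K X).symm.surjective
    (Spec.map (CommRingCat.ofHom (algebraMap S.R S.K)) ≫ S.i₂)
  rw [Scheme.SpecToEquivOfField_symm_apply] at hι'
  obtain rfl : x = x₁ := by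
    have := congrArg (fun g : Spec (CommRingCat.of S.K) ⟶ X => g (closedPoint S.K)) hι'
    simp only [Scheme.Hom.comp_apply, Scheme.fromSpecResidueField_apply] at this
    exact this
  have hι : Spec.map ι ≫ X.fromSpecResidueField x₁ = Spec.map (CommRingCat.ofHom (algebraMap S.R S.K)) ≫ S.i₂ := hι'
  let e : Γ(X, W) ⟶ X.residueField x₁ := X.evaluation W x₁ hxW
  have he : Spec.map e ≫ hW.fromSpec = X.fromSpecResidueField x₁ := evaluation_fromSpec hW x₁ hxW
  have hcompat : ∀ c, ι (e c) = algebraMap S.R S.K (a c) := fun c => by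
    have : e ≫ ι = a ≫ CommRingCat.ofHom (algebraMap S.R S.K) := by
      apply DVRVal.factor_unique hW
      rw [Spec.map_comp, Category.assoc, he, hι, Spec.map_comp, Category.assoc, ha]
    exact congrArg (fun k => k.hom c) this
  by_cases hne : x₁ = f y₀
  · -- the square factors through the residue field of `f y₀`
    have key : ∀ z : X.residueField x₁, ∃ r, algebraMap S.R S.K r = ι z := fun z => by
      obtain ⟨c, d, rfl⟩ := exists_fraction hW x₁ hxW z
      by_cases hd : e d = 0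
      · refine ⟨0, ?_⟩
        show algebraMap S.R S.K 0 = ι.hom (e c / e d)
        rw [hd, div_zero, map_zero, map_zero]
      have hu : IsUnit (a d) := by
        by_contra hn
        have h1 : x₁ ∉ X.basicOpen d := fun hmem => by
          have h2 : S.i₂ (closedPoint S.R) ∈ X.basicOpen d := by rw [hy₀, ← hne]; exact hmem
          rw [← ha, Scheme.Hom.comp_apply] at h2
          change Spec.map a (closedPoint S.R) ∈ hW.fromSpec ⁻¹ᵁ X.basicOpen d at h2
          rw [hW.fromSpec_preimage_basicOpen] at h2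
          exact h2 ((mem_maximalIdeal (a d)).2 hn)
        exact hd ((X.evaluation_eq_zero_iff_notMem_basicOpen x₁ hxW d).2 h1)
      obtain ⟨v, hv⟩ := hu
      refine ⟨a c * ↑v⁻¹, ?_⟩
      show _ = ι.hom (e c / e d)
      rw [map_div₀, eq_div_iff (fun h => hd (ι.hom.injective (h.trans (map_zero _).symm)))]
      erw [hcompat, hcompat]
      rw [← hv, ← map_mul, mul_assoc, Units.inv_mul, mul_one]
    choose γ hγ using key
    let γ' : X.residueField x₁ →+* S.R :=
      { toFun := γ
        map_one' := hinjK (by rw [hγ, map_one, map_one])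
        map_mul' := fun p q => hinjK (by rw [hγ, map_mul, map_mul, hγ, hγ])
        map_zero' := hinjK (by rw [hγ, map_zero, map_zero])
        map_add' := fun p q => hinjK (by rw [hγ, map_add, map_add, hγ, hγ]) }
    obtain ⟨l, hl, -⟩ := exists_lift_field (L := X.residueField x₁) f (X.fromSpecResidueField x₁) y₀
      ((Scheme.fromSpecResidueField_apply x₁ _).trans hne)
    refine hasLift_of_exists S (Spec.map (CommRingCat.ofHom γ') ≫ l) ?_
    rw [Category.assoc]
    erw [hl]
    rw [← he, ← Spec.map_comp_assoc, ← ha]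
    congr 2
    ext c
    exact hinjK ((hγ _).trans (hcompat c))
  -- generic case
  obtain ⟨j₁, hj₁, hj₁y⟩ := exists_lift_field (L := X.residueField x₁) f (X.fromSpecResidueField x₁) (S.i₁ (closedPoint S.K))
    ((Scheme.fromSpecResidueField_apply x₁ _).trans hx₁)
  have hdvr : ∀ (V : ValuationSubring (X.residueField x₁)), IsDiscreteValuationRing V →
      ∀ g : Spec (CommRingCat.of V) ⟶ X, g (closedPoint V) = f y₀ →
        Spec.map (CommRingCat.ofHom V.subtype) ≫ g = X.fromSpecResidueField x₁ →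
        ∃ l : Spec (CommRingCat.of V) ⟶ Y, l (closedPoint V) = y₀ ∧ l ≫ f = g ∧
          Spec.map (CommRingCat.ofHom V.subtype) ≫ l = j₁ := by
    intro V hV g hg hgK
    obtain ⟨⟨l, hl₁', hl₂'⟩⟩ := (H ⟨V, X.residueField x₁, j₁, g, ⟨hj₁.trans hgK.symm⟩⟩ hV
      (exists_residue_lift f g y₀ hg)).exists_lift
    have hl₂ : l ≫ f = g := hl₂'
    refine ⟨l, f.injective ?_, hl₂, hl₁'⟩
    rw [← Scheme.Hom.comp_apply, hl₂, hg]
  obtain ⟨U, hU, hyU, hUW⟩ := exists_isAffineOpen_mem_and_subset (X := Y) (x := y₀) (U := f ⁻¹ᵁ W) hyW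
  obtain ⟨V₁, hV₁, g₁, hg₁, hg₁K⟩ := DVRDom.exists_dvr_pair hsp hne (X.residueField x₁) (𝟙 _)
    (RingHom.FiniteType.of_surjective (RingHom.id (X.residueField x₁)) Function.surjective_id).essFiniteType
  rw [Spec.map_id] at hg₁K
  erw [Category.id_comp] at hg₁K
  obtain ⟨l₁, hl₁c, -, hl₁K⟩ := hdvr V₁ hV₁ g₁ hg₁ hg₁K
  have hj₁U : ∀ p, j₁ p ∈ U := fun p => by
    rw [← hl₁K, Scheme.Hom.comp_apply]
    exact DVRVal.mem_of_closed l₁ (hl₁c ▸ hyU) _
  obtain ⟨β, hβ⟩ := DVRVal.exists_factor hU j₁ hj₁U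
  have hle : U ≤ f ⁻¹ᵁ W := hUW
  have hβe : ∀ c, β (f.appLE W U hle c) = e c := fun c => by
    have : f.appLE W U hle ≫ β = e := by
      apply DVRVal.factor_unique hW
      rw [Spec.map_comp, Category.assoc, hW.SpecMap_appLE_fromSpec f hU hle, ← Category.assoc, hβ, hj₁, he]
    exact congrArg (fun k => k.hom c) this
  by_cases hall : ∀ b, ∃ r, algebraMap S.R S.K r = ι (β b)
  · choose θ hθ using hall
    let θ' : Γ(Y, U) →+* S.R :=
      { toFun := θ
        map_one' := hinjK (by rw [hθ, map_one, map_one, map_one])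
        map_mul' := fun p q => hinjK (by rw [hθ, map_mul, map_mul, map_mul, hθ, hθ])
        map_zero' := hinjK (by rw [hθ, map_zero, map_zero, map_zero])
        map_add' := fun p q => hinjK (by rw [hθ, map_add, map_add, map_add, hθ, hθ]) }
    refine hasLift_of_exists S (Spec.map (CommRingCat.ofHom θ') ≫ hU.fromSpec) ?_
    rw [Category.assoc, ← hW.SpecMap_appLE_fromSpec f hU hle, ← Spec.map_comp_assoc, ← ha]
    congr 2
    ext c
    exact hinjK ((hθ _).trans ((congrArg _ (hβe c)).trans (hcompat c)))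
  exfalso
  push Not at hall
  obtain ⟨b, hb⟩ := hall
  have hb0 : β.hom b ≠ 0 := fun h => hb 0 ((map_zero _).trans ((congrArg ι.hom h).trans (map_zero _)).symm)
  let t : X.residueField x₁ := (β.hom b)⁻¹
  obtain ⟨r₀, hr₀, hr₀m⟩ : ∃ r₀, algebraMap S.R S.K r₀ = ι.hom t ∧ r₀ ∈ maximalIdeal S.R := by
    rcases ValuationRing.isInteger_or_isInteger S.R (ι.hom (β.hom b)) with ⟨r, hr⟩ | ⟨r, hr⟩
    · exact absurd hr (hb r)
    · refine ⟨r, hr.trans (map_inv₀ ι.hom _).symm, (mem_maximalIdeal r).2 fun hu => ?_⟩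
      obtain ⟨v, hv⟩ := hu
      refine hb ↑v⁻¹ ?_
      have : algebraMap S.R S.K ↑v⁻¹ = (algebraMap S.R S.K r)⁻¹ :=
        eq_inv_of_mul_eq_one_left (by rw [← map_mul, ← hv, Units.inv_mul, map_one])
      rw [this, hr, inv_inv]
  letI : Algebra Γ(X, W) (X.residueField x₁) := e.hom.toAlgebra
  let R₀ : Subalgebra Γ(X, W) (X.residueField x₁) := Algebra.adjoin Γ(X, W) {t}
  have hR₀ : ∀ z ∈ R₀, ∃ r, algebraMap S.R S.K r = ι.hom z := fun z hz => by
    induction hz using Algebra.adjoin_induction with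
    | mem y hy => exact ⟨r₀, (Set.mem_singleton_iff.1 hy) ▸ hr₀⟩
    | algebraMap c => exact ⟨a c, (hcompat c).symm⟩
    | add y z _ _ hy hz =>
      obtain ⟨r, hr⟩ := hy; obtain ⟨s, hs⟩ := hz
      exact ⟨r + s, by rw [map_add, map_add, hr, hs]⟩
    | mul y z _ _ hy hz =>
      obtain ⟨r, hr⟩ := hy; obtain ⟨s, hs⟩ := hz
      exact ⟨r * s, by rw [map_mul, map_mul, hr, hs]⟩
  choose ψ hψ using hR₀
  let ψ' : R₀ →+* S.R :=
    { toFun := fun z => ψ z.1 z.2
      map_one' := hinjK (by rw [hψ]; simp)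
      map_mul' := fun p q => hinjK (by rw [hψ, map_mul, hψ, hψ]; simp)
      map_zero' := hinjK (by rw [hψ]; simp)
      map_add' := fun p q => hinjK (by rw [hψ, map_add, hψ, hψ]; simp) }
  have hψ' : ∀ z : R₀, algebraMap S.R S.K (ψ' z) = ι.hom z := fun z => hψ z.1 z.2
  haveI : IsNoetherianRing R₀ := isNoetherianRing_of_fg (Subalgebra.fg_def.2 ⟨{t}, Set.finite_singleton t, rfl⟩)
  let q : Ideal R₀ := (maximalIdeal S.R).comap ψ'
  haveI : q.IsPrime := Ideal.comap_isPrime _ _
  let T := Localization.AtPrime q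
  haveI : IsNoetherianRing T := IsLocalization.isNoetherianRing q.primeCompl T inferInstance
  let ρ : T →+* X.residueField x₁ := IsLocalization.lift (M := q.primeCompl) (S := T) (g := R₀.val.toRingHom)
    (fun y => isUnit_iff_ne_zero.2 fun h => y.2 (by
      show ψ' y.1 ∈ maximalIdeal S.R
      rw [show (y.1 : R₀) = 0 from Subtype.val_injective h, map_zero]
      exact zero_mem _))
  have hρ : ∀ r : R₀, ρ (algebraMap R₀ T r) = r.1 := fun r => IsLocalization.lift_eq _ r
  have hρinj : Function.Injective ρ := (IsLocalization.lift_injective_iff _).2 fun p r => by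
    constructor
    · intro h; exact congrArg R₀.val ((IsLocalization.injective T q.primeCompl_le_nonZeroDivisors) h)
    · intro h; exact congrArg _ (Subtype.val_injective h)
  letI : Algebra T (X.residueField x₁) := ρ.toAlgebra
  haveI : FaithfulSMul T (X.residueField x₁) := (faithfulSMul_iff_algebraMap_injective _ _).2 hρinj
  haveI : IsFractionRing T (X.residueField x₁) := IsFractionRing.of_field T _ fun z => by
    obtain ⟨c, d, hz⟩ := exists_fraction hW x₁ hxW z
    refine ⟨algebraMap R₀ T (algebraMap _ R₀ c), algebraMap R₀ T (algebraMap _ R₀ d), ?_⟩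
    show z = ρ _ / ρ _
    rw [hρ, hρ]
    exact hz
  let t' : R₀ := ⟨t, Algebra.subset_adjoin rfl⟩
  have htq : t' ∈ q := by
    show ψ' t' ∈ maximalIdeal S.R
    rwa [hinjK ((hψ' t').trans hr₀.symm)]
  have htm : algebraMap R₀ T t' ∈ maximalIdeal T := (IsLocalization.AtPrime.to_map_mem_maximal_iff T q _).2 htq
  have hTne : ¬ IsField T := by
    rw [isField_iff_maximalIdeal_eq]
    intro h
    rw [h, Submodule.mem_bot] at htm
    have h2 := congrArg ρ htm
    rw [hρ, map_zero] at h2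
    exact inv_ne_zero hb0 h2
  obtain ⟨V, hV, hTV, hTm⟩ := DVRDom.exists_dvr (R := T) (X.residueField x₁) (X.residueField x₁) hTne
  have htV : ∀ r : R₀, r.1 ∈ V := fun r => hρ r ▸ hTV (algebraMap R₀ T r)
  let aV : Γ(X, W) ⟶ CommRingCat.of V :=
    CommRingCat.ofHom (e.hom.codRestrict V.toSubring fun c => htV (algebraMap _ R₀ c))
  have haV : Spec.map (CommRingCat.ofHom V.subtype) ≫ Spec.map aV ≫ hW.fromSpec = X.fromSpecResidueField x₁ := by
    rw [← Spec.map_comp_assoc, ← he]
    rfl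
  have hclosed : Spec.map aV (closedPoint V) = Spec.map a (closedPoint S.R) := by
    refine PrimeSpectrum.ext (Ideal.ext fun c => ?_)
    show aV.hom c ∈ maximalIdeal V ↔ a.hom c ∈ maximalIdeal S.R
    have h1 : a.hom c = ψ' (algebraMap _ R₀ c) := hinjK ((hcompat c).symm.trans (hψ' (algebraMap Γ(X, W) R₀ c)).symm)
    rw [h1, ← Ideal.mem_comap (f := ψ')]
    change _ ↔ algebraMap Γ(X, W) R₀ c ∈ q
    rw [← IsLocalization.AtPrime.to_map_mem_maximal_iff T q]
    constructor
    · intro h2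
      by_contra h3
      rw [mem_maximalIdeal, mem_nonunits_iff, not_not] at h3
      obtain ⟨v, hv⟩ := h3
      refine (mem_maximalIdeal _).1 h2 (IsUnit.of_mul_eq_one (b := ⟨ρ ↑v⁻¹, hTV _⟩) (Subtype.ext ?_))
      show e.hom c * ρ ↑v⁻¹ = 1
      rw [show e.hom c = ρ v by rw [hv, hρ]; rfl, ← map_mul, Units.mul_inv, map_one]
    · intro h2
      have h3 := hTm _ h2
      rw [show algebraMap T (X.residueField x₁) (algebraMap R₀ T (algebraMap _ R₀ c)) = e.hom c from hρ _,
        ValuationSubring.mem_nonunits_iff_exists_mem_maximalIdeal] at h3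
      obtain ⟨_, h4⟩ := h3
      exact h4
  have hcl : (Spec.map aV ≫ hW.fromSpec) (closedPoint V) = f y₀ := by
    rw [Scheme.Hom.comp_apply, hclosed, ← Scheme.Hom.comp_apply, ha, hy₀]
  obtain ⟨l, hlc, -, hlK⟩ := hdvr V hV _ hcl haV
  obtain ⟨θ, hθ⟩ := DVRVal.exists_factor hU l (DVRVal.mem_of_closed l (hlc ▸ hyU))
  have hβθ : θ ≫ CommRingCat.ofHom V.subtype = β := by
    apply DVRVal.factor_unique hU
    rw [Spec.map_comp, Category.assoc, hθ, hlK, hβ]
  have hbV : β.hom b ∈ V := by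
    rw [← hβθ]
    exact (θ.hom b).2
  have h5 : t ∈ V.nonunits := by
    have := hTm _ htm
    rwa [show algebraMap T (X.residueField x₁) (algebraMap R₀ T t') = t from hρ t'] at this
  obtain ⟨htV', h6⟩ := ValuationSubring.mem_nonunits_iff_exists_mem_maximalIdeal.1 h5
  refine (mem_maximalIdeal _).1 h6 (IsUnit.of_mul_eq_one (b := ⟨_, hbV⟩) (Subtype.ext ?_))
  exact inv_mul_cancel₀ hb0

theorem reflects_of_lift {X Y : Scheme.{u}} (f : Y ⟶ X) [Mono f]
    (H : ∀ (S : ValuativeCommSq f) (y₀ : Y), S.i₂ (closedPoint S.R) = f y₀ → S.commSq.HasLift)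
    (X' : Scheme.{u}) (g : X' ⟶ X) (p₀ p₁ : ↥(pullback f g))
    (h : (pullback.snd f g) p₁ ⤳ (pullback.snd f g) p₀) : p₁ ⤳ p₀ := by
  obtain ⟨V, _, _, _, t, ht, ht'⟩ := SubtrVal.exists_valuationRing_pair h
  let K := FractionRing V
  have hgen : Spec.map (CommRingCat.ofHom (algebraMap V K)) (closedPoint K) = SubtrVal.gen V := by
    refine PrimeSpectrum.ext ?_
    show (closedPoint K).asIdeal.comap (algebraMap V K) = ⊥
    rw [show (closedPoint K).asIdeal = ⊥ from maximalIdeal_eq_bot, ← RingHom.ker_eq_comap_bot]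
    exact (RingHom.injective_iff_ker_eq_bot _).1 (IsFractionRing.injective V K)
  obtain ⟨j, hj, hjp⟩ := exists_lift_field (pullback.snd f g) (Spec.map (CommRingCat.ofHom (algebraMap V K)) ≫ t) p₁
    (by rw [Scheme.Hom.comp_apply, hgen, ht'])
  have hw : (j ≫ pullback.fst f g) ≫ f = Spec.map (CommRingCat.ofHom (algebraMap V K)) ≫ t ≫ g := by
    rw [Category.assoc, pullback.condition, ← Category.assoc, hj, Category.assoc]
  have hc : (t ≫ g) (closedPoint V) = f (pullback.fst f g p₀) := by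
    rw [Scheme.Hom.comp_apply]
    erw [ht]
    rw [← Scheme.Hom.comp_apply, ← Scheme.Hom.comp_apply, pullback.condition]
  obtain ⟨⟨l, -, hl'⟩⟩ := (H ⟨V, K, j ≫ pullback.fst f g, t ≫ g, ⟨hw⟩⟩ _ hc).exists_lift
  have hl : l ≫ f = t ≫ g := hl'
  let m : Spec (CommRingCat.of V) ⟶ pullback f g := pullback.lift l t hl
  have hm : ∀ v, pullback.snd f g (m v) = t v := fun v => by
    rw [← Scheme.Hom.comp_apply, pullback.lift_snd]
  have h0 : m (SubtrVal.cl V) = p₀ := (pullback.snd f g).injective ((hm _).trans ht)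
  have h1 : m (SubtrVal.gen V) = p₁ := (pullback.snd f g).injective ((hm _).trans ht')
  exact h0 ▸ h1 ▸ (SubtrVal.gen_specializes V (SubtrVal.cl V)).map m.continuous

theorem lift_of_reflects {X Y : Scheme.{u}} (f : Y ⟶ X) [Mono f]
    (h : ∀ (X' : Scheme.{u}) (g : X' ⟶ X) (p₀ p₁ : ↥(pullback f g)),
        (pullback.snd f g) p₁ ⤳ (pullback.snd f g) p₀ → p₁ ⤳ p₀)
    (S : ValuativeCommSq f) (y₀ : Y) (hy₀ : S.i₂ (closedPoint S.R) = f y₀) : S.commSq.HasLift := by
  let j : Spec (CommRingCat.of S.K) ⟶ pullback f S.i₂ := pullback.lift S.i₁ (Spec.map (CommRingCat.ofHom (algebraMap S.R S.K))) S.commSq.w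
  obtain ⟨p₀, hp₀y, hp₀⟩ := Scheme.Pullback.exists_preimage_pullback y₀ (closedPoint S.R) (f := f) (g := S.i₂) hy₀.symm
  have hp : j (closedPoint S.K) ⤳ p₀ := h _ S.i₂ _ _ (by
    rw [hp₀, ← Scheme.Hom.comp_apply, pullback.lift_snd]
    exact IsLocalRing.specializes_closedPoint (R := S.R) _)
  obtain ⟨V, _, _, _, t, ht, ht'⟩ := SubtrVal.exists_valuationRing_pair hp
  let φ : CommRingCat.of S.R ⟶ CommRingCat.of V := Spec.preimage (t ≫ pullback.snd f S.i₂)
  have hφs : Spec.map φ = t ≫ pullback.snd f S.i₂ := Spec.map_preimage _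
  have hφc : Spec.map φ (closedPoint V) = closedPoint S.R := by
    rw [hφs, Scheme.Hom.comp_apply, ← hp₀]
    exact congrArg _ ht
  have hloc : ∀ r, r ∈ maximalIdeal S.R → φ r ∈ maximalIdeal V := fun r hr => by
    have : (closedPoint S.R).asIdeal ≤ (Spec.map φ (closedPoint V) : PrimeSpectrum S.R).asIdeal := hφc ▸ le_rfl
    exact this hr
  have hinj : Function.Injective φ.hom := by
    rw [RingHom.injective_iff_ker_eq_bot, RingHom.ker_eq_comap_bot]
    have h1 : Spec.map φ (SubtrVal.gen V) = Spec.map (CommRingCat.ofHom (algebraMap S.R S.K)) (closedPoint S.K) := by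
      rw [hφs, Scheme.Hom.comp_apply, ht', ← Scheme.Hom.comp_apply, pullback.lift_snd]
    refine (congrArg PrimeSpectrum.asIdeal h1).trans ?_
    show (closedPoint S.K).asIdeal.comap (algebraMap S.R S.K) = ⊥
    rw [show (closedPoint S.K).asIdeal = ⊥ from maximalIdeal_eq_bot, ← RingHom.ker_eq_comap_bot]
    exact (RingHom.injective_iff_ker_eq_bot _).1 (IsFractionRing.injective S.R S.K)
  let L := FractionRing V
  have hinj' : Function.Injective ((algebraMap V L).comp φ.hom) := (IsFractionRing.injective V L).comp hinj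
  let ψ : S.K →+* L := IsFractionRing.lift (A := S.R) (K := S.K) hinj'
  have hψ : ∀ r, ψ (algebraMap S.R S.K r) = algebraMap V L (φ r) := fun r => IsFractionRing.lift_algebraMap _ r
  have hij : Spec.map (CommRingCat.ofHom ψ) ≫ S.i₁ =
      Spec.map (CommRingCat.ofHom (algebraMap V L)) ≫ t ≫ pullback.fst f S.i₂ := by
    rw [← cancel_mono f, Category.assoc, S.commSq.w, Category.assoc, Category.assoc, pullback.condition,
      ← Category.assoc t, ← hφs, ← Spec.map_comp_assoc, ← Spec.map_comp_assoc]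
    congr 2
    ext r
    exact hψ r
  obtain ⟨W, hW, hyW, -⟩ := exists_isAffineOpen_mem_and_subset (X := X) (x := f y₀) (U := ⊤) trivial
  obtain ⟨a, ha⟩ := DVRVal.exists_factor hW S.i₂ (DVRVal.mem_of_closed S.i₂ (hy₀ ▸ hyW))
  obtain ⟨U, hU, hyU, hUW⟩ := exists_isAffineOpen_mem_and_subset (X := Y) (x := y₀) (U := f ⁻¹ᵁ W) hyW
  have hle : U ≤ f ⁻¹ᵁ W := hUW
  have htU : (t ≫ pullback.fst f S.i₂) (closedPoint V) ∈ U := by
    rw [Scheme.Hom.comp_apply]
    erw [ht, hp₀y]
    exact hyU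
  obtain ⟨θ, hθ⟩ := DVRVal.exists_factor hU _ (DVRVal.mem_of_closed _ htU)
  have hi₁U : S.i₁ (closedPoint S.K) ∈ U := by
    have h1 : (Spec.map (CommRingCat.ofHom ψ) ≫ S.i₁) (closedPoint L) ∈ U := by
      rw [hij, Scheme.Hom.comp_apply]
      exact DVRVal.mem_of_closed _ htU _
    rwa [Scheme.Hom.comp_apply, show Spec.map (CommRingCat.ofHom ψ) (closedPoint L) = closedPoint S.K from
      Subsingleton.elim (α := PrimeSpectrum S.K) _ _] at h1
  obtain ⟨β, hβ⟩ := DVRVal.exists_factor hU S.i₁ (DVRVal.mem_of_closed S.i₁ hi₁U)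
  have hθβ : β ≫ CommRingCat.ofHom ψ = θ ≫ CommRingCat.ofHom (algebraMap V L) := by
    apply DVRVal.factor_unique hU
    rw [Spec.map_comp, Category.assoc, hβ, hij, Spec.map_comp, Category.assoc, hθ]
  have hinjK := IsFractionRing.injective S.R S.K
  have hall : ∀ b, ∃ r, algebraMap S.R S.K r = β.hom b := fun b => by
    rcases ValuationRing.isInteger_or_isInteger S.R (β.hom b) with ⟨r, hr⟩ | ⟨r, hr⟩
    · exact ⟨r, hr⟩
    by_cases hb : β.hom b = 0
    · exact ⟨0, by rw [map_zero, hb]⟩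
    by_cases hu : IsUnit r
    · obtain ⟨v, hv⟩ := hu
      refine ⟨↑v⁻¹, ?_⟩
      have : algebraMap S.R S.K ↑v⁻¹ = (algebraMap S.R S.K r)⁻¹ :=
        eq_inv_of_mul_eq_one_left (by rw [← map_mul, ← hv, Units.inv_mul, map_one])
      rw [this, hr, inv_inv]
    exfalso
    refine (mem_maximalIdeal _).1 (hloc r ((mem_maximalIdeal r).2 hu)) (IsUnit.of_mul_eq_one (b := θ.hom b) ?_)
    apply IsFractionRing.injective V L
    rw [map_mul, map_one, show algebraMap V L (θ.hom b) = ψ (β.hom b) from (congrArg (fun k => k.hom b) hθβ).symm,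
      show algebraMap V L (φ r) = ψ (algebraMap S.R S.K r) from (hψ r).symm, hr, ← map_mul, inv_mul_cancel₀ hb, map_one]
  choose γ hγ using hall
  let γ' : Γ(Y, U) →+* S.R :=
    { toFun := γ
      map_one' := hinjK (by rw [hγ, map_one, map_one])
      map_mul' := fun p q => hinjK (by rw [hγ, map_mul, map_mul, hγ, hγ])
      map_zero' := hinjK (by rw [hγ, map_zero, map_zero])
      map_add' := fun p q => hinjK (by rw [hγ, map_add, map_add, hγ, hγ]) }
  have hcompat : f.appLE W U hle ≫ β = a ≫ CommRingCat.ofHom (algebraMap S.R S.K) := by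
    apply DVRVal.factor_unique hW
    rw [Spec.map_comp, Category.assoc, hW.SpecMap_appLE_fromSpec f hU hle, ← Category.assoc, hβ, S.commSq.w,
      Spec.map_comp, Category.assoc, ha]
  refine hasLift_of_exists S (Spec.map (CommRingCat.ofHom γ') ≫ hU.fromSpec) ?_
  rw [Category.assoc, ← hW.SpecMap_appLE_fromSpec f hU hle, ← Spec.map_comp_assoc, ← ha]
  congr 2
  ext c
  exact hinjK ((hγ _).trans (congrArg (fun k => k.hom c) hcompat))

end Groth.Agent.H6.MonoVal
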