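import Mathlib
import Groth.Prelude.Def_Found
import Groth.Agent.Lib.H6.CurveNorm

set_option autoImplicit false
set_option linter.all false
set_option maxHeartbeats 1000000
set_option backward.isDefEq.respectTransparency false

/-! Normal curves through a point in algebras of finite type over Nagata rings. -/

universe u

namespace Groth.Agent.H6.NagataCurve

theorem one_le_height {B : Type u} [CommRing B] [IsDomain B] (M : Ideal B) [M.IsPrime] (h : M ≠ ⊥) : 1 ≤ M.height :=
  ENat.one_le_iff_ne_zero.2 fun h0 => by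
    have h1 : (⊥ : Ideal B).height + 1 ≤ M.height := Ideal.height_add_one_le_of_lt_of_isPrime (bot_lt_iff_ne_bot.2 h)
    rw [h0, nonpos_iff_eq_zero] at h1
    exact one_ne_zero (add_eq_zero.1 h1).2

theorem exists_avoid {B : Type u} [CommRing B] (m : Ideal B) [m.IsPrime] (F : Finset (Ideal B))
    (hF : ∀ J ∈ F, ¬ J ≤ m) : ∃ h : B, h ∉ m ∧ ∀ J ∈ F, h ∈ J := by
  classical
  choose! x hx hxm using fun J (hJ : J ∈ F) => SetLike.not_le_iff_exists.1 (hF J hJ)
  refine ⟨∏ J ∈ F, x J, fun h => ?_, fun J hJ => J.mem_of_dvd (Finset.dvd_prod_of_mem x hJ) (hx J hJ)⟩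
  obtain ⟨J, hJ, h⟩ := (‹m.IsPrime›.prod_mem_iff).1 h
  exact hxm J hJ h

theorem stage1 {A R : Type u} [CommRing A] [CommRing R] [Algebra A R] [Algebra.FiniteType A R]
    (hA : CAlg.IsNagata A) (P m : Ideal R) [P.IsPrime] [m.IsMaximal] (hPm : P ≤ m) (f : R) (hf : f ∈ m) (hfP : f ∉ P) :
    ∃ (B1 : Type u) (_ : CommRing B1) (_ : IsDomain B1) (φ : R →+* B1) (m1 : Ideal B1) (_ : m1.IsMaximal) (g : B1),
      g ∉ m1 ∧ φ.FiniteType ∧ m1.comap φ = m ∧ φ f ≠ 0 ∧ IsNoetherianRing B1 ∧
      (∀ (Bg K' L : Type u) [CommRing Bg] [Field K'] [Field L] [Algebra B1 Bg] [IsLocalization.Away g Bg] [Algebra B1 K']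
        [IsFractionRing B1 K'] [Algebra K' L] [Algebra B1 L] [IsScalarTower B1 K' L] [FiniteDimensional K' L]
        [Algebra Bg L] [IsScalarTower B1 Bg L], Module.Finite Bg (integralClosure Bg L)) ∧
      (∀ Q : Ideal B1, Q.IsPrime → P ≤ Q.comap φ ∧ (f ∈ Q.comap φ → Q = m1) ∧ (Q ≠ ⊥ → Q ≤ m1 → Q = m1)) := by
  classical
  haveI := hA.1
  haveI : IsNoetherianRing R := Algebra.FiniteType.isNoetherianRing A R
  obtain ⟨q, ⟨hqp, hPq, hqm, hfq⟩, hqmax⟩ := wellFounded_gt.has_min {q : Ideal R | q.IsPrime ∧ P ≤ q ∧ q ≤ m ∧ f ∉ q}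
    ⟨P, ‹_›, le_rfl, hPm, hfP⟩
  haveI := hqp
  let p := q.comap (algebraMap A R)
  let B := R ⧸ q
  let π : R →+* B := Ideal.Quotient.mk q
  letI : Algebra (A ⧸ p) B := (Ideal.quotientMap q (algebraMap A R) le_rfl).toAlgebra
  haveI : IsScalarTower A (A ⧸ p) B := IsScalarTower.of_algebraMap_eq fun a => rfl
  haveI : Algebra.FiniteType (A ⧸ p) B := Algebra.FiniteType.of_restrictScalars_finiteType A _ _
  have hinjp : Function.Injective (algebraMap (A ⧸ p) B) := Ideal.quotientMap_injective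
  let mB : Ideal B := m.map π
  haveI hmB : mB.IsMaximal := (Ideal.map_eq_top_or_isMaximal_of_surjective π Ideal.Quotient.mk_surjective ‹m.IsMaximal›).resolve_left fun h => by
    have := congrArg (Ideal.comap π) h
    rw [Ideal.comap_map_of_surjective π Ideal.Quotient.mk_surjective, Ideal.comap_top] at this
    rw [sup_eq_left.2 (show Ideal.comap π ⊥ ≤ m from fun x hx => hqm (Ideal.Quotient.eq_zero_iff_mem.1 hx))] at this
    exact ‹m.IsMaximal›.ne_top this
  have hmBc : mB.comap π = m := by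
    rw [Ideal.comap_map_of_surjective π Ideal.Quotient.mk_surjective]
    exact sup_eq_left.2 fun x hx => hqm (Ideal.Quotient.eq_zero_iff_mem.1 hx)
  have hf0 : π f ≠ 0 := fun h => hfq (Ideal.Quotient.eq_zero_iff_mem.1 h)
  have hfm : π f ∈ mB := Ideal.mem_map_of_mem π hf
  have hprop : ∀ Q : Ideal B, Q.IsPrime → Q ≠ ⊥ → Q ≤ mB → π f ∈ Q := by
    intro Q hQ hQ0 hQm
    by_contra h
    have hle : q ≤ Q.comap π := fun x hx => by
      show π x ∈ Q
      rw [show π x = 0 from Ideal.Quotient.eq_zero_iff_mem.2 hx]; exact Q.zero_mem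
    refine hqmax (Q.comap π) ⟨Ideal.IsPrime.comap π, hPq.trans hle, (Ideal.comap_mono hQm).trans hmBc.le, h⟩ ?_
    refine lt_of_le_of_ne hle fun e => hQ0 ?_
    rw [← Ideal.map_comap_of_surjective π Ideal.Quotient.mk_surjective Q, ← e]
    exact Ideal.map_quotient_self q
  have hdim : ∀ Q : Ideal B, Q.IsPrime → Q ≠ ⊥ → Q ≤ mB → Q = mB := fun Q hQ hQ0 hQm => by
    haveI := hQ
    exact CurveNorm.eq_of_forall_mem mB (π f) hf0 hprop Q hQ0 hQm
  obtain ⟨b, hb0, hb⟩ : ∃ b : B, b ≠ 0 ∧ (mB.comap (algebraMap (A ⧸ p) B) = ⊥ ∨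
      ∃ a, a ∈ mB.comap (algebraMap (A ⧸ p) B) ∧ b = algebraMap (A ⧸ p) B a) := by
    rcases eq_or_ne (mB.comap (algebraMap (A ⧸ p) B)) ⊥ with h | h
    · exact ⟨1, one_ne_zero, Or.inl h⟩
    · obtain ⟨a, ha, ha0⟩ := Submodule.exists_mem_ne_zero_of_ne_bot h
      exact ⟨_, fun e => ha0 (hinjp (e.trans (map_zero _).symm)), Or.inr ⟨a, ha, rfl⟩⟩
  let φ0 := π f * b
  have hφ0 : φ0 ≠ 0 := mul_ne_zero hf0 hb0
  obtain ⟨h, hhm, hh⟩ := exists_avoid mB ((Ideal.finite_minimalPrimes_of_isNoetherianRing B (Ideal.span {φ0})).toFinset.filter (· ≠ mB)) (fun J hJ hle => by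
    rw [Finset.mem_filter, Set.Finite.mem_toFinset] at hJ
    refine hJ.2 (hdim J hJ.1.isPrime (fun e => hφ0 ?_) hle)
    have := hJ.1.1.2 (Ideal.mem_span_singleton_self φ0)
    rwa [e, Ideal.mem_bot] at this)
  have honly : ∀ Q : Ideal B, Q.IsPrime → h ∉ Q → φ0 ∈ Q → Q = mB := by
    intro Q hQ hhQ hφQ
    obtain ⟨J, hJ, hJQ⟩ := Ideal.exists_minimalPrimes_le ((Ideal.span_singleton_le_iff_mem Q).2 hφQ)
    by_cases e : J = mB
    · exact (hmB.eq_of_le hQ.ne_top (e ▸ hJQ)).symm
    · exact absurd (hJQ (hh J (Finset.mem_filter.2 ⟨(Set.Finite.mem_toFinset _).2 hJ, e⟩))) hhQ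
  let B1 := Localization.Away h
  have hh0 : h ≠ 0 := fun e => hhm (e ▸ mB.zero_mem)
  haveI : IsDomain B1 := IsLocalization.isDomain_localization (powers_le_nonZeroDivisors_of_noZeroDivisors hh0)
  haveI : Algebra.FiniteType B B1 := IsLocalization.finiteType_of_monoid_fg (Submonoid.powers h) B1
  haveI : Algebra.FiniteType (A ⧸ p) B1 := Algebra.FiniteType.trans (S := B) inferInstance inferInstance
  have hdisj : Disjoint (Submonoid.powers h : Set B) (mB : Set B) :=
    Set.disjoint_left.2 fun x hx hxm => by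
      obtain ⟨n, rfl⟩ := hx
      exact hhm (hmB.isPrime.mem_of_pow_mem n hxm)
  let m1 : Ideal B1 := mB.map (algebraMap B B1)
  haveI hm1p : m1.IsPrime := IsLocalization.isPrime_of_isPrime_disjoint (Submonoid.powers h) B1 mB hmB.isPrime hdisj
  have hm1c : m1.comap (algebraMap B B1) = mB := IsLocalization.under_map_of_isPrime_disjoint (Submonoid.powers h) B1 hmB.isPrime hdisj
  have hm1eq : ∀ Q : Ideal B1, Q.comap (algebraMap B B1) = mB → Q = m1 := fun Q hQ => by
    rw [← IsLocalization.map_under (Submonoid.powers h) B1 Q, Ideal.under_def, hQ]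
  haveI hm1 : m1.IsMaximal := Ideal.isMaximal_iff.2 ⟨fun h1 => hm1p.ne_top ((Ideal.eq_top_iff_one _).2 h1), fun J x hJ hx hxJ => by
    by_contra hne
    exact hx ((hm1eq J (hmB.eq_of_le (fun e => hne (by
      have : (1 : B) ∈ J.comap (algebraMap B B1) := e ▸ trivial
      rwa [Ideal.mem_comap, map_one] at this)) (hm1c.symm.le.trans (Ideal.comap_mono hJ))).symm) ▸ hxJ)⟩
  have hh1 : ∀ Q : Ideal B1, Q.IsPrime → h ∉ Q.comap (algebraMap B B1) := fun Q hQ hmem =>
    hQ.ne_top (Ideal.eq_top_of_isUnit_mem _ hmem (IsLocalization.Away.algebraMap_isUnit h))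
  haveI : IsScalarTower (A ⧸ p) B B1 := inferInstance
  have halg : (algebraMap (A ⧸ p) B1) = (algebraMap B B1).comp (algebraMap (A ⧸ p) B) := IsScalarTower.algebraMap_eq _ _ _
  have hinj1 : Function.Injective (algebraMap (A ⧸ p) B1) := by
    rw [halg]; exact (IsLocalization.injective B1 (powers_le_nonZeroDivisors_of_noZeroDivisors hh0)).comp hinjp
  obtain ⟨g, hg, hfin⟩ := CurveNorm.exists_normalization (hA.2 p) hinj1 m1 (by
    rw [halg, ← Ideal.comap_comap, hm1c]
    rcases hb with hb | ⟨a, ha, hba⟩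
    · exact Or.inl hb
    · refine Or.inr fun Q hQ hQc => hm1eq Q (honly _ (Ideal.IsPrime.comap _) (hh1 Q hQ) ?_)
      refine Ideal.mul_mem_left _ _ ?_
      rw [hba]
      have : a ∈ Q.comap ((algebraMap B B1).comp (algebraMap (A ⧸ p) B)) := by rw [hQc]; exact ha
      exact this)
  refine ⟨B1, inferInstance, inferInstance, (algebraMap B B1).comp π, m1, hm1, g, hg, ?_, ?_, ?_, ?_, ?_, ?_⟩
  · exact (RingHom.finiteType_algebraMap.2 (inferInstance : Algebra.FiniteType B B1)).comp
      (RingHom.FiniteType.of_surjective _ Ideal.Quotient.mk_surjective)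
  · rw [← Ideal.comap_comap, hm1c, hmBc]
  · exact fun e => hf0 (IsLocalization.injective B1 (powers_le_nonZeroDivisors_of_noZeroDivisors hh0) (e.trans (map_zero _).symm))
  · exact Algebra.FiniteType.isNoetherianRing B B1
  · exact fun Bg K' L => hfin Bg K' L
  · intro Q hQ
    refine ⟨fun x hx => ?_, fun hfQ => hm1eq Q (honly _ (Ideal.IsPrime.comap _) (hh1 Q hQ) (Ideal.mul_mem_right _ _ hfQ)), fun h0 hle => hm1eq Q (hdim _ (Ideal.IsPrime.comap _) (fun hz => h0 ?_) (hm1c ▸ Ideal.comap_mono hle))⟩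
    · show algebraMap B B1 (π x) ∈ Q
      rw [show π x = 0 from Ideal.Quotient.eq_zero_iff_mem.2 (hPq hx), map_zero]
      exact Q.zero_mem
    · rw [← IsLocalization.map_under (Submonoid.powers h) B1 Q, Ideal.under_def, hz, Ideal.map_bot]

theorem stage2 {B1 : Type u} [CommRing B1] [IsDomain B1] [IsNoetherianRing B1] (m1 : Ideal B1) [hm1 : m1.IsMaximal]
    (hm0 : m1 ≠ ⊥) (hdim : ∀ Q : Ideal B1, Q.IsPrime → Q ≠ ⊥ → Q ≤ m1 → Q = m1) (g : B1) (hg : g ∉ m1)
    (K' L : Type u) [Field K'] [Field L] [Algebra B1 K'] [IsFractionRing B1 K'] [Algebra K' L] [Algebra B1 L]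
    [IsScalarTower B1 K' L] [FiniteDimensional K' L]
    (hfin : ∀ (Bg : Type u) [CommRing Bg] [Algebra B1 Bg] [IsLocalization.Away g Bg]
      [Algebra Bg L] [IsScalarTower B1 Bg L], Module.Finite Bg (integralClosure Bg L)) :
    ∃ (N : Type u) (_ : CommRing N) (_ : IsDomain N) (ψ : B1 →+* N) (M : Ideal N) (_ : M.IsMaximal)
      (_ : Algebra N L) (_ : IsFractionRing N L),
      IsIntegrallyClosed N ∧ ψ.FiniteType ∧ (algebraMap N L).comp ψ = algebraMap B1 L ∧ M.comap ψ = m1 ∧
      ringKrullDim (Localization.AtPrime M) = 1 ∧ M ≠ ⊥ ∧ (∀ Q : Ideal N, Q.IsPrime → Q ≠ ⊥ → Q ≤ M → Q = M) ∧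
      ∀ Q : Ideal N, Q.IsPrime → Q.comap ψ = m1 → Q = M := by
  classical
  haveI hm1p : m1.IsPrime := hm1.isPrime
  let B2 := Localization.Away g
  have hg0 : g ≠ 0 := fun e => hg (e ▸ m1.zero_mem)
  have hunit : IsUnit (algebraMap B1 K' g) :=
    IsLocalization.map_units K' (⟨g, mem_nonZeroDivisors_of_ne_zero hg0⟩ : nonZeroDivisors B1)
  letI : Algebra B2 K' := (IsLocalization.Away.lift g hunit).toAlgebra
  haveI : IsScalarTower B1 B2 K' := IsScalarTower.of_algebraMap_eq (R := B1) (S := B2) (A := K') fun x => (IsLocalization.Away.lift_eq g hunit x).symm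
  letI : Algebra B2 L := ((algebraMap K' L).comp (algebraMap B2 K')).toAlgebra
  haveI : IsScalarTower B2 K' L := IsScalarTower.of_algebraMap_eq' rfl
  haveI : IsScalarTower B1 B2 L := IsScalarTower.of_algebraMap_eq (R := B1) (S := B2) (A := L) fun x => by
    rw [IsScalarTower.algebraMap_apply B2 K' L, ← IsScalarTower.algebraMap_apply B1 B2 K', ← IsScalarTower.algebraMap_apply B1 K' L]
  haveI : IsDomain B2 := IsLocalization.isDomain_localization (powers_le_nonZeroDivisors_of_noZeroDivisors hg0)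
  haveI : IsFractionRing B2 K' := IsFractionRing.isFractionRing_of_isLocalization (Submonoid.powers g) B2 K'
    (powers_le_nonZeroDivisors_of_noZeroDivisors hg0)
  haveI := hfin B2
  let N0 := integralClosure B2 L
  haveI : IsIntegrallyClosed N0 := integralClosure.isIntegrallyClosedOfFiniteExtension K'
  have hinj2 : Function.Injective (algebraMap B2 N0) := fun x y e =>
    IsFractionRing.injective B2 K' ((algebraMap K' L).injective (congrArg Subtype.val e))
  haveI : Algebra.IsIntegral B2 N0 := integralClosure.AlgebraIsIntegral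
  let m2 : Ideal B2 := m1.map (algebraMap B1 B2)
  have hdisj2 : Disjoint (Submonoid.powers g : Set B1) (m1 : Set B1) :=
    Set.disjoint_left.2 fun x hx hxm => by
      obtain ⟨n, rfl⟩ := hx
      exact hg (hm1.isPrime.mem_of_pow_mem n hxm)
  haveI hm2p : m2.IsPrime := IsLocalization.isPrime_of_isPrime_disjoint (Submonoid.powers g) B2 m1 hm1p hdisj2
  have hm2c : m2.comap (algebraMap B1 B2) = m1 := IsLocalization.under_map_of_isPrime_disjoint (Submonoid.powers g) B2 hm1p hdisj2
  have hm2eq : ∀ Q : Ideal B2, Q.comap (algebraMap B1 B2) = m1 → Q = m2 := fun Q hQ => by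
    rw [← IsLocalization.map_under (Submonoid.powers g) B2 Q, Ideal.under_def, hQ]
  haveI hm2 : m2.IsMaximal := by
    obtain ⟨J, hJ, hle⟩ := Ideal.exists_le_maximal m2 hm2p.ne_top
    haveI := hJ
    rwa [← hm2eq J (hm1.eq_of_le (Ideal.IsPrime.comap (algebraMap B1 B2)).ne_top (hm2c.symm.le.trans (Ideal.comap_mono hle))).symm]
  obtain ⟨M0, -, hM0, hM0c⟩ := Ideal.exists_ideal_over_prime_of_isIntegral (S := N0) m2 (⊥ : Ideal N0)
    (by rw [Ideal.comap_bot_of_injective _ hinj2]; exact bot_le)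
  haveI := hM0
  haveI hM0m : M0.IsMaximal := Ideal.isMaximal_of_isIntegral_of_isMaximal_comap M0 (by rw [hM0c]; exact hm2)
  obtain ⟨e, heM, he⟩ := exists_avoid M0 ((Algebra.QuasiFinite.finite_primesOver (S := N0) m2).toFinset.filter (· ≠ M0)) (fun J hJ hle => by
    rw [Finset.mem_filter, Set.Finite.mem_toFinset] at hJ
    haveI := hJ.1.1
    haveI : J.IsMaximal := Ideal.isMaximal_of_isIntegral_of_isMaximal_comap J (by
      rw [show J.comap (algebraMap B2 N0) = m2 from (hJ.1.2.over).symm]; exact hm2)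
    exact hJ.2 (‹J.IsMaximal›.eq_of_le hM0.ne_top hle))
  let N := Localization.Away e
  have he0 : e ≠ 0 := fun h' => heM (h' ▸ M0.zero_mem)
  haveI : IsDomain N := IsLocalization.isDomain_localization (powers_le_nonZeroDivisors_of_noZeroDivisors he0)
  haveI : IsIntegrallyClosed N := isIntegrallyClosed_of_isLocalization N (Submonoid.powers e) (powers_le_nonZeroDivisors_of_noZeroDivisors he0)
  have hdisj3 : Disjoint (Submonoid.powers e : Set N0) (M0 : Set N0) :=
    Set.disjoint_left.2 fun x hx hxm => by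
      obtain ⟨n, rfl⟩ := hx
      exact heM (hM0.mem_of_pow_mem n hxm)
  let M : Ideal N := M0.map (algebraMap N0 N)
  haveI hMp : M.IsPrime := IsLocalization.isPrime_of_isPrime_disjoint (Submonoid.powers e) N M0 hM0 hdisj3
  have hMc : M.comap (algebraMap N0 N) = M0 := IsLocalization.under_map_of_isPrime_disjoint (Submonoid.powers e) N hM0 hdisj3
  have hMeq : ∀ Q : Ideal N, Q.comap (algebraMap N0 N) = M0 → Q = M := fun Q hQ => by
    rw [← IsLocalization.map_under (Submonoid.powers e) N Q, Ideal.under_def, hQ]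
  haveI hM : M.IsMaximal := by
    obtain ⟨J, hJ, hle⟩ := Ideal.exists_le_maximal M hMp.ne_top
    haveI := hJ
    rwa [← hMeq J (hM0m.eq_of_le (Ideal.IsPrime.comap (algebraMap N0 N)).ne_top (hMc.symm.le.trans (Ideal.comap_mono hle))).symm]
  let ψ : B1 →+* N := ((algebraMap N0 N).comp (algebraMap B2 N0)).comp (algebraMap B1 B2)
  have hψinj : Function.Injective ψ :=
    ((IsLocalization.injective N (powers_le_nonZeroDivisors_of_noZeroDivisors he0)).comp hinj2).comp
      (IsLocalization.injective B2 (powers_le_nonZeroDivisors_of_noZeroDivisors hg0))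
  have hcomap : ∀ Q : Ideal N, Q.comap ψ = ((Q.comap (algebraMap N0 N)).comap (algebraMap B2 N0)).comap (algebraMap B1 B2) :=
    fun Q => rfl
  have hMψ : M.comap ψ = m1 := by rw [hcomap, hMc, hM0c, hm2c]
  have hover : ∀ Q : Ideal N, Q.IsPrime → Q.comap ψ = m1 → Q = M := by
    intro Q hQ hQc
    rw [hcomap] at hQc
    haveI : (Q.comap (algebraMap N0 N)).IsPrime := Ideal.IsPrime.comap _
    have h2 : (Q.comap (algebraMap N0 N)).comap (algebraMap B2 N0) = m2 := hm2eq _ hQc
    refine hMeq Q (by_contra fun hne => ?_)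
    have hmem : e ∈ Q.comap (algebraMap N0 N) :=
      he _ (Finset.mem_filter.2 ⟨(Set.Finite.mem_toFinset _).2 ⟨inferInstance, ⟨h2.symm⟩⟩, hne⟩)
    exact hQ.ne_top (Ideal.eq_top_of_isUnit_mem _ hmem (IsLocalization.Away.algebraMap_isUnit e))
  have hlow : M ≠ ⊥ := fun e' => hm0 (by rw [← hMψ, e', Ideal.comap_bot_of_injective _ hψinj])
  have hMmin : ∀ Q : Ideal N, Q.IsPrime → Q ≠ ⊥ → Q ≤ M → Q = M := fun Q hQ hQ0 hQM => by
    refine hover Q hQ (hdim _ (Ideal.IsPrime.comap ψ) (fun hz => ?_) (hMψ ▸ Ideal.comap_mono hQM))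
    obtain ⟨x, hxQ, hx0⟩ := Submodule.exists_mem_ne_zero_of_ne_bot hQ0
    obtain ⟨⟨y, ⟨_, n, rfl⟩⟩, hy⟩ := IsLocalization.surj (Submonoid.powers e) x
    have hy0 : y ≠ 0 := fun e0 => hx0 (by
      rw [e0, map_zero] at hy
      exact (IsLocalization.map_units N (⟨_, n, rfl⟩ : Submonoid.powers e)).mul_left_eq_zero.1 hy)
    have hyQ : y ∈ Q.comap (algebraMap N0 N) := show algebraMap N0 N y ∈ Q from hy ▸ Q.mul_mem_right _ hxQ
    apply Ideal.comap_ne_bot_of_integral_mem (R := B2) hy0 hyQ (Algebra.IsIntegral.isIntegral y)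
    rw [← IsLocalization.map_under (Submonoid.powers g) B2 ((Q.comap (algebraMap N0 N)).comap (algebraMap B2 N0))]
    rw [hcomap] at hz
    simp only [Ideal.under_def, hz, Ideal.map_bot]
  haveI : IsFractionRing N0 L := IsIntegralClosure.isFractionRing_of_finite_extension B2 K' L N0
  have hle3 := powers_le_nonZeroDivisors_of_noZeroDivisors he0
  have hunit3 : IsUnit (algebraMap N0 L e) := IsLocalization.map_units L (⟨e, mem_nonZeroDivisors_of_ne_zero he0⟩ : nonZeroDivisors N0)
  letI : Algebra N L := (IsLocalization.Away.lift e hunit3).toAlgebra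
  haveI : IsScalarTower N0 N L := IsScalarTower.of_algebraMap_eq (R := N0) (S := N) (A := L) fun x => (IsLocalization.Away.lift_eq e hunit3 x).symm
  haveI : IsFractionRing N L := IsFractionRing.isFractionRing_of_isLocalization (Submonoid.powers e) N L hle3
  have hcompat : (algebraMap N L).comp ψ = algebraMap B1 L := by
    ext x
    show algebraMap N L (algebraMap N0 N (algebraMap B2 N0 (algebraMap B1 B2 x))) = _
    rw [← IsScalarTower.algebraMap_apply N0 N L, ← IsScalarTower.algebraMap_apply B2 N0 L, ← IsScalarTower.algebraMap_apply B1 B2 L]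
  refine ⟨N, inferInstance, inferInstance, ψ, M, hM, inferInstance, inferInstance, inferInstance, ?_, hcompat, hMψ, ?_, hlow, hMmin, hover⟩
  · haveI : Algebra.FiniteType N0 N := IsLocalization.finiteType_of_monoid_fg (Submonoid.powers e) N
    haveI : Algebra.FiniteType B1 B2 := IsLocalization.finiteType_of_monoid_fg (Submonoid.powers g) B2
    have h1 : (algebraMap N0 N).FiniteType := RingHom.finiteType_algebraMap.2 inferInstance
    have h2 : (algebraMap B2 N0).FiniteType := RingHom.finiteType_algebraMap.2 inferInstance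
    have h3 : (algebraMap B1 B2).FiniteType := RingHom.finiteType_algebraMap.2 inferInstance
    exact (h1.comp h2).comp h3
  · rw [IsLocalization.AtPrime.ringKrullDim_eq_height M]
    have hup : M.height ≤ 1 := Ideal.height_le_iff.2 fun Q hQ hQM => by
      have : Q = ⊥ := by_contra fun hQ0 => hQM.ne (hMmin Q hQ hQ0 hQM.le)
      rw [this, Ideal.height_bot]
      exact zero_lt_one
    have hpos : 1 ≤ M.height := one_le_height M hlow
    rw [le_antisymm hup hpos]; rfl

end Groth.Agent.H6.NagataCurve
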