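import Mathlib
import Groth.Prelude.Def_Found
import Groth.Agent.Lib.JapaneseLocal
import Groth.Agent.S9392

set_option autoImplicit false
set_option linter.all false

/-! Nagata / universally Japanese rings are stable under localisation and ring isomorphism. -/

universe u

namespace Groth.Agent.H6.NagataLoc

theorem isNagata_localization {A : Type u} [CommRing A] (M : Submonoid A) (B : Type u) [CommRing B] [Algebra A B]
    [IsLocalization M B] (h : CAlg.IsNagata A) : CAlg.IsNagata B := by
  haveI := h.1
  refine ⟨IsLocalization.isNoetherianRing M B inferInstance, fun P hP => ?_⟩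
  let p := P.comap (algebraMap A B)
  haveI : p.IsPrime := Ideal.IsPrime.comap _
  letI : Algebra (A ⧸ p) (B ⧸ P) := (Ideal.quotientMap P (algebraMap A B) le_rfl).toAlgebra
  haveI : IsLocalization (M.map (Ideal.Quotient.mk p)) (B ⧸ P) := by
    refine IsLocalization.of_surjective M B (Ideal.Quotient.mk p) Ideal.Quotient.mk_surjective (Ideal.Quotient.mk P)
      Ideal.Quotient.mk_surjective (RingHom.ext fun a => rfl) ?_
    rw [Ideal.mk_ker, Ideal.mk_ker]
    exact (IsLocalization.map_under M B P).ge
  exact S9392.result (A ⧸ p) (M.map (Ideal.Quotient.mk p)) (B ⧸ P) (h.2 p)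

theorem isUJ_localization {A : Type u} [CommRing A] (M : Submonoid A) (B : Type u) [CommRing B] [Algebra A B]
    [Algebra.FiniteType A B] (h : CAlg.IsUniversallyJapanese A) : CAlg.IsUniversallyJapanese B := by
  intro S _ _ _ hS
  letI : Algebra A S := ((algebraMap B S).comp (algebraMap A B)).toAlgebra
  haveI : IsScalarTower A B S := IsScalarTower.of_algebraMap_eq' rfl
  exact h S (Algebra.FiniteType.trans ‹Algebra.FiniteType A B› hS)

theorem isNagata_ringEquiv {A B : Type u} [CommRing A] [CommRing B] (e : A ≃+* B) (h : CAlg.IsNagata A) :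
    CAlg.IsNagata B := by
  letI : Algebra A B := e.toRingHom.toAlgebra
  haveI : IsLocalization (⊥ : Submonoid A) B := (isLocalization_iff _ _).mpr
    ⟨fun y => by rw [Submonoid.mem_bot.mp y.2, map_one]; exact isUnit_one,
      fun z => ⟨(e.symm z, 1), by simp [RingHom.algebraMap_toAlgebra]⟩,
      fun {x y} hxy => ⟨1, by simpa using e.injective hxy⟩⟩
  exact isNagata_localization (⊥ : Submonoid A) B h

theorem isUJ_ringEquiv {A B : Type u} [CommRing A] [CommRing B] (e : A ≃+* B) (h : CAlg.IsUniversallyJapanese A) :
    CAlg.IsUniversallyJapanese B := by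
  letI : Algebra A B := e.toRingHom.toAlgebra
  haveI : Algebra.FiniteType A B := Algebra.FiniteType.of_surjective (Algebra.ofId A B) e.surjective
  exact isUJ_localization (⊥ : Submonoid A) B h

end Groth.Agent.H6.NagataLoc
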