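import Mathlib
import Groth.Prelude.Def_Found
import Groth.Agent.Lib.H6.NagataCurve

set_option autoImplicit false
set_option linter.all false
set_option maxHeartbeats 1000000
set_option backward.isDefEq.respectTransparency.types false

/-! Valuative criteria by normal curves over Nagata schemes: geometry. -/

universe u

open CategoryTheory CategoryTheory.Limits AlgebraicGeometry TopologicalSpace

namespace Groth.Agent.H6.NagataVal

theorem isLocallyNoetherian {S : Scheme.{u}} (hS : ∀ W : S.affineOpens, CAlg.IsNagata Γ(S, W)) : IsLocallyNoetherian S :=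
  ⟨fun W => (hS W).1⟩

/-- the curve through a boundary point. -/
theorem exists_base {S W : Scheme.{u}} (hS : ∀ U : S.affineOpens, CAlg.IsNagata Γ(S, U)) (wS : W ⟶ S)
    [LocallyOfFiniteType wS] (η b : W) (hηb : η ⤳ b) (Oη Ob : W.Opens) (hη : η ∈ Oη) (hb : b ∈ Ob) (E : Set W)
    (hE : ∀ w, η ⤳ w → w ∈ Oη → w ∈ E) (hE' : ∀ w, b ⤳ w → w ∈ Ob → w ∉ E) :
    ∃ (B : CommRingCat.{u}) (_ : IsDomain B) (_ : IsNoetherianRing B) (γ : Spec B ⟶ W) (m : Ideal B) (_ : m.IsMaximal) (g : B),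
      m ≠ ⊥ ∧ (∀ Q : Ideal B, Q.IsPrime → Q ≠ ⊥ → Q ≤ m → Q = m) ∧ g ∉ m ∧ LocallyOfFiniteType (γ ≫ wS) ∧
      (∀ (Bg K' L : Type u) [CommRing Bg] [Field K'] [Field L] [Algebra B Bg] [IsLocalization.Away g Bg] [Algebra B K']
        [IsFractionRing B K'] [Algebra K' L] [Algebra B L] [IsScalarTower B K' L] [FiniteDimensional K' L]
        [Algebra Bg L] [IsScalarTower B Bg L], Module.Finite Bg (integralClosure Bg L)) ∧
      (∀ x : PrimeSpectrum B, x.asIdeal = m → γ x ∉ E) ∧ (∀ x : PrimeSpectrum B, x.asIdeal ≠ m → γ x ∈ E) := by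
  obtain ⟨W0, hW0, hbW0, -⟩ := exists_isAffineOpen_mem_and_subset (X := S) (x := wS b) (U := ⊤) trivial
  obtain ⟨V, hV, hbV, hVle⟩ := exists_isAffineOpen_mem_and_subset (X := W) (x := b) (U := Ob ⊓ wS ⁻¹ᵁ W0) ⟨hb, hbW0⟩
  have hηV : η ∈ V := hηb.mem_open V.2 hbV
  let e : V ≤ wS ⁻¹ᵁ W0 := fun z hz => (hVle hz).2
  letI : Algebra Γ(S, W0) Γ(W, V) := (wS.appLE W0 V e).hom.toAlgebra
  haveI : Algebra.FiniteType Γ(S, W0) Γ(W, V) := LocallyOfFiniteType.finiteType_appLE wS hW0 hV e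
  let pη := hV.primeIdealOf ⟨η, hηV⟩
  let pb := hV.primeIdealOf ⟨b, hbV⟩
  have hle : pη.asIdeal ≤ pb.asIdeal := by
    have h1 : pη ≤ pb := by
      rw [PrimeSpectrum.le_iff_specializes]
      have h2 : hV.fromSpec pη ⤳ hV.fromSpec pb := by
        rw [show hV.fromSpec pη = η from hV.fromSpec_primeIdealOf ⟨η, hηV⟩, show hV.fromSpec pb = b from hV.fromSpec_primeIdealOf ⟨b, hbV⟩]
        exact hηb
      exact hV.fromSpec.isOpenEmbedding.isInducing.specializes_iff.1 h2
    exact h1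
  obtain ⟨m, hm, hbm⟩ := Ideal.exists_le_maximal pb.asIdeal pb.isPrime.ne_top
  haveI := hm
  haveI : pη.asIdeal.IsPrime := pη.isPrime
  obtain ⟨_, ⟨_, ⟨f, rfl⟩, rfl⟩, hηf, hfle⟩ := PrimeSpectrum.isBasis_basic_opens.exists_subset_of_mem_open
    (show pη ∈ hV.fromSpec ⁻¹ᵁ Oη by show hV.fromSpec pη ∈ Oη; rw [hV.fromSpec_primeIdealOf]; exact hη) (hV.fromSpec ⁻¹ᵁ Oη).2
  have hinV : ∀ x : PrimeSpectrum Γ(W, V), hV.fromSpec x ∈ V := fun x => by
    have : hV.fromSpec x ∈ Set.range hV.fromSpec := ⟨x, rfl⟩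
    rwa [hV.range_fromSpec] at this
  have hspec : ∀ (w : W) (hw : w ∈ V) (x : PrimeSpectrum Γ(W, V)), (hV.primeIdealOf ⟨w, hw⟩).asIdeal ≤ x.asIdeal → w ⤳ hV.fromSpec x := fun w hw x h => by
    have h3 := ((PrimeSpectrum.le_iff_specializes _ x).1 h).map hV.fromSpec.continuous
    rw [show hV.fromSpec (hV.primeIdealOf ⟨w, hw⟩) = w from hV.fromSpec_primeIdealOf ⟨w, hw⟩] at h3
    exact h3
  have hfP : f ∉ pη.asIdeal := hηf
  have hfm : f ∈ m := by
    by_contra h
    let xm : PrimeSpectrum Γ(W, V) := ⟨m, hm.isPrime⟩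
    exact hE' _ (hspec b hbV xm hbm) (hVle (hinV xm)).1 (hE _ (hspec η hηV xm (hle.trans hbm)) (hfle (show xm ∈ PrimeSpectrum.basicOpen f from h)))
  obtain ⟨B, _, _, φ, m1, hm1, g, hg, hφ, hc, hf0, hnoeth, hfin, hQ⟩ :=
    NagataCurve.stage1 (hS ⟨W0, hW0⟩) pη.asIdeal m (hle.trans hbm) f hfm hfP
  haveI := hm1.isPrime
  have hm0 : m1 ≠ ⊥ := fun e' => hf0 (by
    have : φ f ∈ m1 := show f ∈ m1.comap φ from hc.symm ▸ hfm
    rwa [e', Ideal.mem_bot] at this)
  refine ⟨CommRingCat.of B, ‹_›, hnoeth, Spec.map (CommRingCat.ofHom φ) ≫ hV.fromSpec, m1, hm1, g, hm0, fun Q hp => (hQ Q hp).2.2, hg, ?_, hfin,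
    fun x hx => ?_, fun x hx => ?_⟩
  · haveI : LocallyOfFiniteType (Spec.map (CommRingCat.ofHom φ)) := (HasRingHomProperty.Spec_iff (P := @LocallyOfFiniteType)).2 hφ
    infer_instance
  · let y : PrimeSpectrum Γ(W, V) := PrimeSpectrum.comap φ x
    show hV.fromSpec y ∉ E
    have hy : y.asIdeal = m := (congrArg (Ideal.comap φ) hx).trans hc
    exact hE' _ (hspec b hbV y (hbm.trans hy.ge)) (hVle (hinV y)).1
  · let y : PrimeSpectrum Γ(W, V) := PrimeSpectrum.comap φ x
    show hV.fromSpec y ∈ E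
    have h2 := hQ x.asIdeal x.isPrime
    exact hE _ (hspec η hηV y h2.1) (hfle (show y ∈ PrimeSpectrum.basicOpen f from fun h => hx (h2.2.1 h)))

/-- factor a map from a reduced scheme through an immersion. -/
theorem exists_factor {U X W : Scheme.{u}} [IsReduced U] (i : X ⟶ W) [IsImmersion i] (g : U ⟶ W)
    (h : ∀ x, g x ∈ Set.range i) : ∃ u : U ⟶ X, u ≫ i = g := by
  haveI : Surjective (pullback.fst g i) := ⟨fun x => by
    obtain ⟨y, hy⟩ := h x
    obtain ⟨z, hz, -⟩ := Scheme.Pullback.exists_preimage_pullback x y hy.symm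
    exact ⟨z, hz⟩⟩
  haveI : IsClosedImmersion (pullback.fst g i) := IsClosedImmersion.of_isPreimmersion _
    (by rw [Set.range_eq_univ.2 (pullback.fst g i).surjective]; exact isClosed_univ)
  haveI : IsIso (pullback.fst g i) := isIso_of_isClosedImmersion_of_surjective _
  exact ⟨inv (pullback.fst g i) ≫ pullback.snd g i, by rw [Category.assoc, ← pullback.condition, IsIso.inv_hom_id_assoc]⟩

theorem stalk_normal {N : Type u} [CommRing N] [IsDomain N] [IsIntegrallyClosed N] (x : Spec (CommRingCat.of N)) :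
    IsIntegrallyClosed ((Spec (CommRingCat.of N)).presheaf.stalk x) :=
  letI : Algebra N ((Spec (CommRingCat.of N)).presheaf.stalk x) := StructureSheaf.stalkAlgebra N x
  haveI : IsLocalization.AtPrime ((Spec (CommRingCat.of N)).presheaf.stalk x) (x : PrimeSpectrum N).asIdeal :=
    StructureSheaf.IsLocalization.to_stalk N x
  isIntegrallyClosed_of_isLocalization ((Spec (CommRingCat.of N)).presheaf.stalk x) (x : PrimeSpectrum N).asIdeal.primeCompl (x : PrimeSpectrum N).asIdeal.primeCompl_le_nonZeroDivisors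

theorem stalk_dim {N : Type u} [CommRing N] (x : Spec (CommRingCat.of N)) (M : Ideal N) [M.IsPrime] (hx : (x : PrimeSpectrum N).asIdeal = M) :
    ringKrullDim ((Spec (CommRingCat.of N)).presheaf.stalk x) = ringKrullDim (Localization.AtPrime M) := by
  subst hx
  letI : Algebra N ((Spec (CommRingCat.of N)).presheaf.stalk x) := StructureSheaf.stalkAlgebra N x
  haveI : IsLocalization.AtPrime ((Spec (CommRingCat.of N)).presheaf.stalk x) (x : PrimeSpectrum N).asIdeal :=
    StructureSheaf.IsLocalization.to_stalk N x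
  rw [IsLocalization.AtPrime.ringKrullDim_eq_height (x : PrimeSpectrum N).asIdeal ((Spec (CommRingCat.of N)).presheaf.stalk x),
    IsLocalization.AtPrime.ringKrullDim_eq_height (x : PrimeSpectrum N).asIdeal (Localization.AtPrime (x : PrimeSpectrum N).asIdeal)]

/-- the generic point of `Spec K → Spec O_c → C` avoids `c`. -/
theorem exists_k {C : Scheme.{u}} [IsIntegral C] (c : C) (U : C.Opens) (hU : (U : Set C) = {c}ᶜ) (hc : c ≠ genericPoint C) :
    ∃ k : Spec (CommRingCat.of (FractionRing (C.presheaf.stalk c))) ⟶ (U : Scheme.{u}),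
      k ≫ U.ι = Spec.map (CommRingCat.ofHom (algebraMap (C.presheaf.stalk c) (FractionRing (C.presheaf.stalk c)))) ≫ C.fromSpecStalk c := by
  refine ⟨IsOpenImmersion.lift U.ι (Spec.map (CommRingCat.ofHom (algebraMap (C.presheaf.stalk c) (FractionRing (C.presheaf.stalk c)))) ≫ C.fromSpecStalk c) ?_,
    IsOpenImmersion.lift_fac _ _ _⟩
  rw [Scheme.Opens.range_ι, hU]
  rintro _ ⟨s, rfl⟩
  intro h
  apply hc
  rw [Set.mem_singleton_iff] at h
  let s₀ : PrimeSpectrum (C.presheaf.stalk c) := PrimeSpectrum.comap (algebraMap (C.presheaf.stalk c) (FractionRing (C.presheaf.stalk c))) s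
  have hs₀ : s₀.asIdeal = ⊥ := by
    show Ideal.comap _ (s : PrimeSpectrum (FractionRing (C.presheaf.stalk c))).asIdeal = ⊥
    rw [((IsSimpleOrder.eq_bot_or_eq_top _).resolve_right (s : PrimeSpectrum (FractionRing (C.presheaf.stalk c))).isPrime.ne_top),
      Ideal.comap_bot_of_injective _ (IsFractionRing.injective _ _)]
  have hgen : (C.fromSpecStalk c) s₀ = genericPoint C := by
    have hη : genericPoint C ∈ Set.range (C.fromSpecStalk c) := by
      rw [Scheme.range_fromSpecStalk]; exact genericPoint_specializes c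
    obtain ⟨t, ht⟩ := hη
    have : s₀ ⤳ (t : PrimeSpectrum (C.presheaf.stalk c)) := (PrimeSpectrum.le_iff_specializes _ _).1 (by show s₀.asIdeal ≤ _; rw [hs₀]; exact bot_le)
    have h' := this.map (C.fromSpecStalk c).continuous
    rw [ht] at h'
    exact (h'.antisymm (genericPoint_specializes _)).eq
  rw [← h, ← hgen]
  rfl

end Groth.Agent.H6.NagataVal
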