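import Mathlib
import Groth.Prelude.Def_Found
import Groth.Agent.Lib.H6.NagataVal

set_option autoImplicit false
set_option linter.all false
set_option maxHeartbeats 1000000
set_option backward.isDefEq.respectTransparency.types false

/-! Valuative criteria by normal curves over Nagata schemes: universal closedness. -/

universe u

open CategoryTheory CategoryTheory.Limits AlgebraicGeometry TopologicalSpace

namespace Groth.Agent.H6.NagataVal

/-- A constructible set is, near any of its points `η`, the closure of `η`. -/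
theorem exists_open_of_constructible {X : Type u} [TopologicalSpace X] {s : Set X} (hs : Topology.IsLocallyConstructible s)
    (η : X) : ∃ O : Set X, IsOpen O ∧ η ∈ O ∧ ∀ w, η ⤳ w → w ∈ O → (η ∈ s ↔ w ∈ s) := by
  have key : ∀ {Y : Type u} [TopologicalSpace Y] {t : Set Y}, Topology.IsConstructible t →
      ∀ y : Y, ∃ O : Set Y, IsOpen O ∧ y ∈ O ∧ ∀ w, y ⤳ w → w ∈ O → (y ∈ t ↔ w ∈ t) := by
    intro Y _ t ht
    induction ht using Topology.IsConstructible.empty_union_induction with
    | open_retrocompact U hU _ =>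
      intro y
      by_cases h : y ∈ U
      · exact ⟨U, hU, h, fun w _ hw => iff_of_true h hw⟩
      · exact ⟨Set.univ, isOpen_univ, trivial, fun w hw _ => iff_of_false h fun hw' => h (hw.mem_open hU hw')⟩
    | union a _ b _ ha hb =>
      intro y
      obtain ⟨O, hO, hyO, hO'⟩ := ha y
      obtain ⟨P, hP, hyP, hP'⟩ := hb y
      exact ⟨O ∩ P, hO.inter hP, ⟨hyO, hyP⟩, fun w hw hwOP => or_congr (hO' w hw hwOP.1) (hP' w hw hwOP.2)⟩
    | compl a _ ha =>
      intro y
      obtain ⟨O, hO, hyO, hO'⟩ := ha y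
      exact ⟨O, hO, hyO, fun w hw hwO => not_congr (hO' w hw hwO)⟩
  obtain ⟨U, hU, hUo, hUs⟩ := hs η
  obtain ⟨O, hO, hηO, hO'⟩ := key hUs ⟨η, mem_of_mem_nhds hU⟩
  refine ⟨Subtype.val '' O, hUo.isOpenMap_subtype_val O hO, ⟨_, hηO, rfl⟩, ?_⟩
  rintro _ hw ⟨w, hwO, rfl⟩
  exact hO' w ((subtype_specializes_iff _ _).2 hw) hwO

/-- A point of a closed subset in the fibre over a `K`-point, with finite residue field. -/
theorem exists_finite_point {W X' : Scheme.{u}} (π : X' ⟶ W) [LocallyOfFiniteType π] (Z : Set X') (hZ : IsClosed Z)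
    (K : Type u) [Field K] (pt : Spec (CommRingCat.of K) ⟶ W) (z : X') (hz : z ∈ Z) (w : Spec (CommRingCat.of K)) (hzw : π z = pt w) :
    ∃ (L : Type u) (_ : Field L) (_ : Algebra K L) (_ : FiniteDimensional K L) (lam : Spec (CommRingCat.of L) ⟶ X'),
      lam ≫ π = Spec.map (CommRingCat.ofHom (algebraMap K L)) ≫ pt ∧ ∀ t, lam t ∈ Z := by
  obtain ⟨y, hy, -⟩ := Scheme.Pullback.exists_preimage_pullback (f := π) (g := pt) z w hzw
  obtain ⟨A, e, _, ⟨a, ha⟩, -⟩ := Scheme.exists_affine_mem_range_and_range_subset (show y ∈ (⊤ : (pullback π pt).Opens) from trivial)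
  obtain ⟨φ, hφ⟩ := Spec.map_surjective (e ≫ pullback.snd π pt)
  have hft : φ.hom.FiniteType := (HasRingHomProperty.Spec_iff (P := @LocallyOfFiniteType)).1 (by rw [hφ]; infer_instance)
  obtain ⟨M, hM, haM⟩ := Ideal.exists_le_maximal (a : PrimeSpectrum A).asIdeal (a : PrimeSpectrum A).isPrime.ne_top
  haveI := hM
  letI : Algebra K A := φ.hom.toAlgebra
  haveI : Algebra.FiniteType K A := hft
  letI : Field (A ⧸ M) := Ideal.Quotient.field M
  haveI : Algebra.FiniteType K (A ⧸ M) := Algebra.FiniteType.of_surjective (Ideal.Quotient.mkₐ K M) Ideal.Quotient.mk_surjective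
  refine ⟨A ⧸ M, inferInstance, inferInstance, finite_of_finite_type_of_isJacobsonRing K (A ⧸ M),
    Spec.map (CommRingCat.ofHom (Ideal.Quotient.mk M)) ≫ e ≫ pullback.fst π pt, ?_, fun t => ?_⟩
  · rw [Category.assoc, Category.assoc, pullback.condition, ← reassoc_of% hφ, ← Spec.map_comp_assoc]
    rfl
  · rw [Scheme.Hom.comp_apply, Scheme.Hom.comp_apply]
    have hsp : (a : PrimeSpectrum A) ⤳ PrimeSpectrum.comap (Ideal.Quotient.mk M) t := by
      refine (PrimeSpectrum.le_iff_specializes _ _).1 fun x hx => ?_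
      show Ideal.Quotient.mk M x ∈ (t : PrimeSpectrum (A ⧸ M)).asIdeal
      rw [Ideal.Quotient.eq_zero_iff_mem.2 (haM hx)]
      exact zero_mem _
    have h2 := (hsp.map e.continuous).map (pullback.fst π pt).continuous
    exact h2.mem_closed hZ (by rw [show e a = y from ha, hy]; exact hz)

/-- spread a generic point to the complement of a closed point of a curve. -/
theorem spread {W X' : Scheme.{u}} (π : X' ⟶ W) [LocallyOfFiniteType π] {N : Type u} [CommRing N] [IsDomain N] [IsNoetherianRing N]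
    (L : Type u) [Field L] [Algebra N L] [IsFractionRing N L] (G : Spec (CommRingCat.of N) ⟶ W)
    (lam : Spec (CommRingCat.of L) ⟶ X') (hlam : lam ≫ π = Spec.map (CommRingCat.ofHom (algebraMap N L)) ≫ G)
    (M : Ideal N) [M.IsMaximal] (hM0 : M ≠ ⊥) (hmin : ∀ Q : Ideal N, Q.IsPrime → Q ≠ ⊥ → Q ≤ M → Q = M) :
    ∃ (s t : N) (θ : Spec (CommRingCat.of (Localization.Away s)) ⟶ X'),
      s ∈ M ∧ t ∉ M ∧ s ≠ 0 ∧ (∀ Q : Ideal N, Q.IsPrime → s ∈ Q → t ∉ Q → Q = M) ∧
      θ ≫ π = Spec.map (CommRingCat.ofHom (algebraMap N (Localization.Away s))) ≫ G ∧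
      ∀ q : PrimeSpectrum (Localization.Away s), q.asIdeal.comap (algebraMap N (Localization.Away s)) = ⊥ → ∃ l, θ q = lam l := by
  classical
  let sec : Spec (CommRingCat.of L) ⟶ pullback π G := pullback.lift lam (Spec.map (CommRingCat.ofHom (algebraMap N L))) hlam
  obtain ⟨A, e, _, ⟨a, ha⟩, -⟩ := Scheme.exists_affine_mem_range_and_range_subset (show sec default ∈ (⊤ : (pullback π G).Opens) from trivial)
  obtain ⟨φ, hφ⟩ := Spec.map_surjective (e ≫ pullback.snd π G)
  have hft : φ.hom.FiniteType := (HasRingHomProperty.Spec_iff (P := @LocallyOfFiniteType)).1 (by rw [hφ]; infer_instance)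
  have hrange : Set.range sec ⊆ Set.range e := by
    rintro _ ⟨l, rfl⟩
    exact ⟨a, ha.trans (congrArg sec (Subsingleton.elim default l))⟩
  obtain ⟨χ, hχ⟩ := Spec.map_surjective (IsOpenImmersion.lift e sec hrange)
  have hχe : Spec.map χ ≫ e = sec := by rw [hχ, IsOpenImmersion.lift_fac]
  have hcomm : φ ≫ χ = CommRingCat.ofHom (algebraMap N L) := Spec.map_injective (by
    rw [Spec.map_comp, hφ, ← Category.assoc, hχe, pullback.lift_snd])
  letI : Algebra N A := φ.hom.toAlgebra
  haveI : Algebra.FiniteType N A := hft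
  let χ' : A →ₐ[N] L := { χ.hom with commutes' := fun x => congrArg (fun k : CommRingCat.of N ⟶ CommRingCat.of L => k.hom x) hcomm }
  obtain ⟨G0, hG0⟩ := (‹Algebra.FiniteType N A›).out
  choose num hden using fun x : L => IsLocalization.surj (nonZeroDivisors N) x
  obtain ⟨e0, he0M, he00⟩ := Submodule.exists_mem_ne_zero_of_ne_bot hM0
  let d : A → N := fun x => ((num (χ' x)).2 : N)
  let s : N := (∏ x ∈ G0, d x) * e0
  have hd0 : ∀ x, d x ≠ 0 := fun x => nonZeroDivisors.ne_zero (num (χ' x)).2.2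
  have hs0 : s ≠ 0 := mul_ne_zero (Finset.prod_ne_zero_iff.2 fun x _ => hd0 x) he00
  have hsM : s ∈ M := Ideal.mul_mem_left _ _ he0M
  have hsu : IsUnit (Algebra.ofId N L s) :=
    IsLocalization.map_units L (⟨s, mem_nonZeroDivisors_of_ne_zero hs0⟩ : nonZeroDivisors N)
  let ι : Localization.Away s →ₐ[N] L := { IsLocalization.Away.lift (S := Localization.Away s) s (g := algebraMap N L) hsu with
    commutes' := fun x => IsLocalization.Away.lift_eq s hsu x }
  haveI : IsDomain (Localization.Away s) := IsLocalization.isDomain_localization (powers_le_nonZeroDivisors_of_noZeroDivisors hs0)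
  have hιinj : Function.Injective ι := by
    rw [injective_iff_map_eq_zero]
    intro x hx
    obtain ⟨⟨y, ⟨_, n, rfl⟩⟩, hy⟩ := IsLocalization.surj (Submonoid.powers s) x
    have h1 := congrArg ι hy
    rw [map_mul, hx, zero_mul, AlgHom.commutes] at h1
    have hy0 : y = 0 := IsFractionRing.injective N L (h1.symm.trans (map_zero _).symm)
    rw [hy0, map_zero] at hy
    exact (IsLocalization.map_units (Localization.Away s) (⟨_, n, rfl⟩ : Submonoid.powers s)).mul_left_eq_zero.1 hy
  have hle : χ'.range ≤ ι.range := by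
    rw [← Algebra.map_top, ← hG0, AlgHom.map_adjoin]
    refine Algebra.adjoin_le ?_
    rintro _ ⟨x, hx, rfl⟩
    have hdu : IsUnit (algebraMap N (Localization.Away s) (d x)) :=
      isUnit_of_dvd_unit (map_dvd _ (dvd_mul_of_dvd_left (Finset.dvd_prod_of_mem d hx) e0)) (IsLocalization.Away.algebraMap_isUnit s)
    refine ⟨algebraMap N _ (num (χ' x)).1 * ↑hdu.unit⁻¹, ?_⟩
    have h1 : χ' x * algebraMap N L (d x) = algebraMap N L (num (χ' x)).1 := hden (χ' x)
    show ι (_ * _) = χ' x
    have h2 : ι ↑hdu.unit⁻¹ * algebraMap N L (d x) = 1 := by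
      rw [← AlgHom.commutes ι, ← map_mul, IsUnit.val_inv_mul, map_one]
    rw [map_mul, AlgHom.commutes, ← h1, mul_assoc, mul_comm (algebraMap N L (d x)), h2, mul_one]
  let θ0 : A →ₐ[N] Localization.Away s :=
    (AlgEquiv.ofInjective ι hιinj).symm.toAlgHom.comp (χ'.codRestrict ι.range fun x => hle ⟨x, rfl⟩)
  have hθ0 : ∀ x, ι (θ0 x) = χ' x := fun x =>
    congrArg Subtype.val ((AlgEquiv.ofInjective ι hιinj).apply_symm_apply _)
  obtain ⟨t, htM, ht⟩ := NagataCurve.exists_avoid M
    ((Ideal.finite_minimalPrimes_of_isNoetherianRing N (Ideal.span {s})).toFinset.filter (· ≠ M)) (fun J hJ hle' => by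
      rw [Finset.mem_filter, Set.Finite.mem_toFinset] at hJ
      refine hJ.2 (hmin J hJ.1.1.1 (fun h => hs0 ?_) hle')
      have := hJ.1.1.2 (Ideal.mem_span_singleton_self s)
      rwa [h, Ideal.mem_bot] at this)
  refine ⟨s, t, Spec.map (CommRingCat.ofHom θ0.toRingHom) ≫ e ≫ pullback.fst π G, hsM, htM, hs0, fun Q hQ hsQ htQ => ?_, ?_, fun q hq => ?_⟩
  · obtain ⟨J, hJ, hJQ⟩ := Ideal.exists_minimalPrimes_le ((Ideal.span_singleton_le_iff_mem Q).2 hsQ)
    by_cases hJM : J = M
    · subst hJM
      exact (‹J.IsMaximal›.eq_of_le hQ.ne_top hJQ).symm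
    · exact absurd (hJQ (ht J (Finset.mem_filter.2 ⟨(Set.Finite.mem_toFinset _).2 hJ, hJM⟩))) htQ
  · rw [Category.assoc, Category.assoc, pullback.condition, ← reassoc_of% hφ, ← Spec.map_comp_assoc]
    congr 2
    exact CommRingCat.hom_ext (RingHom.ext fun x => θ0.commutes x)
  · refine ⟨default, ?_⟩
    have hq0 : q.asIdeal = ⊥ := by
      rw [← IsLocalization.map_under (Submonoid.powers s) (Localization.Away s) q.asIdeal, Ideal.under_def, hq, Ideal.map_bot]
    have hq' : q = PrimeSpectrum.comap ι.toRingHom default := PrimeSpectrum.ext (by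
      rw [hq0, PrimeSpectrum.comap_asIdeal,
        (IsSimpleOrder.eq_bot_or_eq_top _).resolve_right (default : PrimeSpectrum L).isPrime.ne_top, Ideal.comap_bot_of_injective ι.toRingHom hιinj])
    have hfac : Spec.map (CommRingCat.ofHom ι.toRingHom) ≫ Spec.map (CommRingCat.ofHom θ0.toRingHom) ≫ e ≫ pullback.fst π G = lam := by
      rw [← Spec.map_comp_assoc, show CommRingCat.ofHom θ0.toRingHom ≫ CommRingCat.ofHom ι.toRingHom = χ from
        CommRingCat.hom_ext (RingHom.ext hθ0), reassoc_of% hχe, pullback.lift_fst]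
    have h9 := congrArg (fun k : Spec (CommRingCat.of L) ⟶ X' => k default) hfac
    simp only [Scheme.Hom.comp_apply] at h9 ⊢
    rw [← h9, hq']
    exact congrArg (fun z : Spec (CommRingCat.of (Localization.Away s)) => pullback.fst π G (e ((Spec.map (CommRingCat.ofHom θ0.toRingHom)) z))) (congrArg (PrimeSpectrum.comap ι.toRingHom) (Subsingleton.elim _ _))

end Groth.Agent.H6.NagataVal

namespace Groth.Agent.H6.NagataVal

/-- the point of `Spec K` goes to the generic point. -/
theorem k_generic {C : Scheme.{u}} [IsIntegral C] (c : C) (p : Spec (CommRingCat.of (FractionRing (C.presheaf.stalk c)))) :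
    C.fromSpecStalk c (Spec.map (CommRingCat.ofHom (algebraMap (C.presheaf.stalk c) (FractionRing (C.presheaf.stalk c)))) p) = genericPoint C := by
  let s₀ : PrimeSpectrum (C.presheaf.stalk c) := PrimeSpectrum.comap (algebraMap (C.presheaf.stalk c) (FractionRing (C.presheaf.stalk c))) p
  have hs₀ : s₀.asIdeal = ⊥ := by
    show Ideal.comap _ (p : PrimeSpectrum (FractionRing (C.presheaf.stalk c))).asIdeal = ⊥
    rw [((IsSimpleOrder.eq_bot_or_eq_top _).resolve_right (p : PrimeSpectrum (FractionRing (C.presheaf.stalk c))).isPrime.ne_top),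
      Ideal.comap_bot_of_injective _ (IsFractionRing.injective _ _)]
  obtain ⟨t, ht⟩ : genericPoint C ∈ Set.range (C.fromSpecStalk c) := by
    rw [Scheme.range_fromSpecStalk]; exact genericPoint_specializes c
  have h1 : s₀ ⤳ (t : PrimeSpectrum (C.presheaf.stalk c)) := (PrimeSpectrum.le_iff_specializes _ _).1 (by show s₀.asIdeal ≤ _; rw [hs₀]; exact bot_le)
  have h' := h1.map (C.fromSpecStalk c).continuous
  rw [ht] at h'
  exact (h'.antisymm (genericPoint_specializes _)).eq

theorem genericPoint_Spec {N : Type u} [CommRing N] [IsDomain N] :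
    (genericPoint (Spec (CommRingCat.of N)) : PrimeSpectrum N).asIdeal = ⊥ :=
  le_bot_iff.1 ((PrimeSpectrum.le_iff_specializes (genericPoint (Spec (CommRingCat.of N)) : PrimeSpectrum N) ⟨⊥, Ideal.isPrime_bot⟩).2
    (genericPoint_specializes _))

theorem valuationRing_of_normal_dim_one (A : Type u) [CommRing A] [IsDomain A] [IsLocalRing A] [IsNoetherianRing A]
    [IsIntegrallyClosed A] (h : ringKrullDim A = 1) : ValuationRing A := by
  have hnf : ¬ IsField A := fun hf => by
    rw [ringKrullDim_eq_zero_of_isField hf] at h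
    exact zero_ne_one h
  haveI : Ring.KrullDimLE 1 A := Ring.krullDimLE_iff.2 h.le
  refine ((IsDiscreteValuationRing.TFAE A hnf).out 2 1).1 ?_
  haveI : Ring.DimensionLEOne A := ⟨fun {p} hp0 hp => Ring.krullDimLE_one_iff_of_noZeroDivisors.1 ‹_› p hp0 hp⟩
  exact { }

end Groth.Agent.H6.NagataVal
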