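import Mathlib
import Groth.Prelude.Def_Found
import Groth.Prelude.Def_Pi1

set_option autoImplicit false
set_option linter.all false
set_option maxHeartbeats 1000000
set_option backward.isDefEq.respectTransparency.types false

/-! Normalization of an integral scheme in a field. -/

universe u

open CategoryTheory CategoryTheory.Limits AlgebraicGeometry TopologicalSpace

namespace Groth.Agent.H6.NormField

variable {X : Scheme.{u}} {K : Type u} [Field K] (g : Spec (CommRingCat.of K) ⟶ X)

/-- evaluation of a function near the image point. -/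
noncomputable def ev (U : X.Opens) (hU : g (IsLocalRing.closedPoint K) ∈ U) : Γ(X, U) →+* K :=
  (X.presheaf.germ U _ hU ≫ Scheme.stalkClosedPointTo g).hom

theorem ev_fromSpecStalk [IsIntegral X] (φ : X.functionField →+* K)
    (hg : g = Spec.map (CommRingCat.ofHom φ) ≫ X.fromSpecStalk (genericPoint X))
    (U : X.Opens) [Nonempty U] (hU : g (IsLocalRing.closedPoint K) ∈ U) :
    ev g U hU = φ.comp (X.germToFunctionField U).hom := by
  subst hg
  letI := (genericPoint_spec X)
  haveI : IsLocalHom (CommRingCat.ofHom φ : X.presheaf.stalk (genericPoint X) ⟶ CommRingCat.of K).hom :=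
    ⟨fun a ha => (isUnit_iff_ne_zero (G₀ := X.functionField)).2 fun h0 => ha.ne_zero ((congrArg φ h0).trans (map_zero φ))⟩
  exact congrArg CommRingCat.Hom.hom (Scheme.germ_stalkClosedPointTo_Spec_fromSpecStalk (R := CommRingCat.of K) (CommRingCat.ofHom φ) U hU)

theorem image_point [IsIntegral X] (φ : X.functionField →+* K)
    (hg : g = Spec.map (CommRingCat.ofHom φ) ≫ X.fromSpecStalk (genericPoint X)) (s : Spec (CommRingCat.of K)) :
    g s = genericPoint X := by
  subst hg
  rw [Scheme.Hom.comp_apply]
  have : (Spec.map (CommRingCat.ofHom φ)) s = IsLocalRing.closedPoint X.functionField :=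
    Subsingleton.elim (α := PrimeSpectrum X.functionField) _ _
  rw [this]
  exact Scheme.fromSpecStalk_closedPoint

variable [QuasiCompact g] [QuasiSeparated g]

/-- sections of the normalization over an affine open containing the image point. -/
theorem exists_equiv (U : X.Opens) (hUa : IsAffineOpen U) (hU : g (IsLocalRing.closedPoint K) ∈ U) :
    letI := (ev g U hU).toAlgebra
    ∃ e : Γ(g.normalization, g.fromNormalization ⁻¹ᵁ U) ≃+* integralClosure Γ(X, U) K,
      ∀ a, e ((g.fromNormalization.app U).hom a) = algebraMap Γ(X, U) _ a := by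
  letI := (ev g U hU).toAlgebra
  letI := (g.app U).hom.toAlgebra
  let ρ : Γ(Spec (CommRingCat.of K), g ⁻¹ᵁ U) ≅ CommRingCat.of K :=
    (Spec (CommRingCat.of K)).presheaf.mapIso (eqToIso (Scheme.preimage_eq_top_of_closedPoint_mem g hU).symm).op ≪≫
      Scheme.ΓSpecIso (CommRingCat.of K)
  have hρ : g.app U ≫ ρ.hom = X.presheaf.germ U _ hU ≫ Scheme.stalkClosedPointTo g :=
    (Scheme.germ_stalkClosedPointTo g U hU).symm
  let ρ' : Γ(Spec (CommRingCat.of K), g ⁻¹ᵁ U) ≃ₐ[Γ(X, U)] K :=
    { ρ.commRingCatIsoToRingEquiv with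
      commutes' := fun a => congrArg (fun k : Γ(X, U) ⟶ CommRingCat.of K => k.hom a) hρ }
  refine ⟨(g.normalizationObjIso hUa).commRingCatIsoToRingEquiv.trans ρ'.mapIntegralClosure.toRingEquiv, fun a => ?_⟩
  show ρ'.mapIntegralClosure ((g.normalizationObjIso hUa).hom.hom ((g.fromNormalization.app U).hom a)) = _
  rw [Scheme.Hom.fromNormalization_app g hUa]
  show ρ'.mapIntegralClosure ((((g.normalizationObjIso hUa).inv ≫ (g.normalizationObjIso hUa).hom)).hom (algebraMap _ _ a)) = _
  rw [Iso.inv_hom_id]
  exact ρ'.mapIntegralClosure.commutes a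

/-- finiteness of the normalization in a field. -/
theorem isFinite (h : ∀ (U : X.Opens), IsAffineOpen U → ∀ hU : g (IsLocalRing.closedPoint K) ∈ U,
    letI := (ev g U hU).toAlgebra
    Module.Finite Γ(X, U) (integralClosure Γ(X, U) K)) : IsFinite g.fromNormalization := by
  rw [isFinite_iff]
  refine ⟨inferInstance, fun U hUa => ?_⟩
  by_cases hU : g (IsLocalRing.closedPoint K) ∈ U
  · letI := (ev g U hU).toAlgebra
    obtain ⟨e, he⟩ := exists_equiv g U hUa hU
    have h1 : (algebraMap Γ(X, U) (integralClosure Γ(X, U) K)).Finite := RingHom.finite_algebraMap.2 (h U hUa hU)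
    have h2 : (g.fromNormalization.app U).hom = e.symm.toRingHom.comp (algebraMap Γ(X, U) (integralClosure Γ(X, U) K)) :=
      RingHom.ext fun a => e.eq_symm_apply.2 (he a)
    rw [h2]
    exact (RingHom.Finite.of_surjective _ e.symm.surjective).comp h1
  · letI := (g.app U).hom.toAlgebra
    have hbot : g ⁻¹ᵁ U = ⊥ := by
      ext s
      refine iff_of_false (fun hs => hU ?_) id
      rwa [show IsLocalRing.closedPoint K = s from Subsingleton.elim (α := PrimeSpectrum K) _ _]
    haveI : Subsingleton Γ(Spec (CommRingCat.of K), g ⁻¹ᵁ U) := by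
      rw [hbot]; infer_instance
    haveI : Subsingleton (integralClosure Γ(X, U) Γ(Spec (CommRingCat.of K), g ⁻¹ᵁ U)) := Subtype.coe_injective.subsingleton
    haveI : Subsingleton Γ(g.normalization, g.fromNormalization ⁻¹ᵁ U) :=
      (g.normalizationObjIso hUa).commRingCatIsoToRingEquiv.injective.subsingleton
    exact RingHom.Finite.of_surjective _ fun b => ⟨0, Subsingleton.elim _ _⟩

/-- the integral closure in a field is integrally closed. -/
theorem isIntegrallyClosed_integralClosure (A : Type u) [CommRing A] [Algebra A K] :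
    IsIntegrallyClosed (integralClosure A K) := by
  let C := integralClosure A K
  rw [isIntegrallyClosed_iff (FractionRing C)]
  intro x hx
  let ι : FractionRing C →+* K := IsFractionRing.lift (A := C) (g := C.val.toRingHom) Subtype.val_injective
  have hι : ∀ c : C, ι (algebraMap C _ c) = (c : K) := fun c => IsFractionRing.lift_algebraMap Subtype.val_injective c
  have h1 : IsIntegral C (ι x) := by
    obtain ⟨p, hp, he⟩ := hx
    refine ⟨p, hp, ?_⟩
    have := congrArg ι he
    rw [map_zero, Polynomial.hom_eval₂] at this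
    rw [show algebraMap C K = ι.comp (algebraMap C (FractionRing C)) from RingHom.ext fun c => (hι c).symm]
    exact this
  haveI : Algebra.IsIntegral A C := integralClosure.AlgebraIsIntegral
  have h2 : IsIntegral A (ι x) := isIntegral_trans (ι x) h1
  exact ⟨⟨ι x, h2⟩, ι.injective (hι _)⟩

theorem isNormalScheme [IsIntegral X] (φ : X.functionField →+* K)
    (hg : g = Spec.map (CommRingCat.ofHom φ) ≫ X.fromSpecStalk (genericPoint X)) : Pi1.IsNormalScheme g.normalization := by
  intro x
  obtain ⟨U, hUa, hxU, -⟩ := exists_isAffineOpen_mem_and_subset (X := X) (x := g.fromNormalization x) (U := ⊤) trivial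
  have hU : g (IsLocalRing.closedPoint K) ∈ U := by
    rw [image_point g φ hg]
    exact (genericPoint_specializes (g.fromNormalization x)).mem_open U.2 hxU
  letI := (ev g U hU).toAlgebra
  obtain ⟨e, -⟩ := exists_equiv g U hUa hU
  have hW : IsAffineOpen (g.fromNormalization ⁻¹ᵁ U) := hUa.preimage g.fromNormalization
  haveI : IsDomain Γ(g.normalization, g.fromNormalization ⁻¹ᵁ U) := e.toMulEquiv.isDomain
  haveI := isIntegrallyClosed_integralClosure (K := K) Γ(X, U)
  haveI : IsIntegrallyClosed Γ(g.normalization, g.fromNormalization ⁻¹ᵁ U) := IsIntegrallyClosed.of_equiv e.symm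
  let p := hW.primeIdealOf ⟨x, hxU⟩
  letI : Algebra Γ(g.normalization, g.fromNormalization ⁻¹ᵁ U) (g.normalization.presheaf.stalk x) :=
    (g.normalization.presheaf.germ _ x hxU).hom.toAlgebra
  haveI : IsLocalization.AtPrime (g.normalization.presheaf.stalk x) p.asIdeal := hW.isLocalization_stalk ⟨x, hxU⟩
  refine ⟨IsLocalization.isDomain_of_le_nonZeroDivisors (g.normalization.presheaf.stalk x) p.asIdeal.primeCompl_le_nonZeroDivisors, ?_⟩
  exact isIntegrallyClosed_of_isLocalization (R := Γ(g.normalization, g.fromNormalization ⁻¹ᵁ U)) (S := g.normalization.presheaf.stalk x) p.asIdeal.primeCompl p.asIdeal.primeCompl_le_nonZeroDivisors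

theorem dim_one {C : Type u} [CommRing C] [IsDomain C] {A : Type u} [CommRing A] [IsDomain A] [Algebra A C] [Algebra.IsIntegral A C]
    (hinj : Function.Injective (algebraMap A C)) (Q : Ideal C) [Q.IsMaximal] (m : Ideal A) [m.IsMaximal]
    (hQ : Q.comap (algebraMap A C) = m) (hm : m.height = 1) : Q.height = 1 := by
  have hQ0 : Q ≠ ⊥ := fun e => by
    rw [e, Ideal.comap_bot_of_injective _ hinj] at hQ
    rw [← hQ, Ideal.height_bot] at hm
    exact zero_ne_one hm
  have hmfin : m.height < ⊤ := hm ▸ ENat.coe_lt_top 1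
  refine le_antisymm ?_ ?_
  · refine Ideal.height_le_iff.2 fun Q' hQ' hlt => ?_
    have : Q' = ⊥ := by_contra fun h0 => by
      obtain ⟨c, hc, hc0⟩ := Submodule.exists_mem_ne_zero_of_ne_bot h0
      haveI := hQ'
      haveI : (Q'.comap (algebraMap A C)).IsPrime := Ideal.IsPrime.comap _
      have hne : Q'.comap (algebraMap A C) ≠ ⊥ := Ideal.comap_ne_bot_of_integral_mem hc0 hc (Algebra.IsIntegral.isIntegral c)
      have hle : Q'.comap (algebraMap A C) ≤ m := hQ ▸ Ideal.comap_mono hlt.le
      rcases hle.lt_or_eq with h | h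
      · haveI : (Q'.comap (algebraMap A C)).FiniteHeight := ⟨Or.inr (ne_top_of_le_ne_top hmfin.ne (Ideal.height_mono h.le))⟩
        have h1 := Ideal.height_strict_mono_of_isPrime h
        rw [hm, ENat.lt_one_iff_eq_zero, ← nonpos_iff_eq_zero] at h1
        have h2 : (⊥ : Ideal A).height + 1 ≤ (Q'.comap (algebraMap A C)).height :=
          Ideal.height_add_one_le_of_lt_of_isPrime (bot_lt_iff_ne_bot.2 hne)
        rw [nonpos_iff_eq_zero.1 h1, nonpos_iff_eq_zero] at h2
        exact one_ne_zero (add_eq_zero.1 h2).2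
      · haveI : Q'.IsMaximal := Ideal.isMaximal_of_isIntegral_of_isMaximal_comap Q' (by rw [h]; infer_instance)
        exact hlt.ne (‹Q'.IsMaximal›.eq_of_le (Ideal.IsPrime.ne_top (‹Q.IsMaximal›.isPrime)) hlt.le)
    rw [this, Ideal.height_bot]
    exact zero_lt_one
  · refine ENat.one_le_iff_ne_zero.2 fun h0 => ?_
    have h1 : (⊥ : Ideal C).height + 1 ≤ Q.height := Ideal.height_add_one_le_of_lt_of_isPrime (bot_lt_iff_ne_bot.2 hQ0)
    rw [h0, nonpos_iff_eq_zero] at h1
    exact one_ne_zero (add_eq_zero.1 h1).2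

/-- the normalization at a closed point over a one-dimensional closed point. -/
theorem ringKrullDim_stalk [IsIntegral X] (φ : X.functionField →+* K)
    (hg : g = Spec.map (CommRingCat.ofHom φ) ≫ X.fromSpecStalk (genericPoint X))
    (hX : ∀ x : X, IsClosed ({x} : Set X) → ringKrullDim (X.presheaf.stalk x) = 1)
    (x : g.normalization) (hx : IsClosed ({x} : Set g.normalization)) :
    ringKrullDim (g.normalization.presheaf.stalk x) = 1 := by
  have hx0 : IsClosed ({g.fromNormalization x} : Set X) := by
    rw [← Set.image_singleton]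
    exact g.fromNormalization.isClosedMap _ hx
  obtain ⟨U, hUa, hxU, -⟩ := exists_isAffineOpen_mem_and_subset (X := X) (x := g.fromNormalization x) (U := ⊤) trivial
  haveI : Nonempty U := ⟨⟨_, hxU⟩⟩
  have hU : g (IsLocalRing.closedPoint K) ∈ U := by
    rw [image_point g φ hg]
    exact (genericPoint_specializes (g.fromNormalization x)).mem_open U.2 hxU
  letI := (ev g U hU).toAlgebra
  obtain ⟨e, he⟩ := exists_equiv g U hUa hU
  have hW : IsAffineOpen (g.fromNormalization ⁻¹ᵁ U) := hUa.preimage g.fromNormalization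
  let p := hW.primeIdealOf ⟨x, hxU⟩
  haveI : p.asIdeal.IsMaximal := hW.primeIdealOf_isMaximal_of_isClosed ⟨x, hxU⟩ hx
  let m := hUa.primeIdealOf ⟨g.fromNormalization x, hxU⟩
  haveI : m.asIdeal.IsMaximal := hUa.primeIdealOf_isMaximal_of_isClosed ⟨_, hxU⟩ hx0
  have hpm : Ideal.comap (g.fromNormalization.app U).hom p.asIdeal = m.asIdeal := by
    have h := IsAffineOpen.comap_primeIdealOf_appLE (f := g.fromNormalization) U hUa _ hW le_rfl hxU
    rw [← Scheme.Hom.app_eq_appLE] at h
    exact congrArg PrimeSpectrum.asIdeal h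
  letI : Algebra Γ(X, U) (X.presheaf.stalk (g.fromNormalization x)) := (X.presheaf.germ _ _ hxU).hom.toAlgebra
  haveI : IsLocalization.AtPrime (X.presheaf.stalk (g.fromNormalization x)) m.asIdeal := hUa.isLocalization_stalk ⟨_, hxU⟩
  letI : Algebra Γ(g.normalization, g.fromNormalization ⁻¹ᵁ U) (g.normalization.presheaf.stalk x) :=
    (g.normalization.presheaf.germ _ x hxU).hom.toAlgebra
  haveI : IsLocalization.AtPrime (g.normalization.presheaf.stalk x) p.asIdeal := hW.isLocalization_stalk ⟨x, hxU⟩
  have hm1 : m.asIdeal.height = 1 := by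
    have h := hX _ hx0
    rw [IsLocalization.AtPrime.ringKrullDim_eq_height m.asIdeal] at h
    exact_mod_cast h
  haveI : IsDomain Γ(X, U) := inferInstance
  haveI : Algebra.IsIntegral Γ(X, U) (integralClosure Γ(X, U) K) := integralClosure.AlgebraIsIntegral
  have hinj : Function.Injective (algebraMap Γ(X, U) (integralClosure Γ(X, U) K)) := fun a b h => by
    have h1 : ev g U hU a = ev g U hU b := congrArg Subtype.val h
    rw [ev_fromSpecStalk g φ hg U hU] at h1
    exact X.germToFunctionField_injective U (φ.injective h1)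
  haveI : (p.asIdeal.comap e.symm).IsMaximal := Ideal.comap_isMaximal_of_equiv e.symm
  have hQ : (p.asIdeal.comap e.symm).comap (algebraMap Γ(X, U) (integralClosure Γ(X, U) K)) = m.asIdeal := by
    rw [← hpm]
    ext a
    show e.symm (algebraMap _ _ a) ∈ p.asIdeal ↔ _
    rw [← he a, e.symm_apply_apply]
    rfl
  rw [IsLocalization.AtPrime.ringKrullDim_eq_height p.asIdeal]
  rw [show p.asIdeal.height = (p.asIdeal.comap e.symm).height from (RingEquiv.height_comap e.symm p.asIdeal).symm,
    dim_one hinj (p.asIdeal.comap e.symm) m.asIdeal hQ hm1]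
  rfl

end Groth.Agent.H6.NormField
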