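import Mathlib
import Groth.Prelude.Def_Found
import Groth.Prelude.Def_Pi1
import Groth.Agent.Lib.H6.NormField

set_option autoImplicit false
set_option linter.all false
set_option maxHeartbeats 1000000
set_option backward.isDefEq.respectTransparency.types false

/-! Normalization of an integral scheme in a field: the generic point. -/

universe u

open CategoryTheory CategoryTheory.Limits AlgebraicGeometry TopologicalSpace

namespace Groth.Agent.H6.NormField

variable {X : Scheme.{u}} {K : Type u} [Field K] (g : Spec (CommRingCat.of K) ⟶ X) [QuasiCompact g] [QuasiSeparated g]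

theorem exists_equiv' (U : X.Opens) (hUa : IsAffineOpen U) (hU : g (IsLocalRing.closedPoint K) ∈ U)
    (hU' : g.toNormalization (IsLocalRing.closedPoint K) ∈ g.fromNormalization ⁻¹ᵁ U) :
    letI := (ev g U hU).toAlgebra
    ∃ e : Γ(g.normalization, g.fromNormalization ⁻¹ᵁ U) ≃+* integralClosure Γ(X, U) K,
      (∀ a, e ((g.fromNormalization.app U).hom a) = algebraMap Γ(X, U) _ a) ∧
      ∀ b, (e b : K) = (g.normalization.presheaf.germ _ _ hU' ≫ Scheme.stalkClosedPointTo g.toNormalization).hom b := by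
  letI := (ev g U hU).toAlgebra
  letI := (g.app U).hom.toAlgebra
  let ρ : Γ(Spec (CommRingCat.of K), g ⁻¹ᵁ U) ≅ CommRingCat.of K :=
    (Spec (CommRingCat.of K)).presheaf.mapIso (eqToIso (Scheme.preimage_eq_top_of_closedPoint_mem g hU).symm).op ≪≫
      Scheme.ΓSpecIso (CommRingCat.of K)
  have hρ : g.app U ≫ ρ.hom = X.presheaf.germ U _ hU ≫ Scheme.stalkClosedPointTo g :=
    (Scheme.germ_stalkClosedPointTo g U hU).symm
  let ρ' : Γ(Spec (CommRingCat.of K), g ⁻¹ᵁ U) ≃ₐ[Γ(X, U)] K :=
    { ρ.commRingCatIsoToRingEquiv with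
      commutes' := fun a => congrArg (fun k : Γ(X, U) ⟶ CommRingCat.of K => k.hom a) hρ }
  refine ⟨(g.normalizationObjIso hUa).commRingCatIsoToRingEquiv.trans ρ'.mapIntegralClosure.toRingEquiv, fun a => ?_, fun b => ?_⟩
  · show ρ'.mapIntegralClosure ((g.normalizationObjIso hUa).hom.hom ((g.fromNormalization.app U).hom a)) = _
    rw [Scheme.Hom.fromNormalization_app g hUa]
    show ρ'.mapIntegralClosure ((((g.normalizationObjIso hUa).inv ≫ (g.normalizationObjIso hUa).hom)).hom (algebraMap _ _ a)) = _
    rw [Iso.inv_hom_id]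
    exact ρ'.mapIntegralClosure.commutes a
  · have h := Scheme.Hom.normalizationObjIso_hom_val g hUa
    have h2 : (g.normalization.presheaf.germ _ _ hU' ≫ Scheme.stalkClosedPointTo g.toNormalization) =
        ((g.normalizationObjIso hUa).hom ≫ CommRingCat.ofHom (integralClosure Γ(X, U) Γ(Spec (CommRingCat.of K), g ⁻¹ᵁ U)).val.toRingHom) ≫ ρ.hom := by
      rw [h, Scheme.germ_stalkClosedPointTo]
      simp only [ρ, Iso.trans_hom, Functor.mapIso_hom, Iso.op_hom, eqToIso.hom, Scheme.Hom.appLE, Category.assoc]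
      congr 1
    rw [h2]
    rfl

/-- the only point over the generic point is the generic point. -/
theorem preimage_genericPoint [IsIntegral X] (φ : X.functionField →+* K)
    (hg : g = Spec.map (CommRingCat.ofHom φ) ≫ X.fromSpecStalk (genericPoint X)) (x : g.normalization)
    (hx : g.fromNormalization x = genericPoint X) : x = genericPoint g.normalization := by
  obtain ⟨U, hUa, hξU, -⟩ := exists_isAffineOpen_mem_and_subset (X := X) (x := genericPoint X) (U := ⊤) trivial
  haveI : Nonempty U := ⟨⟨_, hξU⟩⟩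
  have hU : g (IsLocalRing.closedPoint K) ∈ U := by rw [image_point g φ hg]; exact hξU
  have hxU : x ∈ g.fromNormalization ⁻¹ᵁ U := by show g.fromNormalization x ∈ U; rw [hx]; exact hξU
  letI := (ev g U hU).toAlgebra
  obtain ⟨e, he⟩ := exists_equiv g U hUa hU
  have hW : IsAffineOpen (g.fromNormalization ⁻¹ᵁ U) := hUa.preimage g.fromNormalization
  haveI : IsDomain Γ(g.normalization, g.fromNormalization ⁻¹ᵁ U) := e.toMulEquiv.isDomain
  let p := hW.primeIdealOf ⟨x, hxU⟩
  have hpm : Ideal.comap (g.fromNormalization.app U).hom p.asIdeal = (hUa.primeIdealOf ⟨g.fromNormalization x, hxU⟩).asIdeal := by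
    have h := IsAffineOpen.comap_primeIdealOf_appLE (f := g.fromNormalization) U hUa _ hW le_rfl hxU
    rw [← Scheme.Hom.app_eq_appLE] at h
    exact congrArg PrimeSpectrum.asIdeal h
  have hm0 : (hUa.primeIdealOf ⟨g.fromNormalization x, hxU⟩).asIdeal = ⊥ := by
    refine le_bot_iff.1 ?_
    have h1 : hUa.fromSpec (hUa.primeIdealOf ⟨g.fromNormalization x, hxU⟩) ⤳ hUa.fromSpec (⟨⊥, Ideal.isPrime_bot⟩ : PrimeSpectrum Γ(X, U)) := by
      rw [hUa.fromSpec_primeIdealOf]
      show g.fromNormalization x ⤳ _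
      rw [hx]
      exact genericPoint_specializes _
    exact (PrimeSpectrum.le_iff_specializes (hUa.primeIdealOf ⟨g.fromNormalization x, hxU⟩) ⟨⊥, Ideal.isPrime_bot⟩).2
      (hUa.fromSpec.isOpenEmbedding.isInducing.specializes_iff.1 h1)
  haveI : Algebra.IsIntegral Γ(X, U) (integralClosure Γ(X, U) K) := integralClosure.AlgebraIsIntegral
  have hp0 : p.asIdeal = ⊥ := by
    by_contra h0
    obtain ⟨c, hc, hc0⟩ := Submodule.exists_mem_ne_zero_of_ne_bot h0
    apply Ideal.comap_ne_bot_of_integral_mem (R := Γ(X, U)) (I := p.asIdeal.comap e.symm) (x := e c)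
      (fun h => hc0 (e.injective (h.trans (map_zero e).symm))) (by show e.symm (e c) ∈ p.asIdeal; rwa [e.symm_apply_apply])
      (Algebra.IsIntegral.isIntegral _)
    rw [← hm0, ← hpm]
    ext a
    show e.symm (algebraMap _ _ a) ∈ p.asIdeal ↔ _
    rw [← he a, e.symm_apply_apply]
    rfl
  have hgen : genericPoint g.normalization ∈ g.fromNormalization ⁻¹ᵁ U :=
    (genericPoint_specializes x).mem_open (g.fromNormalization ⁻¹ᵁ U).2 hxU
  have h3 : p ⤳ hW.primeIdealOf ⟨_, hgen⟩ := (PrimeSpectrum.le_iff_specializes _ _).1 (by show p.asIdeal ≤ _; rw [hp0]; exact bot_le)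
  have h4 := h3.map hW.fromSpec.continuous
  rw [hW.fromSpec_primeIdealOf, hW.fromSpec_primeIdealOf] at h4
  exact (h4.antisymm (genericPoint_specializes x)).eq

theorem range_stalkClosedPointTo [IsIntegral X] (φ : X.functionField →+* K)
    (hg : g = Spec.map (CommRingCat.ofHom φ) ≫ X.fromSpecStalk (genericPoint X)) :
    Function.Injective (Scheme.stalkClosedPointTo g.toNormalization).hom ∧
      Set.range (Scheme.stalkClosedPointTo g.toNormalization).hom = {y : K | φ.IsIntegralElem y} := by
  obtain ⟨U, hUa, hξU, -⟩ := exists_isAffineOpen_mem_and_subset (X := X) (x := genericPoint X) (U := ⊤) trivial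
  haveI : Nonempty U := ⟨⟨_, hξU⟩⟩
  have hU : g (IsLocalRing.closedPoint K) ∈ U := by rw [image_point g φ hg]; exact hξU
  have hcomp : g.fromNormalization (g.toNormalization (IsLocalRing.closedPoint K)) = g (IsLocalRing.closedPoint K) :=
    congrArg (fun k : Spec (CommRingCat.of K) ⟶ X => k (IsLocalRing.closedPoint K)) g.toNormalization_fromNormalization
  have hU' : g.toNormalization (IsLocalRing.closedPoint K) ∈ g.fromNormalization ⁻¹ᵁ U := by
    show g.fromNormalization (g.toNormalization _) ∈ U
    rw [hcomp]; exact hU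
  letI := (ev g U hU).toAlgebra
  letI : Algebra X.functionField K := φ.toAlgebra
  haveI := functionField_isFractionRing_of_isAffineOpen X U hUa
  haveI : IsScalarTower Γ(X, U) X.functionField K := IsScalarTower.of_algebraMap_eq fun a => by
    show ev g U hU a = φ _
    rw [ev_fromSpecStalk g φ hg U hU]
    rfl
  obtain ⟨e, he, heK⟩ := exists_equiv' g U hUa hU hU'
  have hW : IsAffineOpen (g.fromNormalization ⁻¹ᵁ U) := hUa.preimage g.fromNormalization
  let p := hW.primeIdealOf ⟨_, hU'⟩
  letI : Algebra Γ(g.normalization, g.fromNormalization ⁻¹ᵁ U) (g.normalization.presheaf.stalk (g.toNormalization (IsLocalRing.closedPoint K))) :=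
    (g.normalization.presheaf.germ _ _ hU').hom.toAlgebra
  haveI : IsLocalization.AtPrime (g.normalization.presheaf.stalk (g.toNormalization (IsLocalRing.closedPoint K))) p.asIdeal :=
    hW.isLocalization_stalk ⟨_, hU'⟩
  let σ := (Scheme.stalkClosedPointTo g.toNormalization).hom
  have hσ : ∀ b, σ (algebraMap Γ(g.normalization, g.fromNormalization ⁻¹ᵁ U) _ b) = (e b : K) := fun b => (heK b).symm
  have hinjσ : Function.Injective σ := by
    rw [injective_iff_map_eq_zero]
    intro z hz
    obtain ⟨⟨b, d⟩, hbd⟩ := IsLocalization.surj p.asIdeal.primeCompl z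
    have h1 := congrArg σ hbd
    rw [map_mul, hz, zero_mul, hσ] at h1
    have hb : b = 0 := e.injective ((Subtype.ext h1.symm : e b = 0).trans (map_zero e).symm)
    rw [hb, map_zero] at hbd
    exact (IsLocalization.map_units _ d).mul_left_eq_zero.1 hbd
  refine ⟨hinjσ, Set.ext fun y => ⟨?_, fun hy => ?_⟩⟩
  · rintro ⟨z, rfl⟩
    obtain ⟨⟨b, d⟩, hbd⟩ := IsLocalization.surj p.asIdeal.primeCompl z
    have h1 := congrArg σ hbd
    rw [map_mul, hσ, hσ] at h1
    have hd : (e (d : Γ(g.normalization, g.fromNormalization ⁻¹ᵁ U)) : K) ≠ 0 := by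
      rw [← hσ]
      exact ((IsLocalization.map_units _ d).map σ).ne_zero
    have hb' : IsIntegral X.functionField (e b : K) := (e b).2.tower_top
    have hd' : IsIntegral X.functionField (e (d : Γ(g.normalization, g.fromNormalization ⁻¹ᵁ U)) : K) := (e _).2.tower_top
    show IsIntegral X.functionField (σ z)
    rw [eq_div_of_mul_eq hd h1, div_eq_mul_inv]
    exact hb'.mul (isAlgebraic_iff_isIntegral.1 (isAlgebraic_iff_isIntegral.2 hd').inv)
  · obtain ⟨a, ha⟩ := IsIntegral.exists_multiple_integral_of_isLocalization (nonZeroDivisors Γ(X, U)) y (show IsIntegral X.functionField y from hy)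
    let b := e.symm ⟨_, ha⟩
    let d := (g.fromNormalization.app U).hom (a : Γ(X, U))
    have hd : (e d : K) ≠ 0 := by
      rw [he]
      show ev g U hU a ≠ 0
      rw [ev_fromSpecStalk g φ hg U hU]
      exact (map_ne_zero φ).2 ((map_ne_zero_iff _ (X.germToFunctionField_injective U)).2 (nonZeroDivisors.ne_zero a.2))
    have hdu : IsUnit (algebraMap Γ(g.normalization, g.fromNormalization ⁻¹ᵁ U)
        (g.normalization.presheaf.stalk (g.toNormalization (IsLocalRing.closedPoint K))) d) := by
      haveI : IsLocalHom σ := Scheme.isLocalHom_stalkClosedPointTo g.toNormalization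
      exact IsUnit.of_map σ _ (by rw [hσ]; exact isUnit_iff_ne_zero.2 hd)
    refine ⟨algebraMap _ _ b * ↑hdu.unit⁻¹, ?_⟩
    show σ _ = y
    have h2 : σ ↑hdu.unit⁻¹ * (e d : K) = 1 := by rw [← hσ, ← map_mul, IsUnit.val_inv_mul, map_one]
    rw [map_mul, hσ, e.apply_symm_apply]
    have h3 : ((⟨_, ha⟩ : integralClosure Γ(X, U) K) : K) = (e d : K) * y := by
      show (a : Γ(X, U)) • y = _
      rw [Algebra.smul_def, he]
      rfl
    rw [h3, mul_assoc, mul_comm y, ← mul_assoc, mul_comm (e d : K), h2, one_mul]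

end Groth.Agent.H6.NormField
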