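import Mathlib

set_option autoImplicit false
set_option linter.all false
set_option backward.isDefEq.respectTransparency.types false

/-! Pullback of `M~` along a morphism of affine schemes. -/

universe u

open CategoryTheory CategoryTheory.Limits AlgebraicGeometry Opposite

namespace Groth.Agent.H6.TildePullback

variable {R S : CommRingCat.{u}} (φ : R ⟶ S)

/-- global sections commute with pushforward. -/
noncomputable def rightIso : Scheme.Modules.pushforward (Spec.map φ) ⋙ moduleSpecΓFunctor (R := R) ≅
    moduleSpecΓFunctor (R := S) ⋙ ModuleCat.restrictScalars φ.hom :=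
  NatIso.ofComponents
    (fun M => (((TopCat.Sheaf.forget _ _) ⋙ (evaluation _ _).obj (op ⊤)).mapIso
      ((pushforwardCompModulesSpecToSheafIso φ).app M)))
    (fun {M N} f => by
      exact congrArg (fun k => ((TopCat.Sheaf.forget _ _) ⋙ (evaluation _ _).obj (op ⊤)).map k) ((pushforwardCompModulesSpecToSheafIso φ).hom.naturality f))

/-- pullback commutes with tilde. -/
noncomputable def leftIso : tilde.functor R ⋙ Scheme.Modules.pullback (Spec.map φ) ≅
    ModuleCat.extendScalars.{u, u, u} φ.hom ⋙ tilde.functor S :=
  ((tilde.adjunction (R := R)).comp (Scheme.Modules.pullbackPushforwardAdjunction (Spec.map φ))).leftAdjointUniq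
    (((ModuleCat.extendRestrictScalarsAdj φ.hom).comp (tilde.adjunction (R := S))).ofNatIsoRight (rightIso φ).symm)

end Groth.Agent.H6.TildePullback
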