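import Mathlib
import Groth.Prelude.Def_Omega2
import Groth.Agent.Lib.LIdeal
import Groth.Agent.Lib.H6.TildePullback

set_option autoImplicit false
set_option linter.all false
set_option backward.isDefEq.respectTransparency.types false

/-! Differentials of an affine scheme. -/

universe u

open CategoryTheory CategoryTheory.Limits AlgebraicGeometry Opposite TensorProduct

namespace Groth.Agent.H6.OmegaSpec

variable (R A : Type u) [CommRing R] [CommRing A] [Algebra R A]

/-- multiplication. -/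
noncomputable abbrev μ : CommRingCat.of (A ⊗[R] A) ⟶ CommRingCat.of A :=
  CommRingCat.ofHom (Algebra.TensorProduct.lmul' R (S := A)).toRingHom

/-- base change along a quotient map of the kernel. -/
theorem extend_iso_of {T S : Type u} [CommRing T] [CommRing S] (f : T →+* S) (hf : Function.Surjective f)
    (I : Ideal T) (hI : I = RingHom.ker f) {N : Type u} [AddCommGroup N] [Module S N] (π : I →+ N)
    (hsm : ∀ (t : T) (i : I), π (t • i) = f t • π i) (hsurj : Function.Surjective π)
    (hker : ∀ i : I, π i = 0 → (i : T) ∈ I ^ 2) :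
    Nonempty ((ModuleCat.extendScalars.{u, u, u} f).obj (ModuleCat.of T I) ≅ ModuleCat.of S N) := by
  letI : Algebra T S := f.toAlgebra
  letI : Module T N := Module.compHom N f
  haveI : IsScalarTower T S N := ⟨fun t a w => by
    show (f t * a) • w = f t • (a • w)
    rw [mul_smul]⟩
  let π' : I →ₗ[T] N := { π with map_smul' := hsm }
  let g : S ⊗[T] I →ₗ[S] N := LinearMap.liftBaseChange S π'
  have hg : ∀ (a : S) (i : I), g (a ⊗ₜ i) = a • π i := fun a i => LinearMap.liftBaseChange_tmul _ _ _ _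
  have hbij : Function.Bijective g := by
    refine ⟨?_, fun w => ?_⟩
    · rw [injective_iff_map_eq_zero]
      intro x hx
      obtain ⟨i, rfl⟩ : ∃ i : I, (1 : S) ⊗ₜ[T] i = x := by
        clear hx
        induction x using TensorProduct.induction_on with
        | zero => exact ⟨0, TensorProduct.tmul_zero _ _⟩
        | tmul a i =>
          obtain ⟨t, rfl⟩ := hf a
          exact ⟨t • i, by rw [TensorProduct.tmul_smul, TensorProduct.smul_tmul', Algebra.smul_def, mul_one]; rfl⟩
        | add x y hx hy =>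
          obtain ⟨i, hi⟩ := hx
          obtain ⟨j, hj⟩ := hy
          exact ⟨i + j, by rw [TensorProduct.tmul_add, hi, hj]⟩
      rw [hg, one_smul] at hx
      have hi' : i ∈ I • (⊤ : Submodule T I) := by
        have hi := hker i hx
        rw [pow_two] at hi
        rwa [Submodule.mem_smul_top_iff, smul_eq_mul]
      refine Submodule.smul_induction_on hi' (fun c hc j _ => ?_) (fun x y hx hy => by rw [TensorProduct.tmul_add, hx, hy, add_zero])
      rw [TensorProduct.tmul_smul, TensorProduct.smul_tmul', Algebra.smul_def, mul_one]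
      have hc0 : algebraMap T S c = 0 := by rw [hI] at hc; exact hc
      rw [hc0, TensorProduct.zero_tmul]
    · obtain ⟨i, rfl⟩ := hsurj w
      exact ⟨1 ⊗ₜ i, by rw [hg, one_smul]⟩
  exact ⟨(LinearEquiv.ofBijective g hbij).toModuleIso⟩

theorem hact (t : A ⊗[R] A) (w : Ω[A⁄R]) :
    t • w = (Algebra.TensorProduct.lmul' R (S := A) t) • w := by
  obtain ⟨i, rfl⟩ := KaehlerDifferential.fromIdeal_surjective R A w
  set a := Algebra.TensorProduct.lmul' R (S := A) t
  have h1 : t - a ⊗ₜ[R] (1 : A) ∈ KaehlerDifferential.ideal R A := by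
    show Algebra.TensorProduct.lmul' R (S := A) (t - a ⊗ₜ[R] (1 : A)) = 0
    simp [a]
  have h2 : (t - a ⊗ₜ[R] (1 : A)) • KaehlerDifferential.fromIdeal R A i = 0 :=
    ((KaehlerDifferential.fromIdeal R A).map_smul _ _).symm.trans
      ((Ideal.toCotangent_eq_zero _ _).2 (by rw [pow_two]; exact Ideal.mul_mem_mul h1 i.2))
  have h3 : t • KaehlerDifferential.fromIdeal R A i = (a ⊗ₜ[R] (1 : A)) • KaehlerDifferential.fromIdeal R A i :=
    sub_eq_zero.1 ((sub_smul t (a ⊗ₜ[R] (1 : A)) (KaehlerDifferential.fromIdeal R A i)).symm.trans h2)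
  exact h3.trans (algebraMap_smul (R := A) (A ⊗[R] A) a (KaehlerDifferential.fromIdeal R A i))

/-- base change of the ideal of the diagonal is the module of differentials. -/
theorem exists_extend_iso :
    Nonempty ((ModuleCat.extendScalars.{u, u, u} (μ R A).hom).obj (ModuleCat.of (A ⊗[R] A) (KaehlerDifferential.ideal R A)) ≅
      ModuleCat.of A (Ω[A⁄R])) :=
  extend_iso_of (Algebra.TensorProduct.lmul' R (S := A)).toRingHom (fun a => ⟨a ⊗ₜ 1, by simp⟩) _ rfl
    (KaehlerDifferential.fromIdeal R A).toAddMonoidHom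
    (fun t i => ((KaehlerDifferential.fromIdeal R A).map_smul t i).trans (hact R A t _))
    (KaehlerDifferential.fromIdeal_surjective R A) (fun i hi => (Ideal.toCotangent_eq_zero _ _).1 hi)

theorem omega_iso :
    Nonempty (Omega.sheaf (Spec.map (CommRingCat.ofHom (algebraMap R A))) ≅
      tilde (R := CommRingCat.of A) (ModuleCat.of A (Ω[A⁄R]))) := by
  let g := Spec.map (CommRingCat.ofHom (algebraMap R A))
  let Δ := pullback.diagonal g
  let j : Spec (CommRingCat.of (A ⊗[R] A)) ⟶ pullback g g := (pullbackSpecIso R A A).inv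
  haveI : IsIso j := inferInstanceAs (IsIso (pullbackSpecIso R A A).inv)
  have hΔ : Spec.map (μ R A) ≫ j = Δ := by
    apply pullback.hom_ext
    · rw [Category.assoc, pullback.diagonal_fst]
      show Spec.map (μ R A) ≫ (pullbackSpecIso R A A).inv ≫ pullback.fst _ _ = 𝟙 _
      rw [pullbackSpecIso_inv_fst, ← Spec.map_comp, ← Spec.map_id]
      congr 1
      ext a
      simp
    · rw [Category.assoc, pullback.diagonal_snd]
      show Spec.map (μ R A) ≫ (pullbackSpecIso R A A).inv ≫ pullback.snd _ _ = 𝟙 _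
      rw [pullbackSpecIso_inv_snd, ← Spec.map_comp, ← Spec.map_id]
      congr 1
      ext a
      simp
  haveI := LIdeal.isQuasicoherent_idealMod Δ.ker
  let N := ClSub.idealMod Δ.ker
  let M₀ := (Scheme.Modules.restrictFunctor j).obj N
  let W : (pullback g g).Opens := j ''ᵁ ⊤
  have hW : IsAffineOpen W := (isAffineOpen_top _).image_of_isOpenImmersion j
  let τ : Γ(pullback g g, W) →+* A ⊗[R] A :=
    ((Scheme.ΓSpecIso (CommRingCat.of (A ⊗[R] A))).hom.hom).comp (j.appIso ⊤).hom.hom
  have hτ : Function.Bijective τ :=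
    (ConcreteCategory.bijective_of_isIso (Scheme.ΓSpecIso (CommRingCat.of (A ⊗[R] A))).hom).comp
      (ConcreteCategory.bijective_of_isIso (j.appIso ⊤).hom)
  have hker : ∀ a : Γ(pullback g g, W), a ∈ Δ.ker.ideal ⟨W, hW⟩ ↔ τ a ∈ KaehlerDifferential.ideal R A := by
    intro a
    rw [Scheme.Hom.ker_apply, RingHom.mem_ker]
    have hWtop : W = ⊤ := by
      show j ''ᵁ ⊤ = ⊤
      rw [Scheme.Hom.image_top_eq_opensRange, Scheme.Hom.opensRange_of_isIso]
    have hpre : Δ ⁻¹ᵁ W = ⊤ := by rw [hWtop]; rfl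
    have key : Δ.appLE W ⊤ hpre.ge ≫ (Scheme.ΓSpecIso (CommRingCat.of A)).hom =
        (j.appIso ⊤).hom ≫ (Scheme.ΓSpecIso (CommRingCat.of (A ⊗[R] A))).hom ≫ μ R A := by
      rw [← Scheme.ΓSpecIso_naturality, Scheme.Hom.appIso_hom', ← Category.assoc]
      congr 1
      simp only [← hΔ]
      rw [Scheme.Hom.appTop, Scheme.Hom.app_eq_appLE]
      exact (Scheme.Hom.appLE_comp_appLE (Spec.map (μ R A)) j W ⊤ ⊤ _ _).symm
    have hb : Function.Bijective (Δ ⁻¹ᵁ W |> fun U => ((Spec (CommRingCat.of A)).presheaf.map (eqToHom hpre.symm).op).hom) :=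
      ConcreteCategory.bijective_of_isIso _
    have h1 : ((Scheme.ΓSpecIso (CommRingCat.of A)).hom.hom) ((Δ.appLE W ⊤ hpre.ge).hom a) =
        (μ R A).hom (τ a) := congrArg (fun k => k.hom a) key
    show (Δ.app W).hom a = 0 ↔ (μ R A).hom (τ a) = 0
    rw [← h1]
    have h2 : (Δ.appLE W ⊤ hpre.ge).hom a = ((Spec (CommRingCat.of A)).presheaf.map (eqToHom hpre.symm).op).hom ((Δ.app W).hom a) := rfl
    rw [h2, map_eq_zero_iff _ (ConcreteCategory.bijective_of_isIso (Scheme.ΓSpecIso (CommRingCat.of A)).hom).1,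
      map_eq_zero_iff _ hb.1]
  let K := (moduleSpecΓFunctor (R := CommRingCat.of (A ⊗[R] A))).obj M₀
  let v : K → (A ⊗[R] A) := fun x => τ (LIdeal.fn Δ.ker ((N.restrictAppIso j ⊤).hom x))
  have hv : ∀ x, v x ∈ KaehlerDifferential.ideal R A := fun x =>
    (hker _).1 ((LIdeal.exists_fn_iff_mem (U := ⟨W, hW⟩) Δ.ker _).1 ⟨_, rfl⟩)
  let w : K →ₗ[A ⊗[R] A] KaehlerDifferential.ideal R A :=
    { toFun := fun x => ⟨v x, hv x⟩
      map_add' := fun x y => Subtype.ext (by
        show τ (LIdeal.fn Δ.ker ((N.restrictAppIso j ⊤).hom (x + y))) = v x + v y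
        refine (congrArg (fun z => τ (LIdeal.fn Δ.ker z)) (map_add (N.restrictAppIso j ⊤).hom.hom x y)).trans ?_
        refine (congrArg τ ?_).trans (map_add τ _ _)
        exact map_add ((ClSub.idealModι Δ.ker).app W).hom _ _)
      map_smul' := fun r x => Subtype.ext (by
        show v (r • x) = r * v x
        have e1 : ((N.restrictAppIso j ⊤).hom (r • x)) =
            ((j.appIso ⊤).inv ((Scheme.ΓSpecIso (CommRingCat.of (A ⊗[R] A))).inv r)) • (N.restrictAppIso j ⊤).hom x := by
          exact congrArg (fun k => k x) (congrArg ConcreteCategory.hom (Scheme.Modules.smul_restrictAppIso_hom j N ⊤ ((Scheme.ΓSpecIso (CommRingCat.of (A ⊗[R] A))).inv r)))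
        show τ (LIdeal.fn Δ.ker ((N.restrictAppIso j ⊤).hom (r • x))) = r * τ _
        rw [e1, LIdeal.fn_smul, map_mul]
        congr 1
        show (Scheme.ΓSpecIso (CommRingCat.of (A ⊗[R] A))).hom ((j.appIso ⊤).hom ((j.appIso ⊤).inv _)) = r
        simp) }
  have hw : Function.Bijective w := by
    refine ⟨fun x y h => ?_, fun t => ?_⟩
    · exact (ConcreteCategory.bijective_of_isIso (N.restrictAppIso j ⊤).hom).1
        (LIdeal.fn_injective Δ.ker W (hτ.1 (congrArg Subtype.val h)))
    · obtain ⟨a, ha⟩ := hτ.2 t.1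
      obtain ⟨s, hs⟩ := (LIdeal.exists_fn_iff_mem (U := ⟨W, hW⟩) Δ.ker a).2 ((hker a).2 (ha ▸ t.2))
      obtain ⟨x, rfl⟩ := (ConcreteCategory.bijective_of_isIso (N.restrictAppIso j ⊤).hom).2 s
      exact ⟨x, Subtype.ext ((congrArg τ hs).trans ha)⟩
  obtain ⟨e⟩ := exists_extend_iso R A
  haveI : N.IsQuasicoherent := LIdeal.isQuasicoherent_idealMod Δ.ker
  haveI : M₀.IsQuasicoherent := inferInstanceAs ((Scheme.Modules.restrictFunctor j).obj N).IsQuasicoherent
  let eT : M₀ ≅ (tilde.functor (CommRingCat.of (A ⊗[R] A))).obj K :=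
    (@asIso _ _ _ _ (Scheme.Modules.fromTildeΓ (R := CommRingCat.of (A ⊗[R] A)) M₀) (@Scheme.Modules.isIso_fromTildeΓ_of_isQuasicoherent (CommRingCat.of (A ⊗[R] A)) M₀ (by assumption))).symm
  refine ⟨(Scheme.Modules.pullbackCongr hΔ).symm.app N ≪≫ ((Scheme.Modules.pullbackComp (Spec.map (μ R A)) j).app N).symm ≪≫
    (Scheme.Modules.pullback (Spec.map (μ R A))).mapIso (((Scheme.Modules.restrictFunctorIsoPullback j).app N).symm ≪≫ eT) ≪≫
    (TildePullback.leftIso (μ R A)).app K ≪≫
    (tilde.functor _).mapIso ((ModuleCat.extendScalars (μ R A).hom).mapIso (LinearEquiv.ofBijective w hw).toModuleIso ≪≫ e)⟩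

end Groth.Agent.H6.OmegaSpec
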