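import Mathlib
import Groth.Prelude.Def_Omega2
import Groth.Agent.Lib.LIdeal
import Groth.Agent.Lib.H6.OmegaSpec

set_option autoImplicit false
set_option linter.all false
set_option backward.isDefEq.respectTransparency.types false

/-! Conormal sheaves and differentials are local. -/

universe u

open CategoryTheory CategoryTheory.Limits AlgebraicGeometry Opposite TopologicalSpace

namespace Groth.Agent.H6.OmegaLocal

variable {X Y : Scheme.{u}}

theorem isBasis_affine : Opens.IsBasis (Set.range fun U : X.affineOpens => U.1) := by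
  rw [Subtype.range_coe_subtype]
  exact X.isBasis_affineOpens

theorem isIso_of_affine {M N : X.Modules} (φ : M ⟶ N)
    (h : ∀ U : X.affineOpens, Function.Bijective (φ.app U.1)) : IsIso φ := by
  let F : TopCat.Sheaf Ab X := ⟨M.presheaf, M.isSheaf⟩
  let G : TopCat.Sheaf Ab X := ⟨N.presheaf, N.isSheaf⟩
  let ψ : F ⟶ G := ⟨(Scheme.Modules.toPresheaf X).map φ⟩
  haveI : IsIso ψ := TopCat.Sheaf.isIso_iff_isIso_basis isBasis_affine fun U =>
    (ConcreteCategory.isIso_iff_bijective _).2 (h U)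
  haveI : IsIso ((Scheme.Modules.toPresheaf X).map φ) := inferInstanceAs (IsIso ((TopCat.Sheaf.forget _ _).map ψ))
  exact isIso_of_reflects_iso φ (Scheme.Modules.toPresheaf X)

theorem hom_ext_affine {M N : X.Modules} {φ ψ : M ⟶ N}
    (h : ∀ (U : X.affineOpens) (s : Γ(M, U.1)), φ.app U.1 s = ψ.app U.1 s) : φ = ψ := by
  let F : TopCat.Presheaf Ab X := M.presheaf
  let G : TopCat.Sheaf Ab X := ⟨N.presheaf, N.isSheaf⟩
  apply (Scheme.Modules.toPresheaf X).map_injective
  exact TopCat.Sheaf.hom_ext (F := F) (F' := G) isBasis_affine fun U =>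
    ConcreteCategory.hom_ext _ _ fun s => h U s

variable {U V : Scheme.{u}} {f : X ⟶ Y} {f' : U ⟶ V} {iU : U ⟶ X} {iV : V ⟶ Y} [IsOpenImmersion iV]

/-- ideal sheaves restrict. -/
theorem exists_ideal_restrict [QuasiCompact f] (H : IsPullback f' iU iV f) :
    Nonempty ((Scheme.Modules.restrictFunctor iV).obj (ClSub.idealMod f.ker) ≅ ClSub.idealMod f'.ker) := by
  haveI : QuasiCompact f' := MorphismProperty.of_isPullback H.flip inferInstance
  let N := ClSub.idealMod f.ker
  let a : (Scheme.Modules.restrictFunctor iV).obj N ⟶ Coh.structureModule V :=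
    (Scheme.Modules.restrictFunctor iV).map (ClSub.idealModι f.ker) ≫ (Scheme.Modules.restrictUnitIso iV).hom
  have ha : ∀ (W : V.Opens) (s : Γ(N.restrict iV, W)),
      a.app W s = (iV.appIso W).hom (LIdeal.fn f.ker ((N.restrictAppIso iV W).hom s)) := fun W s => rfl
  have hI : ∀ (W : V.affineOpens) (t : Γ(Y, iV ''ᵁ W.1)),
      t ∈ f.ker.ideal ⟨iV ''ᵁ W.1, W.2.image_of_isOpenImmersion _⟩ ↔ (iV.appIso W.1).hom t ∈ f'.ker.ideal W := by
    intro W t
    rw [Scheme.ker_ideal_of_isPullback_of_isOpenImmersion f f' iU iV H W, Ideal.mem_comap]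
    simp
  have hz : a ≫ ClSub.toSubscheme f'.ker = 0 := hom_ext_affine fun W s => by
    show f'.ker.subschemeι.app W.1 (a.app W.1 s) = 0
    obtain ⟨s', hs'⟩ := (LIdeal.exists_fn_iff_mem (U := W) f'.ker (a.app W.1 s)).2 (by
      rw [ha]
      exact (hI W _).1 ((LIdeal.exists_fn_iff_mem (U := ⟨iV ''ᵁ W.1, W.2.image_of_isOpenImmersion _⟩) f.ker _).1 ⟨_, rfl⟩))
    exact (LIdeal.exists_fn_iff f'.ker _).1 ⟨s', hs'⟩
  let φ : (Scheme.Modules.restrictFunctor iV).obj N ⟶ ClSub.idealMod f'.ker := kernel.lift _ a hz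
  have hφ : ∀ (W : V.Opens) s, LIdeal.fn f'.ker (φ.app W s) = a.app W s := fun W s =>
    congrArg (fun k => Scheme.Modules.Hom.app k W s) (kernel.lift_ι (ClSub.toSubscheme f'.ker) a hz)
  haveI : IsIso φ := isIso_of_affine φ fun W => by
    constructor
    · intro s t hst
      have := congrArg (LIdeal.fn f'.ker) hst
      rw [hφ, hφ, ha, ha] at this
      exact (ConcreteCategory.bijective_of_isIso (N.restrictAppIso iV W.1).hom).1
        (LIdeal.fn_injective f.ker _ ((ConcreteCategory.bijective_of_isIso (iV.appIso W.1).hom).1 this))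
    · intro t
      obtain ⟨c, hc⟩ := (ConcreteCategory.bijective_of_isIso (iV.appIso W.1).hom).2 (LIdeal.fn f'.ker t)
      have hcm : c ∈ f.ker.ideal ⟨iV ''ᵁ W.1, W.2.image_of_isOpenImmersion _⟩ := by
        rw [hI, hc]
        exact (LIdeal.exists_fn_iff_mem f'.ker _).1 ⟨t, rfl⟩
      obtain ⟨s, hs⟩ := (LIdeal.exists_fn_iff_mem (U := ⟨iV ''ᵁ W.1, W.2.image_of_isOpenImmersion _⟩) f.ker c).2 hcm
      obtain ⟨s, rfl⟩ := (ConcreteCategory.bijective_of_isIso (N.restrictAppIso iV W.1).hom).2 s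
      refine ⟨s, LIdeal.fn_injective f'.ker _ ?_⟩
      rw [hφ, ha, hs, hc]
  exact ⟨asIso φ⟩

/-- conormal sheaves restrict. -/
theorem exists_conormal_restrict [QuasiCompact f] [IsOpenImmersion iU] (H : IsPullback f' iU iV f) :
    Nonempty ((Scheme.Modules.restrictFunctor iU).obj (Omega.conormal f) ≅ Omega.conormal f') := by
  obtain ⟨e⟩ := exists_ideal_restrict H
  exact ⟨(Scheme.Modules.restrictFunctorIsoPullback iU).app _ ≪≫
    (Scheme.Modules.pullbackComp iU f).app _ ≪≫ (Scheme.Modules.pullbackCongr H.w.symm).app _ ≪≫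
    ((Scheme.Modules.pullbackComp f' iV).app _).symm ≪≫
    (Scheme.Modules.pullback f').mapIso (((Scheme.Modules.restrictFunctorIsoPullback iV).app _).symm ≪≫ e)⟩

/-- differentials restrict along open immersions. -/
theorem exists_omega_restrict {U W : Scheme.{u}} (g : X ⟶ Y) [QuasiSeparated g] (g' : U ⟶ W) (i : U ⟶ X) (j : W ⟶ Y)
    [IsOpenImmersion i] [IsOpenImmersion j] (e : g' ≫ j = i ≫ g) :
    Nonempty ((Scheme.Modules.restrictFunctor i).obj (Omega.sheaf g) ≅ Omega.sheaf g') := by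
  let k : pullback g' g' ⟶ pullback g g := pullback.map g' g' g g i i j e e
  have k1 : k ≫ pullback.fst g g = pullback.fst g' g' ≫ i := pullback.lift_fst _ _ _
  have k2 : k ≫ pullback.snd g g = pullback.snd g' g' ≫ i := pullback.lift_snd _ _ _
  have d1 : pullback.diagonal g' ≫ pullback.fst g' g' = 𝟙 _ := pullback.diagonal_fst g'
  have d2 : pullback.diagonal g' ≫ pullback.snd g' g' = 𝟙 _ := pullback.diagonal_snd g'
  have H : IsPullback (pullback.diagonal g') i k (pullback.diagonal g) := by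
    have hw : pullback.diagonal g' ≫ k = i ≫ pullback.diagonal g := by
      apply pullback.hom_ext
      · erw [Category.assoc, k1, ← Category.assoc, d1, Category.id_comp, Category.assoc, pullback.diagonal_fst, Category.comp_id]
      · erw [Category.assoc, k2, ← Category.assoc, d2, Category.id_comp, Category.assoc, pullback.diagonal_snd, Category.comp_id]
    have key : ∀ (s : PullbackCone k (pullback.diagonal g)),
        (s.fst ≫ pullback.fst g' g') ≫ i = s.snd ∧ (s.fst ≫ pullback.snd g' g') ≫ i = s.snd := fun s => by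
      constructor
      · rw [Category.assoc, ← k1, ← Category.assoc, s.condition]
        erw [Category.assoc, pullback.diagonal_fst, Category.comp_id]
      · rw [Category.assoc, ← k2, ← Category.assoc, s.condition]
        erw [Category.assoc, pullback.diagonal_snd, Category.comp_id]
    refine ⟨⟨hw⟩, ⟨PullbackCone.IsLimit.mk _ (fun s => s.fst ≫ pullback.fst g' g') (fun s => ?_) (fun s => (key s).1)
      (fun s m h1 h2 => ?_)⟩⟩
    · apply pullback.hom_ext
      · erw [Category.assoc, d1, Category.comp_id]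
      · erw [Category.assoc, d2, Category.comp_id]
        exact (cancel_mono i).1 ((key s).1.trans (key s).2.symm)
    · exact (cancel_mono i).1 (h2.trans (key s).1.symm)
  exact exists_conormal_restrict H

/-- differentials restrict to open subschemes. -/
theorem exists_omega_resLE (g : X ⟶ Y) [QuasiSeparated g] (A : X.Opens) (B : Y.Opens) (e : A ≤ g ⁻¹ᵁ B) :
    Nonempty ((Scheme.Modules.restrictFunctor A.ι).obj (Omega.sheaf g) ≅ Omega.sheaf (g.resLE B A e)) :=
  exists_omega_restrict g _ A.ι B.ι (Scheme.Hom.resLE_comp_ι _ _)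

/-- on affine charts the differentials are the Kaehler differentials. -/
theorem exists_omega_affine (g : X ⟶ Y) [QuasiSeparated g] {A : X.Opens} (hA : IsAffineOpen A) {B : Y.Opens}
    (hB : IsAffineOpen B) (e : A ≤ g ⁻¹ᵁ B) :
    letI := (g.appLE B A e).hom.toAlgebra
    Nonempty ((Scheme.Modules.restrictFunctor hA.fromSpec).obj (Omega.sheaf g) ≅
      tilde (R := Γ(X, A)) (ModuleCat.of Γ(X, A) (Ω[Γ(X, A)⁄Γ(Y, B)]))) := by
  letI := (g.appLE B A e).hom.toAlgebra
  obtain ⟨e₁⟩ := exists_omega_restrict g (Spec.map (g.appLE B A e)) hA.fromSpec hB.fromSpec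
    (IsAffineOpen.SpecMap_appLE_fromSpec g hB hA e)
  obtain ⟨e₂⟩ := OmegaSpec.omega_iso Γ(Y, B) Γ(X, A)
  exact ⟨e₁ ≪≫ e₂⟩

theorem isZero_of_forall_affine (g : X ⟶ Y) [QuasiSeparated g]
    (h : ∀ (A : X.Opens) (B : Y.Opens), IsAffineOpen A → IsAffineOpen B → ∀ e : A ≤ g ⁻¹ᵁ B,
      letI := (g.appLE B A e).hom.toAlgebra
      Subsingleton Ω[Γ(X, A)⁄Γ(Y, B)]) : IsZero (Omega.sheaf g) := by
  rw [IsZero.iff_id_eq_zero]
  apply (Scheme.Modules.toPresheaf X).map_injective
  ext W s
  refine TopCat.Sheaf.eq_of_locally_eq' ⟨(Omega.sheaf g).presheaf, (Omega.sheaf g).isSheaf⟩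
    (fun i : {p : X.Opens × Y.Opens // p.1 ≤ W ∧ IsAffineOpen p.1 ∧ IsAffineOpen p.2 ∧ p.1 ≤ g ⁻¹ᵁ p.2} => i.1.1) W
    (fun i => homOfLE i.2.1) (fun x hx => ?_) _ _ fun i => ?_
  · obtain ⟨B, hB, hxB, -⟩ := exists_isAffineOpen_mem_and_subset (X := Y) (x := g x) (U := ⊤) trivial
    obtain ⟨A, hA, hxA, hAB⟩ := exists_isAffineOpen_mem_and_subset (X := X) (x := x) (U := W ⊓ g ⁻¹ᵁ B) ⟨hx, hxB⟩
    exact Opens.mem_iSup.2 ⟨⟨(A, B), fun y hy => (hAB hy).1, hA, hB, fun y hy => (hAB hy).2⟩, hxA⟩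
  · obtain ⟨⟨A, B⟩, hAW, hA, hB, e⟩ := i
    letI := (g.appLE B A e).hom.toAlgebra
    haveI := h A B hA hB e
    obtain ⟨φ⟩ := exists_omega_affine g hA hB e
    have hz : IsZero ((Scheme.Modules.restrictFunctor hA.fromSpec).obj (Omega.sheaf g)) :=
      IsZero.of_iso ((tilde.functor Γ(X, A)).map_isZero (ModuleCat.isZero_of_subsingleton _)) φ
    haveI hs : Subsingleton Γ(Omega.sheaf g, A) := by
      have hA' : hA.fromSpec ''ᵁ ⊤ = A := by
        rw [Scheme.Hom.image_top_eq_opensRange, IsAffineOpen.opensRange_fromSpec]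
      rw [← hA']
      haveI : Subsingleton Γ((Omega.sheaf g).restrict hA.fromSpec, ⊤) := ⟨fun a b => by
        have := congrArg (fun k => Scheme.Modules.Hom.app k ⊤ a) (hz.eq_of_src (𝟙 _) 0)
        have := congrArg (fun k => Scheme.Modules.Hom.app k ⊤ b) (hz.eq_of_src (𝟙 _) 0)
        simp_all⟩
      exact (ConcreteCategory.bijective_of_isIso ((Omega.sheaf g).restrictAppIso hA.fromSpec ⊤).inv).1.subsingleton
    exact @Subsingleton.elim _ hs _ _

end Groth.Agent.H6.OmegaLocal
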