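import Mathlib

/-! Subalgebras of power series over a field and their order semigroups. -/

set_option autoImplicit false
set_option linter.all false

universe u

open PowerSeries

namespace Groth.Agent.H6.PSGaps

variable {k : Type u} [Field k] (A : Subalgebra k (PowerSeries k))

theorem order_succ_le {f : PowerSeries k} {n : ℕ} (h : (n : ℕ∞) ≤ f.order) (h0 : coeff n f = 0) :
    ((n + 1 : ℕ) : ℕ∞) ≤ f.order := by
  refine PowerSeries.le_order _ _ fun i hi => ?_
  rcases (Nat.lt_succ_iff.1 (by exact_mod_cast hi : i < n + 1)).lt_or_eq with h' | rfl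
  · exact PowerSeries.coeff_of_lt_order _ (lt_of_lt_of_le (by exact_mod_cast h') h)
  · exact h0

/-- remove the coefficient at `n` by a multiple of an element of order `n`. -/
theorem exists_sub_smul {f g : PowerSeries k} {n : ℕ} (hf : (n : ℕ∞) ≤ f.order) (hg : g.order = n) :
    ∃ a : k, ((n + 1 : ℕ) : ℕ∞) ≤ (f - a • g).order := by
  have hg0 : coeff n g ≠ 0 := (PowerSeries.order_eq_nat.1 hg).1
  refine ⟨coeff n f / coeff n g, order_succ_le (PowerSeries.le_order _ _ fun i hi => ?_) ?_⟩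
  · simp [PowerSeries.coeff_of_lt_order _ (lt_of_lt_of_le hi hf),
      PowerSeries.coeff_of_lt_order i (hg ▸ hi : (i : ℕ∞) < g.order)]
  · simp [div_mul_cancel₀ _ hg0]

theorem mem_of_le_order (hcl : ∀ f : PowerSeries k, (∀ n : ℕ, ∃ g ∈ A, (n : ℕ∞) ≤ PowerSeries.order (f - g)) → f ∈ A)
    {Γ : Set ℕ} (hΓ : ∀ n ∈ Γ, ∃ f ∈ A, PowerSeries.order f = n) {c : ℕ} (hc : ∀ n : ℕ, c ≤ n → n ∈ Γ)
    {f : PowerSeries k} (hf : (c : ℕ∞) ≤ f.order) : f ∈ A := by
  refine hcl f fun n => ?_
  obtain hn | hn := le_total n c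
  · exact ⟨0, zero_mem _, by rw [sub_zero]; exact le_trans (by exact_mod_cast hn) hf⟩
  induction n, hn using Nat.le_induction with
  | base => exact ⟨0, zero_mem _, by rw [sub_zero]; exact hf⟩
  | succ n hn ih =>
    obtain ⟨g, hgA, hg⟩ := ih
    obtain ⟨e, heA, he⟩ := hΓ n (hc n hn)
    obtain ⟨a, ha⟩ := exists_sub_smul hg he
    exact ⟨g + a • e, add_mem hgA (A.smul_mem heA a), by rwa [← sub_sub]⟩

/-- birational and finite gives a conductor. -/
theorem exists_conductor (hA : Module.Finite ↥A (PowerSeries k)) (hbir : ∀ f : PowerSeries k, ∃ a ∈ A, a ≠ 0 ∧ a * f ∈ A) :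
    ∃ a : PowerSeries k, a ≠ 0 ∧ ∀ f : PowerSeries k, a * f ∈ A := by
  classical
  obtain ⟨s, hs⟩ := hA.fg_top
  choose d hdA hd0 hd using hbir
  refine ⟨∏ g ∈ s, d g, Finset.prod_ne_zero_iff.2 fun g _ => hd0 g, fun f => ?_⟩
  have hf : f ∈ Submodule.span ↥A (s : Set (PowerSeries k)) := hs ▸ Submodule.mem_top
  induction hf using Submodule.span_induction with
  | mem g hg =>
    rw [← Finset.mul_prod_erase _ _ (Finset.mem_coe.1 hg), mul_right_comm]
    exact mul_mem (hd g) (prod_mem fun x _ => hdA x)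
  | zero => simp
  | add x y _ _ hx hy => rw [mul_add]; exact add_mem hx hy
  | smul r x _ hx => rw [Subalgebra.smul_def, smul_eq_mul, mul_left_comm]; exact mul_mem r.2 hx

end Groth.Agent.H6.PSGaps
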