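import Groth.Agent.Lib.H6.ZRCompact
import Groth.Agent.Lib.H6.DVRVal2
import Mathlib.AlgebraicGeometry.ValuativeCriterion

set_option linter.all false
set_option autoImplicit false
set_option backward.isDefEq.respectTransparency.types false

/-! Properness near a point of the base by discrete valuation rings centred at the point. -/

namespace Groth.Agent.H6.ProperNhd

universe u

open CategoryTheory CategoryTheory.Limits AlgebraicGeometry IsLocalRing TopologicalSpace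

variable {X Y : Scheme.{u}}

/-- evaluation at a point of an affine open -/
noncomputable def ev (U : X.Opens) (ξ : X) (h : ξ ∈ U) : Γ(X, U) ⟶ X.residueField ξ :=
  X.presheaf.germ U ξ h ≫ X.residue ξ

theorem ev_fromSpec {U : X.Opens} (hU : IsAffineOpen U) (ξ : X) (h : ξ ∈ U) :
    Spec.map (ev U ξ h) ≫ hU.fromSpec = X.fromSpecResidueField ξ := by
  rw [ev, Spec.map_comp, Category.assoc]
  show Spec.map (X.residue ξ) ≫ hU.fromSpecStalk h = _
  rw [IsAffineOpen.fromSpecStalk_eq_fromSpecStalk]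
  rfl

theorem ev_essFiniteType {U : X.Opens} (hU : IsAffineOpen U) (ξ : X) (h : ξ ∈ U) :
    (ev U ξ h).hom.EssFiniteType := by
  letI := TopCat.Presheaf.algebra_section_stalk X.presheaf ⟨ξ, h⟩
  haveI := hU.isLocalization_stalk ⟨ξ, h⟩
  have h1 : (X.presheaf.germ U ξ h).hom.EssFiniteType :=
    RingHom.essFiniteType_algebraMap.2 (Algebra.EssFiniteType.of_isLocalization _ (hU.primeIdealOf ⟨ξ, h⟩).asIdeal.primeCompl)
  have h2 : (X.residue ξ).hom.EssFiniteType :=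
    (RingHom.FiniteType.of_surjective _ (X.residue_surjective ξ)).essFiniteType
  exact h1.comp h2

theorem finite_maximal (O : X.Opens) [IsNoetherian (O : Scheme.{u})] :
    {ξ : X | ξ ∈ O ∧ ∀ ξ', ξ' ⤳ ξ → ξ' = ξ}.Finite := by
  haveI : NoetherianSpace (O : Scheme.{u}) := IsNoetherian.noetherianSpace
  have hfin := NoetherianSpace.finite_irreducibleComponents (α := (O : Scheme.{u}))
  refine (hfin.biUnion (t := fun Z => O.ι '' {z | IsGenericPoint z Z}) fun Z _ => Set.Finite.image _ ?_).subset ?_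
  · exact Set.Subsingleton.finite fun a ha b hb => ha.eq hb
  rintro ξ ⟨hξ, hmax⟩
  obtain ⟨η, hη, hηξ⟩ := DVRVal.exists_maximal_mem (X := (O : Scheme.{u})) ⟨ξ, hξ⟩
  exact Set.mem_biUnion hη ⟨η, isGenericPoint_iff_specializes.2 fun z => specializes_iff_mem_closure,
    hmax _ (hηξ.map O.ι.continuous)⟩

/-- properness near a point from discrete valuation rings of the residue fields at maximal points -/
theorem exists_isProper_nhd [IsLocallyNoetherian Y] (f : X ⟶ Y) [IsSeparated f] [LocallyOfFiniteType f]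
    [QuasiCompact f] (y : Y)
    (H : ∀ ξ : X, (∀ ξ', ξ' ⤳ ξ → ξ' = ξ) → ∀ V : ValuationSubring (X.residueField ξ), IsDiscreteValuationRing V →
      ∀ g : Spec (CommRingCat.of V) ⟶ Y, g (closedPoint V) = y →
        Spec.map (CommRingCat.ofHom V.subtype) ≫ g = X.fromSpecResidueField ξ ≫ f →
        ∃ l : Spec (CommRingCat.of V) ⟶ X, l ≫ f = g ∧
          Spec.map (CommRingCat.ofHom V.subtype) ≫ l = X.fromSpecResidueField ξ) :
    ∃ U : Y.Opens, y ∈ U ∧ IsProper (f ∣_ U) := by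
  classical
  haveI : IsLocallyNoetherian X := LocallyOfFiniteType.isLocallyNoetherian f
  obtain ⟨W, hW, hyW, -⟩ := exists_isAffineOpen_mem_and_subset (X := Y) (x := y) (U := ⊤) trivial
  haveI : IsNoetherianRing Γ(Y, W) := IsLocallyNoetherian.component_noetherian ⟨W, hW⟩
  have hc : IsCompact ((f ⁻¹ᵁ W : X.Opens) : Set X) := f.isCompact_preimage hW.isCompact
  haveI : CompactSpace ((f ⁻¹ᵁ W : X.Opens) : Scheme.{u}) := isCompact_iff_compactSpace.1 hc
  haveI : IsNoetherian ((f ⁻¹ᵁ W : X.Opens) : Scheme.{u}) := {}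
  obtain ⟨t, htf, ht⟩ : ∃ t : Set {V : X.Opens // IsAffineOpen V ∧ V ≤ f ⁻¹ᵁ W},
      t.Finite ∧ ((f ⁻¹ᵁ W : X.Opens) : Set X) ⊆ ⋃ V ∈ t, (V.1 : Set X) := by
    obtain ⟨b, hb⟩ := hc.elim_finite_subcover (fun V : {V : X.Opens // IsAffineOpen V ∧ V ≤ f ⁻¹ᵁ W} => (V.1 : Set X))
      (fun V => V.1.2) (fun x hx => by
        obtain ⟨V, hV, hxV, hVW⟩ := exists_isAffineOpen_mem_and_subset (X := X) (x := x) (U := f ⁻¹ᵁ W) hx
        exact Set.mem_iUnion.2 ⟨⟨V, hV, hVW⟩, hxV⟩)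
    exact ⟨b, b.finite_toSet, by simpa using hb⟩
  -- generators
  have hgen : ∀ V : {V : X.Opens // IsAffineOpen V ∧ V ≤ f ⁻¹ᵁ W},
      ∃ G : Finset Γ(X, V.1), @Algebra.adjoin Γ(Y, W) Γ(X, V.1) _ _ (f.appLE W V.1 V.2.2).hom.toAlgebra (G : Set Γ(X, V.1)) = ⊤ :=
    fun V => (f.finiteType_appLE hW V.2.1 V.2.2).1
  choose G hG using hgen
  let p : Ideal Γ(Y, W) := (hW.primeIdealOf ⟨y, hyW⟩).asIdeal
  have hpy : hW.fromSpec (hW.primeIdealOf ⟨y, hyW⟩) = y := hW.fromSpec_primeIdealOf ⟨y, hyW⟩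
  -- structure map at a point
  let φ : ∀ ξ : X, f ξ ∈ W → (Γ(Y, W) ⟶ X.residueField ξ) := fun ξ h => ev W (f ξ) h ≫ f.residueFieldMap ξ
  have hφ : ∀ (ξ : X) (h : f ξ ∈ W), Spec.map (φ ξ h) ≫ hW.fromSpec = X.fromSpecResidueField ξ ≫ f := fun ξ h => by
    rw [Spec.map_comp, Category.assoc, ev_fromSpec hW, Scheme.Hom.SpecMap_residueFieldMap_fromSpecResidueField]
  have hφU : ∀ (V : {V : X.Opens // IsAffineOpen V ∧ V ≤ f ⁻¹ᵁ W}) (ξ : X) (h : ξ ∈ V.1),
      f.appLE W V.1 V.2.2 ≫ ev V.1 ξ h = φ ξ (V.2.2 h) := fun V ξ h => by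
    apply DVRVal.factor_unique hW
    rw [hφ, Spec.map_comp, Category.assoc, IsAffineOpen.SpecMap_appLE_fromSpec f hW V.2.1 V.2.2, ← Category.assoc,
      ev_fromSpec]
  have key : ∀ (ξ : {ξ : X // ξ ∈ f ⁻¹ᵁ W ∧ ∀ ξ', ξ' ⤳ ξ → ξ' = ξ}), ∃ s : Γ(Y, W), s ∉ p ∧
      ∀ R : ValuationSubring (X.residueField ξ.1), (∀ a, (φ ξ.1 ξ.2.1).hom a ∈ R) → (φ ξ.1 ξ.2.1).hom s ∉ R.nonunits →
        ∃ V : {V : X.Opens // IsAffineOpen V ∧ V ≤ f ⁻¹ᵁ W}, ∃ h : ξ.1 ∈ V.1, ∀ b, (ev V.1 ξ.1 h).hom b ∈ R := by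
    rintro ⟨ξ, hξW, hmax⟩
    letI : Algebra Γ(Y, W) (X.residueField ξ) := (φ ξ hξW).hom.toAlgebra
    haveI : Algebra.EssFiniteType Γ(Y, W) (X.residueField ξ) :=
      ((ev_essFiniteType hW (f ξ) hξW).comp (DVRVal.residueFieldMap_essFiniteType f ξ) : (φ ξ hξW).hom.EssFiniteType)
    haveI : p.IsPrime := (hW.primeIdealOf ⟨y, hyW⟩).2
    let ι := {V : t // ξ ∈ V.1.1}
    haveI : Finite t := htf
    haveI : Nonempty ι := by
      obtain ⟨V, hV, hξV⟩ := Set.mem_iUnion₂.1 (ht hξW)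
      exact ⟨⟨⟨V, hV⟩, hξV⟩⟩
    let S : ι → Set (X.residueField ξ) := fun V => (ev V.1.1.1 ξ V.2).hom '' (G V.1.1 : Set _)
    obtain ⟨s, hs, hgood⟩ := ZRCompact.exists_good_element S (fun V => (G V.1.1).finite_toSet.image _) p (by
      intro V hV hVA hVp
      let a : Γ(Y, W) ⟶ CommRingCat.of V := CommRingCat.ofHom ((φ ξ hξW).hom.codRestrict V.toSubring hVA)
      have hg : Spec.map (CommRingCat.ofHom V.subtype) ≫ Spec.map a ≫ hW.fromSpec = X.fromSpecResidueField ξ ≫ f := by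
        rw [← Spec.map_comp_assoc, ← hφ ξ hξW]
        rfl
      have hgc : (Spec.map a ≫ hW.fromSpec) (closedPoint V) = y := by
        rw [Scheme.Hom.comp_apply]
        refine (congrArg hW.fromSpec (PrimeSpectrum.ext (Ideal.ext fun r => ?_))).trans hpy
        show a.hom r ∈ maximalIdeal V ↔ r ∈ p
        rw [← hVp r, ValuationSubring.mem_nonunits_iff_exists_mem_maximalIdeal]
        exact ⟨fun h => ⟨hVA r, h⟩, fun ⟨_, h⟩ => h⟩
      obtain ⟨l, hlf, hlg⟩ := H ξ hmax V hV _ hgc hg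
      have hlW : l (closedPoint V) ∈ f ⁻¹ᵁ W := by
        show f (l (closedPoint V)) ∈ W
        rw [← Scheme.Hom.comp_apply, hlf, hgc]
        exact hyW
      obtain ⟨U, hUt, hlU⟩ := Set.mem_iUnion₂.1 (ht hlW)
      have hξU : ξ ∈ U.1 := by
        have := DVRVal.mem_of_closed l hlU (Spec.map (CommRingCat.ofHom V.subtype) (closedPoint (X.residueField ξ)))
        rwa [← Scheme.Hom.comp_apply, hlg, Scheme.fromSpecResidueField_apply] at this
      obtain ⟨θ, hθ⟩ := DVRVal.exists_factor U.2.1 l (DVRVal.mem_of_closed l hlU)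
      refine ⟨⟨⟨U, hUt⟩, hξU⟩, ?_⟩
      rintro _ ⟨b, -, rfl⟩
      have hev : ev U.1 ξ hξU = θ ≫ CommRingCat.ofHom V.subtype := by
        apply DVRVal.factor_unique U.2.1
        rw [ev_fromSpec, Spec.map_comp, Category.assoc, hθ, hlg]
      show (ev U.1 ξ hξU).hom b ∈ V
      rw [hev]
      exact (θ.hom b).2)
    refine ⟨s, hs, fun R hRA hRs => ?_⟩
    obtain ⟨V, hVS⟩ := hgood R hRA hRs
    refine ⟨V.1.1, V.2, fun b => ?_⟩
    letI : Algebra Γ(Y, W) Γ(X, V.1.1.1) := (f.appLE W V.1.1.1 V.1.1.2.2).hom.toAlgebra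
    have hb : b ∈ Algebra.adjoin Γ(Y, W) (G V.1.1 : Set Γ(X, V.1.1.1)) := (hG V.1.1).symm ▸ Algebra.mem_top
    induction hb using Algebra.adjoin_induction with
    | mem c hc => exact hVS ⟨c, hc, rfl⟩
    | algebraMap r =>
      show (f.appLE W V.1.1.1 V.1.1.2.2 ≫ ev V.1.1.1 ξ V.2).hom r ∈ R
      rw [hφU]
      exact hRA r
    | add a b _ _ ha hb => rw [map_add]; exact add_mem ha hb
    | mul a b _ _ ha hb => rw [map_mul]; exact mul_mem ha hb
  choose s hs hgood using key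
  have hfin : {ξ : X | ξ ∈ f ⁻¹ᵁ W ∧ ∀ ξ', ξ' ⤳ ξ → ξ' = ξ}.Finite := finite_maximal (f ⁻¹ᵁ W)
  haveI : Finite {ξ : X // ξ ∈ f ⁻¹ᵁ W ∧ ∀ ξ', ξ' ⤳ ξ → ξ' = ξ} := hfin.to_subtype
  letI := Fintype.ofFinite {ξ : X // ξ ∈ f ⁻¹ᵁ W ∧ ∀ ξ', ξ' ⤳ ξ → ξ' = ξ}
  let s₀ : Γ(Y, W) := ∏ ξ : {ξ : X // ξ ∈ f ⁻¹ᵁ W ∧ ∀ ξ', ξ' ⤳ ξ → ξ' = ξ}, s ξ
  have hs₀ : s₀ ∉ p := by
    haveI : p.IsPrime := (hW.primeIdealOf ⟨y, hyW⟩).2
    intro h
    obtain ⟨ξ, -, hξ⟩ := (Ideal.IsPrime.prod_mem_iff).1 h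
    exact hs ξ hξ
  let U := Y.basicOpen s₀
  have hUW : U ≤ W := Y.basicOpen_le s₀
  have hmemU : ∀ q : PrimeSpectrum Γ(Y, W), hW.fromSpec q ∈ U ↔ s₀ ∉ q.asIdeal := fun q => by
    show q ∈ (hW.fromSpec ⁻¹ᵁ U) ↔ _
    rw [hW.fromSpec_preimage_basicOpen]
    exact Iff.rfl
  refine ⟨U, by rw [← hpy]; exact (hmemU _).2 hs₀, ?_⟩
  haveI : IsSeparated (f ∣_ U) := IsZariskiLocalAtTarget.restrict ‹_› U
  haveI : QuasiCompact (f ∣_ U) := IsZariskiLocalAtTarget.restrict ‹_› U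
  haveI : LocallyOfFiniteType (f ∣_ U) := IsZariskiLocalAtTarget.restrict ‹_› U
  haveI : UniversallyClosed (f ∣_ U) := by
    rw [UniversallyClosed.eq_valuativeCriterion]
    refine ⟨?_, inferInstance⟩
    refine ValDense.existence_of_points (f ∣_ U) {d | ∀ d', d' ⤳ d → d' = d} (fun x => ?_) (fun d hd => ?_)
      (fun d _ => ValDense.uniqAt_of_isSeparated _ d)
    · obtain ⟨η, hη, hηx⟩ := DVRVal.exists_maximal_mem x
      refine ⟨η, fun d hd => ?_, hηx⟩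
      have h1 : closure {η} ⊆ closure {d} := closure_minimal (by simpa using specializes_iff_mem_closure.1 hd) isClosed_closure
      have h2 := hη.2 isIrreducible_singleton.closure h1
      exact (hd.antisymm (specializes_iff_mem_closure.2 (h2 (subset_closure rfl)))).eq
    intro R z hz
    let O := f ⁻¹ᵁ U
    change ↥(O : Scheme.{u}) at d
    let ξ : X := O.ι d
    have hξO : ξ ∈ O := d.2
    have hξW : ξ ∈ f ⁻¹ᵁ W := hUW hξO
    have hmax : ∀ ξ', ξ' ⤳ ξ → ξ' = ξ := fun ξ' h => by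
      have hm : ξ' ∈ O := h.mem_open O.2 hξO
      exact congrArg O.ι (hd ⟨ξ', hm⟩ ((O.ι.isOpenEmbedding.isInducing.specializes_iff).1 h))
    let ψ := (O.ι.residueFieldMap d).hom
    obtain ⟨ρ, hρ, -⟩ := ValDense.exists_rho (R := ↥R) (K := (O : Scheme.{u}).residueField d) ψ
    let p₀ := X.fromSpecResidueField ξ
    have hp₀ : (O : Scheme.{u}).fromSpecResidueField d ≫ O.ι = Spec.map (O.ι.residueFieldMap d) ≫ p₀ :=
      (Scheme.Hom.SpecMap_residueFieldMap_fromSpecResidueField _ _).symm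
    obtain ⟨y₀, hy₀1, hy₀2⟩ := ValDense.descend ψ ρ hρ (p₀ ≫ f) (z ≫ U.ι) (by
      show Spec.map (CommRingCat.ofHom R.subtype) ≫ z ≫ U.ι = Spec.map (O.ι.residueFieldMap d) ≫ p₀ ≫ f
      rw [reassoc_of% hz, morphismRestrict_ι, reassoc_of% hp₀])
    let R₀ := ValDense.res (↥R) ψ
    have hcl : Spec.map (CommRingCat.ofHom ρ) (closedPoint R) ⤳ closedPoint R₀ := specializes_closedPoint _
    have hyU : y₀ (closedPoint R₀) ∈ U := by
      have h1 : y₀ (Spec.map (CommRingCat.ofHom ρ) (closedPoint R)) ∈ U := by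
        rw [← Scheme.Hom.comp_apply, hy₀2, Scheme.Hom.comp_apply]
        exact (z (closedPoint R)).2
      obtain ⟨ρ', hρ', hloc'⟩ := ValDense.exists_rho (R := ↥R) (K := (O : Scheme.{u}).residueField d) ψ
      have : ρ' = ρ := RingHom.ext fun a => IsFractionRing.injective R ((O : Scheme.{u}).residueField d)
        ((RingHom.congr_fun hρ' a).trans (RingHom.congr_fun hρ a).symm)
      subst this
      haveI := hloc'
      have hc : Spec.map (CommRingCat.ofHom ρ') (closedPoint R) = closedPoint R₀ := IsLocalRing.comap_closedPoint ρ'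
      rwa [hc] at h1
    obtain ⟨a, ha⟩ := DVRVal.exists_factor hW y₀ (DVRVal.mem_of_closed y₀ (hUW hyU))
    have haφ : a ≫ CommRingCat.ofHom R₀.subtype = φ ξ hξW := by
      apply DVRVal.factor_unique hW
      rw [Spec.map_comp, Category.assoc, ha, hy₀1, hφ]
    have hsR : (φ ξ hξW).hom (s ⟨ξ, hξW, hmax⟩) ∉ R₀.nonunits := by
      intro h
      obtain ⟨h1, h2⟩ := ValuationSubring.mem_nonunits_iff_exists_mem_maximalIdeal.1 h
      have hq := (hmemU (Spec.map a (closedPoint R₀))).1 (by rw [← Scheme.Hom.comp_apply, ha]; exact hyU)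
      refine hq ?_
      show a.hom s₀ ∈ maximalIdeal R₀
      have h3 : a.hom (s ⟨ξ, hξW, hmax⟩) ∈ maximalIdeal R₀ := by
        convert h2 using 1
        exact Subtype.ext (congrArg (fun k => k.hom (s ⟨ξ, hξW, hmax⟩)) haφ)
      rw [map_prod]
      refine Ideal.prod_mem (I := maximalIdeal R₀) (s := Finset.univ)
        (Finset.mem_univ (⟨ξ, hξW, hmax⟩ : {ξ : X // ξ ∈ f ⁻¹ᵁ W ∧ ∀ ξ', ξ' ⤳ ξ → ξ' = ξ})) h3
    obtain ⟨V, hξV, hV⟩ := hgood ⟨ξ, hξW, hmax⟩ R₀ (fun r => by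
      rw [← haφ]; exact (a.hom r).2) hsR
    let β : Γ(X, V.1) ⟶ CommRingCat.of R₀ := CommRingCat.ofHom ((ev V.1 ξ hξV).hom.codRestrict R₀.toSubring hV)
    let l₀ : Spec (CommRingCat.of R₀) ⟶ X := Spec.map β ≫ V.2.1.fromSpec
    have hl₀ : l₀ ≫ f = y₀ := by
      rw [Category.assoc, ← IsAffineOpen.SpecMap_appLE_fromSpec f hW V.2.1 V.2.2, ← Spec.map_comp_assoc, ← ha]
      congr 2
      ext r
      exact (congrArg (fun k => k.hom r) (hφU V ξ hξV)).trans (congrArg (fun k => k.hom r) haφ).symm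
    have hl₀g : Spec.map (CommRingCat.ofHom R₀.subtype) ≫ l₀ = p₀ := by
      rw [← Spec.map_comp_assoc]
      exact ev_fromSpec V.2.1 ξ hξV
    let l : Spec (CommRingCat.of R) ⟶ (O : Scheme.{u}) := IsOpenImmersion.lift O.ι (Spec.map (CommRingCat.ofHom ρ) ≫ l₀) (by
      rw [Scheme.Opens.range_ι]
      rintro _ ⟨q, rfl⟩
      show f _ ∈ U
      rw [← Scheme.Hom.comp_apply, Category.assoc, hl₀, hy₀2, Scheme.Hom.comp_apply]
      exact (z q).2)
    refine ⟨l, ?_, ?_⟩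
    · rw [← cancel_mono U.ι, Category.assoc, morphismRestrict_ι, IsOpenImmersion.lift_fac_assoc, Category.assoc, hl₀, hy₀2]
    · rw [← cancel_mono O.ι, Category.assoc, IsOpenImmersion.lift_fac, hp₀, ← hl₀g]
      have e : CommRingCat.ofHom ρ ≫ CommRingCat.ofHom R.subtype = CommRingCat.ofHom R₀.subtype ≫ O.ι.residueFieldMap d := by
        ext r
        exact RingHom.congr_fun hρ r
      refine (Category.assoc _ _ _).symm.trans (Eq.trans ?_ (Category.assoc _ _ _))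
      refine congrArg (· ≫ l₀) ?_
      rw [← Spec.map_comp, ← Spec.map_comp]
      exact congrArg Spec.map e
  constructor

end Groth.Agent.H6.ProperNhd
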