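import Mathlib.AlgebraicGeometry.PullbackCarrier
import Mathlib.AlgebraicGeometry.Morphisms.Preimmersion
import Mathlib.RingTheory.Adjoin.FGBaseChange

set_option linter.all false
set_option autoImplicit false
set_option backward.isDefEq.respectTransparency.types false

/-!
Affine pieces of base changes: for `f : X ⟶ Y`, affine pieces `i : Spec B ⟶ X`, `w : Spec A ⟶ Y` over `f` and an
`A`-algebra `C`, the open piece `Spec (B ⊗ C) ⟶ X ×_Y Spec C`, natural in `C`; descent of sections to f.g. subalgebras.
-/

namespace Groth.Agent.H6.PullAff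

universe u

open CategoryTheory CategoryTheory.Limits AlgebraicGeometry
open scoped TensorProduct

variable {X Y : Scheme.{u}} (f : X ⟶ Y) {A B : Type u} [CommRing A] [CommRing B] [Algebra A B]
  (i : Spec (CommRingCat.of B) ⟶ X) (w : Spec (CommRingCat.of A) ⟶ Y)
  (hc : i ≫ f = Spec.map (CommRingCat.ofHom (algebraMap A B)) ≫ w)

/-- the structure map of an affine `A`-algebra over `Y` -/
noncomputable abbrev base (C : Type u) [CommRing C] [Algebra A C] : Spec (CommRingCat.of C) ⟶ Y :=
  Spec.map (CommRingCat.ofHom (algebraMap A C)) ≫ w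

theorem comm_aux (C : Type u) [CommRing C] [Algebra A C] :
    Spec.map (CommRingCat.ofHom (algebraMap B (B ⊗[A] C))) ≫ Spec.map (CommRingCat.ofHom (algebraMap A B)) =
      Spec.map (CommRingCat.ofHom (Algebra.TensorProduct.includeRight (R := A) (A := B) (B := C)).toRingHom) ≫
        Spec.map (CommRingCat.ofHom (algebraMap A C)) := by
  rw [← Spec.map_comp, ← Spec.map_comp]
  congr 1
  ext a
  exact ((Algebra.TensorProduct.includeLeft (R := A) (S := A) (A := B) (B := C)).commutes a).trans
    ((Algebra.TensorProduct.includeRight (R := A) (A := B) (B := C)).commutes a).symm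

/-- the affine piece -/
noncomputable def piece (C : Type u) [CommRing C] [Algebra A C] :
    Spec (CommRingCat.of (B ⊗[A] C)) ⟶ pullback f (base w C) :=
  pullback.lift (Spec.map (CommRingCat.ofHom (algebraMap B (B ⊗[A] C))) ≫ i)
    (Spec.map (CommRingCat.ofHom (Algebra.TensorProduct.includeRight (R := A) (A := B) (B := C)).toRingHom))
    (by rw [Category.assoc, hc, ← Category.assoc, comm_aux, Category.assoc])

theorem piece_fst (C : Type u) [CommRing C] [Algebra A C] :
    piece f i w hc C ≫ pullback.fst f (base w C) = Spec.map (CommRingCat.ofHom (algebraMap B (B ⊗[A] C))) ≫ i :=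
  pullback.lift_fst _ _ _

theorem piece_snd (C : Type u) [CommRing C] [Algebra A C] :
    piece f i w hc C ≫ pullback.snd f (base w C) =
      Spec.map (CommRingCat.ofHom (Algebra.TensorProduct.includeRight (R := A) (A := B) (B := C)).toRingHom) :=
  pullback.lift_snd _ _ _

theorem isPullback_piece [Mono w] (C : Type u) [CommRing C] [Algebra A C] :
    IsPullback (piece f i w hc C) (Spec.map (CommRingCat.ofHom (algebraMap B (B ⊗[A] C))))
      (pullback.fst f (base w C)) i := by
  have h0 : IsPullback (Spec.map (CommRingCat.ofHom (Algebra.TensorProduct.includeRight (R := A) (A := B) (B := C)).toRingHom))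
      (Spec.map (CommRingCat.ofHom (algebraMap B (B ⊗[A] C)))) (Spec.map (CommRingCat.ofHom (algebraMap A C)))
      (Spec.map (CommRingCat.ofHom (algebraMap A B))) := by
    refine (IsPullback.of_iso_pullback ⟨comm_aux C⟩ (pullbackSpecIso A B C).symm ?_ ?_).flip
    · exact pullbackSpecIso_inv_fst' A B C
    · exact pullbackSpecIso_inv_snd A B C
  have h1 : IsPullback (piece f i w hc C ≫ pullback.snd f (base w C))
      (Spec.map (CommRingCat.ofHom (algebraMap B (B ⊗[A] C)))) (base w C) (i ≫ f) := by
    rw [piece_snd, hc]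
    refine ⟨⟨by rw [← Category.assoc, h0.w, Category.assoc]⟩, ⟨PullbackCone.IsLimit.mk _
      (fun s => h0.lift s.fst s.snd ((cancel_mono w).1 (by rw [Category.assoc, Category.assoc]; exact s.condition)))
      (fun s => h0.lift_fst _ _ _) (fun s => h0.lift_snd _ _ _) ?_⟩⟩
    intro s m hm₁ hm₂
    exact h0.hom_ext (hm₁.trans (h0.lift_fst _ _ _).symm) (hm₂.trans (h0.lift_snd _ _ _).symm)
  exact IsPullback.of_right h1 (piece_fst f i w hc C) (IsPullback.of_hasPullback f (base w C)).flip

theorem isOpenImmersion_piece [IsOpenImmersion i] [Mono w] (C : Type u) [CommRing C] [Algebra A C] :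
    IsOpenImmersion (piece f i w hc C) :=
  MorphismProperty.of_isPullback (isPullback_piece f i w hc C).flip inferInstance

theorem exists_mem_piece [Mono w] (C : Type u) [CommRing C] [Algebra A C]
    (z : ↥(pullback f (base w C))) (hz : pullback.fst f (base w C) z ∈ Set.range i) :
    ∃ r, piece f i w hc C r = z := by
  obtain ⟨b, hb⟩ := hz
  obtain ⟨r, hr, -⟩ := Scheme.exists_preimage_of_isPullback (isPullback_piece f i w hc C) z b hb.symm
  exact ⟨r, hr⟩

/-- transition maps -/
noncomputable def trans {C D : Type u} [CommRing C] [Algebra A C] [CommRing D] [Algebra A D] (φ : C →ₐ[A] D) :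
    pullback f (base w D) ⟶ pullback f (base w C) :=
  pullback.lift (pullback.fst _ _) (pullback.snd _ _ ≫ Spec.map (CommRingCat.ofHom φ.toRingHom)) (by
    rw [pullback.condition, Category.assoc]
    congr 1
    rw [base, base, ← Category.assoc, ← Spec.map_comp]
    congr 2
    ext a
    exact (φ.commutes a).symm)

theorem trans_fst {C D : Type u} [CommRing C] [Algebra A C] [CommRing D] [Algebra A D] (φ : C →ₐ[A] D) :
    trans f w φ ≫ pullback.fst _ _ = pullback.fst _ _ :=
  pullback.lift_fst _ _ _

theorem trans_snd {C D : Type u} [CommRing C] [Algebra A C] [CommRing D] [Algebra A D] (φ : C →ₐ[A] D) :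
    trans f w φ ≫ pullback.snd _ _ = pullback.snd _ _ ≫ Spec.map (CommRingCat.ofHom φ.toRingHom) :=
  pullback.lift_snd _ _ _

theorem piece_trans {C D : Type u} [CommRing C] [Algebra A C] [CommRing D] [Algebra A D] (φ : C →ₐ[A] D) :
    piece f i w hc D ≫ trans f w φ =
      Spec.map (CommRingCat.ofHom (Algebra.TensorProduct.map (AlgHom.id B B) φ).toRingHom) ≫ piece f i w hc C := by
  apply pullback.hom_ext
  · rw [Category.assoc, Category.assoc, trans_fst, piece_fst, piece_fst, ← Category.assoc, ← Spec.map_comp]
    congr 2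
    ext b
    exact ((Algebra.TensorProduct.map (AlgHom.id B B) φ).commutes b).symm
  · rw [Category.assoc, Category.assoc, trans_snd, piece_snd, ← Category.assoc, piece_snd, ← Spec.map_comp, ← Spec.map_comp]
    congr 1

/-- a finite set of sections comes from a finitely generated subalgebra -/
theorem exists_fg_sections {C : Type u} [CommRing C] [Algebra A C] (S : Finset (B ⊗[A] C)) :
    ∃ C₀ : Subalgebra A C, C₀.FG ∧ ∀ s ∈ S, ∃ s₀ : B ⊗[A] C₀,
      Algebra.TensorProduct.map (AlgHom.id B B) C₀.val s₀ = s := by
  classical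
  induction S using Finset.induction with
  | empty => exact ⟨⊥, Subalgebra.fg_bot, fun s hs => absurd hs (Finset.notMem_empty s)⟩
  | insert s S _ ih =>
    obtain ⟨C₁, hC₁, h₁⟩ := ih
    obtain ⟨C₂, hC₂, h₂⟩ := exists_fg_and_mem_baseChange (R := A) (A := B) s
    obtain ⟨s₂, hs₂⟩ := h₂
    refine ⟨C₁ ⊔ C₂, hC₁.sup hC₂, ?_⟩
    have key : ∀ (C' : Subalgebra A C) (h : C' ≤ C₁ ⊔ C₂) (z : B ⊗[A] C'),
        Algebra.TensorProduct.map (AlgHom.id B B) (C₁ ⊔ C₂).val
          (Algebra.TensorProduct.map (AlgHom.id B B) (Subalgebra.inclusion h) z) =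
            Algebra.TensorProduct.map (AlgHom.id B B) C'.val z := fun C' h z => by
      induction z using TensorProduct.induction_on with
      | zero => simp
      | tmul b c => simp
      | add p q hp hq => simp only [map_add, hp, hq]
    intro t ht
    rcases Finset.mem_insert.1 ht with rfl | ht
    · exact ⟨_, (key C₂ le_sup_right s₂).trans hs₂⟩
    · obtain ⟨t₁, ht₁⟩ := h₁ t ht
      exact ⟨_, (key C₁ le_sup_left t₁).trans ht₁⟩

end Groth.Agent.H6.PullAff
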