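import Groth.Agent.Lib.H7FPFlat
import Groth.Agent.Lib.H7QCoh
import Groth.Agent.Lib.H7TildePerf
import Groth.Agent.Lib.H6.TildePullback
import Groth.Agent.Lib.LQFin
import Groth.Agent.Lib.H7TildeAmp

/-! Descent of finiteness of quasi-coherent modules along fpqc morphisms. -/

set_option autoImplicit false
set_option linter.all false
set_option maxHeartbeats 1000000
set_option backward.isDefEq.respectTransparency.types false

universe u

open CategoryTheory CategoryTheory.Limits AlgebraicGeometry TopologicalSpace Opposite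

namespace Groth.Agent.H6.PullDesc
open Groth.Agent H7PerfPull H7FinFree

variable {X Y : Scheme.{u}}

/-- sections over an affine open, as a module. -/
noncomputable abbrev secMod (M : X.Modules) {V : X.Opens} (hV : IsAffineOpen V) : ModuleCat.{u} Γ(X, V) :=
  (modulesSpecToSheaf.obj (M.restrict hV.fromSpec)).presheaf.obj (op ⊤)

theorem nonempty_tildeIso (M : X.Modules) [M.IsQuasicoherent] {V : X.Opens} (hV : IsAffineOpen V) :
    Nonempty ((Scheme.Modules.pullback hV.fromSpec).obj M ≅ tilde (secMod M hV)) := by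
  haveI := LQcoh.isIso_fromTildeΓ_of_locAt M hV (LQcoh.locAt_of_qcoh M hV)
  exact ⟨((Scheme.Modules.restrictFunctorIsoPullback hV.fromSpec).app M).symm ≪≫
    (asIso (M.restrict hV.fromSpec).fromTildeΓ).symm⟩

/-- an affine chart of an fpqc morphism over an affine open. -/
theorem exists_chart (g : Y ⟶ X) [QuasiCompact g] [Flat g] [Surjective g] {V : X.Opens} (hV : IsAffineOpen V) :
    ∃ (B : CommRingCat.{u}) (φ : Γ(X, V) ⟶ B) (q : Spec B ⟶ Y),
      q ≫ g = Spec.map φ ≫ hV.fromSpec ∧ φ.hom.FaithfullyFlat := by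
  obtain ⟨ι, hι, A, hA, hsup⟩ := LQcoh.exists_affine_cover (g ⁻¹ᵁ V) (g.isCompact_preimage hV.isCompact)
  have hle : ∀ i, A i ≤ g ⁻¹ᵁ V := fun i => (le_iSup A i).trans hsup.le
  let R : ι → CommRingCat.{u} := fun i => Γ(Y, A i)
  let φ : Γ(X, V) ⟶ CommRingCat.of (∀ i, R i) :=
    CommRingCat.ofHom (Pi.ringHom fun i => (g.appLE V (A i) (hle i)).hom)
  let q : Spec (CommRingCat.of (∀ i, R i)) ⟶ Y := inv (sigmaSpec R) ≫ Sigma.desc fun i => (hA i).fromSpec
  have hq : q ≫ g = Spec.map φ ≫ hV.fromSpec := by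
    rw [Category.assoc, IsIso.inv_comp_eq]
    refine Sigma.hom_ext _ _ fun i => ?_
    rw [Sigma.ι_desc_assoc, ι_sigmaSpec_assoc, ← Spec.map_comp_assoc,
      show φ ≫ CommRingCat.ofHom (Pi.evalRingHom (fun i => R i) i) = g.appLE V (A i) (hle i) from rfl,
      IsAffineOpen.SpecMap_appLE_fromSpec]
  refine ⟨_, φ, q, hq, ?_⟩
  rw [← flat_and_surjective_SpecMap_iff]
  constructor
  · have : IsZariskiLocalAtSource (@Flat : MorphismProperty Scheme.{u}) := inferInstance
    rw [← MorphismProperty.cancel_left_of_respectsIso (P := @Flat) (sigmaSpec R) (Spec.map φ)]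
    refine (IsZariskiLocalAtSource.iff_of_openCover (P := @Flat) (sigmaOpenCover _)).2 fun (i : ι) => ?_
    change Flat (Sigma.ι _ i ≫ sigmaSpec R ≫ Spec.map φ)
    rw [ι_sigmaSpec_assoc, ← Spec.map_comp, HasRingHomProperty.Spec_iff (P := @Flat)]
    exact HasRingHomProperty.appLE (P := @Flat) g inferInstance ⟨V, hV⟩ ⟨A i, hA i⟩ (hle i)
  · refine ⟨fun p => ?_⟩
    have hp : hV.fromSpec p ∈ V := by rw [← SetLike.mem_coe, ← hV.range_fromSpec]; exact ⟨p, rfl⟩
    obtain ⟨y, hy⟩ := g.surjective (hV.fromSpec p)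
    obtain ⟨i, hi⟩ := Opens.mem_iSup.1 (hsup.ge (show g y ∈ V from hy ▸ hp))
    obtain ⟨t, ht⟩ : y ∈ Set.range (hA i).fromSpec := by rw [(hA i).range_fromSpec]; exact hi
    refine ⟨(sigmaSpec R) (Sigma.ι (fun i => Spec (R i)) i t), hV.fromSpec.injective ?_⟩
    rw [← hy, ← ht, ← Scheme.Hom.comp_apply, ← Scheme.Hom.comp_apply, ← Scheme.Hom.comp_apply, ← Scheme.Hom.comp_apply]
    congr 2
    rw [← hq, Category.assoc, IsIso.hom_inv_id_assoc, Sigma.ι_desc_assoc]

/-- pullback of a quasi-coherent module to a chart. -/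
theorem nonempty_chartIso (M : X.Modules) [M.IsQuasicoherent] (g : Y ⟶ X) {V : X.Opens} (hV : IsAffineOpen V)
    {B : CommRingCat.{u}} (φ : Γ(X, V) ⟶ B) (q : Spec B ⟶ Y) (hq : q ≫ g = Spec.map φ ≫ hV.fromSpec) :
    Nonempty ((Scheme.Modules.pullback q).obj ((Scheme.Modules.pullback g).obj M) ≅
      tilde ((ModuleCat.extendScalars.{u, u, u} φ.hom).obj (secMod M hV))) := by
  obtain ⟨e⟩ := nonempty_tildeIso M hV
  exact ⟨(Scheme.Modules.pullbackComp q g).app M ≪≫ (Scheme.Modules.pullbackCongr hq).app M ≪≫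
    ((Scheme.Modules.pullbackComp (Spec.map φ) hV.fromSpec).app M).symm ≪≫
    (Scheme.Modules.pullback (Spec.map φ)).mapIso e ≪≫ (TildePullback.leftIso φ).app (secMod M hV)⟩

/-- local finite generation of a module of finite type. -/
theorem exists_epi_free (M : X.Modules) [M.IsQuasicoherent] (h : CohB1.IsFT M) (x : X) :
    ∃ (U : X.Opens) (n : ℕ) (p : FlatMod.freeMod (U : Scheme.{u}) n ⟶ M.restrict U.ι), x ∈ U ∧ Epi p := by
  haveI : SheafOfModules.IsFiniteType (R := X.ringCatSheaf) M := h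
  obtain ⟨V, hV, hxV, -⟩ := exists_isAffineOpen_mem_and_subset (X := X) (x := x) (U := ⊤) trivial
  haveI := LQcoh.isIso_fromTildeΓ_of_locAt M hV (LQcoh.locAt_of_qcoh M hV)
  haveI : Module.Finite Γ(X, V) (secMod M hV) := (LQcoh.finite_restrict_iff M hV).2 (LQcoh.finite_sections M hV)
  have h1 := (LQcoh.hasFinGen_tilde (secMod M hV)).of_epi (asIso (M.restrict hV.fromSpec).fromTildeΓ).hom
  have h2 : LQcoh.HasFinGen (M.restrict V.ι) := (LQcoh.hasFinGen_restrict hV.isoSpec.hom h1).of_epi
    (((Scheme.Modules.restrictFunctorComp hV.isoSpec.hom hV.fromSpec).symm ≪≫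
      Scheme.Modules.restrictFunctorCongr (IsAffineOpen.isoSpec_hom_fromSpec hV)).app M).hom
  obtain ⟨G, hG⟩ := h2
  obtain ⟨n, ⟨e⟩⟩ := H7FPLocal.exists_free_iso (X := (V : Scheme.{u})) G.I
  haveI := G.epi
  exact ⟨V, n, e.inv ≫ G.π, hxV, (inferInstance : Epi (e.inv ≫ G.π))⟩

/-- finite type is preserved by pullback. -/
theorem isFT_pullback (q : Y ⟶ X) (M : X.Modules) [M.IsQuasicoherent] (h : CohB1.IsFT M) :
    CohB1.IsFT ((Scheme.Modules.pullback q).obj M) := by
  refine H7FPLocal.isFT_of_epi _ fun y => ?_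
  obtain ⟨U, n, p, hx, hp⟩ := exists_epi_free M h (q y)
  haveI : PreservesColimitsOfSize.{0, 0} (Scheme.Modules.pullback (q ∣_ U)) :=
    (Scheme.Modules.pullbackPushforwardAdjunction (q ∣_ U)).leftAdjoint_preservesColimits
  haveI : (Scheme.Modules.pullback (q ∣_ U)).PreservesEpimorphisms :=
    Functor.preservesEpimorphisms_of_adjunction (Scheme.Modules.pullbackPushforwardAdjunction (q ∣_ U))
  exact ⟨q ⁻¹ᵁ U, n, (pullFreeIso (q ∣_ U) n).inv ≫ (Scheme.Modules.pullback (q ∣_ U)).map p ≫
    ((pullRestrictIso q (q ⁻¹ᵁ U) (q ∣_ U) (morphismRestrict_ι q U)).app M).inv, hx, inferInstance⟩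

theorem isFT_of_iso {M N : X.Modules} [M.IsQuasicoherent] (e : M ≅ N) (h : CohB1.IsFT M) : CohB1.IsFT N := by
  refine H7FPLocal.isFT_of_epi _ fun x => ?_
  obtain ⟨U, n, p, hx, hp⟩ := exists_epi_free M h x
  exact ⟨U, n, p ≫ ((Scheme.Modules.restrictFunctor U.ι).mapIso e).hom, hx, inferInstance⟩

theorem isFT_of_finLocFree {M : X.Modules} (h : FlatMod.IsFinLocFree M) : CohB1.IsFT M := by
  refine H7FPLocal.isFT_of_epi _ fun x => ?_
  obtain ⟨U, n, hx, ⟨e⟩⟩ := h x
  exact ⟨U, n, e.inv, hx, inferInstance⟩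

/-- a finite type tilde comes from a finite module. -/
theorem finite_of_isFT_tilde {B : CommRingCat.{u}} (P : ModuleCat.{u} B) (h : CohB1.IsFT (tilde P)) :
    Module.Finite B P := by
  haveI : SheafOfModules.IsFiniteType (R := (Spec B).ringCatSheaf) (tilde P) := h
  haveI := LQcoh.finite_sections (tilde P) (isAffineOpen_top (Spec B))
  haveI : Module.Finite B Γ(Spec B, ⊤) := Module.Finite.of_surjective (Algebra.linearMap B Γ(Spec B, ⊤))
    ((ConcreteCategory.bijective_of_isIso (Scheme.ΓSpecIso B).inv).2)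
  haveI : Module.Finite B ((modulesSpecToSheaf.obj (tilde P)).presheaf.obj (op ⊤)) :=
    (Module.Finite.trans Γ(Spec B, ⊤) _ : Module.Finite B Γ(tilde P, ⊤))
  exact Module.Finite.equiv (asIso (tilde.toOpen P ⊤)).toLinearEquiv.symm

/-- finite type descends. -/
theorem finite_secMod (M : X.Modules) [M.IsQuasicoherent] (g : Y ⟶ X) [QuasiCompact g] [Flat g] [Surjective g]
    [((Scheme.Modules.pullback g).obj M).IsQuasicoherent] (h : CohB1.IsFT ((Scheme.Modules.pullback g).obj M))
    {V : X.Opens} (hV : IsAffineOpen V) : Module.Finite Γ(X, V) (secMod M hV) := by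
  obtain ⟨B, φ, q, hq, hff⟩ := exists_chart g hV
  obtain ⟨e⟩ := nonempty_chartIso M g hV φ q hq
  haveI : ((Scheme.Modules.pullback q).obj ((Scheme.Modules.pullback g).obj M)).IsQuasicoherent :=
    H7AffineD.qcoh_of_iso e.symm inferInstance
  have h1 := finite_of_isFT_tilde _ (isFT_of_iso e (isFT_pullback q _ h))
  letI := φ.hom.toAlgebra
  haveI : Module.FaithfullyFlat Γ(X, V) B := hff
  haveI : Module.Finite B (TensorProduct Γ(X, V) B (secMod M hV)) := h1
  exact Module.Finite.of_finite_tensorProduct_of_faithfullyFlat (T := B)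

theorem isFT_of_pullback (M : X.Modules) [M.IsQuasicoherent] (g : Y ⟶ X) [QuasiCompact g] [Flat g] [Surjective g]
    [((Scheme.Modules.pullback g).obj M).IsQuasicoherent] (h : CohB1.IsFT ((Scheme.Modules.pullback g).obj M)) :
    CohB1.IsFT M := by
  choose V hV hx using fun x : X => exists_isAffineOpen_mem_and_subset (X := X) (x := x) (U := ⊤) trivial
  exact LQcoh.isFiniteType_of_finite M V hV (eq_top_iff.2 fun x _ => Opens.mem_iSup.2 ⟨x, (hx x).1⟩)
    fun x => (LQcoh.finite_restrict_iff M (hV x)).1 (finite_secMod M g h (hV x))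

theorem finitePresentation_of_finLocFree_tilde {B : CommRingCat.{u}} (P : ModuleCat.{u} B)
    (h : FlatMod.IsFinLocFree (tilde P)) : Module.FinitePresentation B P := by
  haveI : Module.Finite B P := finite_of_isFT_tilde P (isFT_of_finLocFree h)
  obtain ⟨n, f, hf⟩ := Module.Finite.exists_fin' B P
  let π : ModuleCat.of B (Fin n → B) ⟶ P := ModuleCat.ofHom f
  haveI : Epi π := (ModuleCat.epi_iff_surjective _).2 hf
  let p : tilde (ModuleCat.of B (Fin n → B)) ⟶ tilde P := (tilde.functor B).map π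
  haveI := Functor.preservesEpimorphisms_of_adjunction (tilde.adjunction (R := B))
  have hp : Epi p := @Functor.map_epi _ _ _ _ (tilde.functor B) _ _ _ π ‹Epi π›
  have hK := @H7LocFreeLocus.finLocFree_kernel (Spec B) _ _
    (H7TildePerf.finLocFree_tilde (R := B) (ModuleCat.of B (Fin n → B))) h p hp
  haveI : (kernel p).IsQuasicoherent := LQcoh.isQuasicoherent_kernel p
  haveI : IsIso (kernel p).fromTildeΓ := Scheme.Modules.isIso_fromTildeΓ_of_isQuasicoherent _
  have h1 := finite_of_isFT_tilde (B := B) (moduleSpecΓFunctor.obj (kernel p))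
    (isFT_of_iso (asIso (kernel p).fromTildeΓ).symm (isFT_of_finLocFree hK))
  haveI := (tilde.adjunction (R := B)).rightAdjoint_preservesLimits
  let e : moduleSpecΓFunctor.obj (kernel p) ≅ ModuleCat.of B (LinearMap.ker f) :=
    PreservesKernel.iso moduleSpecΓFunctor p ≪≫
      kernel.mapIso (moduleSpecΓFunctor.map p) π ((asIso (tilde.adjunction (R := B)).unit).app _).symm
        ((asIso (tilde.adjunction (R := B)).unit).app _).symm (
          (asIso (tilde.adjunction (R := B)).unit).inv.naturality π) ≪≫ ModuleCat.kernelIsoKer π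
  haveI : Module.Finite B (LinearMap.ker f) := Module.Finite.equiv e.toLinearEquiv
  exact Module.finitePresentation_of_surjective f hf (Module.Finite.iff_fg.1 ‹_›)

/-- finite local freeness descends. -/
theorem finLocFree_of_pullback (M : X.Modules) [M.IsQuasicoherent] (g : Y ⟶ X) [QuasiCompact g] [Flat g] [Surjective g]
    (h : FlatMod.IsFinLocFree ((Scheme.Modules.pullback g).obj M)) : FlatMod.IsFinLocFree M := by
  refine H7LocFreeLocus.finLocFree_local fun x => ?_
  obtain ⟨V, hV, hxV, -⟩ := exists_isAffineOpen_mem_and_subset (X := X) (x := x) (U := ⊤) trivial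
  refine ⟨Spec Γ(X, V), hV.fromSpec, inferInstance, by rw [hV.range_fromSpec]; exact hxV, ?_⟩
  obtain ⟨B, φ, q, hq, hff⟩ := exists_chart g hV
  obtain ⟨e⟩ := nonempty_chartIso M g hV φ q hq
  have h1 := finLocFree_of_iso e (finLocFree_pullback q h)
  letI := φ.hom.toAlgebra
  haveI : Module.FaithfullyFlat Γ(X, V) B := hff
  let A : CommRingCat.{u} := Γ(X, V)
  let N := secMod M hV
  haveI hfp : Module.FinitePresentation B (TensorProduct A B N) := finitePresentation_of_finLocFree_tilde _ h1
  haveI : Module.Finite B (TensorProduct A B N) := inferInstance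
  haveI : Module.Finite A N := Module.Finite.of_finite_tensorProduct_of_faithfullyFlat (T := B)
  haveI : Module.Flat B (TensorProduct A B N) := H7TildeAmp.flat_of_tilde (A := B)
    ((ModuleCat.extendScalars.{u, u, u} φ.hom).obj N) (flat_of_finLocFree h1)
  haveI : Module.Flat A N := Module.Flat.of_flat_tensorProduct A N B
  obtain ⟨n, f, hf⟩ := Module.Finite.exists_fin' A N
  haveI : Module.Finite B (TensorProduct A B (LinearMap.ker f)) := by
    haveI : Module.Finite B (LinearMap.ker (TensorProduct.AlgebraTensorModule.lTensor B B f)) :=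
      Module.Finite.of_fg (Module.FinitePresentation.fg_ker _ (LinearMap.lTensor_surjective B hf))
    exact Module.Finite.equiv (LinearMap.tensorKerEquiv B B f).symm
  haveI : Module.Finite A (LinearMap.ker f) := Module.Finite.of_finite_tensorProduct_of_faithfullyFlat (T := B)
  haveI : Module.FinitePresentation A N := Module.finitePresentation_of_surjective f hf (Module.Finite.iff_fg.1 ‹_›)
  haveI : Module.Projective A N := Module.Flat.projective_of_finitePresentation
  obtain ⟨e'⟩ := nonempty_tildeIso M hV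
  exact finLocFree_of_iso e'.symm (H7TildePerf.finLocFree_tilde (R := A) N)

end Groth.Agent.H6.PullDesc
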