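import Mathlib
import Groth.Prelude.Def_SGA1

set_option autoImplicit false
set_option linter.all false
set_option backward.isDefEq.respectTransparency.types false

/-! Quotients of schemes by finite groups: first properties. -/

universe u

open CategoryTheory CategoryTheory.Limits AlgebraicGeometry TopologicalSpace
open scoped Pointwise

namespace Groth.Agent.H6.Quot

variable {X Y : Scheme.{u}} {G : Type u} [Group G] {ρ : G →* Aut X} {p : X ⟶ Y}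

/-- action of `g` on the sections over the preimage of `U`. -/
noncomputable def act (hp : SGA1.IsQuot ρ p) (U : Y.Opens) (g : G) : Γ(X, p ⁻¹ᵁ U) →+* Γ(X, p ⁻¹ᵁ U) :=
  ((ρ g).hom.appLE (p ⁻¹ᵁ U) (p ⁻¹ᵁ U) (SGA1.preimage_le_of_inv ρ p hp.inv g U)).hom

theorem appLE_congr_hom {Z : Scheme.{u}} {f f' : X ⟶ Z} (h : f = f') (U : Z.Opens) (V : X.Opens) (e : V ≤ f ⁻¹ᵁ U)
    (e' : V ≤ f' ⁻¹ᵁ U) : f.appLE U V e = f'.appLE U V e' := by subst h; rfl

theorem act_one (hp : SGA1.IsQuot ρ p) (U : Y.Opens) (s : Γ(X, p ⁻¹ᵁ U)) : act hp U 1 s = s := by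
  have key : ∀ (f : X ⟶ X), f = 𝟙 X → ∀ e, f.appLE (p ⁻¹ᵁ U) (p ⁻¹ᵁ U) e s = s := by
    rintro _ rfl e
    simp [Scheme.Hom.appLE]
    exact congrArg (fun k => (CommRingCat.Hom.hom k) s) (X.presheaf.map_id _)
  exact key (ρ 1).hom (by rw [map_one]; rfl) _

theorem act_mul (hp : SGA1.IsQuot ρ p) (U : Y.Opens) (g h : G) (s : Γ(X, p ⁻¹ᵁ U)) :
    act hp U (g * h) s = act hp U h (act hp U g s) := by
  have key : ∀ (f a b : X ⟶ X), f = b ≫ a → ∀ e ea eb, f.appLE (p ⁻¹ᵁ U) (p ⁻¹ᵁ U) e s =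
      b.appLE (p ⁻¹ᵁ U) (p ⁻¹ᵁ U) eb (a.appLE (p ⁻¹ᵁ U) (p ⁻¹ᵁ U) ea s) := by
    rintro _ a b rfl e ea eb
    rw [← CommRingCat.comp_apply, Scheme.Hom.appLE_comp_appLE]
  exact key (ρ (g * h)).hom (ρ g).hom (ρ h).hom (by rw [map_mul]; rfl) _ _ _

theorem act_app (hp : SGA1.IsQuot ρ p) (U : Y.Opens) (g : G) (b : Γ(Y, U)) : act hp U g (p.app U b) = p.app U b :=
  (hp.range_iff U _).1 ⟨b, rfl⟩ g

theorem exists_app_eq (hp : SGA1.IsQuot ρ p) (U : Y.Opens) (s : Γ(X, p ⁻¹ᵁ U)) (h : ∀ g, act hp U g s = s) :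
    ∃ b, p.app U b = s :=
  (hp.range_iff U s).2 h

/-- the left action on sections. -/
@[reducible] noncomputable def action (hp : SGA1.IsQuot ρ p) (U : Y.Opens) : MulSemiringAction G Γ(X, p ⁻¹ᵁ U) where
  smul g s := act hp U g⁻¹ s
  one_smul s := by show act hp U (1 : G)⁻¹ s = s; rw [inv_one, act_one]
  mul_smul g h s := by
    show act hp U (g * h)⁻¹ s = act hp U g⁻¹ (act hp U h⁻¹ s)
    rw [mul_inv_rev, act_mul]
  smul_zero g := map_zero _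
  smul_add g := map_add _
  smul_one g := map_one _
  smul_mul g := map_mul _

theorem smul_eq (hp : SGA1.IsQuot ρ p) (U : Y.Opens) (g : G) (s : Γ(X, p ⁻¹ᵁ U)) :
    letI := action hp U; g • s = act hp U g⁻¹ s := rfl

theorem smulCommClass (hp : SGA1.IsQuot ρ p) (U : Y.Opens) :
    letI := action hp U; letI := (p.app U).hom.toAlgebra
    SMulCommClass G Γ(Y, U) Γ(X, p ⁻¹ᵁ U) := by
  letI := action hp U; letI := (p.app U).hom.toAlgebra
  refine ⟨fun g b s => ?_⟩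
  simp only [Algebra.smul_def, smul_eq, map_mul]
  exact congrArg (· * _) (act_app hp U g⁻¹ b)

theorem isInvariant (hp : SGA1.IsQuot ρ p) (U : Y.Opens) :
    letI := action hp U; letI := (p.app U).hom.toAlgebra
    Algebra.IsInvariant Γ(Y, U) Γ(X, p ⁻¹ᵁ U) G := by
  letI := action hp U; letI := (p.app U).hom.toAlgebra
  exact ⟨fun s hs => exists_app_eq hp U s fun g => by simpa [smul_eq] using hs g⁻¹⟩

theorem isIntegral_app [Finite G] (hp : SGA1.IsQuot ρ p) (U : Y.Opens) : (p.app U).hom.IsIntegral := by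
  letI := action hp U; letI := (p.app U).hom.toAlgebra
  haveI := smulCommClass hp U
  haveI := isInvariant hp U
  exact (Algebra.IsInvariant.isIntegral Γ(Y, U) Γ(X, p ⁻¹ᵁ U) G).isIntegral

theorem isIntegralHom [Finite G] (hp : SGA1.IsQuot ρ p) : IsIntegralHom p :=
  haveI := hp.affine
  ⟨fun U _ => isIntegral_app hp U⟩

theorem fromSpec_app (hp : SGA1.IsQuot ρ p) {V : Y.Opens} (hV : IsAffineOpen V) (hU : IsAffineOpen (p ⁻¹ᵁ V)) :
    Spec.map (p.app V) ≫ hV.fromSpec = hU.fromSpec ≫ p := by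
  rw [← IsAffineOpen.SpecMap_appLE_fromSpec p hV hU le_rfl, Scheme.Hom.app_eq_appLE]

theorem surjective [Finite G] (hp : SGA1.IsQuot ρ p) : Function.Surjective p := by
  haveI := hp.affine
  intro y
  obtain ⟨V, hV, hyV, -⟩ := exists_isAffineOpen_mem_and_subset (X := Y) (x := y) (U := ⊤) trivial
  letI := (p.app V).hom.toAlgebra
  haveI : Algebra.IsIntegral Γ(Y, V) Γ(X, p ⁻¹ᵁ V) := ⟨isIntegral_app hp V⟩
  haveI : FaithfulSMul Γ(Y, V) Γ(X, p ⁻¹ᵁ V) := (faithfulSMul_iff_algebraMap_injective _ _).2 (hp.injective V)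
  obtain ⟨Q₀, -, hQp, hQ0⟩ := Ideal.exists_ideal_over_prime_of_isIntegral (hV.primeIdealOf ⟨y, hyV⟩).asIdeal
    (⊥ : Ideal Γ(X, p ⁻¹ᵁ V)) (by rw [Ideal.comap_bot_of_injective _ (FaithfulSMul.algebraMap_injective _ _)]; exact bot_le)
  let Q : PrimeSpectrum Γ(X, p ⁻¹ᵁ V) := ⟨Q₀, hQp⟩
  have hQ : PrimeSpectrum.comap (p.app V).hom Q = hV.primeIdealOf ⟨y, hyV⟩ := PrimeSpectrum.ext hQ0
  refine ⟨(hV.preimage p).fromSpec Q, ?_⟩
  rw [← Scheme.Hom.comp_apply, ← fromSpec_app hp hV]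
  show hV.fromSpec (Spec.map (p.app V) Q) = y
  rw [show Spec.map (p.app V) Q = hV.primeIdealOf ⟨y, hyV⟩ from hQ, hV.fromSpec_primeIdealOf]

theorem exists_eq [Finite G] (hp : SGA1.IsQuot ρ p) (x x' : X) (h : p x = p x') : ∃ g : G, (ρ g).hom x = x' := by
  haveI := hp.affine
  obtain ⟨V, hV, hyV, -⟩ := exists_isAffineOpen_mem_and_subset (X := Y) (x := p x) (U := ⊤) trivial
  have hU := hV.preimage p
  letI := action hp V; letI := (p.app V).hom.toAlgebra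
  haveI := smulCommClass hp V
  haveI := isInvariant hp V
  let P := hU.primeIdealOf ⟨x, hyV⟩
  let Q := hU.primeIdealOf ⟨x', show p x' ∈ V from h ▸ hyV⟩
  have hP : hV.fromSpec (Spec.map (p.app V) P) = p x := by
    rw [← Scheme.Hom.comp_apply, fromSpec_app hp hV hU, Scheme.Hom.comp_apply, hU.fromSpec_primeIdealOf]
  have hQ : hV.fromSpec (Spec.map (p.app V) Q) = p x' := by
    rw [← Scheme.Hom.comp_apply, fromSpec_app hp hV hU, Scheme.Hom.comp_apply, hU.fromSpec_primeIdealOf]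
  have hPQ : (PrimeSpectrum.comap (p.app V).hom P) = PrimeSpectrum.comap (p.app V).hom Q :=
    hV.fromSpec.isOpenEmbedding.injective (hP.trans (h.trans hQ.symm))
  obtain ⟨g, hg⟩ := Algebra.IsInvariant.exists_smul_of_under_eq Γ(Y, V) Γ(X, p ⁻¹ᵁ V) G P.asIdeal Q.asIdeal
    (congrArg PrimeSpectrum.asIdeal hPQ)
  refine ⟨g, ?_⟩
  have hQ' : Q = PrimeSpectrum.comap (act hp V g) P := by
    apply PrimeSpectrum.ext
    ext b
    rw [hg, Ideal.mem_pointwise_smul_iff_inv_smul_mem, smul_eq, inv_inv]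
    rfl
  have e1 : hU.fromSpec Q = x' := hU.fromSpec_primeIdealOf ⟨x', show p x' ∈ V from h ▸ hyV⟩
  have e2 : hU.fromSpec P = x := hU.fromSpec_primeIdealOf ⟨x, hyV⟩
  have e3 := congrArg (fun k : Spec Γ(X, p ⁻¹ᵁ V) ⟶ X => k P)
    (IsAffineOpen.SpecMap_appLE_fromSpec (ρ g).hom hU hU (SGA1.preimage_le_of_inv ρ p hp.inv g V))
  exact ((congrArg (ρ g).hom e2.symm).trans e3.symm).trans ((congrArg hU.fromSpec hQ'.symm).trans e1)

theorem eq_iff [Finite G] (hp : SGA1.IsQuot ρ p) (x x' : X) : p x = p x' ↔ ∃ g : G, (ρ g).hom x = x' :=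
  ⟨exists_eq hp x x', fun ⟨g, hg⟩ => by rw [← hg, ← Scheme.Hom.comp_apply, hp.inv g]⟩

theorem isQuotientMap [Finite G] (hp : SGA1.IsQuot ρ p) : Topology.IsQuotientMap p :=
  haveI := isIntegralHom hp
  p.isClosedMap.isQuotientMap p.continuous (surjective hp)

theorem hom_ext_of (hs : Function.Surjective p) (hinj : ∀ U : Y.Opens, Function.Injective (p.app U).hom) {Z : Scheme.{u}} {a b : Y ⟶ Z} (h : p ≫ a = p ≫ b) : a = b := by
  refine Scheme.Hom.ext (TopCat.hom_ext (ContinuousMap.ext fun y => ?_)) fun W => ?_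
  · obtain ⟨x, rfl⟩ := hs y
    exact congrArg (fun k : X ⟶ Z => k x) h
  · have hpre : a ⁻¹ᵁ W = b ⁻¹ᵁ W := by
      ext y
      obtain ⟨x, rfl⟩ := hs y
      show a (p x) ∈ W ↔ b (p x) ∈ W
      rw [← Scheme.Hom.comp_apply, h, Scheme.Hom.comp_apply]
    have h1 := appLE_congr_hom h W (p ⁻¹ᵁ (b ⁻¹ᵁ W)) (Scheme.Hom.preimage_mono p hpre.ge) le_rfl
    rw [← Scheme.Hom.appLE_comp_appLE p a W (b ⁻¹ᵁ W) _ hpre.ge le_rfl,
      ← Scheme.Hom.appLE_comp_appLE p b W (b ⁻¹ᵁ W) _ le_rfl le_rfl, ← Scheme.Hom.app_eq_appLE, ← Scheme.Hom.app_eq_appLE] at h1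
    ext s
    apply hinj
    exact congrArg (fun k => k s) (congrArg (fun k => (ConcreteCategory.hom k)) h1)

theorem hom_ext [Finite G] (hp : SGA1.IsQuot ρ p) {Z : Scheme.{u}} {a b : Y ⟶ Z} (h : p ≫ a = p ≫ b) : a = b :=
  hom_ext_of (surjective hp) hp.injective h

theorem appLE_bijective {U X : Scheme.{u}} (j : U ⟶ X) [IsOpenImmersion j] {A : X.Opens} {B : U.Opens} (hA : A = j ''ᵁ B)
    (e : B ≤ j ⁻¹ᵁ A) : Function.Bijective (j.appLE A B e) := by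
  subst hA
  rw [← Scheme.Hom.appIso_hom']
  exact ConcreteCategory.bijective_of_isIso _

/-- restriction to an open of the quotient. -/
theorem restrict (hp : SGA1.IsQuot ρ p) (U : Y.Opens) (ρU : G →* Aut (p ⁻¹ᵁ U).toScheme)
    (hρU : ∀ g : G, (ρU g).hom ≫ (p ⁻¹ᵁ U).ι = (p ⁻¹ᵁ U).ι ≫ (ρ g).hom) : SGA1.IsQuot ρU (p ∣_ U) := by
  haveI := hp.affine
  have hinv : ∀ g : G, (ρU g).hom ≫ (p ∣_ U) = p ∣_ U := fun g => by
    rw [← cancel_mono U.ι, Category.assoc, morphismRestrict_ι, reassoc_of% hρU, hp.inv]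
  refine ⟨MorphismProperty.of_isPullback (P := @IsAffineHom) (isPullback_morphismRestrict p U).flip hp.affine, hinv, ?_, ?_⟩
  all_goals intro W
  · have hι : p ⁻¹ᵁ (U.ι ''ᵁ W) = (p ⁻¹ᵁ U).ι ''ᵁ ((p ∣_ U) ⁻¹ᵁ W) := (image_morphismRestrict_preimage p U W).symm
    rw [morphismRestrict_app]
    exact (ConcreteCategory.bijective_of_isIso (X.presheaf.map (eqToHom hι.symm).op)).1.comp (hp.injective _)
  · intro s
    have hι : p ⁻¹ᵁ (U.ι ''ᵁ W) = (p ⁻¹ᵁ U).ι ''ᵁ ((p ∣_ U) ⁻¹ᵁ W) := (image_morphismRestrict_preimage p U W).symm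
    let W' := U.ι ''ᵁ W
    have e1 : (p ∣_ U) ⁻¹ᵁ W ≤ (p ⁻¹ᵁ U).ι ⁻¹ᵁ (p ⁻¹ᵁ W') := by rw [hι]; exact (Scheme.Hom.preimage_image_eq _ _).ge
    let κ := (p ⁻¹ᵁ U).ι.appLE (p ⁻¹ᵁ W') ((p ∣_ U) ⁻¹ᵁ W) e1
    have hκ : Function.Bijective κ := appLE_bijective _ hι _
    have hmap : ∀ b, (p ∣_ U).app W b = κ (p.app W' b) := fun b => by
      rw [morphismRestrict_app]
      show X.presheaf.map _ (p.app W' b) = _
      simp [κ, Scheme.Hom.appLE]
      rfl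
    have hcomm : ∀ (g : G) (t : Γ(X, p ⁻¹ᵁ W')),
        (ρU g).hom.appLE ((p ∣_ U) ⁻¹ᵁ W) ((p ∣_ U) ⁻¹ᵁ W) (SGA1.preimage_le_of_inv ρU _ hinv g W) (κ t) = κ (act hp W' g t) := fun g t => by
      have e2 := (e1.trans (Scheme.Hom.preimage_mono _ (SGA1.preimage_le_of_inv ρ p hp.inv g W')))
      have hh := appLE_congr_hom (hρU g) (p ⁻¹ᵁ W') ((p ∣_ U) ⁻¹ᵁ W)
        ((SGA1.preimage_le_of_inv ρU _ hinv g W).trans (Scheme.Hom.preimage_mono _ e1)) e2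
      rw [← Scheme.Hom.appLE_comp_appLE _ _ _ ((p ∣_ U) ⁻¹ᵁ W) _ e1 (SGA1.preimage_le_of_inv ρU _ hinv g W),
        ← Scheme.Hom.appLE_comp_appLE _ _ _ (p ⁻¹ᵁ W') _ (SGA1.preimage_le_of_inv ρ p hp.inv g W') e1] at hh
      exact congrArg (fun k => k t) (congrArg (fun k => (ConcreteCategory.hom k)) hh)
    obtain ⟨t, rfl⟩ := hκ.2 s
    constructor
    · rintro ⟨b, hb⟩ g
      have ht : p.app W' b = t := hκ.1 ((hmap b).symm.trans hb)
      refine (hcomm g t).trans ?_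
      rw [← ht, act_app]
    · intro h
      obtain ⟨b, hb⟩ := exists_app_eq hp W' t fun g => hκ.1 ((hcomm g t).symm.trans (h g))
      exact ⟨b, (hmap b).trans (congrArg κ hb)⟩

theorem restrict_hom_ext [Finite G] (hp : SGA1.IsQuot ρ p) (U : Y.Opens) {Z : Scheme.{u}}
    {a b : (U : Scheme.{u}) ⟶ Z} (h : (p ∣_ U) ≫ a = (p ∣_ U) ≫ b) : a = b := by
  refine hom_ext_of (p := p ∣_ U) (fun y => ?_) (fun W => ?_) h
  · obtain ⟨x, hx⟩ := surjective hp y.1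
    refine ⟨⟨x, show p x ∈ U from hx ▸ y.2⟩, U.ι.isOpenEmbedding.injective ?_⟩
    rw [← Scheme.Hom.comp_apply, morphismRestrict_ι]
    exact hx
  · rw [morphismRestrict_app]
    exact (ConcreteCategory.bijective_of_isIso (X.presheaf.map (eqToHom (image_morphismRestrict_preimage p U W)).op)).1.comp (hp.injective _)

theorem exists_desc_affine [Finite G] (hp : SGA1.IsQuot ρ p) {Z : Scheme.{u}} (h : X ⟶ Z) (hh : ∀ g : G, (ρ g).hom ≫ h = h)
    {V : Y.Opens} (hV : IsAffineOpen V) {W : Z.Opens} (hW : IsAffineOpen W) (e : p ⁻¹ᵁ V ≤ h ⁻¹ᵁ W) :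
    ∃ k : (V : Scheme.{u}) ⟶ Z, (p ∣_ V) ≫ k = (p ⁻¹ᵁ V).ι ≫ h := by
  haveI := hp.affine
  have hU := hV.preimage p
  let ψ := h.appLE W (p ⁻¹ᵁ V) e
  have hψ : ∀ b g, act hp V g (ψ b) = ψ b := fun b g => by
    have hc := appLE_congr_hom (hh g) W (p ⁻¹ᵁ V)
      ((SGA1.preimage_le_of_inv ρ p hp.inv g V).trans (Scheme.Hom.preimage_mono _ e)) e
    rw [← Scheme.Hom.appLE_comp_appLE _ _ _ (p ⁻¹ᵁ V) _ e (SGA1.preimage_le_of_inv ρ p hp.inv g V)] at hc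
    exact congrArg (fun k => k b) (congrArg (fun k => (ConcreteCategory.hom k)) hc)
  choose φ hφ using fun b => exists_app_eq hp V (ψ b) (hψ b)
  let φ' : Γ(Z, W) →+* Γ(Y, V) :=
    { toFun := φ
      map_one' := hp.injective V (by rw [hφ, map_one]; exact (map_one (p.app V).hom).symm)
      map_mul' := fun a b => hp.injective V (by rw [hφ, map_mul]; refine Eq.trans ?_ (map_mul (p.app V).hom _ _).symm; rw [hφ, hφ])
      map_zero' := hp.injective V (by rw [hφ, map_zero]; exact (map_zero (p.app V).hom).symm)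
      map_add' := fun a b => hp.injective V (by rw [hφ, map_add]; refine Eq.trans ?_ (map_add (p.app V).hom _ _).symm; rw [hφ, hφ]) }
  refine ⟨hV.isoSpec.hom ≫ Spec.map (CommRingCat.ofHom φ') ≫ hW.fromSpec, ?_⟩
  have h1 : (p ∣_ V) ≫ hV.isoSpec.hom = hU.isoSpec.hom ≫ Spec.map (p.app V) := by
    rw [← cancel_mono hV.fromSpec, Category.assoc, Category.assoc, fromSpec_app hp hV hU, IsAffineOpen.isoSpec_hom_fromSpec,
      reassoc_of% (IsAffineOpen.isoSpec_hom_fromSpec hU), morphismRestrict_ι]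
  have h2 : CommRingCat.ofHom φ' ≫ p.app V = ψ := by ext b; exact hφ b
  rw [reassoc_of% h1, ← Spec.map_comp_assoc, h2, IsAffineOpen.SpecMap_appLE_fromSpec h hW hU e,
    reassoc_of% (IsAffineOpen.isoSpec_hom_fromSpec hU)]

theorem exists_nhd [Finite G] (hp : SGA1.IsQuot ρ p) {Z : Scheme.{u}} (h : X ⟶ Z) (hh : ∀ g : G, (ρ g).hom ≫ h = h)
    (y : Y) (O : Y.Opens) (hy : y ∈ O) :
    ∃ V : Y.Opens, IsAffineOpen V ∧ y ∈ V ∧ V ≤ O ∧ ∃ W : Z.Opens, IsAffineOpen W ∧ p ⁻¹ᵁ V ≤ h ⁻¹ᵁ W := by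
  haveI := isIntegralHom hp
  obtain ⟨x, rfl⟩ := surjective hp y
  obtain ⟨W, hW, hxW, -⟩ := exists_isAffineOpen_mem_and_subset (X := Z) (x := h x) (U := ⊤) trivial
  have hC : IsClosed (p '' (h ⁻¹ᵁ W : Set X)ᶜ) := p.isClosedMap _ (h ⁻¹ᵁ W).2.isClosed_compl
  obtain ⟨V, hV, hxV, hVle⟩ := exists_isAffineOpen_mem_and_subset (X := Y) (x := p x)
    (U := O ⊓ ⟨(p '' (h ⁻¹ᵁ W : Set X)ᶜ)ᶜ, hC.isOpen_compl⟩) ⟨hy, by
      rintro ⟨x', hx', e⟩
      obtain ⟨g, rfl⟩ := exists_eq hp x x' e.symm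
      refine hx' ?_
      show h ((ρ g).hom x) ∈ W
      rw [← Scheme.Hom.comp_apply, hh g]
      exact hxW⟩
  refine ⟨V, hV, hxV, fun z hz => (hVle hz).1, W, hW, fun x' hx' => ?_⟩
  by_contra hne
  exact (hVle hx').2 ⟨x', hne, rfl⟩

theorem exists_restrict_action (ρ : G →* Aut X) (O : X.Opens) (hO : ∀ g : G, O ≤ (ρ g).hom ⁻¹ᵁ O) :
    ∃ ρU : G →* Aut (O : Scheme.{u}), ∀ g : G, (ρU g).hom ≫ O.ι = O.ι ≫ (ρ g).hom := by
  let m : G → ((O : Scheme.{u}) ⟶ (O : Scheme.{u})) := fun g => IsOpenImmersion.lift O.ι (O.ι ≫ (ρ g).hom) (by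
    rw [Scheme.Opens.range_ι]
    rintro _ ⟨x, rfl⟩
    exact hO g x.2)
  have hm : ∀ g, m g ≫ O.ι = O.ι ≫ (ρ g).hom := fun g => IsOpenImmersion.lift_fac _ _ _
  have h1 : m 1 = 𝟙 _ := by
    rw [← cancel_mono O.ι, hm, show (ρ 1).hom = 𝟙 X by rw [map_one]; rfl, Category.comp_id, Category.id_comp]
  have h2 : ∀ g h, m (g * h) = m h ≫ m g := fun g h => by
    rw [← cancel_mono O.ι, hm, Category.assoc, hm, reassoc_of% (hm h),
      show (ρ (g * h)).hom = (ρ h).hom ≫ (ρ g).hom by rw [map_mul]; rfl]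
  let e : G → Aut (O : Scheme.{u}) := fun g => ⟨m g, m g⁻¹, by rw [← h2, inv_mul_cancel, h1], by rw [← h2, mul_inv_cancel, h1]⟩
  refine ⟨{ toFun := e, map_one' := Aut.ext h1, map_mul' := fun g h => Aut.ext (h2 g h) }, hm⟩

end Groth.Agent.H6.Quot
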