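import Mathlib
import Groth.Prelude.Def_SGA1
import Groth.Agent.Lib.H6.Quot

set_option autoImplicit false
set_option linter.all false
set_option backward.isDefEq.respectTransparency.types false

/-! Spec of the ring of invariants is a quotient. -/

universe u

open CategoryTheory CategoryTheory.Limits AlgebraicGeometry TopologicalSpace Opposite

namespace Groth.Agent.H6.QuotSpec

theorem appLE_alg {R S : CommRingCat.{u}} (φ : R ⟶ S) (U : (Spec R).Opens) (V : (Spec S).Opens)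
    (e : V ≤ Spec.map φ ⁻¹ᵁ U) (r : R) :
    (Spec.map φ).appLE U V e (algebraMap R Γ(Spec R, U) r) = algebraMap S Γ(Spec S, V) (φ r) := by
  show (Spec.map φ).appLE U V e ((Spec R).presheaf.map (homOfLE (le_top : U ≤ ⊤)).op ((Scheme.ΓSpecIso R).inv r)) = _
  rw [← CommRingCat.comp_apply, Scheme.Hom.map_appLE]
  have := congrArg (fun k => k r) (congrArg (fun k => (ConcreteCategory.hom k)) (Scheme.ΓSpecIso_inv_naturality φ))
  simp only [CommRingCat.comp_apply] at this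
  show _ = (Spec S).presheaf.map (homOfLE (le_top : V ≤ ⊤)).op ((Scheme.ΓSpecIso S).inv (φ r))
  rw [this, ← CommRingCat.comp_apply]
  rfl

theorem loc {R : CommRingCat.{u}} (f : R) (V : (Spec R).Opens) (h : V = PrimeSpectrum.basicOpen f) :
    IsLocalization.Away f Γ(Spec R, V) := by
  subst h; infer_instance

variable {A B : CommRingCat.{u}} {φ : B ⟶ A} {G : Type u} [Group G] [Finite G] {σ : G → (A ⟶ A)}

theorem isQuot (ρ : G →* Aut (Spec A)) (hinv : ∀ g, φ ≫ σ g = φ) (hinj : Function.Injective φ)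
    (hfix : ∀ a : A, (∀ g, σ g a = a) → ∃ b, φ b = a)
    (hρ : ∀ g, ∃ g', (ρ g).hom = Spec.map (σ g')) (hρ' : ∀ g', ∃ g, (ρ g).hom = Spec.map (σ g')) :
    SGA1.IsQuot ρ (Spec.map φ) := by
  let p := Spec.map φ
  have pinv : ∀ g, (ρ g).hom ≫ p = p := fun g => by
    obtain ⟨g', hg'⟩ := hρ g
    rw [hg', ← Spec.map_comp, hinv]
  have hle : ∀ (g : G) (U : (Spec B).Opens), p ⁻¹ᵁ U ≤ (ρ g).hom ⁻¹ᵁ (p ⁻¹ᵁ U) := SGA1.preimage_le_of_inv ρ p pinv
  let act : ∀ (U : (Spec B).Opens), G → (Γ(Spec A, p ⁻¹ᵁ U) ⟶ Γ(Spec A, p ⁻¹ᵁ U)) := fun U g => (ρ g).hom.appLE _ _ (hle g U)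
  have act_app : ∀ U g b, act U g (p.app U b) = p.app U b := fun U g b => by
    have e1 := Quot.appLE_congr_hom (pinv g) U (p ⁻¹ᵁ U) (hle g U) le_rfl
    rw [← Scheme.Hom.appLE_comp_appLE (ρ g).hom p U (p ⁻¹ᵁ U) _ le_rfl (hle g U), ← Scheme.Hom.app_eq_appLE] at e1
    exact congrArg (fun k => k b) (congrArg (fun k => (ConcreteCategory.hom k)) e1)
  have act_res : ∀ {U V : (Spec B).Opens} (h : V ≤ U) g s, act V g ((Spec A).presheaf.map (homOfLE (Scheme.Hom.preimage_mono p h)).op s)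
      = (Spec A).presheaf.map (homOfLE (Scheme.Hom.preimage_mono p h)).op (act U g s) := fun {U V} h g s => by
    simp only [act, ← CommRingCat.comp_apply, Scheme.Hom.map_appLE, Scheme.Hom.appLE_map]
  have app_res : ∀ {U V : (Spec B).Opens} (h : V ≤ U) s, p.app V ((Spec B).presheaf.map (homOfLE h).op s)
      = (Spec A).presheaf.map (homOfLE (Scheme.Hom.preimage_mono p h)).op (p.app U s) := fun {U V} h s => by
    simp only [Scheme.Hom.app_eq_appLE, ← CommRingCat.comp_apply, Scheme.Hom.map_appLE, Scheme.Hom.appLE_map]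
  -- basic opens
  have basic : ∀ (b : B) (D : (Spec B).Opens), D = PrimeSpectrum.basicOpen b → Function.Injective (p.app D) ∧
      ∀ t, (∀ g, act D g t = t) → ∃ u, p.app D u = t := by
    intro b D hD
    haveI hlB : IsLocalization.Away b Γ(Spec B, D) := loc b D hD
    haveI hlA : IsLocalization.Away (φ b) Γ(Spec A, p ⁻¹ᵁ D) := loc (φ b) _ (by subst hD; rfl)
    have hc : ∀ r, p.app D (algebraMap B Γ(Spec B, D) r) = algebraMap A Γ(Spec A, p ⁻¹ᵁ D) (φ r) := fun r => by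
      rw [Scheme.Hom.app_eq_appLE]; exact appLE_alg φ D _ le_rfl r
    have hσ : ∀ g g', (ρ g).hom = Spec.map (σ g') → ∀ a, act D g (algebraMap A Γ(Spec A, p ⁻¹ᵁ D) a) = algebraMap A Γ(Spec A, p ⁻¹ᵁ D) (σ g' a) := by
      intro g g' e a
      show (ρ g).hom.appLE (p ⁻¹ᵁ D) (p ⁻¹ᵁ D) (hle g D) _ = _
      rw [Quot.appLE_congr_hom e _ _ _ (e ▸ hle g D)]
      exact appLE_alg (σ g') _ _ _ a
    refine ⟨?_, fun t ht => ?_⟩
    · show Function.Injective (p.app D)
      rw [injective_iff_map_eq_zero]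
      intro x hx
      obtain ⟨⟨r, ⟨_, n, rfl⟩⟩, hr⟩ := IsLocalization.surj (Submonoid.powers b) x
      have h0 : algebraMap A Γ(Spec A, p ⁻¹ᵁ D) (φ r) = 0 := by rw [← hc, ← hr, map_mul, hx, zero_mul]
      obtain ⟨⟨_, k, rfl⟩, hk⟩ := (IsLocalization.map_eq_zero_iff (Submonoid.powers (φ b)) _ _).1 h0
      have hk' : b ^ k * r = 0 := hinj (by rw [map_mul, map_pow, map_zero]; exact hk)
      refine (IsLocalization.map_units Γ(Spec B, D) (⟨b ^ n, n, rfl⟩ : Submonoid.powers b)).mul_left_eq_zero.1 ?_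
      rw [hr]
      exact (IsLocalization.map_eq_zero_iff (Submonoid.powers b) _ _).2 ⟨⟨_, k, rfl⟩, hk'⟩
    · obtain ⟨⟨a, ⟨_, n, rfl⟩⟩, ha⟩ := IsLocalization.surj (Submonoid.powers (φ b)) t
      have hk : ∀ g', ∃ k : ℕ, φ b ^ k * σ g' a = φ b ^ k * a := fun g' => by
        obtain ⟨g, hg⟩ := hρ' g'
        have := congrArg (act D g) ha
        rw [map_mul, ht g, hσ g g' hg, hσ g g' hg] at this
        have hb : σ g' (φ b) = φ b := congrArg (fun k => k b) (congrArg (fun k => (ConcreteCategory.hom k)) (hinv g'))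
        simp only [map_pow, hb] at this
        simp only [map_pow] at ha
        rw [ha] at this
        obtain ⟨⟨_, k, rfl⟩, hk⟩ := (IsLocalization.eq_iff_exists (Submonoid.powers (φ b)) _).1 this
        exact ⟨k, hk.symm⟩
      choose k hk using hk
      cases nonempty_fintype G
      let K := ∑ g' : G, k g'
      obtain ⟨r, hr⟩ := hfix (φ b ^ K * a) fun g' => by
        have hb : σ g' (φ b) = φ b := congrArg (fun k => k b) (congrArg (fun k => (ConcreteCategory.hom k)) (hinv g'))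
        rw [map_mul, map_pow, hb]
        obtain ⟨d, hd⟩ : ∃ d, K = d + k g' := ⟨K - k g', (Nat.sub_add_cancel (Finset.single_le_sum (fun _ _ => Nat.zero_le _) (Finset.mem_univ g'))).symm⟩
        rw [hd, pow_add, mul_assoc, mul_assoc, hk]
      refine ⟨IsLocalization.mk' _ r (⟨b ^ (K + n), K + n, rfl⟩ : Submonoid.powers b), ?_⟩
      refine (IsLocalization.map_units Γ(Spec A, p ⁻¹ᵁ D) (⟨φ b ^ (K + n), K + n, rfl⟩ : Submonoid.powers (φ b))).mul_left_inj.1 ?_
      show _ * algebraMap A Γ(Spec A, p ⁻¹ᵁ D) (φ b ^ (K + n)) = t * algebraMap A Γ(Spec A, p ⁻¹ᵁ D) (φ b ^ (K + n))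
      have ha' : t * algebraMap A Γ(Spec A, p ⁻¹ᵁ D) (φ b ^ n) = algebraMap A Γ(Spec A, p ⁻¹ᵁ D) a := ha
      have h1 := congrArg (p.app D) (IsLocalization.mk'_spec Γ(Spec B, D) r (⟨b ^ (K + n), K + n, rfl⟩ : Submonoid.powers b))
      rw [map_mul, hc, hc, hr, map_pow] at h1
      refine h1.trans ?_
      rw [map_mul, ← ha']
      simp only [pow_add, map_mul, map_pow]
      ring
  -- bootstrap
  have inj : ∀ U, Function.Injective (p.app U) := fun U => by
    intro s t hst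
    refine TopCat.Sheaf.eq_of_locally_eq' (Spec B).sheaf (fun i : {i : B // (PrimeSpectrum.basicOpen i : (Spec B).Opens) ≤ U} => (PrimeSpectrum.basicOpen i.1 : (Spec B).Opens)) U
      (fun i => homOfLE i.2) (fun y hy => ?_) _ _ fun i => (basic i.1 _ rfl).1 ?_
    · obtain ⟨_, ⟨_, ⟨i, rfl⟩, rfl⟩, hyi, hiU⟩ := PrimeSpectrum.isBasis_basic_opens.exists_subset_of_mem_open hy U.2
      exact Opens.mem_iSup.2 ⟨⟨i, hiU⟩, hyi⟩
    · exact (app_res i.2 s).trans ((congrArg _ hst).trans (app_res i.2 t).symm)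
  refine ⟨inferInstance, pinv, inj, fun U s => ⟨fun ⟨b, hb⟩ g => by rw [← hb]; exact act_app U g b, fun hs => ?_⟩⟩
  let ι := {i : B // (PrimeSpectrum.basicOpen i : (Spec B).Opens) ≤ U}
  let O : ι → (Spec B).Opens := fun i => PrimeSpectrum.basicOpen i.1
  have hcov : U ≤ iSup O := fun y hy => by
    obtain ⟨_, ⟨_, ⟨i, rfl⟩, rfl⟩, hyi, hiU⟩ := PrimeSpectrum.isBasis_basic_opens.exists_subset_of_mem_open hy U.2
    exact Opens.mem_iSup.2 ⟨⟨i, hiU⟩, hyi⟩
  choose u hu using fun i : ι => (basic i.1 (O i) rfl).2 ((Spec A).presheaf.map (homOfLE (Scheme.Hom.preimage_mono p i.2)).op s)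
    (fun g => (act_res i.2 g s).trans (congrArg _ (hs g)))
  have hcompat : TopCat.Presheaf.IsCompatible (Spec B).sheaf.1 O u := fun i j => by
    apply inj
    show p.app _ ((Spec B).presheaf.map (homOfLE inf_le_left).op (u i)) = p.app _ ((Spec B).presheaf.map (homOfLE inf_le_right).op (u j))
    rw [app_res, app_res, hu, hu, ← CommRingCat.comp_apply, ← CommRingCat.comp_apply, ← Functor.map_comp, ← Functor.map_comp]
    rfl
  obtain ⟨v, hv, -⟩ := TopCat.Sheaf.existsUnique_gluing' (Spec B).sheaf O U (fun i => homOfLE i.2) hcov u hcompat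
  refine ⟨v, ?_⟩
  refine TopCat.Sheaf.eq_of_locally_eq' (Spec A).sheaf (fun i : ι => p ⁻¹ᵁ O i) (p ⁻¹ᵁ U)
    (fun i => homOfLE (Scheme.Hom.preimage_mono p i.2)) ?_ _ _ fun i => ?_
  · intro x hx
    obtain ⟨i, hi⟩ := Opens.mem_iSup.1 (hcov hx)
    exact Opens.mem_iSup.2 ⟨i, hi⟩
  · show (Spec A).presheaf.map _ (p.app U v) = (Spec A).presheaf.map _ s
    rw [← app_res i.2, ← hu i]
    exact congrArg _ (hv i)

end Groth.Agent.H6.QuotSpec
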