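import Mathlib
import Groth.Prelude.Def_Omega3
import Groth.Agent.Lib.H6.Thick
import Groth.Agent.S9426

set_option autoImplicit false
set_option linter.all false
set_option backward.isDefEq.respectTransparency.types false

/-! Universal first order thickenings of schemes: local nature, affine existence. -/

universe u

open CategoryTheory CategoryTheory.Limits AlgebraicGeometry TopologicalSpace

namespace Groth.Agent.H6.UnivThick

variable {Z Z' X : Scheme.{u}}

theorem fot_snd {T T' Q : Scheme.{u}} {j : T ⟶ T'} (hj : MoreMor.IsFirstOrderThickening j) (g : Q ⟶ T') :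
    MoreMor.IsFirstOrderThickening (pullback.snd j g) :=
  Thick.of_isPullback (IsPullback.of_hasPullback j g).flip hj

/-- uniqueness of lifts only needs affine tests. -/
theorem unique_of_affine (h : Z ⟶ X) (i : Z ⟶ Z') (h' : Z' ⟶ X)
    (H : ∀ (T T' : Scheme.{u}) [IsAffine T'] (j : T ⟶ T') (b : T' ⟶ X) (a : T ⟶ Z),
      MoreMor.IsFirstOrderThickening j → j ≫ b = a ≫ h → ∃! a' : T' ⟶ Z', j ≫ a' = a ≫ i ∧ a' ≫ h' = b)
    {T T' : Scheme.{u}} {j : T ⟶ T'} {b : T' ⟶ X} {a : T ⟶ Z} (hj : MoreMor.IsFirstOrderThickening j)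
    (hb : j ≫ b = a ≫ h) {p q : T' ⟶ Z'} (hp : j ≫ p = a ≫ i ∧ p ≫ h' = b) (hq : j ≫ q = a ≫ i ∧ q ≫ h' = b) :
    p = q := by
  refine T'.affineCover.hom_ext _ _ fun k => ?_
  let g := T'.affineCover.f k
  obtain ⟨r, -, hr⟩ := H _ _ (pullback.snd j g) (g ≫ b) (pullback.fst j g ≫ a) (fot_snd hj g)
    (by rw [← pullback.condition_assoc, hb, Category.assoc])
  refine (hr _ ⟨?_, ?_⟩).trans (hr _ ⟨?_, ?_⟩).symm
  · rw [← pullback.condition_assoc, hp.1, Category.assoc]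
  · rw [Category.assoc, hp.2]
  · rw [← pullback.condition_assoc, hq.1, Category.assoc]
  · rw [Category.assoc, hq.2]

/-- universality only needs affine tests. -/
theorem univ_of_affine (h : Z ⟶ X) (i : Z ⟶ Z') (h' : Z' ⟶ X) (hi : MoreMor.IsFirstOrderThickening i)
    (hih : i ≫ h' = h)
    (H : ∀ (T T' : Scheme.{u}) [IsAffine T'] (j : T ⟶ T') (b : T' ⟶ X) (a : T ⟶ Z),
      MoreMor.IsFirstOrderThickening j → j ≫ b = a ≫ h → ∃! a' : T' ⟶ Z', j ≫ a' = a ≫ i ∧ a' ≫ h' = b) :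
    OmegaSh.IsUnivThickening h i h' := by
  refine ⟨hi, hih, fun T T' j b a hj hb => ?_⟩
  let 𝒰 := T'.affineCover
  choose l hl _ using fun k => H _ _ (pullback.snd j (𝒰.f k)) (𝒰.f k ≫ b) (pullback.fst j (𝒰.f k) ≫ a)
    (fot_snd hj _) (by rw [← pullback.condition_assoc, hb, Category.assoc])
  have hcomp : ∀ k k', pullback.fst (𝒰.f k) (𝒰.f k') ≫ l k = pullback.snd (𝒰.f k) (𝒰.f k') ≫ l k' := fun k k' => by
    let g := pullback.fst (𝒰.f k) (𝒰.f k') ≫ 𝒰.f k
    refine unique_of_affine h i h' H (j := pullback.snd j g) (b := g ≫ b) (a := pullback.fst j g ≫ a) (fot_snd hj g)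
      (by rw [← pullback.condition_assoc, hb, Category.assoc]) ⟨?_, ?_⟩ ⟨?_, ?_⟩
    · let m : pullback j g ⟶ pullback j (𝒰.f k) :=
        pullback.lift (pullback.fst j g) (pullback.snd j g ≫ pullback.fst _ _) (by rw [pullback.condition, Category.assoc])
      have := congrArg (m ≫ ·) (hl k).1
      simp only [m, pullback.lift_fst_assoc, pullback.lift_snd_assoc, Category.assoc] at this
      simpa using this
    · rw [Category.assoc, (hl k).2, Category.assoc]
    · let m : pullback j g ⟶ pullback j (𝒰.f k') :=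
        pullback.lift (pullback.fst j g) (pullback.snd j g ≫ pullback.snd _ _) (by rw [pullback.condition, Category.assoc]; exact congrArg (pullback.snd j g ≫ ·) pullback.condition)
      have := congrArg (m ≫ ·) (hl k').1
      simp only [m, pullback.lift_fst_assoc, pullback.lift_snd_assoc, Category.assoc] at this
      simpa using this
    · rw [Category.assoc, (hl k').2, ← Category.assoc, ← pullback.condition]
  refine ⟨𝒰.glueMorphisms l hcomp, ⟨?_, ?_⟩, fun p hp => ?_⟩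
  · refine Scheme.Cover.hom_ext (𝒰.pullback₁ j) _ _ fun k => ?_
    show pullback.fst j (𝒰.f k) ≫ j ≫ _ = pullback.fst j (𝒰.f k) ≫ a ≫ i
    rw [pullback.condition_assoc, Scheme.Cover.ι_glueMorphisms, (hl k).1, Category.assoc]
  · refine 𝒰.hom_ext _ _ fun k => ?_
    rw [Scheme.Cover.ι_glueMorphisms_assoc, (hl k).2]
  · refine 𝒰.hom_ext _ _ fun k => ?_
    rw [Scheme.Cover.ι_glueMorphisms]
    refine unique_of_affine h i h' H (fot_snd hj _) (b := 𝒰.f k ≫ b) (a := pullback.fst j (𝒰.f k) ≫ a)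
      (by rw [← pullback.condition_assoc, hb, Category.assoc]) ⟨?_, ?_⟩ (hl k)
    · rw [← pullback.condition_assoc, hp.1, Category.assoc]
    · rw [Category.assoc, hp.2]

/-- restriction to an open of the source. -/
theorem restrict {h : Z ⟶ X} {i : Z ⟶ Z'} {h' : Z' ⟶ X} (hu : OmegaSh.IsUnivThickening h i h')
    {W : Scheme.{u}} (g : W ⟶ Z) [IsOpenImmersion g] :
    ∃ (P : Scheme.{u}) (o : P ⟶ Z') (k : W ⟶ P), IsOpenImmersion o ∧ k ≫ o = g ≫ i ∧
      (∀ y, y ∈ Set.range o ↔ ∃ w, i (g w) = y) ∧ OmegaSh.IsUnivThickening (g ≫ h) k (o ≫ h') := by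
  haveI := hu.1.1.1
  haveI := hu.1.1.2
  have hopen : IsOpen (i '' Set.range g) := by
    have : i '' Set.range g = (i '' (Set.range g)ᶜ)ᶜ := by
      rw [Set.image_compl_eq ⟨i.isClosedEmbedding.injective, i.surjective⟩, compl_compl]
    rw [this]
    exact (i.isClosedEmbedding.isClosedMap _ g.isOpenEmbedding.isOpen_range.isClosed_compl).isOpen_compl
  let V' : Z'.Opens := ⟨i '' Set.range g, hopen⟩
  have hr : Set.range (g ≫ i) ⊆ Set.range V'.ι := by
    rw [Scheme.Opens.range_ι]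
    rintro _ ⟨w, rfl⟩
    exact ⟨g w, ⟨w, rfl⟩, rfl⟩
  let k := IsOpenImmersion.lift V'.ι (g ≫ i) hr
  have hk : k ≫ V'.ι = g ≫ i := IsOpenImmersion.lift_fac _ _ _
  have hpre : i ⁻¹ᵁ V'.ι.opensRange = g.opensRange := by
    ext z
    simp only [Scheme.Opens.opensRange_ι]
    exact i.isClosedEmbedding.injective.mem_set_image
  refine ⟨V', V'.ι, k, inferInstance, hk, fun y => ?_,
    Thick.of_isPullback (IsOpenImmersion.isPullback k g V'.ι i hk.symm hpre) hu.1,
    by rw [reassoc_of% hk, hu.2.1], fun T T' j b a hj hjb => ?_⟩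
  · rw [Scheme.Opens.range_ι]
    exact ⟨fun ⟨_, ⟨w, rfl⟩, e⟩ => ⟨w, e⟩, fun ⟨w, e⟩ => ⟨g w, ⟨w, rfl⟩, e⟩⟩
  · haveI := hj.1.2
    obtain ⟨a'', ⟨h1, h2⟩, huniq⟩ := hu.2.2 T T' j b (a ≫ g) hj (by rw [hjb, Category.assoc])
    have hr' : Set.range a'' ⊆ Set.range V'.ι := by
      rintro _ ⟨t, rfl⟩
      obtain ⟨s, rfl⟩ := j.surjective t
      rw [← Scheme.Hom.comp_apply, h1, Category.assoc, ← hk, ← Category.assoc]
      exact ⟨_, (Scheme.Hom.comp_apply _ _ _).symm⟩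
    refine ⟨IsOpenImmersion.lift V'.ι a'' hr', ⟨?_, ?_⟩, fun y hy => ?_⟩
    · rw [← cancel_mono V'.ι, Category.assoc, IsOpenImmersion.lift_fac, h1, Category.assoc, Category.assoc, hk]
    · rw [IsOpenImmersion.lift_fac_assoc, h2]
    · rw [← cancel_mono V'.ι, IsOpenImmersion.lift_fac]
      refine huniq _ ⟨?_, ?_⟩
      · rw [← Category.assoc, hy.1, Category.assoc, hk, Category.assoc]
      · rw [Category.assoc, hy.2]

/-- two universal thickenings are isomorphic. -/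
theorem exists_iso {Z'' : Scheme.{u}} {h : Z ⟶ X} {i : Z ⟶ Z'} {h' : Z' ⟶ X} {i₂ : Z ⟶ Z''} {h₂ : Z'' ⟶ X}
    (hu : OmegaSh.IsUnivThickening h i h') (hu₂ : OmegaSh.IsUnivThickening h i₂ h₂) :
    ∃ e : Z' ≅ Z'', i ≫ e.hom = i₂ ∧ e.hom ≫ h₂ = h' := by
  obtain ⟨f, ⟨f1, f2⟩, -⟩ := hu₂.2.2 Z Z' i h' (𝟙 _) hu.1 (by rw [hu.2.1, Category.id_comp])
  obtain ⟨g, ⟨g1, g2⟩, -⟩ := hu.2.2 Z Z'' i₂ h₂ (𝟙 _) hu₂.1 (by rw [hu₂.2.1, Category.id_comp])
  rw [Category.id_comp] at f1 g1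
  refine ⟨⟨f, g, ?_, ?_⟩, f1, f2⟩
  · obtain ⟨z, -, hz⟩ := hu.2.2 Z Z' i h' (𝟙 _) hu.1 (by rw [hu.2.1, Category.id_comp])
    refine (hz _ ⟨?_, ?_⟩).trans (hz _ ⟨?_, ?_⟩).symm
    · rw [reassoc_of% f1, g1, Category.id_comp]
    · rw [Category.assoc, g2, f2]
    · rw [Category.comp_id, Category.id_comp]
    · rw [Category.id_comp]
  · obtain ⟨z, -, hz⟩ := hu₂.2.2 Z Z'' i₂ h₂ (𝟙 _) hu₂.1 (by rw [hu₂.2.1, Category.id_comp])
    refine (hz _ ⟨?_, ?_⟩).trans (hz _ ⟨?_, ?_⟩).symm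
    · rw [reassoc_of% g1, f1, Category.id_comp]
    · rw [Category.assoc, f2, g2]
    · rw [Category.comp_id, Category.id_comp]
    · rw [Category.id_comp]

theorem ker_sq_bot {A : CommRingCat.{u}} (I : Ideal A)
    (hj : MoreMor.IsFirstOrderThickening (Spec.map (CommRingCat.ofHom (Ideal.Quotient.mk I)))) : I ^ 2 = ⊥ := by
  haveI := hj.1.1
  let j := Spec.map (CommRingCat.ofHom (Ideal.Quotient.mk I))
  let T : (Spec A).affineOpens := ⟨⊤, isAffineOpen_top _⟩
  have key : ∀ x ∈ I, (Scheme.ΓSpecIso A).inv x ∈ j.ker.ideal T := fun x hx => by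
    rw [Scheme.Hom.ker_apply, RingHom.mem_ker]
    have := congrArg (fun k => k x) (congrArg (fun k => (ConcreteCategory.hom k)) (Scheme.ΓSpecIso_inv_naturality (CommRingCat.ofHom (Ideal.Quotient.mk I))))
    refine this.symm.trans ?_
    show (Scheme.ΓSpecIso (CommRingCat.of (A ⧸ I))).inv (Ideal.Quotient.mk I x) = 0
    rw [Ideal.Quotient.eq_zero_iff_mem.2 hx, map_zero]
  rw [sq, eq_bot_iff, Ideal.mul_le]
  intro x hx y hy
  have := Ideal.mul_mem_mul (key x hx) (key y hy)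
  rw [← Pi.mul_apply (f := j.ker.ideal) (g := j.ker.ideal), ← Scheme.IdealSheafData.ideal_mul, hj.2] at this
  have h0 : (Scheme.ΓSpecIso A).inv (x * y) = 0 := by rw [map_mul]; simpa using this
  exact (ConcreteCategory.bijective_of_isIso (Scheme.ΓSpecIso A).inv).1 (h0.trans (map_zero _).symm)

/-- the ring level notion gives the scheme level one. -/
theorem univ_spec (R S S' : Type u) [CommRing R] [CommRing S] [CommRing S'] [Algebra R S] [Algebra R S']
    (π : S' →ₐ[R] S) (hπ : OmegaSh.IsUnivThickeningRing R S S' π) :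
    OmegaSh.IsUnivThickening (Spec.map (CommRingCat.ofHom (algebraMap R S))) (Spec.map (CommRingCat.ofHom π.toRingHom))
      (Spec.map (CommRingCat.ofHom (algebraMap R S'))) := by
  obtain ⟨hs, hk, hu⟩ := hπ
  refine univ_of_affine _ _ _ ?_ ?_ fun T T' _ j b a hj hb => ?_
  · let K := RingHom.ker π.toRingHom
    let e := (RingHom.quotientKerEquivOfSurjective (f := π.toRingHom) hs).toCommRingCatIso
    refine Thick.of_isPullback (f := Spec.map e.hom) (g := 𝟙 _) (IsPullback.of_vert_isIso ⟨?_⟩)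
      (Thick.specMk (R := CommRingCat.of S') K hk)
    rw [Category.comp_id, ← Spec.map_comp]
    congr 1
  · rw [← Spec.map_comp]
    congr 1
    ext r
    exact π.commutes r
  · obtain ⟨A, ⟨eT⟩⟩ : ∃ A : CommRingCat.{u}, Nonempty (T' ≅ Spec A) := ⟨_, ⟨T'.isoSpec⟩⟩
    haveI := hj.1.1
    obtain ⟨I, d, hd⟩ := IsClosedImmersion.Spec_iff.1 (inferInstance : IsClosedImmersion (j ≫ eT.hom))
    let m := Spec.map (CommRingCat.ofHom (Ideal.Quotient.mk I))
    have hm : MoreMor.IsFirstOrderThickening m := by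
      refine Thick.of_isPullback (f := d.inv) (g := eT.inv) (IsPullback.of_vert_isIso ⟨?_⟩) hj
      rw [Iso.eq_inv_comp, ← Category.assoc, ← hd, Category.assoc, eT.hom_inv_id, Category.comp_id]
    have hI : I ^ 2 = ⊥ := ker_sq_bot I hm
    obtain ⟨β, hβ⟩ : ∃ β, Spec.map β = eT.inv ≫ b := ⟨_, Spec.map_preimage _⟩
    obtain ⟨α, hα⟩ : ∃ α, Spec.map α = d.inv ≫ a := ⟨_, Spec.map_preimage _⟩
    letI : Algebra R A := β.hom.toAlgebra
    have hc : CommRingCat.ofHom (algebraMap R S) ≫ α = β ≫ CommRingCat.ofHom (Ideal.Quotient.mk I) := by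
      apply Spec.map_injective
      rw [Spec.map_comp, Spec.map_comp, hα, hβ, Category.assoc, ← hb, ← Category.assoc, ← Category.assoc]
      congr 1
      rw [Iso.inv_comp_eq, ← Category.assoc, ← hd, Category.assoc, eT.hom_inv_id, Category.comp_id]
    let a₀ : S →ₐ[R] A ⧸ I := { α.hom with commutes' := fun r => congrArg (fun k => (CommRingCat.Hom.hom k) r) hc }
    obtain ⟨g, hg, hgu⟩ := hu A I hI a₀
    refine ⟨eT.hom ≫ Spec.map (CommRingCat.ofHom g.toRingHom), ⟨?_, ?_⟩, fun p hp => ?_⟩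
    · rw [← Category.assoc, hd, Category.assoc, ← Spec.map_comp, ← Iso.eq_inv_comp, ← Category.assoc, ← hα, ← Spec.map_comp]
      congr 1
      ext x
      exact congrArg (fun k => k x) hg
    · rw [Category.assoc, ← Spec.map_comp, ← Iso.eq_inv_comp, ← hβ]
      congr 1
      ext r
      exact g.commutes r
    · obtain ⟨γ, hγ⟩ : ∃ γ, Spec.map γ = eT.inv ≫ p := ⟨_, Spec.map_preimage _⟩
      have h1 : CommRingCat.ofHom (algebraMap R S') ≫ γ = β := by
        apply Spec.map_injective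
        rw [Spec.map_comp, hγ, hβ, Category.assoc, hp.2]
      let γ' : S' →ₐ[R] A := { γ.hom with commutes' := fun r => congrArg (fun k => (CommRingCat.Hom.hom k) r) h1 }
      have h2 : γ ≫ CommRingCat.ofHom (Ideal.Quotient.mk I) = CommRingCat.ofHom π.toRingHom ≫ α := by
        apply Spec.map_injective
        rw [Spec.map_comp, Spec.map_comp, hγ, hα, Category.assoc, ← hp.1, ← Category.assoc, ← Category.assoc]
        congr 1
        rw [eq_comm, Iso.inv_comp_eq, ← Category.assoc, ← hd, Category.assoc, eT.hom_inv_id, Category.comp_id]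
      have h3 : γ' = g := hgu γ' (AlgHom.ext fun x => congrArg (fun k => (CommRingCat.Hom.hom k) x) h2)
      rw [← Iso.inv_comp_eq, ← hγ, ← h3]
      rfl

/-- universal thickenings over an affine open of the target are universal over the target. -/
theorem univ_of_mono {V : Scheme.{u}} (o : V ⟶ X) [IsOpenImmersion o] {h : Z ⟶ V} {i : Z ⟶ Z'} {h' : Z' ⟶ V}
    (hu : OmegaSh.IsUnivThickening h i h') : OmegaSh.IsUnivThickening (h ≫ o) i (h' ≫ o) := by
  refine ⟨hu.1, by rw [reassoc_of% hu.2.1], fun T T' j b a hj hb => ?_⟩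
  haveI := hj.1.2
  have hr : Set.range b ⊆ Set.range o := by
    rintro _ ⟨t, rfl⟩
    obtain ⟨s, rfl⟩ := j.surjective t
    rw [← Scheme.Hom.comp_apply, hb, ← Category.assoc]
    exact ⟨_, (Scheme.Hom.comp_apply _ _ _).symm⟩
  obtain ⟨g, ⟨g1, g2⟩, hgu⟩ := hu.2.2 T T' j (IsOpenImmersion.lift o b hr) a hj
    (by rw [← cancel_mono o, Category.assoc, IsOpenImmersion.lift_fac, hb, Category.assoc])
  refine ⟨g, ⟨g1, by rw [reassoc_of% g2, IsOpenImmersion.lift_fac]⟩, fun p hp => hgu p ⟨hp.1, ?_⟩⟩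
  rw [← cancel_mono o, Category.assoc, IsOpenImmersion.lift_fac, hp.2]

/-- isomorphic sources. -/
theorem univ_comp_iso {W : Scheme.{u}} (e : W ≅ Z) {h : Z ⟶ X} {i : Z ⟶ Z'} {h' : Z' ⟶ X}
    (hu : OmegaSh.IsUnivThickening h i h') : OmegaSh.IsUnivThickening (e.hom ≫ h) (e.hom ≫ i) h' := by
  refine ⟨Thick.of_isPullback (f := e.hom) (g := 𝟙 _) (IsPullback.of_vert_isIso ⟨by simp⟩) hu.1,
    by rw [Category.assoc, hu.2.1], fun T T' j b a hj hb => ?_⟩
  obtain ⟨g, ⟨g1, g2⟩, hgu⟩ := hu.2.2 T T' j b (a ≫ e.hom) hj (by rw [hb, Category.assoc])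
  exact ⟨g, ⟨by rw [g1, Category.assoc], g2⟩, fun p hp => hgu p ⟨by rw [hp.1, Category.assoc], hp.2⟩⟩

theorem exists_affine (h : Z ⟶ X) [FormallyUnramified h] {W : Z.Opens} (hW : IsAffineOpen W) {V : X.Opens}
    (hV : IsAffineOpen V) (e : W ≤ h ⁻¹ᵁ V) :
    ∃ (P : Scheme.{u}) (i : (W : Scheme.{u}) ⟶ P) (h' : P ⟶ X), OmegaSh.IsUnivThickening (W.ι ≫ h) i h' := by
  letI := (h.appLE V W e).hom.toAlgebra
  haveI : Algebra.FormallyUnramified Γ(X, V) Γ(Z, W) :=
    HasRingHomProperty.appLE (P := @FormallyUnramified) h inferInstance ⟨V, hV⟩ ⟨W, hW⟩ e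
  obtain ⟨S', _, _, π, hπ⟩ := Groth.Agent.S9426.result Γ(X, V) Γ(Z, W)
  have h1 := univ_comp_iso hW.isoSpec (univ_of_mono hV.fromSpec (univ_spec _ _ _ π hπ))
  have h2 : hW.isoSpec.hom ≫ Spec.map (CommRingCat.ofHom (algebraMap Γ(X, V) Γ(Z, W))) ≫ hV.fromSpec = W.ι ≫ h := by
    rw [← IsAffineOpen.isoSpec_hom_fromSpec hW, Category.assoc, ← IsAffineOpen.SpecMap_appLE_fromSpec h hV hW e]
    rfl
  rw [h2] at h1
  exact ⟨_, _, _, h1⟩

theorem exists_glue {T Y : Scheme.{u}} {ι : Type u} (O : ι → T.Opens) (hcov : ∀ t, ∃ k, t ∈ O k)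
    (le : ι → ι → Prop) (hle : ∀ k k', le k k' → O k ≤ O k')
    (hdir : ∀ k k' t, t ∈ O k → t ∈ O k' → ∃ l, le l k ∧ le l k' ∧ t ∈ O l)
    (f : ∀ k, (O k : Scheme.{u}) ⟶ Y) (hf : ∀ k k' (e : le k k'), T.homOfLE (hle k k' e) ≫ f k' = f k) :
    ∃ g : T ⟶ Y, ∀ k, (O k).ι ≫ g = f k := by
  let 𝒰 := T.openCoverOfIsOpenCover O (eq_top_iff.2 fun t _ => Opens.mem_iSup.2 (hcov t))
  have hc : ∀ k k' : ι, pullback.fst (O k).ι (O k').ι ≫ f k = pullback.snd (O k).ι (O k').ι ≫ f k' := fun k k' => by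
    refine Scheme.hom_ext_of_forall _ _ fun x => ?_
    let t : T := (pullback.fst (O k).ι (O k').ι ≫ (O k).ι) x
    have h1 : t ∈ O k := ((pullback.fst (O k).ι (O k').ι) x).2
    have h2 : t ∈ O k' := by
      have e : t = (pullback.snd (O k).ι (O k').ι ≫ (O k').ι) x :=
        congrArg (fun m : pullback (O k).ι (O k').ι ⟶ T => m x) pullback.condition
      rw [e]
      exact ((pullback.snd (O k).ι (O k').ι) x).2
    obtain ⟨l, lk, lk', hl⟩ := hdir k k' t h1 h2
    let U := (pullback.fst (O k).ι (O k').ι ≫ (O k).ι) ⁻¹ᵁ O l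
    refine ⟨U, hl, ?_⟩
    let q := IsOpenImmersion.lift (O l).ι (U.ι ≫ pullback.fst (O k).ι (O k').ι ≫ (O k).ι)
      (by rw [Scheme.Opens.range_ι]; rintro _ ⟨y, rfl⟩; exact y.2)
    have q1 : U.ι ≫ pullback.fst (O k).ι (O k').ι = q ≫ T.homOfLE (hle l k lk) := by
      rw [← cancel_mono (O k).ι, Category.assoc, Category.assoc, Scheme.homOfLE_ι, IsOpenImmersion.lift_fac]
    have q2 : U.ι ≫ pullback.snd (O k).ι (O k').ι = q ≫ T.homOfLE (hle l k' lk') := by
      rw [← cancel_mono (O k').ι, Category.assoc, Category.assoc, Scheme.homOfLE_ι, IsOpenImmersion.lift_fac, pullback.condition]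
    rw [reassoc_of% q1, reassoc_of% q2, hf l k lk, hf l k' lk']
  exact ⟨𝒰.glueMorphisms f hc, fun k => 𝒰.ι_glueMorphisms f hc k⟩

end Groth.Agent.H6.UnivThick
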