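import Mathlib
import Groth.Prelude.Def_SGA1
import Groth.Agent.Lib.H6.Quot
import Groth.Agent.Lib.H6.QuotSpec
import Groth.Agent.S2925

set_option autoImplicit false
set_option linter.all false
set_option backward.isDefEq.respectTransparency.types false

/-! A quotient of an affine scheme is affine. -/

universe u

open CategoryTheory CategoryTheory.Limits AlgebraicGeometry TopologicalSpace

namespace Groth.Agent.H6.QuotAffine

variable {X Y : Scheme.{u}} {G : Type u} [Group G] [Finite G] {ρ : G →* Aut X} {p : X ⟶ Y}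

theorem isAffine (hp : SGA1.IsQuot ρ p) {A : CommRingCat.{u}} (e : X ≅ Spec A) : IsAffine Y := by
  let r : G →* Aut (Spec A) := (e.conjAut).toMonoidHom.comp ρ
  have hr : ∀ g, (r g).hom = e.inv ≫ (ρ g).hom ≫ e.hom := fun g => rfl
  choose σ hσ using fun g => (⟨_, Spec.map_preimage (r g).hom⟩ : ∃ s, Spec.map s = (r g).hom)
  let B : Subring A :=
    { carrier := {a | ∀ g, σ g a = a}
      zero_mem' := fun g => map_zero _
      one_mem' := fun g => map_one _
      add_mem' := fun {a b} ha hb g => by rw [map_add, ha g, hb g]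
      mul_mem' := fun {a b} ha hb g => by rw [map_mul, ha g, hb g]
      neg_mem' := fun {a} ha g => by rw [map_neg, ha g] }
  let φ : CommRingCat.of B ⟶ A := CommRingCat.ofHom B.subtype
  have hq : SGA1.IsQuot r (Spec.map φ) := QuotSpec.isQuot r (fun g => by ext b; exact b.2 g)
    Subtype.val_injective (fun a ha => ⟨⟨a, ha⟩, rfl⟩) (fun g => ⟨g, (hσ g).symm⟩) (fun g => ⟨g, (hσ g).symm⟩)
  obtain ⟨k1, hk1, -⟩ := Groth.Agent.S2925.result ρ p hp _ (e.hom ≫ Spec.map φ) (fun g => by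
    have := hq.inv g
    rw [hr, Category.assoc, Category.assoc, Iso.inv_comp_eq] at this
    exact this)
  obtain ⟨k2, hk2, -⟩ := Groth.Agent.S2925.result r (Spec.map φ) hq _ (e.inv ≫ p) (fun g => by
    rw [hr, Category.assoc, Category.assoc, e.hom_inv_id_assoc, hp.inv g])
  have e1 : k1 ≫ k2 = 𝟙 _ := Quot.hom_ext hp (by rw [reassoc_of% hk1, hk2, e.hom_inv_id_assoc, Category.comp_id])
  have e2 : k2 ≫ k1 = 𝟙 _ := Quot.hom_ext hq (by rw [reassoc_of% hk2, hk1, e.inv_hom_id_assoc, Category.comp_id])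
  haveI : IsIso k1 := ⟨⟨k2, e1, e2⟩⟩
  exact IsAffine.of_isIso k1

theorem isAffineHom (hp : SGA1.IsQuot ρ p) {Z : Scheme.{u}} (f : X ⟶ Z) [IsAffineHom f] (q : Y ⟶ Z) (hq : p ≫ q = f) :
    IsAffineHom q := by
  refine ⟨fun W hW => ?_⟩
  have hU : IsAffineOpen (p ⁻¹ᵁ (q ⁻¹ᵁ W)) := by
    rw [← Scheme.Hom.comp_preimage, hq]; exact hW.preimage f
  obtain ⟨ρU, hρU⟩ := Quot.exists_restrict_action ρ (p ⁻¹ᵁ (q ⁻¹ᵁ W)) (fun g => SGA1.preimage_le_of_inv ρ p hp.inv g _)
  exact isAffine (Quot.restrict hp (q ⁻¹ᵁ W) ρU hρU) hU.isoSpec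

end Groth.Agent.H6.QuotAffine
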