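import Mathlib
import Groth.Prelude.Def_SGA1
import Groth.Agent.Lib.H6.Quot
import Groth.Agent.Lib.H6.QuotSpec

set_option autoImplicit false
set_option linter.all false
set_option backward.isDefEq.respectTransparency.types false

/-! Being a quotient by a finite group is local on the base; transport along isomorphisms;
affine schemes have quotients. -/

universe u

open CategoryTheory CategoryTheory.Limits AlgebraicGeometry TopologicalSpace Opposite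

namespace Groth.Agent.H6.QuotLocal

variable {X Y : Scheme.{u}} {G : Type u} [Group G]

theorem of_basis (ρ : G →* Aut X) (p : X ⟶ Y) [IsAffineHom p] (pinv : ∀ g : G, (ρ g).hom ≫ p = p)
    (basic : ∀ (y : Y) (U : Y.Opens), y ∈ U → ∃ D : Y.Opens, y ∈ D ∧ D ≤ U ∧ Function.Injective (p.app D) ∧
      ∀ t : Γ(X, p ⁻¹ᵁ D), (∀ g, (ρ g).hom.appLE _ _ (SGA1.preimage_le_of_inv ρ p pinv g D) t = t) → ∃ u, p.app D u = t) :
    SGA1.IsQuot ρ p := by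
  have hle : ∀ (g : G) (U : Y.Opens), p ⁻¹ᵁ U ≤ (ρ g).hom ⁻¹ᵁ (p ⁻¹ᵁ U) := SGA1.preimage_le_of_inv ρ p pinv
  let act : ∀ (U : Y.Opens), G → (Γ(X, p ⁻¹ᵁ U) ⟶ Γ(X, p ⁻¹ᵁ U)) := fun U g => (ρ g).hom.appLE _ _ (hle g U)
  have act_app : ∀ U g b, act U g (p.app U b) = p.app U b := fun U g b => by
    have e1 := Quot.appLE_congr_hom (pinv g) U (p ⁻¹ᵁ U) (hle g U) le_rfl
    rw [← Scheme.Hom.appLE_comp_appLE (ρ g).hom p U (p ⁻¹ᵁ U) _ le_rfl (hle g U), ← Scheme.Hom.app_eq_appLE] at e1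
    exact congrArg (fun k => k b) (congrArg (fun k => (ConcreteCategory.hom k)) e1)
  have act_res : ∀ {U V : Y.Opens} (h : V ≤ U) g s, act V g (X.presheaf.map (homOfLE (Scheme.Hom.preimage_mono p h)).op s)
      = X.presheaf.map (homOfLE (Scheme.Hom.preimage_mono p h)).op (act U g s) := fun {U V} h g s => by
    simp only [act, ← CommRingCat.comp_apply, Scheme.Hom.map_appLE, Scheme.Hom.appLE_map]
  have app_res : ∀ {U V : Y.Opens} (h : V ≤ U) s, p.app V (Y.presheaf.map (homOfLE h).op s)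
      = X.presheaf.map (homOfLE (Scheme.Hom.preimage_mono p h)).op (p.app U s) := fun {U V} h s => by
    simp only [Scheme.Hom.app_eq_appLE, ← CommRingCat.comp_apply, Scheme.Hom.map_appLE, Scheme.Hom.appLE_map]
  let ι : Y.Opens → Type u := fun U => {D : Y.Opens // D ≤ U ∧ Function.Injective (p.app D) ∧
      ∀ t : Γ(X, p ⁻¹ᵁ D), (∀ g, act D g t = t) → ∃ u, p.app D u = t}
  have hcov : ∀ U : Y.Opens, U ≤ ⨆ i : ι U, i.1 := fun U y hy => by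
    obtain ⟨D, hyD, h1, h2, h3⟩ := basic y U hy
    exact Opens.mem_iSup.2 ⟨⟨D, h1, h2, h3⟩, hyD⟩
  have inj : ∀ U, Function.Injective (p.app U) := fun U => by
    intro s t hst
    refine TopCat.Sheaf.eq_of_locally_eq' Y.sheaf (fun i : ι U => i.1) U
      (fun i => homOfLE i.2.1) (hcov U) _ _ fun i => i.2.2.1 ?_
    exact (app_res i.2.1 s).trans ((congrArg _ hst).trans (app_res i.2.1 t).symm)
  refine ⟨inferInstance, pinv, inj, fun U s => ⟨fun ⟨b, hb⟩ g => by rw [← hb]; exact act_app U g b, fun hs => ?_⟩⟩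
  let O : ι U → Y.Opens := fun i => i.1
  choose u hu using fun i : ι U => i.2.2.2 (X.presheaf.map (homOfLE (Scheme.Hom.preimage_mono p i.2.1)).op s)
    (fun g => (act_res i.2.1 g s).trans (congrArg _ (hs g)))
  have hcompat : TopCat.Presheaf.IsCompatible Y.sheaf.1 O u := fun i j => by
    apply inj
    show p.app _ (Y.presheaf.map (homOfLE inf_le_left).op (u i)) = p.app _ (Y.presheaf.map (homOfLE inf_le_right).op (u j))
    rw [app_res, app_res, hu, hu, ← CommRingCat.comp_apply, ← CommRingCat.comp_apply, ← Functor.map_comp, ← Functor.map_comp]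
    rfl
  obtain ⟨v, hv, -⟩ := TopCat.Sheaf.existsUnique_gluing' Y.sheaf O U (fun i => homOfLE i.2.1) (hcov U) u hcompat
  refine ⟨v, ?_⟩
  refine TopCat.Sheaf.eq_of_locally_eq' X.sheaf (fun i : ι U => p ⁻¹ᵁ O i) (p ⁻¹ᵁ U)
    (fun i => homOfLE (Scheme.Hom.preimage_mono p i.2.1)) ?_ _ _ fun i => ?_
  · intro x hx
    obtain ⟨i, hi⟩ := Opens.mem_iSup.1 (hcov U hx)
    exact Opens.mem_iSup.2 ⟨i, hi⟩
  · show X.presheaf.map _ (p.app U v) = X.presheaf.map _ s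
    rw [← app_res i.2.1, ← hu i]
    exact congrArg _ (hv i)

theorem appLE_bij {A B : Scheme.{u}} (e : A ⟶ B) [IsIso e] (U : B.Opens) (V : A.Opens) (h : V = e ⁻¹ᵁ U) (le : V ≤ e ⁻¹ᵁ U) :
    Function.Bijective (e.appLE U V le) := by
  subst h
  rw [← Scheme.Hom.app_eq_appLE]
  exact ConcreteCategory.bijective_of_isIso _

theorem of_iso {X' : Scheme.{u}} {ρ : G →* Aut X} {p : X ⟶ Y} (hp : SGA1.IsQuot ρ p) (e : X' ≅ X) (ρ' : G →* Aut X')
    (he : ∀ g, (ρ' g).hom ≫ e.hom = e.hom ≫ (ρ g).hom) (p' : X' ⟶ Y) (hp' : p' = e.hom ≫ p) : SGA1.IsQuot ρ' p' := by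
  haveI := hp.affine
  haveI : IsAffineHom p' := by rw [hp']; infer_instance
  have pinv : ∀ g, (ρ' g).hom ≫ p' = p' := fun g => by rw [hp', ← Category.assoc, he, Category.assoc, hp.inv]
  refine of_basis ρ' p' pinv fun y U hy => ⟨U, hy, le_rfl, ?_⟩
  have le : p' ⁻¹ᵁ U ≤ e.hom ⁻¹ᵁ (p ⁻¹ᵁ U) := le_of_eq (by rw [hp']; rfl)
  let κ := e.hom.appLE (p ⁻¹ᵁ U) (p' ⁻¹ᵁ U) le
  have hκ : Function.Bijective κ := appLE_bij e.hom _ _ (by rw [hp']; rfl) _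
  have hmap : ∀ b, p'.app U b = κ (p.app U b) := fun b => by
    have := Quot.appLE_congr_hom hp' U (p' ⁻¹ᵁ U) le_rfl le
    rw [← Scheme.Hom.appLE_comp_appLE e.hom p U (p ⁻¹ᵁ U) _ le_rfl le, ← Scheme.Hom.app_eq_appLE, ← Scheme.Hom.app_eq_appLE] at this
    exact congrArg (fun k => k b) (congrArg (fun k => (ConcreteCategory.hom k)) this)
  have hcomm : ∀ g t, (ρ' g).hom.appLE _ _ (SGA1.preimage_le_of_inv ρ' p' pinv g U) (κ t) = κ (Quot.act hp U g t) := fun g t => by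
    have hh := Quot.appLE_congr_hom (he g) (p ⁻¹ᵁ U) (p' ⁻¹ᵁ U)
      ((SGA1.preimage_le_of_inv ρ' p' pinv g U).trans (Scheme.Hom.preimage_mono _ le))
      (le.trans (Scheme.Hom.preimage_mono _ (SGA1.preimage_le_of_inv ρ p hp.inv g U)))
    rw [← Scheme.Hom.appLE_comp_appLE _ _ _ (p' ⁻¹ᵁ U) _ le (SGA1.preimage_le_of_inv ρ' p' pinv g U),
      ← Scheme.Hom.appLE_comp_appLE _ _ _ (p ⁻¹ᵁ U) _ (SGA1.preimage_le_of_inv ρ p hp.inv g U) le] at hh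
    exact congrArg (fun k => k t) (congrArg (fun k => (ConcreteCategory.hom k)) hh)
  refine ⟨fun a b h => ?_, fun s hs => ?_⟩
  · rw [hmap, hmap] at h
    exact hp.injective U (hκ.1 h)
  · obtain ⟨t, rfl⟩ := hκ.2 s
    obtain ⟨b, hb⟩ := Quot.exists_app_eq hp U t fun g => hκ.1 ((hcomm g t).symm.trans (hs g))
    exact ⟨b, (hmap b).trans (congrArg κ hb)⟩

theorem exists_of_affine [Finite G] (ρ : G →* Aut X) [IsAffine X] : ∃ (Y : Scheme.{u}) (p : X ⟶ Y), SGA1.IsQuot ρ p := by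
  let e := X.isoSpec
  let r : G →* Aut (Spec Γ(X, ⊤)) := (e.conjAut).toMonoidHom.comp ρ
  have hr : ∀ g, (r g).hom = e.inv ≫ (ρ g).hom ≫ e.hom := fun g => rfl
  choose σ hσ using fun g => (⟨_, Spec.map_preimage (r g).hom⟩ : ∃ s, Spec.map s = (r g).hom)
  let B : Subring Γ(X, ⊤) :=
    { carrier := {a | ∀ g, σ g a = a}
      zero_mem' := fun g => map_zero _
      one_mem' := fun g => map_one _
      add_mem' := fun {a b} ha hb g => by rw [map_add, ha g, hb g]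
      mul_mem' := fun {a b} ha hb g => by rw [map_mul, ha g, hb g]
      neg_mem' := fun {a} ha g => by rw [map_neg, ha g] }
  let φ : CommRingCat.of B ⟶ Γ(X, ⊤) := CommRingCat.ofHom B.subtype
  have hq : SGA1.IsQuot r (Spec.map φ) := QuotSpec.isQuot r (fun g => by ext b; exact b.2 g)
    Subtype.val_injective (fun a ha => ⟨⟨a, ha⟩, rfl⟩) (fun g => ⟨g, (hσ g).symm⟩) (fun g => ⟨g, (hσ g).symm⟩)
  exact ⟨_, e.hom ≫ Spec.map φ, of_iso hq e ρ (fun g => by rw [hr, e.hom_inv_id_assoc]) _ rfl⟩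

/-- quotients are local on the base. -/
theorem of_cover (ρ : G →* Aut X) (p : X ⟶ Y) [IsAffineHom p] (pinv : ∀ g : G, (ρ g).hom ≫ p = p)
    (h : ∀ y : Y, ∃ (V : Y.Opens) (ρV : G →* Aut (p ⁻¹ᵁ V).toScheme), y ∈ V ∧
      (∀ g, (ρV g).hom ≫ (p ⁻¹ᵁ V).ι = (p ⁻¹ᵁ V).ι ≫ (ρ g).hom) ∧ SGA1.IsQuot ρV (p ∣_ V)) :
    SGA1.IsQuot ρ p := by
  refine of_basis ρ p pinv fun y U hy => ?_
  obtain ⟨V, ρV, hyV, hρV, hV⟩ := h y
  obtain ⟨W, hW⟩ : ∃ W : V.toScheme.Opens, V.ι ''ᵁ W = U ⊓ V := ⟨V.ι ⁻¹ᵁ U, by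
    rw [Scheme.Hom.image_preimage_eq_opensRange_inf, Scheme.Opens.opensRange_ι, inf_comm]⟩
  refine ⟨V.ι ''ᵁ W, hW ▸ ⟨hy, hyV⟩, hW.le.trans inf_le_left, ?_⟩
  have hι : p ⁻¹ᵁ (V.ι ''ᵁ W) = (p ⁻¹ᵁ V).ι ''ᵁ ((p ∣_ V) ⁻¹ᵁ W) := (image_morphismRestrict_preimage p V W).symm
  let W' := V.ι ''ᵁ W
  have e1 : (p ∣_ V) ⁻¹ᵁ W ≤ (p ⁻¹ᵁ V).ι ⁻¹ᵁ (p ⁻¹ᵁ W') := by rw [hι]; exact (Scheme.Hom.preimage_image_eq _ _).ge
  let κ := (p ⁻¹ᵁ V).ι.appLE (p ⁻¹ᵁ W') ((p ∣_ V) ⁻¹ᵁ W) e1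
  have hκ : Function.Bijective κ := Quot.appLE_bijective _ hι _
  have hmap : ∀ b, (p ∣_ V).app W b = κ (p.app W' b) := fun b => by
    rw [morphismRestrict_app]
    show X.presheaf.map _ (p.app W' b) = _
    simp [κ, Scheme.Hom.appLE]
    rfl
  have hcomm : ∀ (g : G) (t : Γ(X, p ⁻¹ᵁ W')),
      (ρV g).hom.appLE ((p ∣_ V) ⁻¹ᵁ W) ((p ∣_ V) ⁻¹ᵁ W) (SGA1.preimage_le_of_inv ρV _ hV.inv g W) (κ t) =
        κ ((ρ g).hom.appLE _ _ (SGA1.preimage_le_of_inv ρ p pinv g W') t) := fun g t => by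
    have e2 := (e1.trans (Scheme.Hom.preimage_mono _ (SGA1.preimage_le_of_inv ρ p pinv g W')))
    have hh := Quot.appLE_congr_hom (hρV g) (p ⁻¹ᵁ W') ((p ∣_ V) ⁻¹ᵁ W)
      ((SGA1.preimage_le_of_inv ρV _ hV.inv g W).trans (Scheme.Hom.preimage_mono _ e1)) e2
    rw [← Scheme.Hom.appLE_comp_appLE _ _ _ ((p ∣_ V) ⁻¹ᵁ W) _ e1 (SGA1.preimage_le_of_inv ρV _ hV.inv g W),
      ← Scheme.Hom.appLE_comp_appLE _ _ _ (p ⁻¹ᵁ W') _ (SGA1.preimage_le_of_inv ρ p pinv g W') e1] at hh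
    exact congrArg (fun k => k t) (congrArg (fun k => (ConcreteCategory.hom k)) hh)
  refine ⟨fun a b hab => hV.injective W ((hmap a).trans ((congrArg κ hab).trans (hmap b).symm)), fun t ht => ?_⟩
  obtain ⟨b, hb⟩ := Quot.exists_app_eq hV W (κ t) fun g => (hcomm g t).trans (congrArg κ (ht g))
  exact ⟨b, hκ.1 ((hmap b).symm.trans hb)⟩

end Groth.Agent.H6.QuotLocal
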