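import Mathlib
import Groth.Prelude.Def_SGA1
import Groth.Agent.Lib.H6.Quot
import Groth.Agent.Lib.H6.QuotLocal
import Groth.Agent.Lib.H6.UnivThick
import Groth.Agent.S2925

set_option autoImplicit false
set_option linter.all false
set_option backward.isDefEq.respectTransparency.types false

/-! Existence of quotients by finite groups when orbits lie in affine opens. -/

universe u

open CategoryTheory CategoryTheory.Limits AlgebraicGeometry TopologicalSpace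

namespace Groth.Agent.H6.QuotExists

theorem exists_basicOpen_finite {X : Scheme.{u}} {U : X.Opens} (hU : IsAffineOpen U) (O : X.Opens) {ι : Type u} [Finite ι]
    (x : ι → X) (hxU : ∀ i, x i ∈ U) (hxO : ∀ i, x i ∈ O) : ∃ f : Γ(X, U), X.basicOpen f ≤ O ∧ ∀ i, x i ∈ X.basicOpen f := by
  classical
  cases nonempty_fintype ι
  obtain ⟨I, hI⟩ := (PrimeSpectrum.isClosed_iff_zeroLocus_ideal _).1 (hU.fromSpec ⁻¹ᵁ O).2.isClosed_compl
  let P := fun i => hU.primeIdealOf ⟨x i, hxU i⟩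
  have hP : ∀ i, hU.fromSpec (P i) = x i := fun i => hU.fromSpec_primeIdealOf ⟨x i, hxU i⟩
  have hnot : ¬ (I : Set Γ(X, U)) ⊆ ⋃ i ∈ (↑(Finset.univ : Finset ι) : Set ι), ((P i).asIdeal : Set Γ(X, U)) := by
    intro hsub
    rcases isEmpty_or_nonempty ι with hι | ⟨⟨i₀⟩⟩
    · obtain ⟨i, -⟩ := Set.mem_iUnion.1 (hsub I.zero_mem)
      exact hι.elim i
    · obtain ⟨i, -, hi⟩ := (Ideal.subset_union_prime i₀ i₀ (fun i _ _ _ => (P i).isPrime)).1 hsub
      have hz : P i ∈ PrimeSpectrum.zeroLocus (I : Set Γ(X, U)) := hi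
      rw [← hI] at hz
      refine hz ?_
      show hU.fromSpec (P i) ∈ O
      rw [hP]; exact hxO i
  obtain ⟨f, hfI, hf⟩ := Set.not_subset.1 hnot
  refine ⟨f, ?_, fun i => ?_⟩
  · rw [← hU.fromSpec_image_basicOpen]
    rintro _ ⟨Q, hQ, rfl⟩
    by_contra hne
    have hQI : Q ∈ PrimeSpectrum.zeroLocus (I : Set Γ(X, U)) := by rw [← hI]; exact hne
    exact hQ (hQI hfI)
  · rw [← hU.fromSpec_image_basicOpen]
    exact ⟨P i, fun h => hf (Set.mem_iUnion₂.2 ⟨i, Finset.mem_univ i, h⟩), hP i⟩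

variable {X : Scheme.{u}} {G : Type u} [Group G] [Finite G] (ρ : G →* Aut X)

/-- stable affine opens. -/
abbrev J : Type u := {U : X.Opens // IsAffineOpen U ∧ ∀ g : G, U ≤ (ρ g).hom ⁻¹ᵁ U}

theorem mul_apply (g h : G) (x : X) : (ρ (g * h)).hom x = (ρ g).hom ((ρ h).hom x) := by
  rw [← Scheme.Hom.comp_apply]
  exact congrArg (fun m : X ⟶ X => m x) (show (ρ (g * h)).hom = (ρ h).hom ≫ (ρ g).hom by rw [map_mul]; rfl)

variable (hU : ∀ x : X, ∃ U : X.Opens, IsAffineOpen U ∧ ∀ g : G, (ρ g).hom.base x ∈ U)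

include hU in
theorem exists_nhd (x : X) (O : X.Opens) (hO : ∀ g, O ≤ (ρ g).hom ⁻¹ᵁ O) (hx : x ∈ O) : ∃ k : J ρ, k.1 ≤ O ∧ x ∈ k.1 := by
  classical
  cases nonempty_fintype G
  obtain ⟨U, hUa, hxU⟩ := hU x
  let O' : X.Opens := O ⊓ ⟨⋂ g : G, (ρ g).hom ⁻¹' (U : Set X), isOpen_iInter_of_finite fun g => U.2.preimage (ρ g).hom.continuous⟩
  have hxO' : ∀ g, (ρ g).hom x ∈ O' := fun g => ⟨hO g hx, Set.mem_iInter.2 fun h => by
    show (ρ h).hom ((ρ g).hom x) ∈ U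
    rw [← mul_apply]; exact hxU _⟩
  obtain ⟨f, hfO, hxf⟩ := exists_basicOpen_finite hUa O' (fun g : G => (ρ g).hom x) hxU hxO'
  let D := X.basicOpen f
  have hD : IsAffineOpen D := hUa.basicOpen f
  have hDU : ∀ g : G, D ≤ (ρ g).hom ⁻¹ᵁ U := fun g y hy => Set.mem_iInter.1 (hfO hy).2 g
  let sec : G → Γ(X, D) := fun g => (ρ g).hom.appLE U D (hDU g) f
  have hsec : ∀ g, X.basicOpen (sec g) = D ⊓ (ρ g).hom ⁻¹ᵁ D := fun g => by
    simp only [sec, Scheme.Hom.appLE, CommRingCat.comp_apply]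
    rw [Scheme.basicOpen_res, ← Scheme.preimage_basicOpen]
  let N := X.basicOpen (∏ g, sec g)
  have hN : ∀ y, y ∈ N ↔ y ∈ D ∧ ∀ g, (ρ g).hom y ∈ D := fun y => by
    constructor
    · intro hy
      have hyD : y ∈ D := X.basicOpen_le _ hy
      refine ⟨hyD, fun g => ?_⟩
      have h1 : y ∈ X.basicOpen (sec g) := by
        rw [Scheme.mem_basicOpen _ _ _ hyD] at hy ⊢
        rw [map_prod] at hy
        exact IsUnit.prod_iff.1 hy g (Finset.mem_univ g)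
      rw [hsec] at h1
      exact h1.2
    · rintro ⟨hyD, hy⟩
      show y ∈ X.basicOpen (∏ g, sec g)
      rw [Scheme.mem_basicOpen _ _ _ hyD, map_prod]
      refine IsUnit.prod_iff.2 fun g _ => ?_
      rw [← Scheme.mem_basicOpen _ _ _ hyD, hsec]
      exact ⟨hyD, hy g⟩
  refine ⟨⟨N, hD.basicOpen _, fun g y hy => (hN _).2 ⟨((hN y).1 hy).2 g, fun h => ?_⟩⟩,
    fun y hy => (hfO ((hN y).1 hy).1).1, (hN x).2 ⟨?_, fun g => hxf g⟩⟩
  · rw [← mul_apply]; exact ((hN y).1 hy).2 _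
  · have := hxf 1
    rwa [show (ρ 1).hom = 𝟙 X by rw [map_one]; rfl] at this

include hU in
theorem exists_le (k k' : J ρ) (x : X) (hx : x ∈ k.1) (hx' : x ∈ k'.1) : ∃ l : J ρ, l ≤ k ∧ l ≤ k' ∧ x ∈ l.1 := by
  obtain ⟨l, hl, hxl⟩ := exists_nhd ρ hU x (k.1 ⊓ k'.1) (fun g y hy => ⟨k.2.2 g hy.1, k'.2.2 g hy.2⟩) ⟨hx, hx'⟩
  exact ⟨l, fun y hy => (hl hy).1, fun y hy => (hl hy).2, hxl⟩

noncomputable def act (k : J ρ) : G →* Aut (k.1 : Scheme.{u}) := (Quot.exists_restrict_action ρ k.1 k.2.2).choose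

theorem act_spec (k : J ρ) (g : G) : (act ρ k g).hom ≫ k.1.ι = k.1.ι ≫ (ρ g).hom :=
  (Quot.exists_restrict_action ρ k.1 k.2.2).choose_spec g

variable (P : J ρ → Scheme.{u}) (q : ∀ k : J ρ, (k.1 : Scheme.{u}) ⟶ P k) (hq : ∀ k, SGA1.IsQuot (act ρ k) (q k))

theorem act_homOfLE {k k' : J ρ} (e : k ≤ k') (g : G) :
    (act ρ k g).hom ≫ X.homOfLE e = X.homOfLE e ≫ (act ρ k' g).hom := by
  rw [← cancel_mono k'.1.ι, Category.assoc, Category.assoc, act_spec, Scheme.homOfLE_ι, act_spec, Scheme.homOfLE_ι_assoc]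

noncomputable def trans {k k' : J ρ} (e : k ≤ k') : P k ⟶ P k' :=
  (Groth.Agent.S2925.result (act ρ k) (q k) (hq k) _ (X.homOfLE e ≫ q k') fun g => by
    rw [← Category.assoc, act_homOfLE, Category.assoc, (hq k').inv]).choose

theorem trans_spec {k k' : J ρ} (e : k ≤ k') : q k ≫ trans ρ P q hq e = X.homOfLE e ≫ q k' :=
  (Groth.Agent.S2925.result (act ρ k) (q k) (hq k) _ (X.homOfLE e ≫ q k') fun g => by
    rw [← Category.assoc, act_homOfLE, Category.assoc, (hq k').inv]).choose_spec.1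

include hq in
theorem mem_of_eq {k : J ρ} (O : X.Opens) (hO : ∀ g, O ≤ (ρ g).hom ⁻¹ᵁ O) (x x' : (k.1 : Scheme.{u}))
    (hx : x.1 ∈ O) (h : q k x = q k x') : x'.1 ∈ O := by
  obtain ⟨g, rfl⟩ := Quot.exists_eq (hq k) x x' h
  show k.1.ι ((act ρ k g).hom x) ∈ O
  rw [← Scheme.Hom.comp_apply, act_spec, Scheme.Hom.comp_apply]
  exact hO g hx

theorem trans_isOpenImmersion {k k' : J ρ} (e : k ≤ k') : IsOpenImmersion (trans ρ P q hq e) := by
  let W : k'.1.toScheme.Opens := k'.1.ι ⁻¹ᵁ k.1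
  have hV : IsOpen (⇑(q k') '' (W : Set k'.1.toScheme)) := by
    rw [← (Quot.isQuotientMap (hq k')).isOpen_preimage]
    convert W.2
    refine subset_antisymm ?_ (Set.subset_preimage_image _ _)
    rintro x' ⟨x, hx, e'⟩
    exact mem_of_eq ρ P q hq k.1 k.2.2 x x' hx e'
  let V : (P k').Opens := ⟨_, hV⟩
  have hpre : q k' ⁻¹ᵁ V = W := by
    ext x'
    refine ⟨?_, fun hx => ⟨x', hx, rfl⟩⟩
    rintro ⟨x, hx, e'⟩
    exact mem_of_eq ρ P q hq k.1 k.2.2 x x' hx e'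
  obtain ⟨ρV, hρV⟩ := Quot.exists_restrict_action (act ρ k') (q k' ⁻¹ᵁ V) (fun g => SGA1.preimage_le_of_inv _ _ (hq k').inv g V)
  have hqV := Quot.restrict (hq k') V ρV hρV
  let j := (q k' ⁻¹ᵁ V).ι ≫ k'.1.ι
  have hr : Set.range j = Set.range k.1.ι := by
    rw [Scheme.Opens.range_ι]
    ext x
    constructor
    · rintro ⟨w, rfl⟩
      have : ((q k' ⁻¹ᵁ V).ι w) ∈ W := hpre.le w.2
      exact this
    · intro hx
      exact ⟨⟨⟨x, e hx⟩, hpre.ge hx⟩, rfl⟩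
  let ψ := IsOpenImmersion.isoOfRangeEq k.1.ι j hr.symm
  have hψ : ψ.hom ≫ j = k.1.ι := IsOpenImmersion.isoOfRangeEq_hom_fac _ _ _
  have hψe : ψ.hom ≫ (q k' ⁻¹ᵁ V).ι = X.homOfLE e := by
    rw [← cancel_mono k'.1.ι, Category.assoc, Scheme.homOfLE_ι]; exact hψ
  have heq : ∀ g, (ρV g).hom ≫ ψ.inv = ψ.inv ≫ (act ρ k g).hom := fun g => by
    have hj : ψ.inv ≫ k.1.ι = j := by rw [← hψ, Iso.inv_hom_id_assoc]
    rw [← cancel_mono k.1.ι, Category.assoc, Category.assoc, act_spec, hj, reassoc_of% hj]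
    simp only [j, Category.assoc, reassoc_of% hρV, act_spec]
  obtain ⟨a, ha, -⟩ := Groth.Agent.S2925.result (act ρ k) (q k) (hq k) _ (ψ.hom ≫ (q k' ∣_ V)) fun g => by
    have := congrArg (fun m => ψ.hom ≫ m ≫ ψ.hom ≫ (q k' ∣_ V)) (heq g)
    simp only [Category.assoc, Iso.inv_hom_id_assoc, Iso.hom_inv_id_assoc, hqV.inv] at this
    exact this.symm
  obtain ⟨b, hb, -⟩ := Groth.Agent.S2925.result ρV (q k' ∣_ V) hqV _ (ψ.inv ≫ q k) fun g => by
    rw [reassoc_of% (heq g), (hq k).inv]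
  have e1 : a ≫ b = 𝟙 _ := Quot.hom_ext (hq k) (by rw [reassoc_of% ha, hb, Iso.hom_inv_id_assoc, Category.comp_id])
  have e2 : b ≫ a = 𝟙 _ := Quot.hom_ext hqV (by rw [reassoc_of% hb, ha, Iso.inv_hom_id_assoc, Category.comp_id])
  haveI : IsIso a := ⟨⟨b, e1, e2⟩⟩
  have : trans ρ P q hq e = a ≫ V.ι := Quot.hom_ext (hq k) (by
    rw [trans_spec, reassoc_of% ha, morphismRestrict_ι, reassoc_of% hψe])
  rw [this]
  infer_instance

noncomputable def F : J ρ ⥤ Scheme.{u} where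
  obj := P
  map {k k'} f := trans ρ P q hq (leOfHom f)
  map_id k := Quot.hom_ext (hq k) (by rw [trans_spec]; simp)
  map_comp {k k' k''} f g := Quot.hom_ext (hq k) (by
    rw [trans_spec, reassoc_of% (trans_spec ρ P q hq (leOfHom f)), trans_spec, Scheme.homOfLE_homOfLE_assoc])

theorem trans_apply {k k' : J ρ} (e : k ≤ k') (z : (k.1 : Scheme.{u})) :
    trans ρ P q hq e (q k z) = q k' (X.homOfLE e z) :=
  congrArg (fun m : (k.1 : Scheme.{u}) ⟶ P k' => m z) (trans_spec ρ P q hq e)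

theorem homOfLE_val {k k' : J ρ} (e : k ≤ k') (z : (k.1 : Scheme.{u})) : (X.homOfLE e z).1 = z.1 := by
  show k'.1.ι (X.homOfLE e z) = k.1.ι z
  rw [← Scheme.Hom.comp_apply, Scheme.homOfLE_ι]

instance {k k' : J ρ} (f : k ⟶ k') : IsOpenImmersion ((F ρ P q hq).map f) := trans_isOpenImmersion ρ P q hq _

set_option maxHeartbeats 1000000 in
include hU hq in
theorem directed_aux {a b c : J ρ} (fa : a ≤ c) (fb : b ≤ c) (za : (a.1 : Scheme.{u})) (zb : (b.1 : Scheme.{u}))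
    (hab : q c (X.homOfLE fa za) = q c (X.homOfLE fb zb)) :
    ∃ (l : J ρ) (la : l ≤ a) (lb : l ≤ b) (w : (l.1 : Scheme.{u})),
      q a (X.homOfLE la w) = q a za ∧ q b (X.homOfLE lb w) = q b zb := by
  have hz : zb.1 ∈ a.1 := by
    have := mem_of_eq ρ P q hq a.1 a.2.2 _ _ (by rw [homOfLE_val]; exact za.2) hab
    rwa [homOfLE_val] at this
  obtain ⟨l, la, lb, hl⟩ := exists_le ρ hU a b zb.1 hz zb.2
  refine ⟨l, la, lb, ⟨zb.1, hl⟩, ?_, congrArg (q b) (Subtype.ext (homOfLE_val ρ _ _))⟩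
  haveI := trans_isOpenImmersion ρ P q hq fa
  apply (trans ρ P q hq fa).isOpenEmbedding.injective
  have e1 : X.homOfLE fa (X.homOfLE la ⟨zb.1, hl⟩) = X.homOfLE fb zb := by
    apply Subtype.ext
    rw [homOfLE_val ρ fa, homOfLE_val ρ la, homOfLE_val ρ fb]
  exact (trans_apply ρ P q hq fa _).trans ((congrArg (q c) e1).trans (hab.symm.trans (trans_apply ρ P q hq fa za).symm))

set_option maxHeartbeats 1000000 in
include hU in
theorem isLocallyDirected : (F ρ P q hq ⋙ Scheme.forget).IsLocallyDirected := by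
  constructor
  intro a b c fa fb xa xb hab
  obtain ⟨za, hza⟩ := Quot.surjective (hq a) xa
  obtain ⟨zb, hzb⟩ := Quot.surjective (hq b) xb
  subst hza hzb
  have h1 : q c (X.homOfLE (leOfHom fa) za) = q c (X.homOfLE (leOfHom fb) zb) :=
    (trans_apply ρ P q hq (leOfHom fa) za).symm.trans (hab.trans (trans_apply ρ P q hq (leOfHom fb) zb))
  obtain ⟨l, la, lb, w, h2, h3⟩ := directed_aux ρ hU P q hq (leOfHom fa) (leOfHom fb) za zb h1
  exact ⟨l, homOfLE la, homOfLE lb, q l w, (trans_apply ρ P q hq la w).trans h2, (trans_apply ρ P q hq lb w).trans h3⟩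

theorem of_iso_target {X Y Y' : Scheme.{u}} {ρ : G →* Aut X} {p : X ⟶ Y} (hp : SGA1.IsQuot ρ p) (e : Y ≅ Y') :
    SGA1.IsQuot ρ (p ≫ e.hom) := by
  haveI := hp.affine
  refine ⟨inferInstance, fun g => by rw [← Category.assoc, hp.inv], fun U => ?_, fun U s => ?_⟩
  · rw [Scheme.Hom.comp_app]
    exact (hp.injective _).comp (ConcreteCategory.bijective_of_isIso (e.hom.app U)).1
  · refine Iff.trans ?_ (hp.range_iff (e.hom ⁻¹ᵁ U) s)
    rw [Scheme.Hom.comp_app]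
    constructor
    · rintro ⟨b, hb⟩; exact ⟨_, hb⟩
    · rintro ⟨b, hb⟩
      obtain ⟨a, rfl⟩ := (ConcreteCategory.bijective_of_isIso (e.hom.app U)).2 b
      exact ⟨a, hb⟩

include hU hq in
theorem exists_global : ∃ (Y : Scheme.{u}) (p : X ⟶ Y), SGA1.IsQuot ρ p := by
  haveI := isLocallyDirected ρ hU P q hq
  let Φ := F ρ P q hq
  let c : ∀ k, P k ⟶ colimit Φ := fun k => colimit.ι Φ k
  haveI hc : ∀ k, IsOpenImmersion (c k) := fun k => inferInstanceAs (IsOpenImmersion (colimit.ι Φ k))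
  have hw : ∀ {k k' : J ρ} (e : k ≤ k'), trans ρ P q hq e ≫ c k' = c k := fun e => colimit.w Φ (homOfLE e)
  have hcovX : ∀ x : X, ∃ k : J ρ, x ∈ k.1 := fun x =>
    (exists_nhd ρ hU x ⊤ (fun _ _ _ => trivial) trivial).imp fun k hk => hk.2
  obtain ⟨p, hp⟩ := H6.UnivThick.exists_glue (fun k : J ρ => k.1) hcovX (· ≤ ·) (fun _ _ e => e)
    (exists_le ρ hU) (fun k => q k ≫ c k) fun k k' e => by rw [← reassoc_of% (trans_spec ρ P q hq e), hw]
  have hp' : ∀ (k : J ρ) (x : (k.1 : Scheme.{u})), p x.1 = c k (q k x) := fun k x =>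
    congrArg (fun m : (k.1 : Scheme.{u}) ⟶ colimit Φ => m x) (hp k)
  have hpre : ∀ k, p ⁻¹ᵁ (c k).opensRange = k.1 := fun k => by
    ext x
    constructor
    · rintro ⟨y, hy⟩
      obtain ⟨k', hk'⟩ := hcovX x
      obtain ⟨l, fk, fk', z, hz, hz'⟩ := (Scheme.IsLocallyDirected.ι_eq_ι_iff Φ).1 (hy.trans (hp' k' ⟨x, hk'⟩))
      obtain ⟨w, rfl⟩ := Quot.surjective (hq l) z
      change trans ρ P q hq (leOfHom fk') (q l w) = q k' ⟨x, hk'⟩ at hz'
      rw [trans_apply] at hz'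
      exact leOfHom fk (mem_of_eq ρ P q hq l.1 l.2.2 _ _ (by rw [homOfLE_val]; exact w.2) hz')
    · intro hx
      exact ⟨q k ⟨x, hx⟩, (hp' k ⟨x, hx⟩).symm⟩
  have hcov : ∀ y : (colimit Φ : Scheme.{u}), ∃ k, y ∈ (c k).opensRange := fun y => by
    obtain ⟨k, y', rfl⟩ := Scheme.IsLocallyDirected.ι_jointly_surjective Φ y
    exact ⟨k, y', rfl⟩
  have hP : ∀ k, IsPullback (q k) k.1.ι (c k) p := fun k =>
    IsOpenImmersion.isPullback _ _ _ _ (hp k) (by rw [hpre k, Scheme.Opens.opensRange_ι])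
  haveI : IsAffineHom p := by
    refine IsZariskiLocalAtTarget.of_openCover (P := @IsAffineHom) (Scheme.IsLocallyDirected.openCover Φ) fun k => ?_
    show IsAffineHom (pullback.snd p (c k))
    haveI := (hq k).affine
    rw [← (hP k).flip.isoPullback_inv_snd]
    infer_instance
  have pinv : ∀ g : G, (ρ g).hom ≫ p = p := fun g => Scheme.hom_ext_of_forall _ _ fun x => by
    obtain ⟨k, hk⟩ := hcovX x
    refine ⟨k.1, hk, ?_⟩
    rw [← reassoc_of% (act_spec ρ k g), hp, reassoc_of% (hq k).inv g]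
  refine ⟨colimit Φ, p, QuotLocal.of_cover ρ p pinv fun y => ?_⟩
  obtain ⟨k, hk⟩ := hcov y
  let V := (c k).opensRange
  obtain ⟨ρV, hρV⟩ := Quot.exists_restrict_action ρ (p ⁻¹ᵁ V) (fun g => SGA1.preimage_le_of_inv _ _ pinv g V)
  refine ⟨V, ρV, hk, hρV, ?_⟩
  let ψ := X.isoOfEq (hpre k)
  have hψ : ψ.hom ≫ k.1.ι = (p ⁻¹ᵁ V).ι := Scheme.isoOfEq_hom_ι _ _
  have hk' := QuotLocal.of_iso (hq k) ψ ρV (fun g => by
    rw [← cancel_mono k.1.ι, Category.assoc, Category.assoc, hψ, act_spec, reassoc_of% hψ, hρV]) _ rfl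
  have hVq : p ∣_ V = (ψ.hom ≫ q k) ≫ (c k).isoOpensRange.hom := by
    rw [← cancel_mono V.ι, morphismRestrict_ι, Category.assoc, Category.assoc, Scheme.Hom.isoOpensRange_hom_ι, ← hp, reassoc_of% hψ]
  rw [hVq]
  exact of_iso_target hk' (c k).isoOpensRange

end Groth.Agent.H6.QuotExists
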