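import Mathlib
import Groth.Prelude.Def_SGA1
import Groth.Agent.Lib.H6.Quot
import Groth.Agent.Lib.H6.Galois

set_option autoImplicit false
set_option linter.all false
set_option backward.isDefEq.respectTransparency.types false

/-! Quotients of schemes by finite groups: Galois theory on affine pieces. -/

universe u

open CategoryTheory CategoryTheory.Limits AlgebraicGeometry TopologicalSpace

namespace Groth.Agent.H6.QuotGalois

variable {X Y : Scheme.{u}} {G : Type u} [Group G] [Finite G] {ρ : G →* Aut X} {p : X ⟶ Y}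

theorem exists_sep_of_unramified (hp : SGA1.IsQuot ρ p) {Z : Scheme.{u}} (q : Y ⟶ Z) (f : X ⟶ Z) (hq : p ≫ q = f)
    [FormallyUnramified f] [LocallyOfFiniteType f] {W : Z.Opens} (hW : IsAffineOpen W) {V : Y.Opens} (hV : IsAffineOpen V)
    (e : V ≤ q ⁻¹ᵁ W) :
    letI := Quot.action hp V
    ∃ c : G → G → Γ(X, p ⁻¹ᵁ V), Galois.Sep c := by
  haveI := hp.affine
  letI := Quot.action hp V
  letI : Algebra Γ(Y, V) Γ(X, p ⁻¹ᵁ V) := (p.app V).hom.toAlgebra
  letI : Algebra Γ(Z, W) Γ(X, p ⁻¹ᵁ V) := (q.appLE W V e ≫ p.app V).hom.toAlgebra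
  have hc : (q.appLE W V e ≫ p.app V) = f.appLE W (p ⁻¹ᵁ V) (hq ▸ Scheme.Hom.preimage_mono p e) := by
    subst hq
    rw [Scheme.Hom.app_eq_appLE, Scheme.Hom.appLE_comp_appLE]
  haveI : SMulCommClass G Γ(Z, W) Γ(X, p ⁻¹ᵁ V) := ⟨fun g r s => by
    simp only [Algebra.smul_def, Quot.smul_eq, map_mul]
    exact congrArg (· * _) (Quot.act_app hp V g⁻¹ _)⟩
  haveI : Algebra.FormallyUnramified Γ(Z, W) Γ(X, p ⁻¹ᵁ V) := by
    show (q.appLE W V e ≫ p.app V).hom.FormallyUnramified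
    rw [hc]
    exact HasRingHomProperty.appLE (P := @FormallyUnramified) f inferInstance ⟨W, hW⟩ ⟨_, hV.preimage p⟩ _
  haveI : Algebra.FiniteType Γ(Z, W) Γ(X, p ⁻¹ᵁ V) := by
    show (q.appLE W V e ≫ p.app V).hom.FiniteType
    rw [hc]
    exact LocallyOfFiniteType.finiteType_appLE f hW (hV.preimage p) _
  exact Galois.exists_sep G Γ(Z, W) Γ(X, p ⁻¹ᵁ V)

theorem etale_app (hp : SGA1.IsQuot ρ p) (V : Y.Opens) {c : G → G → Γ(X, p ⁻¹ᵁ V)}
    (hc : letI := Quot.action hp V; Galois.Sep c) : (p.app V).hom.Etale := by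
  letI := Quot.action hp V
  letI : Algebra Γ(Y, V) Γ(X, p ⁻¹ᵁ V) := (p.app V).hom.toAlgebra
  haveI := Quot.smulCommClass hp V
  haveI := Quot.isInvariant hp V
  haveI : FaithfulSMul Γ(Y, V) Γ(X, p ⁻¹ᵁ V) := (faithfulSMul_iff_algebraMap_injective _ _).2 (hp.injective V)
  exact Galois.etale (B := Γ(Y, V)) hc

theorem etale_of_cover (hp : SGA1.IsQuot ρ p)
    (h : ∀ y : Y, ∃ V : Y.Opens, IsAffineOpen V ∧ y ∈ V ∧
      (letI := Quot.action hp V; ∃ c : G → G → Γ(X, p ⁻¹ᵁ V), Galois.Sep c)) : Etale p := by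
  haveI := hp.affine
  have hloc : RingHom.HoldsForLocalizationAway RingHom.Etale := fun R S _ _ _ r _ => by
    show RingHom.Etale (algebraMap R S)
    rw [RingHom.etale_algebraMap]
    exact Algebra.Etale.of_isLocalizationAway r
  rw [HasRingHomProperty.iff_exists_appLE (P := @Etale)
    (RingHom.Etale.stableUnderComposition.stableUnderCompositionWithLocalizationAway hloc).1]
  intro x
  obtain ⟨V, hV, hyV, c, hc⟩ := h (p x)
  refine ⟨⟨V, hV⟩, ⟨p ⁻¹ᵁ V, hV.preimage p⟩, hyV, le_rfl, ?_⟩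
  rw [← Scheme.Hom.app_eq_appLE]
  exact etale_app hp V hc

theorem etale_of_unramified (hp : SGA1.IsQuot ρ p) {Z : Scheme.{u}} (q : Y ⟶ Z) (f : X ⟶ Z) (hq : p ≫ q = f)
    [FormallyUnramified f] [LocallyOfFiniteType f] : Etale p := by
  refine etale_of_cover hp fun y => ?_
  obtain ⟨W, hW, hyW, -⟩ := exists_isAffineOpen_mem_and_subset (X := Z) (x := q y) (U := ⊤) trivial
  obtain ⟨V, hV, hyV, hVW⟩ := exists_isAffineOpen_mem_and_subset (X := Y) (x := y) (U := q ⁻¹ᵁ W) hyW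
  exact ⟨V, hV, hyV, exists_sep_of_unramified hp q f hq hW hV hVW⟩

end Groth.Agent.H6.QuotGalois
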