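import Mathlib
import Groth.Prelude.Def_SGA1
import Groth.Agent.Lib.H6.Quot
import Groth.Agent.Lib.H6.Galois
import Groth.Agent.Lib.H6.QuotGalois

set_option autoImplicit false
set_option linter.all false
set_option backward.isDefEq.respectTransparency.types false

/-! Quotients by free actions of finite groups: `∐_G X ≅ X ×_Y X`. -/

universe u

open CategoryTheory CategoryTheory.Limits AlgebraicGeometry TopologicalSpace

namespace Groth.Agent.H6.QuotFree

theorem sep_of_free {G A : Type u} [Group G] [CommRing A] [MulSemiringAction G A] [DecidableEq G]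
    (hfree : ∀ g : G, g ≠ 1 → Ideal.span (Set.range fun a : A => g • a - a) = ⊤) :
    Galois.Sep (fun h g : G => if h = g then (1 : A) else 0) := by
  refine ⟨fun h g => by split <;> simp, fun h g a => by split <;> simp_all, fun h g => ?_⟩
  split
  · simp
  · rename_i hne
    rw [sub_zero]
    have htop := hfree (g * h⁻¹) (fun e => hne (mul_inv_eq_one.1 e).symm)
    have hle : Ideal.span (Set.range fun a : A => (g * h⁻¹) • a - a) ≤ Ideal.span (Set.range fun a : A => g • a - h • a) :=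
      Ideal.span_le.2 (by rintro _ ⟨a, rfl⟩; exact Ideal.subset_span ⟨h⁻¹ • a, by simp [mul_smul]⟩)
    exact hle (htop ▸ Submodule.mem_top)

variable {X Y : Scheme.{u}} {G : Type u} [Group G] [Finite G] {ρ : G →* Aut X} {p : X ⟶ Y}

/-- geometric freeness. -/
def GeomFree (ρ : G →* Aut X) : Prop :=
  ∀ (K : Type u) [Field K] [IsAlgClosed K] (ξ : Spec (CommRingCat.of K) ⟶ X) (g : G), ξ ≫ (ρ g).hom = ξ → g = 1

theorem geom_act (hp : SGA1.IsQuot ρ p) (V : Y.Opens) (hU : IsAffineOpen (p ⁻¹ᵁ V)) {K : CommRingCat.{u}}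
    (α : Γ(X, p ⁻¹ᵁ V) ⟶ K) (g : G) :
    (Spec.map α ≫ hU.fromSpec) ≫ (ρ g).hom = Spec.map (CommRingCat.ofHom (Quot.act hp V g) ≫ α) ≫ hU.fromSpec := by
  rw [Spec.map_comp, Category.assoc, Category.assoc, ← IsAffineOpen.SpecMap_appLE_fromSpec (ρ g).hom hU hU
    (SGA1.preimage_le_of_inv ρ p hp.inv g V)]
  rfl

theorem span_eq_top (hp : SGA1.IsQuot ρ p) (hfree : GeomFree ρ) (V : Y.Opens) (hU : IsAffineOpen (p ⁻¹ᵁ V)) (g : G) (hg : g ≠ 1) :
    letI := Quot.action hp V
    Ideal.span (Set.range fun a : Γ(X, p ⁻¹ᵁ V) => g • a - a) = ⊤ := by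
  letI := Quot.action hp V
  by_contra h
  obtain ⟨m, hm, hle⟩ := Ideal.exists_le_maximal _ h
  haveI := hm
  letI : Field (Γ(X, p ⁻¹ᵁ V) ⧸ m) := Ideal.Quotient.field m
  let K := AlgebraicClosure (Γ(X, p ⁻¹ᵁ V) ⧸ m)
  let α : Γ(X, p ⁻¹ᵁ V) ⟶ CommRingCat.of K := CommRingCat.ofHom ((algebraMap (Γ(X, p ⁻¹ᵁ V) ⧸ m) K).comp (Ideal.Quotient.mk m))
  have h1 : CommRingCat.ofHom (Quot.act hp V g⁻¹) ≫ α = α := by
    ext a
    show algebraMap (Γ(X, p ⁻¹ᵁ V) ⧸ m) K (Ideal.Quotient.mk m (Quot.act hp V g⁻¹ a)) = algebraMap (Γ(X, p ⁻¹ᵁ V) ⧸ m) K (Ideal.Quotient.mk m a)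
    exact congrArg _ (Ideal.Quotient.eq.2 (hle (Ideal.subset_span ⟨a, rfl⟩)))
  have h2 := geom_act hp V hU α g⁻¹
  rw [h1] at h2
  exact hg (inv_eq_one.1 (hfree K _ g⁻¹ h2))

theorem etale (hp : SGA1.IsQuot ρ p) (hfree : GeomFree ρ) : Etale p := by
  classical
  haveI := hp.affine
  refine QuotGalois.etale_of_cover hp fun y => ?_
  obtain ⟨V, hV, hyV, -⟩ := exists_isAffineOpen_mem_and_subset (X := Y) (x := y) (U := ⊤) trivial
  letI := Quot.action hp V
  exact ⟨V, hV, hyV, _, sep_of_free (span_eq_top hp hfree V (hV.preimage p))⟩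

/-- free actions are simply transitive on geometric fibres. -/
theorem transitive (hp : SGA1.IsQuot ρ p) (hfree : GeomFree ρ) (K : Type u) [Field K]
    (a b : Spec (CommRingCat.of K) ⟶ X) (h : a ≫ p = b ≫ p) : ∃ g : G, b = a ≫ (ρ g).hom := by
  classical
  haveI := hp.affine
  let k₀ : Spec (CommRingCat.of K) := IsLocalRing.closedPoint K
  obtain ⟨V, hV, hyV, -⟩ := exists_isAffineOpen_mem_and_subset (X := Y) (x := p (a k₀)) (U := ⊤) trivial
  have hU := hV.preimage p
  have hfac : ∀ c : Spec (CommRingCat.of K) ⟶ X, p (c k₀) ∈ V → ∃ α : Γ(X, p ⁻¹ᵁ V) ⟶ CommRingCat.of K, c = Spec.map α ≫ hU.fromSpec := by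
    intro c hc
    have hr : Set.range c ⊆ Set.range hU.fromSpec := by
      rw [hU.range_fromSpec]
      rintro _ ⟨k, rfl⟩
      rw [Subsingleton.elim k k₀]
      exact hc
    refine ⟨Spec.preimage (IsOpenImmersion.lift hU.fromSpec c hr), ?_⟩
    rw [Spec.map_preimage, IsOpenImmersion.lift_fac]
  obtain ⟨α, hα⟩ := hfac a hyV
  obtain ⟨β, hβ⟩ := hfac b (by rw [← Scheme.Hom.comp_apply, ← h]; exact hyV)
  have hB : p.app V ≫ α = p.app V ≫ β := by
    apply Spec.map_injective
    rw [← cancel_mono hV.fromSpec, Spec.map_comp, Spec.map_comp, Category.assoc, Category.assoc,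
      Quot.fromSpec_app hp hV hU, ← Category.assoc, ← Category.assoc, ← hα, ← hβ, h]
  letI := Quot.action hp V
  letI : Algebra Γ(Y, V) Γ(X, p ⁻¹ᵁ V) := (p.app V).hom.toAlgebra
  letI : Algebra Γ(Y, V) K := (p.app V ≫ α).hom.toAlgebra
  haveI := Quot.smulCommClass hp V
  haveI := Quot.isInvariant hp V
  haveI : FaithfulSMul Γ(Y, V) Γ(X, p ⁻¹ᵁ V) := (faithfulSMul_iff_algebraMap_injective _ _).2 (hp.injective V)
  let α' : Γ(X, p ⁻¹ᵁ V) →ₐ[Γ(Y, V)] K := { α.hom with commutes' := fun r => rfl }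
  let β' : Γ(X, p ⁻¹ᵁ V) →ₐ[Γ(Y, V)] K := { β.hom with
    commutes' := fun r => (congrArg (fun k : Γ(Y, V) ⟶ CommRingCat.of K => k.hom r) hB).symm }
  let μ := Algebra.TensorProduct.lift α' β' fun _ _ => mul_comm _ _
  have bij := Galois.bijective_of_free (B := Γ(Y, V)) (G := G) (span_eq_top hp hfree V hU)
  obtain ⟨g, hg⟩ : ∃ g : G, ∀ t, Galois.ev (B := Γ(Y, V)) g t = 0 → μ t = 0 := by
    by_contra hne
    push Not at hne
    choose t ht0 ht1 using hne
    cases nonempty_fintype G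
    have hP : ∏ g, μ (t g) ≠ 0 := Finset.prod_ne_zero_iff.2 fun g _ => ht1 g
    apply hP
    rw [← map_prod, show (∏ g, t g) = 0 from bij.1 (funext fun g => ?_), map_zero]
    simp only [map_prod, map_zero]
    exact Finset.prod_eq_zero (Finset.mem_univ g) (ht0 g)
  have hb : ∀ x, β x = α (g • x) := fun x => by
    have h0 : μ ((1 : Γ(X, p ⁻¹ᵁ V)) ⊗ₜ[Γ(Y, V)] x - (g • x) ⊗ₜ[Γ(Y, V)] (1 : Γ(X, p ⁻¹ᵁ V))) = 0 := hg _ (by simp)
    simp only [μ, map_sub, Algebra.TensorProduct.lift_tmul, map_one, one_mul, mul_one, sub_eq_zero] at h0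
    exact h0
  refine ⟨g⁻¹, ?_⟩
  rw [hα, hβ, geom_act hp V hU α g⁻¹]
  congr 2
  ext x
  exact hb x

theorem isIso_desc (hp : SGA1.IsQuot ρ p) (hfree : GeomFree ρ) :
    IsIso (Sigma.desc (fun g : G => pullback.lift (𝟙 X) (ρ g).hom ((Category.id_comp p).trans (hp.inv g).symm)) :
      (∐ fun _ : G => X) ⟶ pullback p p) := by
  haveI := etale hp hfree
  let φ : G → (X ⟶ pullback p p) := fun g => pullback.lift (𝟙 X) (ρ g).hom ((Category.id_comp p).trans (hp.inv g).symm)
  haveI : ∀ g, IsOpenImmersion (φ g) := fun g => by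
    have : φ g = pullback.diagonal p ≫ pullback.map p p p p (𝟙 X) (ρ g).hom (𝟙 Y) (by simp)
        (by rw [Category.comp_id]; exact (hp.inv g).symm) := by
      apply pullback.hom_ext
      · simp only [φ, pullback.map, Category.assoc]
        erw [pullback.lift_fst, pullback.lift_fst, pullback.diagonal_fst_assoc]
      · simp only [φ, pullback.map, Category.assoc]
        erw [pullback.lift_snd, pullback.lift_snd, pullback.diagonal_snd_assoc]
    rw [this]
    infer_instance
  have hdisj : ∀ g h : G, g ≠ h → Disjoint (Set.range (φ g)) (Set.range (φ h)) := by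
    intro g h hne
    rw [Set.disjoint_left]
    intro z hz hz'
    let κ : CommRingCat.{u} := (pullback p p).residueField z
    let K := AlgebraicClosure κ
    let ζ : Spec (CommRingCat.of K) ⟶ pullback p p :=
      Spec.map (CommRingCat.ofHom (algebraMap κ K)) ≫ (pullback p p).fromSpecResidueField z
    have hr : ∀ k : G, z ∈ Set.range (φ k) → Set.range ζ ⊆ Set.range (φ k) := by
      rintro k hk _ ⟨s, rfl⟩
      have : ζ s = z := by
        simp only [ζ, Scheme.Hom.comp_apply]
        exact (pullback p p).fromSpecResidueField_apply z _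
      rwa [this]
    have h1 := IsOpenImmersion.lift_fac (φ g) ζ (hr g hz)
    have h2 := IsOpenImmersion.lift_fac (φ h) ζ (hr h hz')
    set ξ := IsOpenImmersion.lift (φ g) ζ (hr g hz)
    set η := IsOpenImmersion.lift (φ h) ζ (hr h hz')
    have e := h1.trans h2.symm
    have ef := congrArg (· ≫ pullback.fst p p) e
    have es := congrArg (· ≫ pullback.snd p p) e
    simp only [φ, Category.assoc, pullback.lift_fst, Category.comp_id] at ef
    simp only [φ, Category.assoc, pullback.lift_snd, ← ef] at es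
    apply hne
    have : (ξ ≫ (ρ g).hom) ≫ (ρ (h * g⁻¹)).hom = ξ ≫ (ρ h).hom := by
      rw [map_mul, Category.assoc]
      simp [Aut.Aut_mul_def, map_inv, Aut.Aut_inv_def]
    rw [← es] at this
    exact (mul_inv_eq_one.1 (hfree K _ _ this)).symm
  have : IsOpenImmersion (Sigma.desc φ) := isOpenImmersion_sigmaDesc _ φ (fun g h hne => hdisj g h hne)
  have : Surjective (Sigma.desc φ) := ⟨fun z => by
    let κ : CommRingCat.{u} := (pullback p p).residueField z
    let K := AlgebraicClosure κ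
    let ζ : Spec (CommRingCat.of K) ⟶ pullback p p :=
      Spec.map (CommRingCat.ofHom (algebraMap κ K)) ≫ (pullback p p).fromSpecResidueField z
    obtain ⟨g, hg⟩ := transitive hp hfree K (ζ ≫ pullback.fst p p) (ζ ≫ pullback.snd p p)
      ((Category.assoc _ _ _).trans ((congrArg (ζ ≫ ·) pullback.condition).trans (Category.assoc _ _ _).symm))
    have e : ζ = (ζ ≫ pullback.fst p p) ≫ φ g := by
      apply pullback.hom_ext
      · rw [Category.assoc (ζ ≫ pullback.fst p p) (φ g)]
        simp only [φ]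
        rw [pullback.lift_fst, Category.comp_id]
      · rw [Category.assoc (ζ ≫ pullback.fst p p) (φ g)]
        simp only [φ]
        rw [pullback.lift_snd]
        exact hg
    refine ⟨Sigma.ι (fun _ : G => X) g ((ζ ≫ pullback.fst p p) (IsLocalRing.closedPoint K)), ?_⟩
    rw [← Scheme.Hom.comp_apply, Sigma.ι_desc, ← Scheme.Hom.comp_apply, ← e]
    simp only [ζ, Scheme.Hom.comp_apply]
    exact (pullback p p).fromSpecResidueField_apply z _⟩
  exact (isIso_iff_isOpenImmersion_and_surjective _).2 ⟨‹_›, ‹_›⟩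

end Groth.Agent.H6.QuotFree
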