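import Mathlib

set_option autoImplicit false
set_option linter.all false
set_option backward.isDefEq.respectTransparency.types false
universe u

open TensorProduct

namespace Groth.Agent.H6.Radicial

/-- Maps to fields agreeing on the base agree. -/
def Cond (R S : Type u) [CommRing R] [CommRing S] [Algebra R S] : Prop :=
  ∀ (K : Type u) [Field K] (g₁ g₂ : S →+* K), g₁.comp (algebraMap R S) = g₂.comp (algebraMap R S) → g₁ = g₂

variable {R S R' : Type u} [CommRing R] [CommRing S] [CommRing R'] [Algebra R S] [Algebra R R']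

theorem cond_of_radicial
    (hinj : Function.Injective (PrimeSpectrum.comap (algebraMap R S)))
    (hpi : ∀ (q : Ideal S) [q.IsPrime] (x : q.ResidueField), ∃ n : ℕ,
      x ^ (ringExpChar (q.comap (algebraMap R S)).ResidueField) ^ n ∈
        Set.range (Ideal.ResidueField.map (q.comap (algebraMap R S)) q (algebraMap R S) rfl)) :
    Cond R S := by
  intro K _ g₁ g₂ h
  let q : Ideal S := RingHom.ker g₁
  haveI : q.IsPrime := RingHom.ker_isPrime g₁
  haveI : (RingHom.ker g₂).IsPrime := RingHom.ker_isPrime g₂
  have hk : q = RingHom.ker g₂ := by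
    refine congrArg PrimeSpectrum.asIdeal (hinj (a₁ := ⟨q, inferInstance⟩) (a₂ := ⟨RingHom.ker g₂, inferInstance⟩)
      (PrimeSpectrum.ext ?_))
    show (RingHom.ker g₁).comap (algebraMap R S) = (RingHom.ker g₂).comap (algebraMap R S)
    rw [RingHom.comap_ker, RingHom.comap_ker, h]
  let e₁ : q.ResidueField →+* K := Ideal.ResidueField.lift q g₁ le_rfl fun s hs => isUnit_iff_ne_zero.2 hs
  let e₂ : q.ResidueField →+* K := Ideal.ResidueField.lift q g₂ hk.le fun s hs =>
    isUnit_iff_ne_zero.2 fun h0 => hs (hk ▸ h0)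
  let p := q.comap (algebraMap R S)
  let j := Ideal.ResidueField.map p q (algebraMap R S) rfl
  have he : e₁.comp j = e₂.comp j := by
    refine Ideal.ResidueField.ringHom_ext (RingHom.ext fun r => ?_)
    simp only [RingHom.comp_apply, j, Ideal.ResidueField.map_algebraMap, e₁, e₂, Ideal.ResidueField.lift_algebraMap]
    exact RingHom.congr_fun h r
  have heq : e₁ = e₂ := RingHom.ext fun x => by
    obtain ⟨n, y, hy⟩ := hpi q x
    haveI : ExpChar K (ringExpChar p.ResidueField) := expChar_of_injective_ringHom (e₁.comp j).injective _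
    apply iterateFrobenius_inj K (ringExpChar p.ResidueField) n
    rw [iterateFrobenius_def, iterateFrobenius_def, ← map_pow, ← map_pow, ← hy]
    exact RingHom.congr_fun he y
  refine RingHom.ext fun s => ?_
  have := RingHom.congr_fun heq (algebraMap S q.ResidueField s)
  simpa [e₁, e₂] using this

theorem Cond.baseChange (h : Cond R S) : Cond R' (R' ⊗[R] S) := by
  intro K _ g₁ g₂ hg
  refine Algebra.TensorProduct.ringHom_ext hg ?_
  refine h K _ _ (RingHom.ext fun r => ?_)
  simp only [RingHom.comp_apply]
  have h1 : (Algebra.TensorProduct.includeRight (R := R) (A := R') (B := S)).toRingHom (algebraMap R S r) =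
      algebraMap R' (R' ⊗[R] S) (algebraMap R R' r) := by
    rw [← IsScalarTower.algebraMap_apply R R' (R' ⊗[R] S)]
    exact (Algebra.TensorProduct.includeRight (R := R) (A := R') (B := S)).commutes r
  rw [h1]
  exact RingHom.congr_fun hg _

theorem injective_of_cond (h : Cond R S) : Function.Injective (PrimeSpectrum.comap (algebraMap R S)) := by
  rintro ⟨q₁, hq₁⟩ ⟨q₂, hq₂⟩ he
  have hp : q₁.comap (algebraMap R S) = q₂.comap (algebraMap R S) := congrArg PrimeSpectrum.asIdeal he
  let p := q₁.comap (algebraMap R S)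
  let j₁ := Ideal.ResidueField.map p q₁ (algebraMap R S) rfl
  let j₂ := Ideal.ResidueField.map p q₂ (algebraMap R S) hp
  letI := j₁.toAlgebra
  letI := j₂.toAlgebra
  let T := q₁.ResidueField ⊗[p.ResidueField] q₂.ResidueField
  obtain ⟨m, hm⟩ := Ideal.exists_maximal T
  letI : Field (T ⧸ m) := Ideal.Quotient.field m
  let π₁ : q₁.ResidueField →+* T ⧸ m := (Ideal.Quotient.mk m).comp Algebra.TensorProduct.includeLeftRingHom
  let π₂ : q₂.ResidueField →+* T ⧸ m := (Ideal.Quotient.mk m).comp
    ((Algebra.TensorProduct.includeRight : q₂.ResidueField →ₐ[p.ResidueField] T) : q₂.ResidueField →+* T)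
  have hg := h (T ⧸ m) (π₁.comp (algebraMap S _)) (π₂.comp (algebraMap S _)) (RingHom.ext fun r => by
    simp only [RingHom.comp_apply]
    rw [← Ideal.ResidueField.map_algebraMap p q₁ (algebraMap R S) rfl r,
      ← Ideal.ResidueField.map_algebraMap p q₂ (algebraMap R S) hp r]
    show Ideal.Quotient.mk m ((algebraMap p.ResidueField q₁.ResidueField _) ⊗ₜ 1) =
      Ideal.Quotient.mk m (1 ⊗ₜ (algebraMap p.ResidueField q₂.ResidueField _))
    exact congrArg _ (((Algebra.TensorProduct.includeLeft (S := p.ResidueField) : q₁.ResidueField →ₐ[p.ResidueField] T).commutes _).trans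
      ((Algebra.TensorProduct.includeRight : q₂.ResidueField →ₐ[p.ResidueField] T).commutes _).symm))
  refine PrimeSpectrum.ext (Ideal.ext fun s => ?_)
  show s ∈ q₁ ↔ s ∈ q₂
  rw [← Ideal.algebraMap_residueField_eq_zero (I := q₁), ← Ideal.algebraMap_residueField_eq_zero (I := q₂),
    ← map_eq_zero π₁, ← map_eq_zero π₂]
  exact iff_of_eq (congrArg (· = (0 : T ⧸ m)) (RingHom.congr_fun hg s))

theorem pow_mem_of_cond (h : Cond R S) (q : Ideal S) [q.IsPrime] (x : q.ResidueField) :
    ∃ n : ℕ, x ^ (ringExpChar (q.comap (algebraMap R S)).ResidueField) ^ n ∈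
        Set.range (Ideal.ResidueField.map (q.comap (algebraMap R S)) q (algebraMap R S) rfl) := by
  let p := q.comap (algebraMap R S)
  letI := (Ideal.ResidueField.map p q (algebraMap R S) rfl).toAlgebra
  haveI : IsPurelyInseparable p.ResidueField q.ResidueField := by
    rw [isPurelyInseparable_iff_subsingleton_emb]
    refine ⟨fun σ₁ σ₂ => AlgHom.coe_ringHom_injective (Ideal.ResidueField.ringHom_ext ?_)⟩
    refine h _ _ _ (RingHom.ext fun r => ?_)
    simp only [RingHom.comp_apply]
    rw [← Ideal.ResidueField.map_algebraMap p q (algebraMap R S) rfl r]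
    exact (σ₁.commutes _).trans (σ₂.commutes _).symm
  obtain ⟨n, y, hy⟩ := IsPurelyInseparable.pow_mem p.ResidueField (ringExpChar p.ResidueField) x
  exact ⟨n, y, hy⟩

end Groth.Agent.H6.Radicial
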