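import Mathlib
import Groth.Agent.Lib.LRelFP

set_option autoImplicit false
set_option maxHeartbeats 1000000
set_option synthInstance.maxHeartbeats 200000

universe u
open MvPolynomial

namespace Groth.Agent.H6RelFPLocal

variable {R A : Type u} [CommRing R] [CommRing A] [Algebra R A] {n : ℕ}
  (α : MvPolynomial (Fin n) R →ₐ[R] A) (hα : Function.Surjective α)

include hα in
/-- finite presentation of `M_f` over `R[x]_g` does not depend on the presentation of `A_f` -/
theorem step (M : Type u) [AddCommGroup M] [Module A M] [Module (MvPolynomial (Fin n) R) M]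
    (hsm : ∀ (a : MvPolynomial (Fin n) R) (m : M), a • m = α a • m)
    (g : MvPolynomial (Fin n) R) (f : A) (hgf : α g = f) {k : ℕ}
    (γ : MvPolynomial (Fin k) R →ₐ[R] Localization.Away f) (hγ : Function.Surjective γ) :
    Module.FinitePresentation (Localization.Away g) (LocalizedModule.Away g M) ↔
      @Module.FinitePresentation (MvPolynomial (Fin k) R) (LocalizedModule (Submonoid.powers f) M) _ _
        (Module.compHom (LocalizedModule (Submonoid.powers f) M) γ.toRingHom) := by
  subst hgf
  let Mf := LocalizedModule (Submonoid.powers (α g)) M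
  let Af := Localization.Away (α g)
  let Pg := Localization.Away g
  let a₀ : MvPolynomial (Fin n) R →ₐ[R] Af := (IsScalarTower.toAlgHom R A Af).comp α
  have hu : IsUnit (a₀ g) := IsLocalization.Away.algebraMap_isUnit (α g)
  let ρ : Pg →ₐ[R] Af :=
    IsLocalization.liftAlgHom (M := Submonoid.powers g) (f := a₀) (fun y => by
      obtain ⟨_, j, rfl⟩ := y
      show IsUnit (a₀ (g ^ j))
      rw [map_pow]; exact hu.pow j)
  have hρ : ∀ q, ρ (algebraMap _ Pg q) = a₀ q := fun q => IsLocalization.lift_eq _ q
  have hρs : Function.Surjective ρ := by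
    intro y
    obtain ⟨⟨a, ⟨_, j, rfl⟩⟩, hy⟩ := IsLocalization.surj (Submonoid.powers (α g)) y
    obtain ⟨q, rfl⟩ := hα a
    refine ⟨IsLocalization.mk' Pg q (⟨g ^ j, j, rfl⟩ : Submonoid.powers g), ?_⟩
    apply ((hu.pow j)).mul_left_injective
    show ρ _ * a₀ g ^ j = y * a₀ g ^ j
    rw [← map_pow a₀, ← hρ, ← map_mul, IsLocalization.mk'_spec, hρ]
    refine Eq.trans hy.symm ?_
    rw [hρ, map_pow a₀, map_pow]
    rfl
  letI : Algebra (MvPolynomial (Fin n) R) A := α.toRingHom.toAlgebra
  haveI : IsScalarTower (MvPolynomial (Fin n) R) A M := ⟨fun a b m => by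
    rw [hsm, smul_smul]; rfl⟩
  have hMf : ∀ (a : MvPolynomial (Fin n) R) (x : Mf), a • x = α a • x := fun a x =>
    (IsScalarTower.algebraMap_smul A a x).symm
  letI mG : Module Pg Mf := Module.compHom Mf ρ.toRingHom
  haveI : IsScalarTower (MvPolynomial (Fin n) R) Pg Mf := ⟨fun a c x => by
    show ρ (a • c) • x = a • (ρ c • x)
    rw [hMf, Algebra.smul_def, map_mul, hρ, mul_smul]
    exact algebraMap_smul Af (α a) (ρ c • x)⟩
  let mk := LocalizedModule.mkLinearMap (Submonoid.powers (α g)) M
  haveI hloc : IsLocalizedModule (Submonoid.powers (algebraMap (MvPolynomial (Fin n) R) A g)) mk :=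
    (inferInstance : IsLocalizedModule (Submonoid.powers (α g)) mk)
  haveI : IsLocalizedModule (Submonoid.powers g) (mk.restrictScalars (MvPolynomial (Fin n) R)) :=
    IsLocalizedModule.restrictScalars_powers g mk
  let e := (IsLocalizedModule.iso (Submonoid.powers g) (mk.restrictScalars (MvPolynomial (Fin n) R))).extendScalarsOfIsLocalization
    (Submonoid.powers g) Pg
  have h1 : Module.FinitePresentation Pg (LocalizedModule.Away g M) ↔ Module.FinitePresentation Pg Mf :=
    ⟨fun _ => Module.FinitePresentation.of_equiv e, fun _ => Module.FinitePresentation.of_equiv e.symm⟩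
  refine h1.trans ?_
  haveI : Algebra.FinitePresentation (MvPolynomial (Fin n) R) Pg := IsLocalization.Away.finitePresentation g
  haveI : Algebra.FinitePresentation R Pg := Algebra.FinitePresentation.trans R (MvPolynomial (Fin n) R) Pg
  obtain ⟨N, π, hπ, hker⟩ := (Algebra.FinitePresentation.out (R := R) (A := Pg))
  let ζ : MvPolynomial (Fin N) R →ₐ[R] Af := ρ.comp π
  letI : Algebra (MvPolynomial (Fin N) R) Pg := π.toRingHom.toAlgebra
  letI mN : Module (MvPolynomial (Fin N) R) Mf := Module.compHom Mf ζ.toRingHom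
  haveI : IsScalarTower (MvPolynomial (Fin N) R) Pg Mf := ⟨fun a c x => by
    show ρ (π a * c) • x = ρ (π a) • (ρ c • x)
    rw [map_mul, mul_smul]⟩
  haveI : Module.FinitePresentation (MvPolynomial (Fin N) R) Pg :=
    Module.finitePresentation_of_surjective (Algebra.linearMap (MvPolynomial (Fin N) R) Pg) hπ (by
      have : LinearMap.ker (Algebra.linearMap (MvPolynomial (Fin N) R) Pg) = RingHom.ker π.toRingHom := by
        ext t; rfl
      rw [this]; exact hker)
  refine (LRelFP.iff_of_finite (MvPolynomial (Fin N) R) Pg Mf).symm.trans ?_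
  exact LRelFP.main (A := Af) (B := Af) Mf ζ (hρs.comp hπ) γ hγ

include hα in
theorem main (M : Type u) [AddCommGroup M] [Module A M] {r : ℕ} (f : Fin r → A)
    (hf : Ideal.span (Set.range f) = ⊤) (k : Fin r → ℕ)
    (γ : ∀ i, MvPolynomial (Fin (k i)) R →ₐ[R] Localization.Away (f i))
    (hγ : ∀ i, Function.Surjective (γ i)) :
    @Module.FinitePresentation (MvPolynomial (Fin n) R) M _ _ (Module.compHom M α.toRingHom) ↔
      ∀ i, @Module.FinitePresentation (MvPolynomial (Fin (k i)) R) (LocalizedModule (Submonoid.powers (f i)) M) _ _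
        (Module.compHom (LocalizedModule (Submonoid.powers (f i)) M) (γ i).toRingHom) := by
  letI mP : Module (MvPolynomial (Fin n) R) M := Module.compHom M α.toRingHom
  have hsm : ∀ (a : MvPolynomial (Fin n) R) (m : M), a • m = α a • m := fun _ _ => rfl
  choose g hg using fun i => hα (f i)
  constructor
  · intro h i
    exact (step α hα M hsm (g i) (f i) (hg i) (γ i) (hγ i)).1 inferInstance
  · intro h
    obtain ⟨c, hc⟩ := Ideal.mem_span_range_iff_exists_fun.1 (hf ▸ Submodule.mem_top : (1 : A) ∈ Ideal.span (Set.range f))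
    choose d hd using fun i => hα (c i)
    let h₀ := 1 - ∑ i, d i * g i
    have h₀z : α h₀ = 0 := by simp [h₀, hd, hg, hc]
    refine Module.FinitePresentation.of_localizationSpan (insert h₀ (Set.range g)) ?_ ?_
    · rw [Ideal.eq_top_iff_one]
      have h1 : (1 : MvPolynomial (Fin n) R) = h₀ + ∑ i, d i * g i := by simp [h₀]
      rw [h1]
      exact Ideal.add_mem _ (Ideal.subset_span (Set.mem_insert _ _))
        (Ideal.sum_mem _ fun i _ => Ideal.mul_mem_left _ _ (Ideal.subset_span (Set.mem_insert_of_mem _ ⟨i, rfl⟩)))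
    · rintro ⟨x, hx⟩
      rcases hx with rfl | ⟨i, rfl⟩
      · have hss : Subsingleton (LocalizedModule.Away h₀ M) := by
          refine LocalizedModule.subsingleton_iff.2 fun m => ⟨h₀, Submonoid.mem_powers _, ?_⟩
          rw [hsm, h₀z, zero_smul]
        show Module.FinitePresentation (Localization.Away h₀) (LocalizedModule.Away h₀ M)
        exact Module.finitePresentation_of_surjective (0 : (Fin 0 → Localization.Away h₀) →ₗ[Localization.Away h₀] LocalizedModule.Away h₀ M) (fun y => ⟨0, Subsingleton.elim _ _⟩)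
          (IsNoetherian.noetherian _)
      · exact (step α hα M hsm (g i) (f i) (hg i) (γ i) (hγ i)).2 (h i)

end Groth.Agent.H6RelFPLocal
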