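import Mathlib
import Groth.Agent.Lib.H6.ExactElem

set_option autoImplicit false
set_option linter.style.haveILetI false
set_option backward.isDefEq.respectTransparency.types false
set_option maxHeartbeats 1000000
universe v u

namespace Groth.Agent.H6RR

open CategoryTheory Limits

variable {A : Type u} [Category.{v} A] [Abelian A]

local notation "Φ" => Abelian.FreydMitchell.functor A

instance : (Abelian.FreydMitchell.functor A).Additive := Functor.additive_of_preserves_binary_products _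

theorem quasiIso_of {K L : CochainComplex A ℤ} (φ : K ⟶ L)
    (h1 : ∀ n (x : (Φ).obj (K.X n)), ((Φ).map (K.d n (n + 1))).hom x = 0 →
      (∃ l, ((Φ).map (L.d (n - 1) n)).hom l = ((Φ).map (φ.f n)).hom x) →
      ∃ y, ((Φ).map (K.d (n - 1) n)).hom y = x)
    (h2 : ∀ n (l : (Φ).obj (L.X n)), ((Φ).map (L.d n (n + 1))).hom l = 0 →
      ∃ x, ((Φ).map (K.d n (n + 1))).hom x = 0 ∧
        ∃ l', ((Φ).map (L.d (n - 1) n)).hom l' = l - ((Φ).map (φ.f n)).hom x) : QuasiIso φ := by
  refine ⟨fun n => ?_⟩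
  have hprev : (ComplexShape.up ℤ).prev n = n - 1 := CochainComplex.prev ℤ n
  have hnext : (ComplexShape.up ℤ).next n = n + 1 := CochainComplex.next ℤ n
  have cyc : ∀ (C : CochainComplex A ℤ) (x : (Φ).obj (C.X n)), ((Φ).map (C.d n (n + 1))).hom x = 0 →
      ∃ y, ((Φ).map (C.iCycles n)).hom y = x := fun C x hx =>
    H6El.exists_preimage Φ (ShortComplex.mk (C.iCycles n) (C.d n (n + 1)) (C.iCycles_d n (n + 1)))
      (ShortComplex.exact_of_f_is_kernel _ (C.cyclesIsKernel n (n + 1) hnext)) x hx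
  have bd : ∀ (C : CochainComplex A ℤ) y, ((Φ).map (C.homologyπ n)).hom y = 0 →
      ∃ z, ((Φ).map (C.toCycles (n - 1) n)).hom z = y := fun C y hy =>
    H6El.exists_preimage Φ (ShortComplex.mk (C.toCycles (n - 1) n) (C.homologyπ n) (C.toCycles_comp_homologyπ (n - 1) n))
      (ShortComplex.exact_of_g_is_cokernel _ (C.homologyIsCokernel (n - 1) n hprev)) y hy
  have natπ : ∀ y, ((Φ).map (HomologicalComplex.homologyMap φ n)).hom (((Φ).map (K.homologyπ n)).hom y) =
      ((Φ).map (L.homologyπ n)).hom (((Φ).map (HomologicalComplex.cyclesMap φ n)).hom y) := fun y => by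
    rw [← H6El.map_comp' Φ, HomologicalComplex.homologyπ_naturality, H6El.map_comp' Φ]
  have nati : ∀ y, ((Φ).map (L.iCycles n)).hom (((Φ).map (HomologicalComplex.cyclesMap φ n)).hom y) =
      ((Φ).map (φ.f n)).hom (((Φ).map (K.iCycles n)).hom y) := fun y => by
    rw [← H6El.map_comp' Φ, HomologicalComplex.cyclesMap_i, H6El.map_comp' Φ]
  have cd : ∀ (C : CochainComplex A ℤ) y,
      ((Φ).map (C.d n (n + 1))).hom (((Φ).map (C.iCycles n)).hom y) = 0 := fun C y =>
    H6El.apply_of_comp_eq_zero Φ (C.iCycles_d n (n + 1)) y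
  rw [quasiIsoAt_iff_isIso_homologyMap]
  haveI : Mono (HomologicalComplex.homologyMap φ n) := H6El.mono_of Φ _ ((injective_iff_map_eq_zero _).2 fun h hh => by
    obtain ⟨y, rfl⟩ := H6El.surj Φ (K.homologyπ n) h
    rw [natπ] at hh
    obtain ⟨z, hz⟩ := bd L _ hh
    obtain ⟨w, hw⟩ := h1 n _ (cd K y) ⟨z, by rw [← nati, ← hz, ← H6El.map_comp' Φ, HomologicalComplex.toCycles_i]⟩
    have : y = ((Φ).map (K.toCycles (n - 1) n)).hom w := H6El.inj Φ (K.iCycles n) (by
      rw [← H6El.map_comp' Φ, HomologicalComplex.toCycles_i, hw])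
    rw [this]
    exact H6El.apply_of_comp_eq_zero Φ (K.toCycles_comp_homologyπ _ _) w)
  haveI : Epi (HomologicalComplex.homologyMap φ n) := H6El.epi_of Φ _ fun h => by
    obtain ⟨yl, rfl⟩ := H6El.surj Φ (L.homologyπ n) h
    obtain ⟨x, hx, l', hl'⟩ := h2 n _ (cd L yl)
    obtain ⟨y, rfl⟩ := cyc K x hx
    refine ⟨((Φ).map (K.homologyπ n)).hom y, ?_⟩
    have : yl = ((Φ).map (HomologicalComplex.cyclesMap φ n)).hom y + ((Φ).map (L.toCycles (n - 1) n)).hom l' :=
      H6El.inj Φ (L.iCycles n) (by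
        rw [map_add, nati, ← H6El.map_comp' Φ (L.toCycles (n - 1) n), HomologicalComplex.toCycles_i, hl', add_sub_cancel])
    rw [natπ, this, map_add, H6El.apply_of_comp_eq_zero Φ (L.toCycles_comp_homologyπ _ _), add_zero]
  exact isIso_of_mono_of_epi _

variable (K : CochainComplex A ℤ)

/-- partial resolution ending at degree `m` -/
structure Stage (m : ℤ) where
  prev : A
  cur : A
  d : prev ⟶ cur
  α : K.X m ⟶ cur

variable (Y : A → A) (ι : ∀ X, X ⟶ Y X)

variable {K}

noncomputable def rel {m : ℤ} (n : ℤ) (s : Stage K m) : s.prev ⊞ K.X m ⟶ s.cur ⊞ K.X n :=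
  biprod.desc (s.d ≫ biprod.inl) (s.α ≫ biprod.inl - K.d m n ≫ biprod.inr)

noncomputable def stepd {m : ℤ} (n : ℤ) (s : Stage K m) : s.cur ⟶ Y (cokernel (rel n s)) :=
  biprod.inl ≫ cokernel.π (rel n s) ≫ ι _

noncomputable abbrev step {m : ℤ} (n : ℤ) (s : Stage K m) : Stage K n :=
  ⟨s.cur, Y (cokernel (rel n s)), stepd Y ι n s, biprod.inr ≫ cokernel.π (rel n s) ≫ ι _⟩

theorem rel_comp {m : ℤ} (n : ℤ) (s : Stage K m) :
    s.d ≫ stepd Y ι n s = 0 ∧ s.α ≫ stepd Y ι n s = K.d m n ≫ (step Y ι n s).α := by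
  have h1 : biprod.inl ≫ rel n s ≫ cokernel.π (rel n s) ≫ ι _ = 0 := by simp
  have h2 : biprod.inr ≫ rel n s ≫ cokernel.π (rel n s) ≫ ι _ = 0 := by simp
  rw [rel, biprod.inl_desc_assoc] at h1
  rw [rel, biprod.inr_desc_assoc, Preadditive.sub_comp, sub_eq_zero] at h2
  simp only [Category.assoc] at h1 h2
  exact ⟨h1, h2⟩

theorem elem {m : ℤ} (n : ℤ) (s : Stage K m) [Mono (ι (cokernel (rel n s)))] (l : (Φ).obj s.cur) (k : (Φ).obj (K.X n))
    (h : ((Φ).map (stepd Y ι n s)).hom l + ((Φ).map (step Y ι n s).α).hom k = 0) :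
    ∃ a b, ((Φ).map s.d).hom a + ((Φ).map s.α).hom b = l ∧ -((Φ).map (K.d m n)).hom b = k := by
  have h' : ((Φ).map (cokernel.π (rel n s))).hom
      (((Φ).map biprod.inl).hom l + ((Φ).map biprod.inr).hom k) = 0 := by
    apply H6El.inj Φ (ι (cokernel (rel n s)))
    rw [map_zero, map_add, map_add, ← h]
    simp only [step, stepd, H6El.map_comp' Φ]
  obtain ⟨z, hz⟩ := H6El.exists_of_cokernel_π Φ _ _ h'
  refine ⟨((Φ).map biprod.fst).hom z, ((Φ).map biprod.snd).hom z, ?_, ?_⟩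
  · have := congrArg ((Φ).map (biprod.fst : s.cur ⊞ K.X n ⟶ _)).hom hz
    rw [map_add, ← H6El.map_comp' Φ, ← H6El.map_comp' Φ, ← H6El.map_comp' Φ, biprod.inl_fst, biprod.inr_fst,
      H6El.map_zero' Φ, add_zero, CategoryTheory.Functor.map_id] at this
    refine Eq.trans ?_ this
    have e : rel n s ≫ biprod.fst = biprod.fst ≫ s.d + biprod.snd ≫ s.α := by
      ext <;> simp [rel]
    rw [e, Functor.map_add, ← H6El.map_comp' Φ, ← H6El.map_comp' Φ]
    rfl
  · have := congrArg ((Φ).map (biprod.snd : s.cur ⊞ K.X n ⟶ _)).hom hz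
    rw [map_add, ← H6El.map_comp' Φ, ← H6El.map_comp' Φ, ← H6El.map_comp' Φ, biprod.inl_snd, biprod.inr_snd,
      H6El.map_zero' Φ, zero_add, CategoryTheory.Functor.map_id] at this
    refine Eq.trans ?_ this
    have e : rel n s ≫ biprod.snd = -(biprod.snd ≫ K.d m n) := by
      ext <;> simp [rel]
    rw [e, Functor.map_neg, ← H6El.map_comp' Φ]
    rfl

variable (K) in
/-- stages indexed by distance from the base -/
noncomputable def stage (Z : A) : ℕ → ∀ n : ℤ, Stage K n
  | 0, _ => ⟨Z, Z, 0, 0⟩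
  | k + 1, n => step Y ι n (stage Z k (n - 1))

theorem exists_res (I : A → Prop) (hI0 : ∃ Z : A, IsZero Z ∧ I Z)
    (hI : ∀ X : A, ∃ (Y : A) (ι : X ⟶ Y), I Y ∧ Mono ι) (K : CochainComplex A ℤ) (a : ℤ) [K.IsStrictlyGE a] :
    ∃ (L : CochainComplex A ℤ) (α : K ⟶ L), L.IsStrictlyGE a ∧ (∀ n, I (L.X n)) ∧ (∀ n, Mono (α.f n)) ∧ QuasiIso α := by
  obtain ⟨Z, hZ, hIZ⟩ := hI0
  choose Y ι hY hι using hI
  haveI := hι
  have zel : ∀ {X : A}, IsZero X → ∀ x : (Φ).obj X, x = 0 := fun {X} hX x => by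
    have := H6El.map_zero' Φ (X := X) (Y := X) x
    rw [show (0 : X ⟶ X) = 𝟙 X from hX.eq_of_src _ _, CategoryTheory.Functor.map_id] at this
    exact this
  let kk : ℤ → ℕ := fun n => (n - a + 1).toNat
  let st : ∀ n, Stage K n := fun n => stage K Y ι Z (kk n) n
  have hst : ∀ n, a - 1 ≤ n → st (n + 1) = step Y ι (n + 1) (st n) := fun n hn => by
    show stage K Y ι Z (kk (n + 1)) (n + 1) = step Y ι (n + 1) (stage K Y ι Z (kk n) n)
    rw [show kk (n + 1) = kk n + 1 by simp only [kk]; omega]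
    show step Y ι (n + 1) (stage K Y ι Z (kk n) (n + 1 - 1)) = _
    rw [show n + 1 - 1 = n by omega]
  have hbase : ∀ n, n < a → st n = ⟨Z, Z, 0, 0⟩ := fun n hn => by
    show stage K Y ι Z (kk n) n = _
    rw [show kk n = 0 by simp only [kk]; omega]
    rfl
  have hK : ∀ n, n < a → IsZero (K.X n) := fun n hn => K.isZero_of_isStrictlyGE a n hn
  have hZn : ∀ n, n < a → IsZero (st n).cur := fun n hn => by rw [hbase n hn]; exact hZ
  let dd : ∀ n, (st n).cur ⟶ (st (n + 1)).cur := fun n =>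
    if h : a - 1 ≤ n then stepd Y ι (n + 1) (st n) ≫ eqToHom (congrArg Stage.cur (hst n h).symm) else 0
  have basic : ∀ n (t : Stage K (n + 1)) (e : t = step Y ι (n + 1) (st n)),
      (st n).α ≫ stepd Y ι (n + 1) (st n) ≫ eqToHom (congrArg Stage.cur e.symm) = K.d n (n + 1) ≫ t.α ∧
      ∀ (p : ℤ) (t' : Stage K p) (e' : t' = step Y ι p t),
        (stepd Y ι (n + 1) (st n) ≫ eqToHom (congrArg Stage.cur e.symm)) ≫
          stepd Y ι p t ≫ eqToHom (congrArg Stage.cur e'.symm) = 0 := by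
    rintro n t rfl
    refine ⟨?_, ?_⟩
    · simp only [eqToHom_refl, Category.comp_id]
      exact (rel_comp Y ι (n + 1) (st n)).2
    · rintro p t' rfl
      simp only [eqToHom_refl, Category.comp_id]
      exact (rel_comp Y ι p (step Y ι (n + 1) (st n))).1
  have dd2 : ∀ n, dd n ≫ dd (n + 1) = 0 := by
    intro n
    by_cases h : a - 1 ≤ n
    · simp only [dd, dif_pos h, dif_pos (show a - 1 ≤ n + 1 by omega)]
      exact (basic n _ (hst n h)).2 _ _ (hst (n + 1) (by omega))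
    · exact (hZn n (by omega)).eq_of_src _ _
  let L : CochainComplex A ℤ := CochainComplex.of (fun n => (st n).cur) dd dd2
  have hLd : ∀ n, L.d n (n + 1) = dd n := fun n => by simp [L]
  have comm : ∀ n, (st n).α ≫ dd n = K.d n (n + 1) ≫ (st (n + 1)).α := by
    intro n
    by_cases h : a - 1 ≤ n
    · simp only [dd, dif_pos h]
      exact (basic n _ (hst n h)).1
    · exact (hK n (by omega)).eq_of_src _ _
  let φ : K ⟶ L :=
    { f := fun n => (st n).α
      comm' := fun i j hij => by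
        obtain rfl : i + 1 = j := hij
        rw [hLd]
        exact comm i }
  have ddel : ∀ n, a - 1 ≤ n → ∀ l k,
      ((Φ).map (dd n)).hom l + ((Φ).map (st (n + 1)).α).hom k = 0 →
      ∃ x b, ((Φ).map (st n).d).hom x + ((Φ).map (st n).α).hom b = l ∧ -((Φ).map (K.d n (n + 1))).hom b = k := by
    intro n hn
    simp only [dd, dif_pos hn]
    have : ∀ (t : Stage K (n + 1)) (e : t = step Y ι (n + 1) (st n)) l k,
        ((Φ).map (stepd Y ι (n + 1) (st n) ≫ eqToHom (congrArg Stage.cur e.symm))).hom l + ((Φ).map t.α).hom k = 0 →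
        ∃ x b, ((Φ).map (st n).d).hom x + ((Φ).map (st n).α).hom b = l ∧ -((Φ).map (K.d n (n + 1))).hom b = k := by
      rintro t rfl l k h
      simp only [eqToHom_refl, Category.comp_id] at h
      exact elem Y ι (n + 1) (st n) l k h
    exact this _ (hst n hn)
  have drange : ∀ n, a ≤ n → ∀ x, ∃ x', ((Φ).map (L.d (n - 1) n)).hom x' = ((Φ).map (st n).d).hom x := by
    intro n hn
    obtain ⟨q, rfl⟩ : ∃ q, q + 1 = n := ⟨n - 1, by omega⟩
    rw [show q + 1 - 1 = q by omega, hLd]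
    simp only [dd, dif_pos (show a - 1 ≤ q by omega)]
    have : ∀ (t : Stage K (q + 1)) (e : t = step Y ι (q + 1) (st q)) (x : (Φ).obj t.prev),
        ∃ x', ((Φ).map (stepd Y ι (q + 1) (st q) ≫ eqToHom (congrArg Stage.cur e.symm))).hom x' = ((Φ).map t.d).hom x := by
      rintro t rfl x
      exact ⟨x, by simp only [eqToHom_refl, Category.comp_id]⟩
    exact this _ (hst q (by omega))
  have inv : ∀ k n, kk n = k → ∀ x, (∃ l, ((Φ).map (L.d (n - 1) n)).hom l = ((Φ).map (st n).α).hom x) →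
      ∃ y, ((Φ).map (K.d (n - 1) n)).hom y = x := by
    intro k
    induction k with
    | zero =>
      intro n hn x _
      exact ⟨0, (map_zero _).trans (zel (hK n (by simp only [kk] at hn; omega)) x).symm⟩
    | succ k ih =>
      intro n hn x hex
      obtain ⟨q, rfl⟩ : ∃ q, q + 1 = n := ⟨n - 1, by omega⟩
      have hq : a - 1 ≤ q := by simp only [kk] at hn; omega
      rw [show q + 1 - 1 = q by omega] at hex ⊢
      obtain ⟨l, hl⟩ := hex
      rw [hLd] at hl
      obtain ⟨y, b, h1, h2⟩ := ddel q hq l (-x) (by rw [map_neg, hl, add_neg_cancel])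
      exact ⟨b, neg_injective h2⟩
  refine ⟨L, φ, ?_, fun n => ?_, fun n => ?_, quasiIso_of φ (fun n x _ h => inv _ n rfl x h) ?_⟩
  · rw [CochainComplex.isStrictlyGE_iff]
    exact fun i hi => hZn i hi
  · show I (st n).cur
    by_cases h : n < a
    · rw [hbase n h]; exact hIZ
    · obtain ⟨q, rfl⟩ : ∃ q, q + 1 = n := ⟨n - 1, by omega⟩
      rw [hst q (by omega)]
      exact hY _
  · show Mono (st n).α
    by_cases h : n < a
    · exact ⟨fun _ _ _ => (hK n h).eq_of_tgt _ _⟩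
    obtain ⟨q, rfl⟩ : ∃ q, q + 1 = n := ⟨n - 1, by omega⟩
    refine H6El.mono_of Φ _ ((injective_iff_map_eq_zero _).2 fun x hx => ?_)
    obtain ⟨y, b, h1, h2⟩ := ddel q (by omega) 0 x (by rw [map_zero, zero_add, hx])
    rcases lt_or_ge q a with hqa | hqa
    · have hb : b = 0 := zel (hK q hqa) b
      rw [← h2, hb, map_zero, neg_zero]
    · obtain ⟨y', hy'⟩ := drange q hqa y
      obtain ⟨w, hw⟩ := inv _ q rfl b ⟨-y', by
        rw [map_neg, hy']
        exact neg_eq_of_add_eq_zero_right h1⟩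
      rw [← h2, ← hw, H6El.apply_of_comp_eq_zero Φ (K.d_comp_d _ _ _), neg_zero]
  · intro n l hl
    rcases lt_or_ge n a with hna | hna
    · exact ⟨0, map_zero _, 0, by rw [map_zero, map_zero, sub_zero, zel (hZn n hna) l]⟩
    rw [hLd] at hl
    obtain ⟨y, b, h1, h2⟩ := ddel n (by omega) l 0 (by rw [map_zero, add_zero, hl])
    obtain ⟨y', hy'⟩ := drange n hna y
    exact ⟨b, neg_eq_zero.1 h2, y', by rw [hy', ← h1]; exact (add_sub_cancel_right _ _).symm⟩

end Groth.Agent.H6RR
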