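import Mathlib
import Groth.Prelude.Def_CInt

set_option autoImplicit false
set_option linter.all false
set_option maxHeartbeats 1000000
set_option backward.isDefEq.respectTransparency.types false

/-! Flat preimages of schematically dense opens. -/

universe u

open CategoryTheory CategoryTheory.Limits AlgebraicGeometry TopologicalSpace Opposite

open scoped TensorProduct

namespace Groth.Agent.H6.SchDenseFlat

theorem eq_zero_of_flat {A B : Type u} [CommRing A] [CommRing B] [Algebra A B] [Module.Flat A B] {ι : Type} [Fintype ι] [DecidableEq ι]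
    (c : ι → A) (h : ∀ a : A, (∀ i, c i * a = 0) → a = 0) (b : B) (hb : ∀ i, algebraMap A B (c i) * b = 0) : b = 0 := by
  let μ : A →ₗ[A] (ι → A) := LinearMap.pi fun i => LinearMap.lsmul A A (c i)
  have hμ : Function.Injective μ := by
    rw [injective_iff_map_eq_zero]
    exact fun a ha => h a fun i => congrFun ha i
  have h1 := Module.Flat.lTensor_preserves_injective_linearMap (M := B) μ hμ
  have h2 : TensorProduct.piScalarRight A A B ι (LinearMap.lTensor B μ (b ⊗ₜ[A] (1 : A))) = 0 := by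
    funext i
    simp [μ, TensorProduct.piScalarRight_apply, Algebra.smul_def, hb i]
  have h3 : b ⊗ₜ[A] (1 : A) = 0 := h1 (((LinearEquiv.map_eq_zero_iff _).1 h2).trans (map_zero _).symm)
  simpa using congrArg (TensorProduct.rid A B) h3

variable {X X' : Scheme.{u}} (f : X' ⟶ X) [Flat f] (V : X.Opens) (hV : CInt.IsSchematicallyDense V)
include hV

theorem affine_case {U : X.Opens} (hU : IsAffineOpen U) {U' : X'.Opens} (hU' : IsAffineOpen U') (e : U' ≤ f ⁻¹ᵁ U)
    (hc : IsCompact ((U ⊓ V : X.Opens) : Set X)) (s : Γ(X', U'))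
    (hs : X'.presheaf.map (homOfLE (inf_le_left : U' ⊓ f ⁻¹ᵁ V ≤ U')).op s = 0) : s = 0 := by
  classical
  choose g hgV hxg using fun x : ((U ⊓ V : X.Opens) : Set X) => hU.exists_basicOpen_le (V := V) ⟨x.1, x.2.2⟩ x.2.1
  obtain ⟨t, ht⟩ := hc.elim_finite_subcover (fun x => (X.basicOpen (g x) : Set X)) (fun x => (X.basicOpen (g x)).isOpen)
    fun x hx => Set.mem_iUnion.2 ⟨⟨x, hx⟩, hxg _⟩
  let φ := (f.appLE U U' e).hom
  have hN : ∀ i, ∃ N : ℕ, φ (g i) ^ N * s = 0 := by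
    intro i
    have hle : X'.basicOpen (φ (g i)) ≤ U' ⊓ f ⁻¹ᵁ V := by
      rw [Scheme.basicOpen_appLE]
      exact fun z hz => ⟨hz.1, hgV i hz.2⟩
    letI := (X'.presheaf.map (homOfLE (X'.basicOpen_le (φ (g i)))).op).hom.toAlgebra
    haveI : IsLocalization.Away (φ (g i)) Γ(X', X'.basicOpen (φ (g i))) := hU'.isLocalization_basicOpen _
    have h0 : algebraMap Γ(X', U') Γ(X', X'.basicOpen (φ (g i))) s = 0 := by
      show X'.presheaf.map (homOfLE (X'.basicOpen_le (φ (g i)))).op s = 0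
      rw [show (homOfLE (X'.basicOpen_le (φ (g i)))).op = (homOfLE (inf_le_left : U' ⊓ f ⁻¹ᵁ V ≤ U')).op ≫ (homOfLE hle).op from rfl,
        Functor.map_comp, CommRingCat.comp_apply, hs, map_zero]
    obtain ⟨⟨_, N, rfl⟩, hN⟩ := (IsLocalization.map_eq_zero_iff (Submonoid.powers (φ (g i))) _ s).1 h0
    exact ⟨N, hN⟩
  choose N hN using hN
  obtain ⟨n, e0⟩ : ∃ n, ∃ e : Fin n ≃ {x // x ∈ t}, True := ⟨_, (Fintype.equivFin _).symm, trivial⟩
  obtain ⟨e0, -⟩ := e0
  letI := φ.toAlgebra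
  haveI : Module.Flat Γ(X, U) Γ(X', U') := Flat.flat_appLE f hU hU' e
  refine eq_zero_of_flat (A := Γ(X, U)) (fun i : Fin n => g (e0 i).1 ^ N (e0 i).1) (fun a ha => ?_) s (fun i => by
    rw [map_pow]; exact hN _)
  refine hV U ((show X.presheaf.map (homOfLE (inf_le_left : U ⊓ V ≤ U)).op a = 0 from ?_).trans (map_zero _).symm)
  refine TopCat.Sheaf.eq_of_locally_eq' X.sheaf (fun i : Fin n => X.basicOpen (g (e0 i).1) ⊓ (U ⊓ V)) (U ⊓ V)
    (fun i => homOfLE inf_le_right) (fun z hz => ?_) _ _ fun i => ?_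
  · obtain ⟨x, hx, hzx⟩ := Set.mem_iUnion₂.1 (ht hz)
    exact Opens.mem_iSup.2 ⟨e0.symm ⟨x, hx⟩, by rw [Equiv.apply_symm_apply]; exact ⟨hzx, hz⟩⟩
  · refine Eq.trans ?_ (map_zero _).symm
    have hu : IsUnit (X.presheaf.map (homOfLE (X.basicOpen_le (g (e0 i).1))).op (g (e0 i).1 ^ N (e0 i).1)) := by
      rw [map_pow]; exact (RingedSpace.isUnit_res_basicOpen _ _).pow _
    have h1 := congrArg (X.presheaf.map (homOfLE (X.basicOpen_le (g (e0 i).1))).op) (ha i)
    rw [map_mul, map_zero, hu.mul_right_eq_zero] at h1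
    show X.presheaf.map _ (X.presheaf.map _ a) = 0
    rw [← CommRingCat.comp_apply, ← Functor.map_comp,
      show (homOfLE (inf_le_left : U ⊓ V ≤ U)).op ≫ (homOfLE (inf_le_right : X.basicOpen (g (e0 i).1) ⊓ (U ⊓ V) ≤ U ⊓ V)).op =
        (homOfLE (X.basicOpen_le (g (e0 i).1))).op ≫ (homOfLE (inf_le_left : X.basicOpen (g (e0 i).1) ⊓ (U ⊓ V) ≤ X.basicOpen (g (e0 i).1))).op from rfl,
      Functor.map_comp, CommRingCat.comp_apply, h1, map_zero]

theorem isSchematicallyDense_preimage (hc : ∀ U : X.Opens, IsAffineOpen U → IsCompact ((U ⊓ V : X.Opens) : Set X)) :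
    CInt.IsSchematicallyDense (f ⁻¹ᵁ V) := by
  intro W
  rw [injective_iff_map_eq_zero]
  intro s hs
  choose U hU hxU _hUtop using fun x : W => exists_isAffineOpen_mem_and_subset (X := X) (x := f x.1) (U := ⊤) trivial
  choose U' hU' hxU' hU'le using fun x : W => exists_isAffineOpen_mem_and_subset (X := X') (x := x.1) (U := W ⊓ f ⁻¹ᵁ U x) ⟨x.2, hxU x⟩
  refine TopCat.Sheaf.eq_of_locally_eq' X'.sheaf U' W (fun x => homOfLE fun z hz => (hU'le x hz).1)
    (fun z hz => Opens.mem_iSup.2 ⟨⟨z, hz⟩, hxU' _⟩) _ _ fun x => ?_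
  refine Eq.trans ?_ (map_zero _).symm
  refine affine_case f V hV (hU x) (hU' x) (fun z hz => (hU'le x hz).2) (hc _ (hU x)) _ ?_
  show X'.presheaf.map _ (X'.presheaf.map (homOfLE _).op s) = 0
  rw [← CommRingCat.comp_apply, ← Functor.map_comp,
    show (homOfLE (show U' x ≤ W from fun z hz => (hU'le x hz).1)).op ≫ (homOfLE (inf_le_left : U' x ⊓ f ⁻¹ᵁ V ≤ U' x)).op =
      (homOfLE (inf_le_left : W ⊓ f ⁻¹ᵁ V ≤ W)).op ≫ (homOfLE (show U' x ⊓ f ⁻¹ᵁ V ≤ W ⊓ f ⁻¹ᵁ V from fun z hz => ⟨(hU'le x hz.1).1, hz.2⟩)).op from rfl,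
    Functor.map_comp, CommRingCat.comp_apply, hs, map_zero]

end Groth.Agent.H6.SchDenseFlat
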