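import Mathlib

/-! Finite intersections of valuation rings of a field, restricted to a subfield. -/

set_option autoImplicit false

namespace Groth.Agent.H6SP

open Finset

universe u v

theorem exists_modulus {k : Type u} [Field k] (ξ : k) :
    ∃ N : ℕ, 0 < N ∧ ∀ t : ℕ, ∑ j ∈ range (N * t + 1), ξ ^ j ≠ 0 := by
  by_cases h1 : ξ = 1
  · subst h1
    by_cases hc : ringChar k = 0
    · refine ⟨1, one_pos, fun t => ?_⟩
      haveI : CharP k 0 := hc ▸ ringChar.charP k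
      haveI : CharZero k := CharP.charP_to_charZero k
      simp only [one_pow, sum_const, card_range, nsmul_eq_mul, mul_one]
      exact Nat.cast_ne_zero.2 (by omega)
    · refine ⟨ringChar k, Nat.pos_of_ne_zero hc, fun t => ?_⟩
      simp
  · by_cases hfin : ∃ n, 0 < n ∧ ξ ^ n = 1
    · obtain ⟨n, hn, hξ⟩ := hfin
      refine ⟨n, hn, fun t h => ?_⟩
      have := geom_sum_mul ξ (n * t + 1)
      rw [h, zero_mul, pow_succ, pow_mul, hξ, one_pow, one_mul] at this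
      exact h1 (sub_eq_zero.1 this.symm)
    · push Not at hfin
      refine ⟨1, one_pos, fun t h => ?_⟩
      have := geom_sum_mul ξ (1 * t + 1)
      rw [h, zero_mul] at this
      exact hfin _ (Nat.succ_pos _) (sub_eq_zero.1 this.symm)

variable {L : Type u} [Field L]

theorem exists_modulus_val (O : ValuationSubring L) (x : L) :
    ∃ N : ℕ, 0 < N ∧ ∀ t : ℕ, 0 < t → (∑ j ∈ range (N * t + 1), x ^ j ≠ 0) ∧
      ∀ i ≤ N * t, x ^ i * (∑ j ∈ range (N * t + 1), x ^ j)⁻¹ ∈ O := by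
  by_cases hx : x ∈ O
  · obtain ⟨N, hN, hsum⟩ := exists_modulus (IsLocalRing.residue O ⟨x, hx⟩)
    refine ⟨N, hN, fun t _ => ?_⟩
    let S : O := ∑ j ∈ range (N * t + 1), (⟨x, hx⟩ : O) ^ j
    have hS : IsUnit S := (IsLocalRing.residue_ne_zero_iff_isUnit S).1 (by
      simp only [S, map_sum, map_pow]; exact hsum t)
    have hSx : (S : L) = ∑ j ∈ range (N * t + 1), x ^ j := by simp [S]
    obtain ⟨w, hw⟩ := hS
    have hinv : ((↑w⁻¹ : O) : L) * (S : L) = 1 := by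
      rw [← hw, ← MulMemClass.coe_mul, w.inv_mul]; rfl
    refine ⟨fun h => one_ne_zero (α := L) (by rw [← hinv, hSx, h, mul_zero]), fun i _ => ?_⟩
    rw [← hSx, inv_eq_of_mul_eq_one_left hinv]
    exact O.mul_mem _ _ (pow_mem hx i) (↑w⁻¹ : O).2
  · have hx' := hx
    replace hx := (O.mem_or_inv_mem x).resolve_left hx'
    refine ⟨1, one_pos, fun t _ => ?_⟩
    have hx0 : x ≠ 0 := fun h => hx' (h ▸ O.zero_mem)
    have hnu : ¬ IsUnit (⟨x⁻¹, hx⟩ : O) := by
      intro hu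
      obtain ⟨w, hw⟩ := hu
      have h1 : ((↑w⁻¹ : O) : L) * x⁻¹ = 1 := by
        have : ((↑w⁻¹ : O) * ⟨x⁻¹, hx⟩ : O) = 1 := by rw [← hw]; exact w.inv_mul
        simpa using congrArg Subtype.val this
      apply hx'
      rw [← (mul_inv_eq_one₀ hx0).1 h1]
      exact (↑w⁻¹ : O).2
    have hres : IsLocalRing.residue O ⟨x⁻¹, hx⟩ = 0 := by
      by_contra h
      exact hnu ((IsLocalRing.residue_ne_zero_iff_isUnit _).1 h)
    let U : O := ∑ j ∈ range (1 * t + 1), (⟨x⁻¹, hx⟩ : O) ^ j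
    have hU : IsUnit U := (IsLocalRing.residue_ne_zero_iff_isUnit U).1 (by
      simp only [U, map_sum, map_pow, hres]
      rw [sum_range_succ']
      simp)
    have hUx : (∑ j ∈ range (1 * t + 1), x ^ j) = x ^ (1 * t) * (U : L) := by
      simp only [U]
      push_cast
      rw [mul_sum, ← sum_range_reflect (fun j => x ^ j)]
      refine sum_congr rfl fun j hj => ?_
      rw [mem_range] at hj
      rw [inv_pow, ← div_eq_mul_inv, eq_div_iff (pow_ne_zero _ hx0), ← pow_add]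
      congr 1
      omega
    obtain ⟨w, hw⟩ := hU
    have hinv : ((↑w⁻¹ : O) : L) * (U : L) = 1 := by
      rw [← hw, ← MulMemClass.coe_mul, w.inv_mul]; rfl
    refine ⟨?_, fun i hi => ?_⟩
    · rw [hUx]
      exact mul_ne_zero (pow_ne_zero _ hx0)
        (fun h => one_ne_zero (α := L) (by rw [← hinv, h, mul_zero]))
    · rw [hUx, mul_inv_rev, inv_eq_of_mul_eq_one_left hinv, mul_left_comm]
      refine O.mul_mem _ _ (↑w⁻¹ : O).2 ?_
      rw [show 1 * t = i + (1 * t - i) by omega, pow_add, mul_inv, ← mul_assoc,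
        mul_inv_cancel₀ (pow_ne_zero _ hx0), one_mul, ← inv_pow]
      exact pow_mem hx _

variable {ι : Type v} [Finite ι] [Nonempty ι] (O : ι → ValuationSubring L) (K : Subfield L) (A : Subring L)

theorem key (hA : ∀ z, z ∈ A ↔ z ∈ K ∧ ∀ i, z ∈ O i) (x : L) (hx : x ∈ K) :
    ∃ (n : ℕ) (y : L), 0 < n ∧ y ≠ 0 ∧ (∀ j ≤ n, y * x ^ j ∈ A) ∧
      ∑ j ∈ range (n + 1), y * x ^ j = 1 := by
  cases nonempty_fintype ι
  choose N hN hNspec using fun i => exists_modulus_val (O i) x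
  refine ⟨∏ i, N i, (∑ j ∈ range ((∏ i, N i) + 1), x ^ j)⁻¹, prod_pos fun i _ => hN i, ?_⟩
  have hspec : ∀ i, (∑ j ∈ range ((∏ i, N i) + 1), x ^ j ≠ 0) ∧
      ∀ j ≤ ∏ i, N i, x ^ j * (∑ j ∈ range ((∏ i, N i) + 1), x ^ j)⁻¹ ∈ O i := by
    intro i
    classical
    have h := hNspec i (∏ l ∈ univ.erase i, N l) (prod_pos fun l _ => hN l)
    rwa [mul_prod_erase _ _ (mem_univ i)] at h
  have hne : ∑ j ∈ range ((∏ i, N i) + 1), x ^ j ≠ 0 := by
    obtain ⟨i⟩ := ‹Nonempty ι›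
    exact (hspec i).1
  refine ⟨inv_ne_zero hne, fun j hj => (hA _).2 ⟨?_, fun i => ?_⟩, ?_⟩
  · exact mul_mem (inv_mem (sum_mem fun l _ => pow_mem hx l)) (pow_mem hx j)
  · rw [mul_comm]; exact (hspec i).2 j hj
  · rw [← mul_sum, inv_mul_cancel₀ hne]

theorem frac (hA : ∀ z, z ∈ A ↔ z ∈ K ∧ ∀ i, z ∈ O i) (x : L) (hx : x ∈ K) :
    ∃ a b, a ∈ A ∧ b ∈ A ∧ b ≠ 0 ∧ x = a / b := by
  obtain ⟨n, y, hn, hy, hmem, -⟩ := key O K A hA x hx
  refine ⟨y * x ^ 1, y * x ^ 0, hmem 1 hn, hmem 0 (Nat.zero_le _), by simpa using hy, ?_⟩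
  simp [mul_div_cancel_left₀, hy]

theorem total (hA : ∀ z, z ∈ A ↔ z ∈ K ∧ ∀ i, z ∈ O i) (p : Ideal A) [p.IsPrime] (a b : A) :
    ∃ u v : A, u ∉ p ∧ (a * u = b * v ∨ b * u = a * v) := by
  have h1 : (1 : A) ∉ p := (Ideal.ne_top_iff_one p).1 (Ideal.IsPrime.ne_top ‹_›)
  by_cases hb : (b : L) = 0
  · exact ⟨1, 0, h1, Or.inr (by rw [mul_zero, mul_one]; exact Subtype.ext hb)⟩
  obtain ⟨n, y, hn, hy, hmem, hsum⟩ := key O K A hA ((a : L) / b)
    (div_mem ((hA _).1 a.2).1 ((hA _).1 b.2).1)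
  let z : Fin (n + 1) → A := fun j => ⟨_, hmem j (Nat.lt_succ_iff.1 j.2)⟩
  have hz : ∑ j, z j = 1 := Subtype.ext (by
    push_cast
    simp only [z]
    rw [Fin.sum_univ_eq_sum_range (fun j => y * ((a : L) / b) ^ j)]
    exact hsum)
  obtain ⟨j, hj⟩ : ∃ j, z j ∉ p := by
    by_contra h
    push Not at h
    exact h1 (hz ▸ sum_mem fun j _ => h j)
  by_cases hjn : (j : ℕ) < n
  · refine ⟨z j, ⟨_, hmem (j + 1) hjn⟩, hj, Or.inl (Subtype.ext ?_)⟩
    simp only [z, MulMemClass.coe_mul, pow_succ]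
    field_simp
  · obtain ⟨m, hm⟩ : ∃ m, (j : ℕ) = m + 1 := ⟨(j : ℕ) - 1, by omega⟩
    refine ⟨z j, ⟨_, hmem m (by omega)⟩, hj, Or.inr (Subtype.ext ?_)⟩
    simp only [z, MulMemClass.coe_mul, hm, pow_succ]
    field_simp

theorem finite_maximal (hA : ∀ z, z ∈ A ↔ z ∈ K ∧ ∀ i, z ∈ O i) : Finite (MaximalSpectrum A) := by
  classical
  cases nonempty_fintype ι
  let f : ∀ i, A →+* O i := fun i => A.subtype.codRestrict (O i).toSubring (fun a => ((hA _).1 a.2).2 i)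
  let c : ι → Ideal A := fun i => (IsLocalRing.maximalIdeal (O i)).comap (f i)
  have hc : ∀ M : MaximalSpectrum A, ∃ i, M.asIdeal = c i := by
    intro M
    have hsub : (M.asIdeal : Set A) ⊆ ⋃ i ∈ ((univ : Finset ι) : Set ι), (c i : Set A) := by
      intro a ha
      by_contra hno
      simp only [Set.mem_iUnion, SetLike.mem_coe, coe_univ, Set.mem_univ, exists_true_left,
        not_exists] at hno
      have hu : ∀ i, IsUnit (f i a) := fun i => by
        by_contra h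
        exact hno i h
      have ha0 : (a : L) ≠ 0 := by
        obtain ⟨i⟩ := ‹Nonempty ι›
        intro h
        exact (hu i).ne_zero (Subtype.ext h)
      have hinv : (a : L)⁻¹ ∈ A := (hA _).2 ⟨inv_mem ((hA _).1 a.2).1, fun i => by
        obtain ⟨w, hw⟩ := (hu i).exists_left_inv
        have h2 : (w : L) * a = 1 := congrArg Subtype.val hw
        rw [inv_eq_of_mul_eq_one_left h2]
        exact w.2⟩
      exact M.isMaximal.ne_top (Ideal.eq_top_of_isUnit_mem _ ha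
        (IsUnit.of_mul_eq_one ⟨_, hinv⟩ (Subtype.ext (mul_inv_cancel₀ ha0))))
    obtain ⟨i, -, hi⟩ := (Ideal.subset_union_prime (Classical.arbitrary ι) (Classical.arbitrary ι)
      (fun i _ _ _ => Ideal.IsPrime.comap (f i))).1 hsub
    exact ⟨i, M.isMaximal.eq_of_le (Ideal.IsPrime.comap (f i)).ne_top hi⟩
  choose g hg using hc
  exact Finite.of_injective g (fun M N h => MaximalSpectrum.ext (by rw [hg M, hg N, h]))

end Groth.Agent.H6SP
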