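import Mathlib.FieldTheory.IsSepClosed
import Mathlib.FieldTheory.IsAlgClosed.AlgebraicClosure
import Mathlib.RingTheory.Henselian
import Mathlib.RingTheory.IntegralClosure.IntegrallyClosed
import Mathlib.RingTheory.Ideal.GoingUp
import Mathlib.RingTheory.IntegralDomain
import Mathlib.RingTheory.LocalRing.ResidueField.Ideal
import Mathlib.Algebra.Polynomial.Lifts

set_option linter.all false
set_option autoImplicit false

/-! Normal domains with separably closed fraction field. -/

namespace Groth.Agent.H6.SepClosedNormal

universe u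

open Polynomial

variable (A : Type u) [CommRing A] [IsDomain A] [IsIntegrallyClosed A]
  (K : Type u) [Field K] [Algebra A K] [IsFractionRing A K] [IsSepClosed K]

include K in
theorem exists_root_of_separable (g : A[X]) (hg : g.Monic) (hd : g.natDegree ≠ 0)
    (hs : (g.map (algebraMap A K)).Separable) : ∃ a : A, g.eval a = 0 := by
  obtain ⟨x, hx⟩ := IsSepClosed.exists_root (g.map (algebraMap A K))
    (by
      intro h
      have := natDegree_eq_of_degree_eq_some h
      rw [hg.natDegree_map] at this
      exact hd this) hs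
  have hx' : Polynomial.aeval x g = 0 := by rwa [IsRoot.def, eval_map, ← aeval_def] at hx
  obtain ⟨a, rfl⟩ := IsIntegrallyClosed.algebraMap_eq_of_integral (R := A) (K := K) ⟨g, hg, hx'⟩
  refine ⟨a, IsFractionRing.injective A K ?_⟩
  rw [map_zero]
  rwa [Polynomial.aeval_algebraMap_apply, Polynomial.coe_aeval_eq_eval] at hx'

include K in
theorem exists_eval_mem (p : Ideal A) [p.IsPrime] (hp : p ≠ ⊥) (f : A[X]) (hf : f.Monic) (hd : f.natDegree ≠ 0) :
    ∃ a : A, f.eval a ∈ p := by
  classical
  by_cases h1 : f.natDegree = 1
  · refine ⟨-f.coeff 0, ?_⟩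
    rw [hf.eq_X_add_C h1]
    simp
  have h2 : (2 : ℕ) ≤ f.natDegree := by omega
  obtain ⟨c₀, hc₀, hc₀0⟩ := Submodule.exists_mem_ne_zero_of_ne_bot hp
  let L := AlgebraicClosure K
  let F := f.map (algebraMap A K)
  have hinj := IsFractionRing.injective A K
  suffices ∃ c ∈ p, ∃ e ∈ p, (F + C (algebraMap A K c) * X + C (algebraMap A K e)).Separable by
    obtain ⟨c, hc, e, he, hs⟩ := this
    have hdeg : (C c * X + C e).degree < f.degree :=
      degree_linear_le.trans_lt (by rw [degree_eq_natDegree hf.ne_zero]; exact_mod_cast h2)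
    obtain ⟨a, ha⟩ := exists_root_of_separable A K (f + (C c * X + C e)) (hf.add_of_left hdeg)
      (by
        rw [natDegree_add_eq_left_of_degree_lt hdeg]
        exact hd)
      (by simpa [F, add_assoc] using hs)
    refine ⟨a, ?_⟩
    simp only [eval_add, eval_mul, eval_C, eval_X] at ha
    rw [eq_neg_of_add_eq_zero_left ha]
    exact p.neg_mem (p.add_mem (p.mul_mem_right _ hc) he)
  have key : ∀ (G : K[X]), (∀ z : L, aeval z G = 0 → aeval z (derivative G) ≠ 0) → G.Separable := by
    intro G hG
    rw [separable_def]
    refine (Polynomial.isCoprime_iff_aeval_ne_zero_of_isAlgClosed K L G (derivative G)).2 fun z => ?_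
    by_cases hz : aeval z G = 0
    · exact Or.inr (hG z hz)
    · exact Or.inl hz
  by_cases hH : F - X * derivative F = 0
  · refine ⟨c₀, hc₀, c₀, hc₀, key _ (fun z hz hz' => ?_)⟩
    have e1 : aeval z F = z * aeval z (derivative F) := by
      have := congrArg (aeval z) hH
      simpa [sub_eq_zero] using this
    simp only [derivative_add, derivative_mul, derivative_C, derivative_X, map_add, map_mul, aeval_C, aeval_X,
      map_zero, zero_mul, zero_add, mul_one, map_one, add_zero] at hz hz'
    have : algebraMap K L (algebraMap A K c₀) = 0 := by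
      linear_combination hz - e1 - z * hz'
    exact hc₀0 (hinj (((algebraMap K L).injective (this.trans (map_zero _).symm)).trans (map_zero _).symm))
  · have hinf : {c : A | c ∈ p}.Infinite := by
      haveI : Infinite A := by
        by_contra hfin
        rw [not_infinite_iff_finite] at hfin
        letI := (Finite.isField_of_domain A).toField
        exact hp ((Ideal.eq_bot_or_top p).resolve_right (Ideal.IsPrime.ne_top inferInstance))
      exact Set.Infinite.mono (s := Set.range fun a => a * c₀) (by rintro _ ⟨a, rfl⟩; exact p.mul_mem_left _ hc₀)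
        (Set.infinite_range_of_injective (mul_left_injective₀ hc₀0))
    let bad : Set A := {c | ∃ z ∈ (F - X * derivative F).rootSet L,
      algebraMap K L (algebraMap A K c) = - aeval z (derivative F)}
    have hbad : bad.Finite := by
      have : bad ⊆ ⋃ z ∈ (F - X * derivative F).rootSet L,
          (fun c => algebraMap K L (algebraMap A K c)) ⁻¹' {- aeval z (derivative F)} := by
        rintro c ⟨z, hz, he⟩
        exact Set.mem_iUnion₂.2 ⟨z, hz, he⟩
      refine Set.Finite.subset ((Polynomial.rootSet_finite _ L).biUnion fun z _ => ?_) this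
      exact (Set.finite_singleton _).preimage (((algebraMap K L).injective.comp hinj).injOn)
    obtain ⟨c, hc, hcb⟩ := (hinf.diff hbad).nonempty
    refine ⟨c, hc, 0, p.zero_mem, key _ (fun z hz hz' => hcb ⟨z, ?_, ?_⟩)⟩
    all_goals
      simp only [derivative_add, derivative_mul, derivative_C, derivative_X, map_add, map_mul, aeval_C, aeval_X,
        map_zero, zero_mul, zero_add, mul_one, map_one, add_zero] at hz hz'
    · rw [mem_rootSet]
      refine ⟨hH, ?_⟩
      simp only [map_sub, map_mul, aeval_X]
      linear_combination hz - z * hz'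
    · linear_combination hz'

include K in
theorem isAlgClosed_residue [IsLocalRing A] (h : IsLocalRing.maximalIdeal A ≠ ⊥) :
    IsAlgClosed (IsLocalRing.ResidueField A) := by
  refine IsAlgClosed.of_exists_root _ fun q hq hirr => ?_
  obtain ⟨f, hf, hdeg, hmon⟩ := Polynomial.lifts_and_degree_eq_and_monic
    ((Polynomial.mem_lifts q).2 (Polynomial.map_surjective _ IsLocalRing.residue_surjective q)) hq
  have hd : f.natDegree ≠ 0 := fun h0 => by
    have := hirr.degree_pos
    rw [← hdeg, degree_eq_natDegree hmon.ne_zero, h0] at this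
    exact lt_irrefl _ this
  obtain ⟨a, ha⟩ := exists_eval_mem A K _ h f hmon hd
  refine ⟨IsLocalRing.residue A a, ?_⟩
  rw [← hf, eval_map, eval₂_at_apply, IsLocalRing.residue_eq_zero_iff]
  exact ha

theorem isAlgClosed_residueField [IsSepClosed (FractionRing A)] (p : Ideal A) [p.IsPrime] (hp : p ≠ ⊥) :
    IsAlgClosed p.ResidueField := by
  haveI : IsIntegrallyClosed (Localization.AtPrime p) :=
    isIntegrallyClosed_of_isLocalization (Localization.AtPrime p) p.primeCompl p.primeCompl_le_nonZeroDivisors
  refine isAlgClosed_residue (Localization.AtPrime p) (FractionRing A) fun h => hp ?_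
  rw [← Localization.AtPrime.comap_maximalIdeal (I := p), h, Ideal.under_def, ← RingHom.ker_eq_comap_bot]
  exact (RingHom.injective_iff_ker_eq_bot _).1 (IsLocalization.injective _ p.primeCompl_le_nonZeroDivisors)

include K in
theorem henselian [IsLocalRing A] : HenselianLocalRing A := by
  refine ⟨fun f hf a₀ h0 h1 => ?_⟩
  let L := AlgebraicClosure K
  haveI : FaithfulSMul A L := by
    rw [faithfulSMul_iff_algebraMap_injective, IsScalarTower.algebraMap_eq A K L]
    exact (algebraMap K L).injective.comp (IsFractionRing.injective A K)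
  let B := integralClosure A L
  have hinjB : Function.Injective (algebraMap A B) := fun x y hxy => FaithfulSMul.algebraMap_injective A L (congrArg B.val hxy)
  obtain ⟨M, hM, hMA⟩ := Ideal.exists_ideal_over_maximal_of_isIntegral (S := B) (IsLocalRing.maximalIdeal A)
    (by rw [(RingHom.injective_iff_ker_eq_bot _).1 hinjB]; exact bot_le)
  haveI := hM.isPrime
  have hmem : ∀ x : A, algebraMap A B x ∈ M ↔ x ∈ IsLocalRing.maximalIdeal A := fun x => by rw [← hMA]; rfl
  have hsp : (f.map (algebraMap A L)).Splits := IsAlgClosed.splits _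
  have hrint : ∀ r ∈ (f.map (algebraMap A L)).roots, r ∈ B := fun r hr =>
    ⟨f, hf, by rw [← eval_map]; exact (mem_roots'.1 hr).2⟩
  have hprodB : algebraMap A B (f.eval a₀) =
      (((f.map (algebraMap A L)).roots).attach.map fun r => algebraMap A B a₀ - ⟨r.1, hrint r.1 r.2⟩).prod := by
    refine Subtype.val_injective ?_
    show B.val (algebraMap A B (f.eval a₀)) = B.val _
    rw [map_multiset_prod, Multiset.map_map, AlgHom.commutes]
    have hp : algebraMap A L (f.eval a₀) = (((f.map (algebraMap A L)).roots).map fun r => algebraMap A L a₀ - r).prod := by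
      conv_lhs => rw [← eval₂_at_apply, ← eval_map, hsp.eq_prod_roots_of_monic (hf.map _), eval_multiset_prod]
      rw [Multiset.map_map]
      simp
    rw [hp]
    conv_lhs => rw [← Multiset.attach_map_val (f.map (algebraMap A L)).roots, Multiset.map_map]
    rfl
  obtain ⟨_, hmm, hrM⟩ := (hM.isPrime.multiset_prod_mem_iff_exists_mem _).1 (hprodB ▸ (hmem _).2 h0)
  obtain ⟨⟨r, hr⟩, -, rfl⟩ := Multiset.mem_map.1 hmm
  let rB : B := ⟨r, hrint r hr⟩
  have hfr : aeval rB f = 0 := Subtype.val_injective (by
    rw [Subalgebra.coe_zero, Polynomial.aeval_subalgebra_coe, aeval_def, ← eval_map]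
    exact (mem_roots'.1 hr).2)
  have hd1 : IsUnit (algebraMap A B (f.derivative.eval a₀)) := h1.map _
  have hsub : algebraMap A B (f.derivative.eval a₀) - aeval rB f.derivative ∈ M := by
    rw [← Polynomial.coe_aeval_eq_eval, ← Polynomial.aeval_algebraMap_apply]
    have h := M.mem_of_dvd (sub_dvd_eval_sub (algebraMap A B a₀) rB (f.derivative.map (algebraMap A B))) hrM
    rwa [eval_map, eval_map, ← aeval_def, ← aeval_def] at h
  have hdr : aeval rB f.derivative ≠ 0 := fun h => by
    rw [h, sub_zero] at hsub
    exact hM.ne_top (Ideal.eq_top_of_isUnit_mem _ hsub hd1)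
  have hdrL : aeval r (derivative (f.map (algebraMap A K))) ≠ 0 := by
    rw [derivative_map, aeval_map_algebraMap, show r = (rB : L) from rfl, ← Polynomial.aeval_subalgebra_coe]
    exact fun h => hdr (Subtype.val_injective h)
  have hrK : aeval r (f.map (algebraMap A K)) = 0 := by
    rw [aeval_map_algebraMap, aeval_def, ← eval_map]
    exact (mem_roots'.1 hr).2
  have hint : IsIntegral K r := ⟨f.map (algebraMap A K), hf.map _, by rw [← aeval_def]; exact hrK⟩
  have hsepr : (minpoly K r).Separable := by
    rw [separable_iff_derivative_ne_zero (minpoly.irreducible hint)]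
    intro h'
    obtain ⟨q, hq⟩ := minpoly.dvd K r hrK
    apply hdrL
    rw [hq, derivative_mul, h', zero_mul, zero_add, map_mul, minpoly.aeval, zero_mul]
  have hd : (minpoly K r).natDegree = 1 :=
    natDegree_eq_of_degree_eq_some (IsSepClosed.degree_eq_one_of_irreducible K (minpoly.irreducible hint) hsepr)
  obtain ⟨k, hk⟩ := (minpoly.natDegree_eq_one_iff.1 hd)
  have hkint : IsIntegral A k := (isIntegral_algHom_iff (IsScalarTower.toAlgHom A K L) (algebraMap K L).injective).1 (by
    show IsIntegral A (algebraMap K L k)
    rw [hk]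
    exact hrint r hr)
  obtain ⟨a, ha⟩ := IsIntegrallyClosed.algebraMap_eq_of_integral (R := A) (K := K) hkint
  have har : algebraMap A B a = rB := Subtype.val_injective (by
    show algebraMap A L a = r
    rw [IsScalarTower.algebraMap_apply A K L, ha, hk])
  refine ⟨a, ?_, ?_⟩
  · apply hinjB
    rw [map_zero, ← Polynomial.coe_aeval_eq_eval, ← Polynomial.aeval_algebraMap_apply, har, hfr]
  · rw [← hmem, map_sub, har]
    have := M.neg_mem hrM
    rwa [neg_sub] at this

end Groth.Agent.H6.SepClosedNormal
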