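import Mathlib

set_option autoImplicit false
set_option maxHeartbeats 1000000

universe u

open TopologicalSpace

namespace Groth.Agent.H6SerreProp

variable (R : Type u) [CommRing R] (M : Type u) [AddCommGroup M] [Module R M]

abbrev Bq (x : MaximalSpectrum R) : Submodule (R ⧸ x.asIdeal) (M ⧸ (x.asIdeal • ⊤ : Submodule R M)) :=
  Submodule.span (R ⧸ x.asIdeal)
    ((x.asIdeal • ⊤ : Submodule R M).mkQ '' {m : M | ∀ φ : M →ₗ[R] R, φ m ∈ x.asIdeal})

abbrev img (x : MaximalSpectrum R) (m : M) : (M ⧸ (x.asIdeal • ⊤ : Submodule R M)) ⧸ Bq R M x :=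
  (Bq R M x).mkQ ((x.asIdeal • ⊤ : Submodule R M).mkQ m)

variable {R M}

theorem img_add (x : MaximalSpectrum R) (a b : M) : img R M x (a + b) = img R M x a + img R M x b := by
  simp [img]

theorem img_smul (x : MaximalSpectrum R) (r : R) (m : M) :
    img R M x (r • m) = (Ideal.Quotient.mk x.asIdeal r) • img R M x m := rfl

theorem img_sum (x : MaximalSpectrum R) {ι : Type*} (t : Finset ι) (m : ι → M) :
    img R M x (∑ i ∈ t, m i) = ∑ i ∈ t, img R M x (m i) := by
  simp [img, map_sum]

theorem img_surjective (x : MaximalSpectrum R) : Function.Surjective (img R M x) :=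
  (Submodule.mkQ_surjective _).comp (Submodule.mkQ_surjective _)

theorem img_eq_zero_iff (x : MaximalSpectrum R) (m : M) :
    img R M x m = 0 ↔ ∀ φ : M →ₗ[R] R, φ m ∈ x.asIdeal := by
  constructor
  · intro h
    have h' : (x.asIdeal • ⊤ : Submodule R M).mkQ m ∈ Bq R M x := (Submodule.Quotient.mk_eq_zero _).1 h
    suffices key : ∀ z ∈ Bq R M x, ∀ m : M, (x.asIdeal • ⊤ : Submodule R M).mkQ m = z →
        ∀ φ : M →ₗ[R] R, φ m ∈ x.asIdeal from key _ h' m rfl
    have hsm : ∀ m : M, m ∈ (x.asIdeal • ⊤ : Submodule R M) → ∀ φ : M →ₗ[R] R, φ m ∈ x.asIdeal := by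
      intro m hm φ
      refine Submodule.smul_induction_on hm (fun r hr n _ => ?_) (fun a b ha hb => ?_)
      · rw [map_smul, smul_eq_mul]; exact Ideal.mul_mem_right _ _ hr
      · rw [map_add]; exact Ideal.add_mem _ ha hb
    have hdiff : ∀ m n : M, (x.asIdeal • ⊤ : Submodule R M).mkQ m = (x.asIdeal • ⊤ : Submodule R M).mkQ n →
        ∀ φ : M →ₗ[R] R, φ n ∈ x.asIdeal → φ m ∈ x.asIdeal := by
      intro m n hmn φ hn
      have hd := hsm (m - n) ((Submodule.Quotient.eq _).1 hmn) φ
      rw [map_sub] at hd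
      simpa using Ideal.add_mem _ hd hn
    intro z hz
    induction hz using Submodule.span_induction with
    | mem z hz =>
      obtain ⟨n, hn, rfl⟩ := hz
      exact fun m hm φ => hdiff m n hm φ (hn φ)
    | zero => exact fun m hm φ => hdiff m 0 (by rw [hm, map_zero]) φ (by simp)
    | add a b _ _ iha ihb =>
      intro m hm φ
      obtain ⟨a', rfl⟩ := Submodule.mkQ_surjective _ a
      obtain ⟨b', rfl⟩ := Submodule.mkQ_surjective _ b
      refine hdiff m (a' + b') (by rw [hm, map_add]) φ ?_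
      rw [map_add]
      exact Ideal.add_mem _ (iha a' rfl φ) (ihb b' rfl φ)
    | smul c a _ iha =>
      intro m hm φ
      obtain ⟨c', rfl⟩ := Ideal.Quotient.mk_surjective c
      obtain ⟨a', rfl⟩ := Submodule.mkQ_surjective _ a
      refine hdiff m (c' • a') (by rw [hm]; rfl) φ ?_
      rw [map_smul, smul_eq_mul]
      exact Ideal.mul_mem_left _ _ (iha a' rfl φ)
  · intro h
    exact (Submodule.Quotient.mk_eq_zero _).2 (Submodule.subset_span ⟨m, h, rfl⟩)

/-- independence at a point via minors -/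
theorem indep_iff (x : MaximalSpectrum R) {t : ℕ} (s : Fin t → M) :
    LinearIndependent (R ⧸ x.asIdeal) (fun i => img R M x (s i)) ↔
      ∃ f : Fin t → M →ₗ[R] R, (Matrix.of fun a b => f a (s b)).det ∉ x.asIdeal := by
  classical
  letI := Ideal.Quotient.field x.asIdeal
  let K := R ⧸ x.asIdeal
  let π := Ideal.Quotient.mk x.asIdeal
  have hc0 : ∀ c : Fin t → R, (∑ i, π (c i) • img R M x (s i) = 0) ↔
      ∀ φ : M →ₗ[R] R, ∑ i, π (φ (s i)) * π (c i) = 0 := by
    intro c
    rw [show ∑ i, π (c i) • img R M x (s i) = img R M x (∑ i, c i • s i) by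
      rw [img_sum]; rfl, img_eq_zero_iff]
    refine forall_congr' fun φ => ?_
    rw [← Ideal.Quotient.eq_zero_iff_mem, map_sum, map_sum]
    simp [π, mul_comm]
  constructor
  · intro hli
    let Ψ : (M →ₗ[R] R) → (Fin t → K) := fun φ i => π (φ (s i))
    have htop : Submodule.span K (Set.range Ψ) = ⊤ := by
      by_contra hne
      obtain ⟨ξ, hξ0, hξ⟩ := Submodule.exists_dual_map_eq_bot_of_lt_top (lt_top_iff_ne_top.2 hne) inferInstance
      choose c hc using fun i => Ideal.Quotient.mk_surjective (I := x.asIdeal) (ξ (Pi.single i 1))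
      have hz : ∑ i, π (c i) • img R M x (s i) = 0 := by
        refine (hc0 c).2 fun φ => ?_
        have h1 : ξ (Ψ φ) = 0 := by
          have hm : ξ (Ψ φ) ∈ (Submodule.span K (Set.range Ψ)).map ξ := ⟨_, Submodule.subset_span ⟨φ, rfl⟩, rfl⟩
          rw [hξ] at hm
          exact (Submodule.mem_bot K).1 hm
        rw [pi_eq_sum_univ' (Ψ φ)] at h1
        simp only [map_sum, map_smul, smul_eq_mul, ← hc] at h1
        exact h1
      have := Fintype.linearIndependent_iff.1 hli _ hz
      refine hξ0 (LinearMap.pi_ext' fun i => LinearMap.ext_ring ?_)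
      rw [LinearMap.comp_apply, LinearMap.zero_comp, LinearMap.zero_apply, LinearMap.single_apply, ← hc]
      exact this i
    have hR : ∀ v ∈ Submodule.span K (Set.range Ψ), ∃ φ, Ψ φ = v := by
      intro v hv
      induction hv using Submodule.span_induction with
      | mem v hv => exact hv
      | zero => exact ⟨0, funext fun i => by simp [Ψ]⟩
      | add a b _ _ ha hb =>
        obtain ⟨φ, rfl⟩ := ha; obtain ⟨χ, rfl⟩ := hb
        exact ⟨φ + χ, funext fun i => by simp [Ψ, π]⟩
      | smul c a _ ha =>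
        obtain ⟨φ, rfl⟩ := ha
        obtain ⟨c', rfl⟩ := Ideal.Quotient.mk_surjective c
        exact ⟨c' • φ, funext fun i => by simp [Ψ, π]⟩
    choose f hf using fun a => hR (Pi.single a 1) (htop ▸ Submodule.mem_top)
    refine ⟨f, fun hdet => ?_⟩
    have h1 : ((Matrix.of fun a b => f a (s b)).map π) = 1 := by
      ext a b
      rw [Matrix.map_apply, Matrix.of_apply, Matrix.one_apply]
      have := congrFun (hf a) b
      rw [Pi.single_apply] at this
      simp only [Ψ] at this
      rw [this]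
      exact if_congr eq_comm rfl rfl
    have h2 := Ideal.Quotient.eq_zero_iff_mem.2 hdet
    rw [RingHom.map_det, RingHom.mapMatrix_apply, h1, Matrix.det_one] at h2
    exact one_ne_zero h2
  · rintro ⟨f, hf⟩
    rw [Fintype.linearIndependent_iff]
    intro g hg
    choose c hc using fun i => Ideal.Quotient.mk_surjective (I := x.asIdeal) (g i)
    have h1 : ∀ φ : M →ₗ[R] R, ∑ i, π (φ (s i)) * π (c i) = 0 := (hc0 c).1 (by simp only [π, hc]; exact hg)
    have hd : ((Matrix.of fun a b => f a (s b)).map π).det ≠ 0 := by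
      rw [← RingHom.mapMatrix_apply, ← RingHom.map_det]
      exact fun h => hf (Ideal.Quotient.eq_zero_iff_mem.1 h)
    have hmv : ((Matrix.of fun a b => f a (s b)).map π).mulVec g = 0 := by
      funext a
      rw [Pi.zero_apply, ← h1 (f a)]
      simp [Matrix.mulVec, dotProduct, π, hc]
    exact fun i => congrFun (Matrix.eq_zero_of_mulVec_eq_zero hd hmv) i

theorem isClosed_dep {t : ℕ} (s : Fin t → M) :
    IsClosed {x : MaximalSpectrum R | ¬ LinearIndependent (R ⧸ x.asIdeal) (fun i => img R M x (s i))} := by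
  have h : {x : MaximalSpectrum R | ¬ LinearIndependent (R ⧸ x.asIdeal) (fun i => img R M x (s i))} =
      MaximalSpectrum.toPrimeSpectrum ⁻¹' PrimeSpectrum.zeroLocus
        (Set.range fun f : Fin t → M →ₗ[R] R => (Matrix.of fun a b => f a (s b)).det) := by
    ext x
    show (¬ _) ↔ Set.range _ ⊆ (x.asIdeal : Set R)
    rw [indep_iff, not_exists]
    simp [Set.range_subset_iff]
  rw [h]
  exact (PrimeSpectrum.isClosed_zeroLocus _).preimage MaximalSpectrum.toPrimeSpectrum_continuous

theorem exists_mem_snoc (x : MaximalSpectrum R) [Module.Finite R M] {t : ℕ} (s : Fin t → M)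
    (hli : LinearIndependent (R ⧸ x.asIdeal) (fun i => img R M x (s i)))
    (hdim : t < Module.finrank (R ⧸ x.asIdeal) ((M ⧸ (x.asIdeal • ⊤ : Submodule R M)) ⧸ Bq R M x)) :
    ∃ w : M, img R M x w ∉ Submodule.span (R ⧸ x.asIdeal) (Set.range fun i => img R M x (s i)) := by
  letI := Ideal.Quotient.field x.asIdeal
  by_contra hno
  push Not at hno
  have : Submodule.span (R ⧸ x.asIdeal) (Set.range fun i => img R M x (s i)) = ⊤ := by
    rw [eq_top_iff]
    intro v _
    obtain ⟨w, rfl⟩ := img_surjective x v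
    exact hno w
  have h2 := finrank_span_eq_card hli
  rw [this, finrank_top, Fintype.card_fin] at h2
  omega

theorem exists_interp {n : ℕ} (xs : Fin n → MaximalSpectrum R) (hxs : Function.Injective xs) (m : Fin n → M) :
    ∃ t : M, ∀ i, img R M (xs i) t = img R M (xs i) (m i) := by
  classical
  have hco : Pairwise (Function.onFun IsCoprime fun i => (xs i).asIdeal) := fun i j hij => by
    rw [Function.onFun, Ideal.isCoprime_iff_sup_eq]
    exact Ideal.IsMaximal.coprime_of_ne (xs i).isMaximal (xs j).isMaximal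
      fun h => hij (hxs (MaximalSpectrum.ext h))
  choose r hr using fun j : Fin n => Ideal.exists_forall_sub_mem_ideal hco (fun i => if i = j then 1 else 0)
  refine ⟨∑ j, r j • m j, fun i => ?_⟩
  rw [img_sum, Finset.sum_eq_single i]
  · rw [img_smul, (Ideal.Quotient.eq).2 (hr i i), if_pos rfl, map_one, one_smul]
  · intro j _ hj
    rw [img_smul, (Ideal.Quotient.eq).2 (hr j i), if_neg (Ne.symm hj), map_zero, zero_smul]
  · simp

variable [NoetherianSpace (MaximalSpectrum R)] [Module.Finite R M]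

theorem exists_components (F : Set (MaximalSpectrum R)) (hF : IsClosed F) :
    ∃ S : Finset (IrreducibleCloseds (MaximalSpectrum R)),
      (∀ W ∈ S, (W : Set (MaximalSpectrum R)) ⊆ F) ∧ ∀ x ∈ F, ∃ W ∈ S, x ∈ (W : Set (MaximalSpectrum R)) := by
  classical
  obtain ⟨T, hTf, hTc, hTi, hT⟩ := NoetherianSpace.exists_finite_set_isClosed_irreducible hF
  refine ⟨hTf.toFinset.attach.image fun t => ⟨t.1, hTi _ (hTf.mem_toFinset.1 t.2), hTc _ (hTf.mem_toFinset.1 t.2)⟩, ?_, ?_⟩
  · intro W hW
    obtain ⟨t, -, rfl⟩ := Finset.mem_image.1 hW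
    rw [hT]
    exact Set.subset_sUnion_of_mem (hTf.mem_toFinset.1 t.2)
  · intro x hx
    rw [hT] at hx
    obtain ⟨t, ht, hxt⟩ := hx
    exact ⟨_, Finset.mem_image.2 ⟨⟨t, hTf.mem_toFinset.2 ht⟩, Finset.mem_attach _ _, rfl⟩, hxt⟩

theorem exists_le_component (Z : IrreducibleCloseds (MaximalSpectrum R))
    (S : Finset (IrreducibleCloseds (MaximalSpectrum R)))
    (h : ∀ x ∈ (Z : Set (MaximalSpectrum R)), ∃ W ∈ S, x ∈ (W : Set (MaximalSpectrum R))) : ∃ W ∈ S, Z ≤ W := by
  classical
  obtain ⟨z, hz, hzZ⟩ := isIrreducible_iff_sUnion_isClosed.1 Z.isIrreducible'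
    (S.image fun W : IrreducibleCloseds (MaximalSpectrum R) => (W : Set (MaximalSpectrum R)))
    (fun z hz => by obtain ⟨W, -, rfl⟩ := Finset.mem_image.1 hz; exact W.isClosed')
    (fun x hx => by
      obtain ⟨W, hW, hxW⟩ := h x hx
      exact ⟨_, Finset.mem_coe.2 (Finset.mem_image_of_mem _ hW), hxW⟩)
  obtain ⟨W, hW, rfl⟩ := Finset.mem_image.1 hz
  exact ⟨W, hW, hzZ⟩

theorem img_congr {a b : MaximalSpectrum R} (h : a = b) {m m' : M} (e : img R M a m = img R M a m') :
    img R M b m = img R M b m' := by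
  subst h; exact e

/-- Serre's splitting proposition -/
theorem prop : ∀ (k h : ℕ) (s : Fin h → M) (F : Set (MaximalSpectrum R)), IsClosed F →
    ∀ (n : ℕ) (xs : Fin n → MaximalSpectrum R), Function.Injective xs → (∀ i, xs i ∈ F) →
    ∀ (v : Fin n → M),
    (∀ x : MaximalSpectrum R, h + k ≤ Module.finrank (R ⧸ x.asIdeal) ((M ⧸ (x.asIdeal • ⊤ : Submodule R M)) ⧸ Bq R M x)) →
    (∀ x : MaximalSpectrum R, ¬ LinearIndependent (R ⧸ x.asIdeal) (fun i => img R M x (s i)) → x ∈ F) →
    ∃ (t : M) (F' : Set (MaximalSpectrum R)), IsClosed F' ∧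
      (∀ i : Fin n, img R M (xs i) t = img R M (xs i) (v i)) ∧
      (∀ x : MaximalSpectrum R,
        ¬ LinearIndependent (R ⧸ x.asIdeal) (Fin.snoc (fun i => img R M x (s i)) (img R M x t)) → x ∈ F ∪ F') ∧
      ∀ Z : IrreducibleCloseds (MaximalSpectrum R), (Z : Set (MaximalSpectrum R)) ⊆ F' →
        (k : ℕ∞) ≤ Order.coheight Z := by
  intro k
  induction k with
  | zero =>
    intro h s F hF n xs hxs hxF v _ _
    obtain ⟨t, ht⟩ := exists_interp xs hxs v
    exact ⟨t, Set.univ, isClosed_univ, ht, fun x _ => Or.inr trivial, fun Z _ => zero_le⟩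
  | succ k ih =>
    intro h s F hF n xs hxs hxF v hdim hZ
    classical
    obtain ⟨s₁, F₁, hF₁c, hs₁, hF₁, hF₁co⟩ := ih h s F hF n xs hxs hxF v
      (fun x => le_trans (by omega) (hdim x)) hZ
    obtain ⟨S₁, hS₁, hS₁'⟩ := exists_components F₁ hF₁c
    -- points y
    let S₁' := S₁.filter fun W : IrreducibleCloseds (MaximalSpectrum R) => ¬ (W : Set (MaximalSpectrum R)) ⊆ F
    have hy : ∀ W ∈ S₁', ∃ y, y ∈ (W : Set (MaximalSpectrum R)) ∧ y ∉ F := fun W hW =>
      Set.not_subset.1 (Finset.mem_filter.1 hW).2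
    choose y hyW hyF using hy
    let Y : Finset (MaximalSpectrum R) := S₁'.attach.image fun W => y W.1 W.2
    have hYF : ∀ z ∈ Y, z ∉ F := by
      intro z hz
      obtain ⟨W, -, rfl⟩ := Finset.mem_image.1 hz
      exact hyF _ _
    have hYF₁ : ∀ z ∈ Y, z ∈ F₁ := by
      intro z hz
      obtain ⟨W, -, rfl⟩ := Finset.mem_image.1 hz
      exact hS₁ _ (Finset.mem_filter.1 W.2).1 (hyW _ _)
    have hYli : ∀ z ∈ Y, LinearIndependent (R ⧸ z.asIdeal) (fun i => img R M z (s i)) := fun z hz => by
      by_contra hh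
      exact hYF z hz (hZ z hh)
    have hw : ∀ z ∈ Y, ∃ w : M, img R M z w ∉ Submodule.span (R ⧸ z.asIdeal) (Set.range fun i => img R M z (s i)) :=
      fun z hz => exists_mem_snoc z s (hYli z hz) (lt_of_lt_of_le (by omega : h < h + (k + 1)) (hdim z))
    choose w hw using hw
    let ys : Fin Y.card → MaximalSpectrum R := fun j => (Y.equivFin.symm j).1
    let xs' : Fin (n + Y.card) → MaximalSpectrum R := Fin.append xs ys
    have hxs'i : Function.Injective xs' := by
      refine Fin.append_injective_iff.2 ⟨hxs, Subtype.val_injective.comp Y.equivFin.symm.injective, ?_⟩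
      intro i j hij
      exact hYF _ (Y.equivFin.symm j).2 (by rw [show (Y.equivFin.symm j).1 = ys j from rfl, ← hij]; exact hxF i)
    have hxs'F : ∀ i, xs' i ∈ F ∪ F₁ := by
      intro i
      refine Fin.addCases (fun i => ?_) (fun j => ?_) i
      · simp only [xs', Fin.append_left]; exact Or.inl (hxF i)
      · simp only [xs', Fin.append_right]; exact Or.inr (hYF₁ _ (Y.equivFin.symm j).2)
    have hsn : ∀ x, (fun i => img R M x (Fin.snoc (α := fun _ => M) s s₁ i)) = Fin.snoc (fun i => img R M x (s i)) (img R M x s₁) := by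
      intro x
      funext i
      refine Fin.lastCases ?_ (fun j => ?_) i <;> simp
    obtain ⟨s₂, F₂, hF₂c, hs₂, hF₂, hF₂co⟩ := ih (h + 1) (Fin.snoc s s₁) (F ∪ F₁) (hF.union hF₁c) (n + Y.card) xs' hxs'i hxs'F
      (Fin.append (fun _ => 0) fun j => w _ (Y.equivFin.symm j).2)
      (fun x => le_trans (by omega) (hdim x)) (fun x hx => hF₁ x (hsn x ▸ hx))
    obtain ⟨S₂, hS₂, hS₂'⟩ := exists_components F₂ hF₂c
    let S₂' := S₂.filter fun W : IrreducibleCloseds (MaximalSpectrum R) => ¬ (W : Set (MaximalSpectrum R)) ⊆ F ∪ F₁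
    have hz : ∀ W ∈ S₂', ∃ z, z ∈ (W : Set (MaximalSpectrum R)) ∧ z ∉ F ∪ F₁ := fun W hW =>
      Set.not_subset.1 (Finset.mem_filter.1 hW).2
    choose z hzW hzF using hz
    let Zp : Finset (MaximalSpectrum R) := S₂'.attach.image fun W => z W.1 W.2
    have hZp : ∀ q ∈ Zp, q ∉ F ∪ F₁ := by
      intro q hq
      obtain ⟨W, -, rfl⟩ := Finset.mem_image.1 hq
      exact hzF _ _
    -- the scalar
    let P := Y ∪ Zp
    have hco : Pairwise (Function.onFun IsCoprime fun q : P => q.1.asIdeal) := fun i j hij => by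
      rw [Function.onFun, Ideal.isCoprime_iff_sup_eq]
      exact Ideal.IsMaximal.coprime_of_ne i.1.isMaximal j.1.isMaximal
        fun h => hij (Subtype.ext (MaximalSpectrum.ext h))
    obtain ⟨f, hf⟩ := Ideal.exists_forall_sub_mem_ideal hco
      (fun q : P => if q.1 ∈ Y ∧ ¬ LinearIndependent (R ⧸ q.1.asIdeal) (Fin.snoc (fun i => img R M q.1 (s i)) (img R M q.1 s₁)) then (1 : R) else 0)
    set t := s₁ + f • s₂ with ht
    let B : Set (MaximalSpectrum R) :=
      {x | ¬ LinearIndependent (R ⧸ x.asIdeal) (Fin.snoc (fun i => img R M x (s i)) (img R M x t))}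
    have hBc : IsClosed B := by
      have e : B = {x | ¬ LinearIndependent (R ⧸ x.asIdeal) (fun i => img R M x (Fin.snoc (α := fun _ => M) s t i))} := by
        ext x
        have : (fun i => img R M x (Fin.snoc (α := fun _ => M) s t i)) = Fin.snoc (fun i => img R M x (s i)) (img R M x t) := by
          funext i
          refine Fin.lastCases ?_ (fun j => ?_) i <;> simp
        show (¬ _) ↔ (¬ _)
        rw [this]
      rw [e]; exact isClosed_dep _
    have hgood : ∀ x, x ∉ F → x ∉ F₁ → x ∉ F₂ → x ∉ B := by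
      intro x h1 h2 h3 hB
      letI := Ideal.Quotient.field x.asIdeal
      refine hB ?_
      have hl2 : LinearIndependent (R ⧸ x.asIdeal)
          (Fin.snoc (fun i => img R M x (Fin.snoc (α := fun _ => M) s s₁ i)) (img R M x s₂)) := by
        by_contra hh
        rcases hF₂ x hh with (hx | hx) | hx
        exacts [h1 hx, h2 hx, h3 hx]
      rw [hsn x] at hl2
      obtain ⟨hl1, hn2⟩ := linearIndependent_fin_snoc.1 hl2
      obtain ⟨hl0, hn1⟩ := linearIndependent_fin_snoc.1 hl1
      rw [linearIndependent_fin_snoc]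
      refine ⟨hl0, fun hmem => ?_⟩
      rw [Fin.range_snoc, Submodule.span_insert] at hn2
      rw [ht, img_add, img_smul] at hmem
      by_cases hf0 : Ideal.Quotient.mk x.asIdeal f = 0
      · rw [hf0, zero_smul, add_zero] at hmem
        exact hn1 hmem
      · refine hn2 ((Submodule.smul_mem_iff _ hf0).1 ?_)
        rw [← add_sub_cancel_left (img R M x s₁) (Ideal.Quotient.mk x.asIdeal f • img R M x s₂)]
        exact Submodule.sub_mem _ (Submodule.mem_sup_right hmem) (Submodule.mem_sup_left (Submodule.mem_span_singleton_self _))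
    have hYB : ∀ q ∈ Y, q ∉ B := by
      intro q hq hB
      letI := Ideal.Quotient.field q.asIdeal
      refine hB ?_
      have hfq := (Ideal.Quotient.eq).2 (hf ⟨q, Finset.mem_union_left _ hq⟩)
      have hs2 : img R M q s₂ = img R M q (w q hq) := by
        have := img_congr (b := q) (by simp [xs', ys]) (hs₂ (Fin.natAdd n (Y.equivFin ⟨q, hq⟩)))
        rw [Fin.append_right] at this
        rw [this]
        congr 1
        simp only [Equiv.symm_apply_apply]
      rw [ht, img_add, img_smul, hfq]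
      by_cases hdep : LinearIndependent (R ⧸ q.asIdeal) (Fin.snoc (fun i => img R M q (s i)) (img R M q s₁))
      · rw [if_neg (fun hh => hh.2 hdep), map_zero, zero_smul, add_zero]
        exact hdep
      · rw [if_pos ⟨hq, hdep⟩, map_one, one_smul, hs2, linearIndependent_fin_snoc]
        refine ⟨hYli q hq, fun hmem => hw q hq ?_⟩
        have hs1 : img R M q s₁ ∈ Submodule.span (R ⧸ q.asIdeal) (Set.range fun i => img R M q (s i)) := by
          by_contra hh
          exact hdep (linearIndependent_fin_snoc.2 ⟨hYli q hq, hh⟩)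
        rw [← add_sub_cancel_left (img R M q s₁) (img R M q (w q hq))]
        exact Submodule.sub_mem _ hmem hs1
    have hZB : ∀ q ∈ Zp, q ∉ B := by
      intro q hq hB
      refine hB ?_
      have hqY : q ∉ Y := fun hh => hZp q hq (Or.inr (hYF₁ q hh))
      have hfq := (Ideal.Quotient.eq).2 (hf ⟨q, Finset.mem_union_right _ hq⟩)
      rw [ht, img_add, img_smul, hfq, if_neg (fun hh => hqY hh.1), map_zero, zero_smul, add_zero]
      by_contra hh
      exact hZp q hq (hF₁ q hh)
    obtain ⟨SB, hSB, hSB'⟩ := exists_components B hBc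
    let SB' := SB.filter fun C : IrreducibleCloseds (MaximalSpectrum R) => ¬ (C : Set (MaximalSpectrum R)) ⊆ F
    refine ⟨t, ⋃ C ∈ SB', (C : Set (MaximalSpectrum R)),
      Set.Finite.isClosed_biUnion SB'.finite_toSet fun C _ => C.isClosed', fun i => ?_, fun x hx => ?_, fun Z hZ' => ?_⟩
    · have := img_congr (b := xs i) (by simp [xs']) (hs₂ (Fin.castAdd Y.card i))
      rw [Fin.append_left] at this
      rw [ht, img_add, img_smul, this, hs₁ i]
      simp [img]
    · by_cases hxF' : x ∈ F
      · exact Or.inl hxF'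
      · obtain ⟨C, hC, hxC⟩ := hSB' x hx
        exact Or.inr (Set.mem_biUnion (Finset.mem_filter.2 ⟨hC, fun hh => hxF' (hh hxC)⟩) hxC)
    · obtain ⟨C, hC, hZC⟩ := exists_le_component Z SB' fun x hx => by
        obtain ⟨C, hC, hxC⟩ := Set.mem_iUnion₂.1 (hZ' hx)
        exact ⟨C, hC, hxC⟩
      refine le_trans ?_ (Order.coheight_anti hZC)
      obtain ⟨hCS, hCF⟩ := Finset.mem_filter.1 hC
      have hCB : (C : Set (MaximalSpectrum R)) ⊆ B := hSB C hCS
      obtain ⟨G, hG, hG'⟩ := exists_components F hF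
      obtain ⟨W, hW, hCW⟩ := exists_le_component C (G ∪ S₁ ∪ S₂) fun x hx => by
        by_cases h1 : x ∈ F
        · obtain ⟨W, hW, hxW⟩ := hG' x h1
          exact ⟨W, Finset.mem_union_left _ (Finset.mem_union_left _ hW), hxW⟩
        by_cases h2 : x ∈ F₁
        · obtain ⟨W, hW, hxW⟩ := hS₁' x h2
          exact ⟨W, Finset.mem_union_left _ (Finset.mem_union_right _ hW), hxW⟩
        by_cases h3 : x ∈ F₂
        · obtain ⟨W, hW, hxW⟩ := hS₂' x h3
          exact ⟨W, Finset.mem_union_right _ hW, hxW⟩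
        exact absurd (hCB hx) (hgood x h1 h2 h3)
      have hsucc : ∀ W' : IrreducibleCloseds (MaximalSpectrum R), C < W' → (k : ℕ∞) ≤ Order.coheight W' →
          ((k + 1 : ℕ) : ℕ∞) ≤ Order.coheight C := by
        intro W' hlt hk
        push_cast
        exact le_trans (by gcongr) (Order.coheight_add_one_le hlt)
      have case₁ : ∀ W' ∈ S₁, C ≤ W' → ((k + 1 : ℕ) : ℕ∞) ≤ Order.coheight C := by
        intro W' hW' hle
        rcases eq_or_lt_of_le hle with rfl | hlt
        · have hmem : C ∈ S₁' := Finset.mem_filter.2 ⟨hW', hCF⟩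
          exact absurd (hCB (hyW C hmem)) (hYB _ (Finset.mem_image.2 ⟨⟨C, hmem⟩, Finset.mem_attach _ _, rfl⟩))
        · exact hsucc W' hlt (hF₁co W' (hS₁ W' hW'))
      rcases Finset.mem_union.1 hW with hW | hW
      · rcases Finset.mem_union.1 hW with hW | hW
        · exact absurd (fun x hx => hG W hW (hCW hx)) hCF
        · exact case₁ W hW hCW
      · rcases eq_or_lt_of_le hCW with rfl | hlt
        · by_cases hmem : C ∈ S₂'
          · exact absurd (hCB (hzW C hmem)) (hZB _ (Finset.mem_image.2 ⟨⟨C, hmem⟩, Finset.mem_attach _ _, rfl⟩))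
          · have hsub : (C : Set (MaximalSpectrum R)) ⊆ F ∪ F₁ := by
              by_contra hh; exact hmem (Finset.mem_filter.2 ⟨hW, hh⟩)
            obtain ⟨W', hW', hle⟩ := exists_le_component C (G ∪ S₁) fun x hx => by
              rcases hsub hx with h1 | h1
              · obtain ⟨W, hW, hxW⟩ := hG' x h1; exact ⟨W, Finset.mem_union_left _ hW, hxW⟩
              · obtain ⟨W, hW, hxW⟩ := hS₁' x h1; exact ⟨W, Finset.mem_union_right _ hW, hxW⟩
            rcases Finset.mem_union.1 hW' with hW' | hW'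
            · exact absurd (fun x hx => hG W' hW' (hle hx)) hCF
            · exact case₁ W' hW' hle
        · exact hsucc W hlt (hF₂co W (hS₂ W hW))

end Groth.Agent.H6SerreProp
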