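import Mathlib

/-! The Sierpinski product `I → Prop` and its constructible topology. -/

namespace Groth.Agent.H6.Sierp

open Topology

universe u

variable {I : Type u}

/-- basic open set of a finite set of coordinates -/
def U (F : Finset I) : Set (I → Prop) := {g | ∀ i ∈ F, g i}

theorem isOpen_U (F : Finset I) : IsOpen (U F) := by
  have : U F = ⋂ i ∈ (F : Set I), (fun g : I → Prop => g i) ⁻¹' {True} := by
    ext g; simp [U]
  rw [this]
  exact F.finite_toSet.isOpen_biInter fun i _ => isOpen_singleton_true.preimage (continuous_apply i)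

theorem exists_U_subset {s : Set (I → Prop)} (hs : IsOpen s) {g : I → Prop} (hg : g ∈ s) :
    ∃ F : Finset I, g ∈ U F ∧ U F ⊆ s := by
  classical
  obtain ⟨J, u, hu, hsub⟩ := isOpen_pi_iff.1 hs g hg
  refine ⟨J.filter (fun i => g i), fun i hi => (Finset.mem_filter.1 hi).2, fun h hh => hsub fun i hi => ?_⟩
  obtain ⟨ho, hgi⟩ := hu i hi
  by_cases hp : g i
  · rw [eq_true hp] at hgi
    rw [eq_true (hh i (Finset.mem_filter.2 ⟨hi, hp⟩))]
    exact hgi
  · rw [eq_false hp] at hgi
    have : u i ∈ 𝓝 False := ho.mem_nhds hgi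
    rw [nhds_false, Filter.mem_top] at this
    rw [this]; trivial

theorem isBasis_U : TopologicalSpace.IsTopologicalBasis (Set.range (U (I := I))) :=
  TopologicalSpace.isTopologicalBasis_of_isOpen_of_nhds (by rintro _ ⟨F, rfl⟩; exact isOpen_U F)
    fun g s hg hs => by
      obtain ⟨F, h1, h2⟩ := exists_U_subset hs hg
      exact ⟨_, ⟨F, rfl⟩, h1, h2⟩

theorem isCompact_U (F : Finset I) : IsCompact (U F) := by
  refine isCompact_of_finite_subcover fun {ι} c hc hcov => ?_
  let g : I → Prop := fun i => i ∈ F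
  obtain ⟨j, hj⟩ := Set.mem_iUnion.1 (hcov (show g ∈ U F from fun i hi => hi))
  obtain ⟨G, hgG, hG⟩ := exists_U_subset (hc j) hj
  refine ⟨{j}, fun h hh => ?_⟩
  simp only [Finset.mem_singleton, Set.iUnion_iUnion_eq_left]
  exact hG fun i hi => hh i (hgG i hi)

theorem compactOpen_eq {s : Set (I → Prop)} (hc : IsCompact s) (ho : IsOpen s) :
    ∃ t : Finset (Finset I), s = ⋃ F ∈ t, U F := by
  obtain ⟨t, ht⟩ := hc.elim_finite_subcover (fun F : {F : Finset I // U F ⊆ s} => U F.1) (fun F => isOpen_U _)
    (fun g hg => by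
      obtain ⟨F, h1, h2⟩ := exists_U_subset ho hg
      exact Set.mem_iUnion.2 ⟨⟨F, h2⟩, h1⟩)
  classical
  refine ⟨t.image Subtype.val, subset_antisymm (fun g hg => ?_) ?_⟩
  · obtain ⟨F, hF, hgF⟩ := Set.mem_iUnion₂.1 (ht hg)
    exact Set.mem_biUnion (Finset.mem_image_of_mem _ hF) hgF
  · refine Set.iUnion₂_subset fun F hF => ?_
    obtain ⟨⟨F', h'⟩, -, rfl⟩ := Finset.mem_image.1 hF
    exact h'

/-- the product of the discrete topologies -/
@[instance_reducible]
def discrete (I : Type u) : TopologicalSpace (I → Prop) := @Pi.topologicalSpace I (fun _ => Prop) (fun _ => ⊥)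

theorem isClopen_coord (i : I) :
    IsOpen[discrete I] {g | g i} ∧ IsOpen[discrete I] {g | g i}ᶜ := by
  have hc := @continuous_apply I (fun _ => Prop) (fun _ => ⊥) i
  exact ⟨@Continuous.isOpen_preimage _ _ (discrete I) ⊥ _ hc {p : Prop | p} trivial,
    @Continuous.isOpen_preimage _ _ (discrete I) ⊥ _ hc {p : Prop | p}ᶜ trivial⟩

theorem isClopen_U (F : Finset I) : IsOpen[discrete I] (U F) ∧ IsOpen[discrete I] (U F)ᶜ := by
  letI := discrete I
  have : U F = ⋂ i ∈ (F : Set I), {g | g i} := by ext g; simp [U]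
  constructor
  · rw [this]; exact F.finite_toSet.isOpen_biInter fun i _ => (isClopen_coord i).1
  · rw [this, Set.compl_iInter₂]; exact isOpen_biUnion fun i _ => (isClopen_coord i).2

theorem discrete_eq : constructibleTopology (I → Prop) = discrete I := by
  apply le_antisymm
  · refine le_iInf fun i => ?_
    rw [← continuous_iff_le_induced]
    have hc : IsCompact {g : I → Prop | g i} := by
      convert isCompact_U {i} using 1
      ext g; simp [U]
    have ho : IsOpen {g : I → Prop | g i} := by
      convert isOpen_U {i} using 1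
      ext g; simp [U]
    suffices h : ∀ p : Prop, IsOpen[constructibleTopology (I → Prop)] ((fun g : I → Prop => g i) ⁻¹' {p}) by
      refine @Continuous.mk _ _ (constructibleTopology (I → Prop)) ⊥ _ fun s _ => ?_
      rw [← Set.biUnion_of_singleton s, Set.preimage_iUnion₂]
      exact @isOpen_biUnion _ _ (constructibleTopology (I → Prop)) _ _ fun p _ => h p
    intro p
    by_cases hp : p
    · have : (fun g : I → Prop => g i) ⁻¹' {p} = {g | g i} := by ext g; simp [eq_true hp]
      rw [this]
      exact TopologicalSpace.isOpen_generateFrom_of_mem (Or.inl ⟨ho, hc⟩)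
    · have : (fun g : I → Prop => g i) ⁻¹' {p} = {g | g i}ᶜ := by ext g; simp [eq_false hp]
      rw [this]
      refine TopologicalSpace.isOpen_generateFrom_of_mem (Or.inr ⟨?_, ?_⟩)
      · exact ho.isClosed_compl
      · rwa [compl_compl]
  · refine le_generateFrom ?_
    rintro s (⟨ho, hc⟩ | ⟨hcl, hc⟩)
    · obtain ⟨t, rfl⟩ := compactOpen_eq hc ho
      letI := discrete I
      exact isOpen_biUnion fun F _ => (isClopen_U F).1
    · obtain ⟨t, ht⟩ := compactOpen_eq hc hcl.isOpen_compl
      rw [← compl_compl s, ht, Set.compl_iUnion₂]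
      letI := discrete I
      exact (t : Set (Finset I)).toFinite.isOpen_biInter fun F _ => (isClopen_U F).2

theorem discrete_le : discrete I ≤ (Pi.topologicalSpace : TopologicalSpace (I → Prop)) := by
  refine le_iInf fun i => (iInf_le _ i).trans ?_
  exact induced_mono bot_le

theorem compactSpace_discrete : @CompactSpace (I → Prop) (discrete I) := by
  letI : TopologicalSpace Prop := ⊥
  haveI : DiscreteTopology Prop := ⟨rfl⟩
  exact Function.compactSpace

theorem t2Space_discrete : @T2Space (I → Prop) (discrete I) := by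
  letI : TopologicalSpace Prop := ⊥
  haveI : DiscreteTopology Prop := ⟨rfl⟩
  exact inferInstanceAs (T2Space (I → Prop))

end Groth.Agent.H6.Sierp
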