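import Groth.Agent.Lib.H6.SpectralLimit

/-! Constructible topology and cofiltered limits of spectral spaces. -/

namespace Groth.Agent.H6.SpecCof

open Topology CategoryTheory Limits Groth.Agent.H6.Sierp Groth.Agent.H6.SpecLim

universe u

theorem constructible_eq_induced {X I : Type u} [TopologicalSpace X] {f : X → (I → Prop)} (hf : IsEmbedding f)
    (hcl : IsClosed[discrete I] (Set.range f)) :
    constructibleTopology X = (discrete I).induced f := by
  apply le_antisymm
  · rw [← continuous_iff_le_induced]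
    refine @continuous_pi X I (fun _ => Prop) (constructibleTopology X) (fun _ => ⊥) f fun i => ?_
    have ho : IsOpen (f ⁻¹' U {i}) := (isOpen_U _).preimage hf.continuous
    have hc : IsCompact (f ⁻¹' U {i}) := compact_preimage hf hcl (clop_U _).1
    have h1 : IsOpen[constructibleTopology X] (f ⁻¹' U {i}) :=
      TopologicalSpace.isOpen_generateFrom_of_mem (Or.inl ⟨ho, hc⟩)
    have h2 : IsOpen[constructibleTopology X] (f ⁻¹' U {i})ᶜ :=
      TopologicalSpace.isOpen_generateFrom_of_mem (Or.inr ⟨ho.isClosed_compl, by rwa [compl_compl]⟩)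
    refine @Continuous.mk _ _ (constructibleTopology X) ⊥ _ fun s _ => ?_
    by_cases hT : True ∈ s <;> by_cases hF : False ∈ s
    · rw [show (fun x => f x i) ⁻¹' s = Set.univ by
        ext x; by_cases hx : f x i <;> simp [hx, hT, hF]]
      exact @isOpen_univ _ (constructibleTopology X)
    · rw [show (fun x => f x i) ⁻¹' s = f ⁻¹' U {i} by
        ext x; by_cases hx : f x i <;> simp [U, hx, hT, hF]]
      exact h1
    · rw [show (fun x => f x i) ⁻¹' s = (f ⁻¹' U {i})ᶜ by
        ext x; by_cases hx : f x i <;> simp [U, hx, hT, hF]]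
      exact h2
    · rw [show (fun x => f x i) ⁻¹' s = ∅ by
        ext x; by_cases hx : f x i <;> simp [hx, hT, hF]]
      exact @isOpen_empty _ (constructibleTopology X)
  · refine le_generateFrom ?_
    rintro s (⟨ho, hc⟩ | ⟨hsc, hc⟩)
    · obtain ⟨W, hW, rfl⟩ := compactOpen_clop hf ho hc
      exact ⟨W, hW.2, rfl⟩
    · obtain ⟨W, hW, h⟩ := compactOpen_clop hf hsc.isOpen_compl hc
      exact ⟨Wᶜ, @IsClosed.isOpen_compl _ (discrete I) _ hW.1, by rw [Set.preimage_compl, h, compl_compl]⟩

theorem exists_closed_rep {X I : Type u} [TopologicalSpace X] {f : X → (I → Prop)} (hf : IsEmbedding f)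
    (hcl : IsClosed[discrete I] (Set.range f)) {Z : Set X} (hZ : IsClosed[constructibleTopology X] Z) :
    ∃ W, IsClosed[discrete I] W ∧ f ⁻¹' W = Z := by
  rw [constructible_eq_induced hf hcl] at hZ
  exact (@isClosed_induced_iff _ _ (discrete I) Z f).1 hZ

theorem compact_t2 (X : Type u) [TopologicalSpace X] [SpectralSpace X] :
    @CompactSpace X (constructibleTopology X) ∧ @T2Space X (constructibleTopology X) := by
  obtain ⟨I, f, hf, hcl0⟩ := (Groth.Agent.S7532.result X).1 inferInstance
  rw [discrete_eq] at hcl0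
  have he : @IsEmbedding X (I → Prop) (constructibleTopology X) (discrete I) f :=
    @IsEmbedding.mk X (I → Prop) (constructibleTopology X) (discrete I) f
      (@IsInducing.mk X (I → Prop) (constructibleTopology X) (discrete I) f (constructible_eq_induced hf hcl0)) hf.injective
  have hc : @IsClosedEmbedding X (I → Prop) (constructibleTopology X) (discrete I) f :=
    @IsClosedEmbedding.mk X (I → Prop) (constructibleTopology X) (discrete I) f he hcl0
  exact ⟨@IsClosedEmbedding.compactSpace X (I → Prop) (constructibleTopology X) (discrete I) compactSpace_discrete f hc,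
    @IsEmbedding.t2Space X (I → Prop) (constructibleTopology X) (discrete I) t2Space_discrete f he⟩

theorem continuous_constructible {X Y : Type u} [TopologicalSpace X] [TopologicalSpace Y] {φ : X → Y}
    (hφ : IsSpectralMap φ) : Continuous[constructibleTopology X, constructibleTopology Y] φ := by
  refine continuous_generateFrom_iff.2 ?_
  rintro s (⟨ho, hc⟩ | ⟨hs, hc⟩)
  · exact TopologicalSpace.isOpen_generateFrom_of_mem
      (Or.inl ⟨ho.preimage hφ.continuous, hφ.isCompact_preimage_of_isOpen ho hc⟩)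
  · exact TopologicalSpace.isOpen_generateFrom_of_mem
      (Or.inr ⟨hs.preimage hφ.continuous, by rw [← Set.preimage_compl]; exact hφ.isCompact_preimage_of_isOpen hs.isOpen_compl hc⟩)

variable {J : Type u} [SmallCategory J] {F : J ⥤ TopCat.{u}} {c : Cone F}

theorem compact_sections (hF : ∀ j, SpectralSpace (F.obj j))
    (hFm : ∀ {i j : J} (a : i ⟶ j), IsSpectralMap (F.map a : F.obj i → F.obj j)) (hc : IsLimit c)
    (Z : ∀ j, Set (F.obj j)) (hZ : ∀ j, IsClosed[constructibleTopology (F.obj j)] (Z j)) :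
    IsCompact {x : c.pt | ∀ j, c.π.app j x ∈ Z j} := by
  obtain ⟨I, f, hf, hg, hgcl⟩ := exists_embedding hF hFm hc
  choose W hW hWZ using fun j => exists_closed_rep (hf j).1 (hf j).2 (hZ j)
  have h := compact_preimage hg hgcl (F := ⋂ j, (fun (G : (Σ j, I j) → Prop) m => G ⟨j, m⟩) ⁻¹' W j)
    (@isClosed_iInter _ _ (discrete (Σ j, I j)) _ fun j =>
      @IsClosed.preimage _ _ (discrete (Σ j, I j)) (discrete (I j)) _
        (@continuous_pi _ (I j) (fun _ => Prop) (discrete (Σ j, I j)) (fun _ => ⊥) _ fun m =>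
          @continuous_apply (Σ j, I j) (fun _ => Prop) (fun _ => ⊥) ⟨j, m⟩) _ (hW j))
  convert h using 1
  ext x
  simp only [Set.mem_preimage, Set.mem_iInter, Set.mem_ofPred_eq]
  refine forall_congr' fun j => ?_
  rw [← hWZ j]
  rfl

theorem nonempty_sections [IsCofiltered J] (hF : ∀ j, SpectralSpace (F.obj j))
    (hFm : ∀ {i j : J} (a : i ⟶ j), IsSpectralMap (F.map a : F.obj i → F.obj j)) (hc : IsLimit c)
    (Z : ∀ j, Set (F.obj j)) (hne : ∀ j, (Z j).Nonempty)
    (hZ : ∀ j, IsClosed[constructibleTopology (F.obj j)] (Z j))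
    (hmap : ∀ {i j : J} (a : i ⟶ j), Set.MapsTo (F.map a) (Z i) (Z j)) :
    ∃ x : c.pt, ∀ j, c.π.app j x ∈ Z j := by
  let T : ∀ j, TopologicalSpace (Z j) := fun j => (constructibleTopology (F.obj j)).induced Subtype.val
  have hcont : ∀ {i j : J} (a : i ⟶ j), Continuous[T i, T j] (hmap a).restrict := fun {i j} a =>
    continuous_induced_rng.2
      (@Continuous.comp _ _ _ (T i) (constructibleTopology (F.obj i)) (constructibleTopology (F.obj j)) _ _
        (continuous_constructible (hFm a)) continuous_induced_dom)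
  let G : J ⥤ TopCat.{u} :=
    { obj := fun j => @TopCat.of (Z j) (T j)
      map := fun {i j} a => @TopCat.ofHom (Z i) (Z j) (T i) (T j) (@ContinuousMap.mk _ _ (T i) (T j) (hmap a).restrict (hcont a))
      map_id := fun i => by
        ext x; exact ConcreteCategory.congr_hom (F.map_id i) x.1
      map_comp := fun {i j k} a b => by
        ext x; exact ConcreteCategory.congr_hom (F.map_comp a b) x.1 }
  haveI : ∀ j, Nonempty (G.obj j) := fun j => (hne j).to_subtype
  haveI : ∀ j, CompactSpace (G.obj j) := fun j =>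
    haveI := hF j
    @isCompact_iff_compactSpace (F.obj j) (constructibleTopology (F.obj j)) (Z j) |>.1
      (@IsClosed.isCompact _ (constructibleTopology (F.obj j)) _ (compact_t2 (F.obj j)).1 (hZ j))
  haveI : ∀ j, T2Space (G.obj j) := fun j =>
    haveI := hF j
    @IsEmbedding.t2Space (Z j) (F.obj j) (T j) (constructibleTopology (F.obj j)) (compact_t2 (F.obj j)).2 _
      (@IsEmbedding.subtypeVal (F.obj j) (constructibleTopology (F.obj j)) (fun x => x ∈ Z j))
  obtain ⟨⟨s, hs⟩⟩ := TopCat.nonempty_limitCone_of_compact_t2_cofiltered_system.{u, u} G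
  have hsec := isLimitOfPreserves (forget TopCat.{u}) hc
  obtain ⟨x, hx⟩ := (Types.isLimitEquivSections hsec).surjective
    ⟨fun j => (s j).1, fun {i j} a => congrArg Subtype.val (hs a)⟩
  refine ⟨x, fun j => ?_⟩
  have : c.π.app j x = (s j).1 := congrFun (congrArg Subtype.val hx) j
  rw [this]
  exact (s j).2

theorem exists_hom_of_subset [IsCofiltered J] (hF : ∀ j, SpectralSpace (F.obj j))
    (hFm : ∀ {i j : J} (a : i ⟶ j), IsSpectralMap (F.map a : F.obj i → F.obj j)) (hc : IsLimit c)
    (i : J) (E O : Set (F.obj i)) (hE : IsClosed[constructibleTopology (F.obj i)] E)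
    (hO : IsOpen[constructibleTopology (F.obj i)] O) :
    (c.π.app i ⁻¹' E ⊆ c.π.app i ⁻¹' O) ↔ ∃ (j : J) (a : j ⟶ i), F.map a ⁻¹' E ⊆ F.map a ⁻¹' O := by
  classical
  constructor
  · intro hsub
    by_contra hno
    push_neg at hno
    haveI := hF i
    have him : ∀ {j : J} (a : j ⟶ i), @IsClosed (F.obj i) (constructibleTopology (F.obj i)) (Set.range (F.map a)) := fun {j} a =>
      haveI := hF j
      @IsCompact.isClosed _ (constructibleTopology (F.obj i)) (compact_t2 (F.obj i)).2 _
        (@isCompact_range _ _ (constructibleTopology (F.obj j)) (constructibleTopology (F.obj i)) (compact_t2 (F.obj j)).1 _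
          (continuous_constructible (hFm a)))
    let K : (Σ j, (j ⟶ i)) → Set (F.obj i) := fun q => (E ∩ Oᶜ) ∩ Set.range (F.map q.2)
    have hKc : ∀ q, @IsClosed (F.obj i) (constructibleTopology (F.obj i)) (K q) := fun q =>
      @IsClosed.inter _ _ _ (constructibleTopology (F.obj i)) (@IsClosed.inter _ _ _ (constructibleTopology (F.obj i)) hE (@IsOpen.isClosed_compl _ (constructibleTopology (F.obj i)) _ hO)) (him q.2)
    have hKn : ∀ q, (K q).Nonempty := fun q => by
      obtain ⟨y, hy1, hy2⟩ := Set.not_subset.1 (hno q.1 q.2)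
      exact ⟨F.map q.2 y, ⟨hy1, hy2⟩, y, rfl⟩
    haveI : Nonempty (Σ j, (j ⟶ i)) := ⟨⟨i, 𝟙 i⟩⟩
    have hdir : Directed (fun s t => t ⊆ s) K := by
      rintro ⟨j, a⟩ ⟨j', a'⟩
      obtain ⟨k, b, b', h⟩ := IsCofiltered.cospan a a'
      refine ⟨⟨k, b ≫ a⟩, ?_, ?_⟩
      · rintro x ⟨hx, y, rfl⟩
        exact ⟨hx, F.map b y, by simp⟩
      · rintro x ⟨hx, y, rfl⟩
        refine ⟨hx, F.map b' y, ?_⟩
        have e := congrArg F.map h
        simp only [Functor.map_comp] at e
        exact (ConcreteCategory.congr_hom e y).symm.trans (by simp)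
    obtain ⟨x, hx⟩ := @IsCompact.nonempty_iInter_of_directed_nonempty_isCompact_isClosed (F.obj i) (constructibleTopology (F.obj i)) _ _ K hdir hKn
      (fun q => @IsClosed.isCompact _ (constructibleTopology (F.obj i)) _ (compact_t2 (F.obj i)).1 (hKc q)) hKc
    rw [Set.mem_iInter] at hx
    let Z : ∀ j, Set (F.obj j) := fun j => ⋂ a : j ⟶ i, F.map a ⁻¹' {x}
    have hsing : @IsClosed (F.obj i) (constructibleTopology (F.obj i)) {x} := @isClosed_singleton _ (constructibleTopology (F.obj i)) (@T2Space.t1Space _ (constructibleTopology (F.obj i)) (compact_t2 (F.obj i)).2) x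
    have hZc : ∀ j, IsClosed[constructibleTopology (F.obj j)] (Z j) := fun j =>
      @isClosed_iInter _ _ (constructibleTopology (F.obj j)) _ fun a =>
        @IsClosed.preimage _ _ (constructibleTopology (F.obj j)) (constructibleTopology (F.obj i)) _ (continuous_constructible (hFm a)) _ hsing
    have hZne : ∀ j, (Z j).Nonempty := by
      intro j
      by_contra hem
      rw [Set.not_nonempty_iff_eq_empty] at hem
      haveI := hF j
      obtain ⟨t, ht⟩ := @IsCompact.elim_finite_subfamily_closed (F.obj j) (constructibleTopology (F.obj j)) Set.univ (j ⟶ i)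
        (@CompactSpace.isCompact_univ _ (constructibleTopology (F.obj j)) (compact_t2 (F.obj j)).1)
        (fun a => F.map a ⁻¹' {x})
        (fun a => @IsClosed.preimage _ _ (constructibleTopology (F.obj j)) (constructibleTopology (F.obj i)) _ (continuous_constructible (hFm a)) _ hsing)
        (by rw [Set.univ_inter]; exact hem)
      obtain ⟨k, T, hT⟩ := IsCofiltered.inf_exists ({j, i} : Finset J)
        (t.image fun a => (⟨j, i, by simp, by simp, a⟩ : Σ' (X Y : J) (_ : X ∈ ({j, i} : Finset J)) (_ : Y ∈ ({j, i} : Finset J)), X ⟶ Y))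
      obtain ⟨-, y, hy⟩ := hx ⟨k, T (by simp : i ∈ ({j, i} : Finset J))⟩
      have hmem : F.map (T (by simp : j ∈ ({j, i} : Finset J))) y ∈ Set.univ ∩ ⋂ a ∈ t, F.map a ⁻¹' {x} := by
        refine ⟨trivial, Set.mem_iInter₂.2 fun a ha => ?_⟩
        have e := hT (by simp : j ∈ ({j, i} : Finset J)) (by simp : i ∈ ({j, i} : Finset J)) (f := a) (Finset.mem_image_of_mem _ ha)
        show F.map a (F.map (T _) y) = x
        rw [← hy, ← e]
        simp
      rw [ht] at hmem
      exact hmem
    obtain ⟨z, hz⟩ := nonempty_sections hF hFm hc Z hZne hZc (fun {j j'} a y hy => by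
      simp only [Z, Set.mem_iInter, Set.mem_preimage] at hy ⊢
      intro b
      rw [← hy (a ≫ b)]
      simp)
    have hzi : c.π.app i z = x := by
      have := Set.mem_iInter.1 (hz i) (𝟙 i)
      simpa using this
    obtain ⟨⟨hxE, hxO⟩, -⟩ := hx ⟨i, 𝟙 i⟩
    have h2 := hsub (show z ∈ c.π.app i ⁻¹' E by rw [Set.mem_preimage, hzi]; exact hxE)
    rw [Set.mem_preimage, hzi] at h2
    exact hxO h2
  · rintro ⟨j, a, h⟩ z hz
    simp only [Set.mem_preimage, ← Cone.w c a] at hz ⊢
    exact h hz

end Groth.Agent.H6.SpecCof
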