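import Groth.Agent.S7532
import Groth.Agent.Lib.H6.SierpinskiProd

/-! Cofiltered limits of spectral spaces. -/

namespace Groth.Agent.H6.SpecLim

open Topology CategoryTheory Limits Groth.Agent.H6.Sierp

universe u

theorem compact_preimage {X I : Type u} [TopologicalSpace X] {f : X → (I → Prop)} (hf : IsEmbedding f)
    (hcl : IsClosed[discrete I] (Set.range f)) {F : Set (I → Prop)} (hF : IsClosed[discrete I] F) :
    IsCompact (f ⁻¹' F) := by
  have h1 : @IsCompact _ (discrete I) (Set.range f ∩ F) :=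
    @IsClosed.isCompact _ (discrete I) _ compactSpace_discrete (@IsClosed.inter _ _ _ (discrete I) hcl hF)
  have h2 : IsCompact (Set.range f ∩ F) := by
    have := @IsCompact.image _ _ (discrete I) Pi.topologicalSpace _ id h1 (continuous_id_of_le discrete_le)
    simpa using this
  rw [hf.isCompact_iff, Set.image_preimage_eq_inter_range, Set.inter_comm]
  exact h2

/-- `W` is clopen for the product of the discrete topologies. -/
def Clop {I : Type u} (W : Set (I → Prop)) : Prop := IsClosed[discrete I] W ∧ IsOpen[discrete I] W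

theorem clop_U {I : Type u} (F : Finset I) : Clop (U F) :=
  ⟨@IsClosed.mk _ (discrete I) _ (isClopen_U F).2, (isClopen_U F).1⟩

theorem compactOpen_rep {X I : Type u} [TopologicalSpace X] {f : X → (I → Prop)} (hf : IsEmbedding f)
    {A : Set X} (hA : IsOpen A) (hAc : IsCompact A) :
    ∃ t : Finset (Finset I), A = ⋃ F ∈ t, f ⁻¹' U F := by
  classical
  have hbasis : TopologicalSpace.IsTopologicalBasis (Set.range fun F : Finset I => f ⁻¹' U F) := by
    have := (isBasis_U (I := I)).isInducing hf.isInducing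
    rwa [← Set.range_comp] at this
  obtain ⟨t, ht⟩ := hAc.elim_finite_subcover (fun F : {F : Finset I // f ⁻¹' U F ⊆ A} => f ⁻¹' U F.1)
    (fun F => (isOpen_U _).preimage hf.continuous) (fun x hx => by
      obtain ⟨_, ⟨F, rfl⟩, h1, h2⟩ := hbasis.exists_subset_of_mem_open hx hA
      exact Set.mem_iUnion.2 ⟨⟨F, h2⟩, h1⟩)
  refine ⟨t.image Subtype.val, subset_antisymm (fun x hx => ?_) ?_⟩
  · obtain ⟨F, hF, hxF⟩ := Set.mem_iUnion₂.1 (ht hx)
    exact Set.mem_biUnion (Finset.mem_image_of_mem _ hF) hxF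
  · refine Set.iUnion₂_subset fun F hF => ?_
    obtain ⟨⟨F', h'⟩, -, rfl⟩ := Finset.mem_image.1 hF
    exact h'

theorem compactOpen_clop {X I : Type u} [TopologicalSpace X] {f : X → (I → Prop)} (hf : IsEmbedding f)
    {A : Set X} (hA : IsOpen A) (hAc : IsCompact A) : ∃ W, Clop W ∧ f ⁻¹' W = A := by
  obtain ⟨t, ht⟩ := compactOpen_rep hf hA hAc
  refine ⟨⋃ F ∈ (t : Set (Finset I)), U F, ⟨?_, ?_⟩, by rw [Set.preimage_iUnion₂, ht]; rfl⟩
  · exact @Set.Finite.isClosed_biUnion _ _ (discrete I) _ _ t.finite_toSet fun F _ => (clop_U F).1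
  · exact @isOpen_biUnion _ _ (discrete I) _ _ fun F _ => (clop_U F).2

theorem constructible_clop {X I : Type u} [TopologicalSpace X] [CompactSpace X] {f : X → (I → Prop)}
    (hf : IsEmbedding f) {E : Set X} (hE : IsConstructible E) : ∃ W, Clop W ∧ f ⁻¹' W = E := by
  induction hE using IsConstructible.empty_union_induction with
  | open_retrocompact V hV hVc => exact compactOpen_clop hf hV hVc.isCompact
  | union s hs t ht hs' ht' =>
    obtain ⟨A, hA, rfl⟩ := hs'
    obtain ⟨B, hB, rfl⟩ := ht'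
    exact ⟨A ∪ B, ⟨@IsClosed.union _ _ _ (discrete I) hA.1 hB.1, @IsOpen.union _ _ _ (discrete I) hA.2 hB.2⟩, rfl⟩
  | compl s hs hs' =>
    obtain ⟨A, hA, rfl⟩ := hs'
    exact ⟨Aᶜ, ⟨@IsOpen.isClosed_compl _ (discrete I) _ hA.2, @IsClosed.isOpen_compl _ (discrete I) _ hA.1⟩, rfl⟩

variable {J : Type u} [SmallCategory J] {F : J ⥤ TopCat.{u}} {c : Cone F}

theorem exists_embedding (hF : ∀ j, SpectralSpace (F.obj j))
    (hFm : ∀ {i j : J} (a : i ⟶ j), IsSpectralMap (F.map a : F.obj i → F.obj j)) (hc : IsLimit c) :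
    ∃ (I : J → Type u) (f : ∀ j, F.obj j → (I j → Prop)),
      (∀ j, IsEmbedding (f j) ∧ IsClosed[discrete (I j)] (Set.range (f j))) ∧
      IsEmbedding (fun (x : c.pt) (q : Σ j, I j) => f q.1 (c.π.app q.1 x) q.2) ∧
      IsClosed[discrete (Σ j, I j)] (Set.range fun (x : c.pt) (q : Σ j, I j) => f q.1 (c.π.app q.1 x) q.2) := by
  classical
  have h0 : ∀ j, ∃ (I : Type u) (f : F.obj j → (I → Prop)), IsEmbedding f ∧ IsClosed[discrete I] (Set.range f) := by
    intro j
    obtain ⟨I, f, h1, h2⟩ := (Groth.Agent.S7532.result (F.obj j)).1 (hF j)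
    exact ⟨I, f, h1, discrete_eq (I := I) ▸ h2⟩
  choose I f hf hcl using h0
  refine ⟨I, f, fun j => ⟨hf j, hcl j⟩, ?_⟩
  set g := fun (x : c.pt) (q : Σ j, I j) => f q.1 (c.π.app q.1 x) q.2 with hg
  -- the projections to the blocks
  let r : ∀ j, ((Σ j, I j) → Prop) → (I j → Prop) := fun j G m => G ⟨j, m⟩
  have hr : ∀ j, @Continuous _ _ (discrete (Σ j, I j)) (discrete (I j)) (r j) := fun j =>
    @continuous_pi _ (I j) (fun _ => Prop) (discrete (Σ j, I j)) (fun _ => ⊥) _ fun m =>
      @continuous_apply (Σ j, I j) (fun _ => Prop) (fun _ => ⊥) ⟨j, m⟩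
  have hco : ∀ (i j : J) (a : i ⟶ j) (m : I j), ∃ W, Clop W ∧ f i ⁻¹' W = {y | f j (F.map a y) m} := by
    intro i j a m
    have ho : IsOpen {y : F.obj j | f j y m} := by
      have := (isOpen_U {m}).preimage (hf j).continuous
      convert this using 1
      ext y; simp [U]
    have hc' : IsCompact {y : F.obj j | f j y m} := by
      have := compact_preimage (hf j) (hcl j) (clop_U {m}).1
      convert this using 1
      ext y; simp [U]
    exact compactOpen_clop (hf i) (ho.preimage (hFm a).continuous) ((hFm a).isCompact_preimage_of_isOpen ho hc')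
  choose W hW hWeq using hco
  have hsec := isLimitOfPreserves (forget TopCat.{u}) hc
  have hinj : Function.Injective g := by
    intro x y hxy
    refine (Types.isLimitEquivSections hsec).injective (Subtype.ext (funext fun j => ?_))
    show c.π.app j x = c.π.app j y
    exact (hf j).injective (funext fun m => congrFun hxy ⟨j, m⟩)
  have hrange : Set.range g = (⋂ j, r j ⁻¹' Set.range (f j)) ∩
      ⋂ (i) (j) (a : i ⟶ j) (m), {G | G ⟨j, m⟩ ↔ r i G ∈ W i j a m} := by
    ext G
    constructor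
    · rintro ⟨x, rfl⟩
      refine ⟨Set.mem_iInter.2 fun j => ⟨c.π.app j x, rfl⟩, ?_⟩
      simp only [Set.mem_iInter]
      intro i j a m
      show f j (c.π.app j x) m ↔ f i (c.π.app i x) ∈ W i j a m
      rw [← Set.mem_preimage, hWeq, ← Cone.w c a]
      rfl
    · rintro ⟨h1, h2⟩
      simp only [Set.mem_iInter, Set.mem_preimage] at h1 h2
      choose y hy using h1
      have hsect : ∀ {i j : J} (a : i ⟶ j), F.map a (y i) = y j := by
        intro i j a
        refine (hf j).injective (funext fun m => propext ?_)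
        have h := h2 i j a m
        simp only [Set.mem_ofPred_eq] at h
        have hj : f j (y j) m = G ⟨j, m⟩ := congrFun (hy j) m
        rw [hj, h, ← hy i, ← Set.mem_preimage, hWeq]
        rfl
      obtain ⟨x, hx⟩ := (Types.isLimitEquivSections hsec).surjective ⟨y, hsect⟩
      refine ⟨x, funext fun q => ?_⟩
      have : c.π.app q.1 x = y q.1 := congrFun (congrArg Subtype.val hx) q.1
      show f q.1 (c.π.app q.1 x) q.2 = G q
      rw [this]
      exact congrFun (hy q.1) q.2
  refine ⟨⟨⟨?_⟩, hinj⟩, ?_⟩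
  · rw [TopCat.induced_of_isLimit c hc]
    have : ∀ j, (F.obj j).str.induced (c.π.app j) =
        ⨅ m, (sierpinskiSpace.induced (fun x => g x ⟨j, m⟩)) := by
      intro j
      rw [(hf j).eq_induced, induced_compose, Pi.topologicalSpace, induced_iInf]
      simp only [induced_compose]
      rfl
    rw [Pi.topologicalSpace, induced_iInf]
    simp only [induced_compose, this]
    exact (iInf_sigma (f := fun q : Σ j, I j => sierpinskiSpace.induced (fun x => g x q))).symm
  · rw [hrange]
    letI := discrete (Σ j, I j)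
    refine IsClosed.inter (isClosed_iInter fun j => ?_)
      (isClosed_iInter fun i => isClosed_iInter fun j => isClosed_iInter fun a => isClosed_iInter fun m => ?_)
    · exact @IsClosed.preimage _ _ (discrete (Σ j, I j)) (discrete (I j)) _ (hr j) _ (hcl j)
    · have hA : IsClopen {G : (Σ j, I j) → Prop | G ⟨j, m⟩} :=
        ⟨⟨(isClopen_coord _).2⟩, (isClopen_coord _).1⟩
      have hB : IsClopen (r i ⁻¹' W i j a m) :=
        ⟨@IsClosed.preimage _ _ (discrete (Σ j, I j)) (discrete (I i)) _ (hr i) _ (hW i j a m).1,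
          @IsOpen.preimage _ _ (discrete (Σ j, I j)) (discrete (I i)) _ (hr i) _ (hW i j a m).2⟩
      have : {G : (Σ j, I j) → Prop | G ⟨j, m⟩ ↔ r i G ∈ W i j a m} =
          ({G | G ⟨j, m⟩} ∩ r i ⁻¹' W i j a m) ∪ ({G | G ⟨j, m⟩}ᶜ ∩ (r i ⁻¹' W i j a m)ᶜ) := by
        ext G; simp only [Set.mem_ofPred_eq, Set.mem_union, Set.mem_inter_iff, Set.mem_compl_iff, Set.mem_preimage]; tauto
      rw [this]
      exact ((hA.inter hB).union (hA.compl.inter hB.compl)).1

end Groth.Agent.H6.SpecLim

namespace Groth.Agent.H6.SpecLim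

open Topology CategoryTheory Limits Groth.Agent.H6.Sierp

universe u

variable {J : Type u} [SmallCategory J] {F : J ⥤ TopCat.{u}} {c : Cone F}

theorem limit_spectral (hF : ∀ j, SpectralSpace (F.obj j))
    (hFm : ∀ {i j : J} (a : i ⟶ j), IsSpectralMap (F.map a : F.obj i → F.obj j)) (hc : IsLimit c) :
    SpectralSpace c.pt ∧ ∀ j, IsSpectralMap (c.π.app j : c.pt → F.obj j) := by
  obtain ⟨I, f, hf, hg, hgcl⟩ := exists_embedding hF hFm hc
  refine ⟨(Groth.Agent.S7532.result c.pt).2 ⟨_, _, hg, by rw [discrete_eq]; exact hgcl⟩, fun j => ?_⟩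
  refine ⟨(c.π.app j).hom.continuous, fun s hs hsc => ?_⟩
  obtain ⟨W, hW, rfl⟩ := compactOpen_clop (hf j).1 hs hsc
  have hr : @Continuous _ _ (discrete (Σ j, I j)) (discrete (I j)) (fun (G : (Σ j, I j) → Prop) m => G ⟨j, m⟩) :=
    @continuous_pi _ (I j) (fun _ => Prop) (discrete (Σ j, I j)) (fun _ => ⊥) _ fun m =>
      @continuous_apply (Σ j, I j) (fun _ => Prop) (fun _ => ⊥) ⟨j, m⟩
  exact compact_preimage hg hgcl
    (@IsClosed.preimage _ _ (discrete (Σ j, I j)) (discrete (I j)) _ hr _ hW.1)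

theorem compactOpen_descends [IsCofiltered J] (hF : ∀ j, SpectralSpace (F.obj j))
    (hFm : ∀ {i j : J} (a : i ⟶ j), IsSpectralMap (F.map a : F.obj i → F.obj j)) (hc : IsLimit c)
    {V : Set c.pt} (hV : IsOpen V) (hVc : IsCompact V) :
    ∃ (i : J) (W : Set (F.obj i)), IsOpen W ∧ IsCompact W ∧ c.π.app i ⁻¹' W = V := by
  classical
  obtain ⟨I, f, hf, hg, hgcl⟩ := exists_embedding hF hFm hc
  obtain ⟨t, ht⟩ := compactOpen_rep hg hV hVc
  obtain ⟨i, hi⟩ := IsCofiltered.inf_objs_exists (t.biUnion fun G => G.image Sigma.fst)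
  have hi' : ∀ j, j ∈ t.biUnion (fun G => G.image Sigma.fst) → ∃ a : i ⟶ j, True := fun j hj => ⟨(hi hj).some, trivial⟩
  choose a _ using hi'
  let P : Finset (Σ j, I j) → Set (F.obj i) := fun G =>
    {x | ∀ q ∈ G, ∀ h : q.1 ∈ t.biUnion (fun G => G.image Sigma.fst), f q.1 (F.map (a q.1 h) x) q.2}
  haveI := hF i
  have hP : ∀ G, IsOpen (P G) ∧ IsCompact (P G) := by
    intro G
    let s : (Σ j, I j) → Set (F.obj i) := fun q =>
      {x | ∀ h : q.1 ∈ t.biUnion (fun G => G.image Sigma.fst), f q.1 (F.map (a q.1 h) x) q.2}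
    have hs : ∀ q, IsOpen (s q) ∧ IsCompact (s q) := by
      intro q
      by_cases h : q.1 ∈ t.biUnion (fun G => G.image Sigma.fst)
      · have hcoord : IsOpen (f q.1 ⁻¹' U {q.2}) ∧ IsCompact (f q.1 ⁻¹' U {q.2}) :=
          ⟨(isOpen_U _).preimage (hf q.1).1.continuous, compact_preimage (hf q.1).1 (hf q.1).2 (clop_U _).1⟩
        have e : s q = F.map (a q.1 h) ⁻¹' (f q.1 ⁻¹' U {q.2}) := by
          ext x; simp only [s, U, Set.mem_ofPred_eq, Set.mem_preimage, Finset.mem_singleton, forall_eq]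
          exact ⟨fun h' => h' h, fun h' _ => h'⟩
        rw [e]
        exact ⟨hcoord.1.preimage (hFm _).continuous, (hFm _).isCompact_preimage_of_isOpen hcoord.1 hcoord.2⟩
      · rw [show s q = Set.univ from Set.eq_univ_of_forall fun x h' => absurd h' h]
        exact ⟨isOpen_univ, isCompact_univ⟩
    induction G using Finset.induction_on with
    | empty =>
      rw [show P ∅ = Set.univ from Set.eq_univ_of_forall fun x q hq => absurd hq (Finset.notMem_empty q)]
      exact ⟨isOpen_univ, isCompact_univ⟩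
    | @insert q G hq ih =>
      have e : P (insert q G) = s q ∩ P G := by
        ext x; simp [P, s, Finset.forall_mem_insert]
      rw [e]
      exact ⟨(hs q).1.inter ih.1, QuasiSeparatedSpace.inter_isCompact _ _ (hs q).1 (hs q).2 ih.1 ih.2⟩
  refine ⟨i, ⋃ G ∈ t, P G, isOpen_biUnion fun G _ => (hP G).1, t.isCompact_biUnion fun G _ => (hP G).2, ?_⟩
  rw [ht, Set.preimage_iUnion₂]
  refine Set.iUnion₂_congr fun G hG => ?_
  ext x
  simp only [P, Set.mem_preimage, Set.mem_ofPred_eq, U]
  refine forall_congr' fun q => forall_congr' fun hq => ?_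
  have h : q.1 ∈ t.biUnion (fun G => G.image Sigma.fst) :=
    Finset.mem_biUnion.2 ⟨G, hG, Finset.mem_image_of_mem _ hq⟩
  rw [← Cone.w c (a q.1 h)]
  exact ⟨fun h' => h' h, fun h' _ => h'⟩

end Groth.Agent.H6.SpecLim
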