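import Mathlib

set_option autoImplicit false

universe u v w

open scoped TensorProduct

namespace Groth.Agent.H6SplitFiltTensor

variable {Γ : Type w} [LinearOrder Γ] {R : Type u} [CommRing R] {M : Type v} [AddCommGroup M] [Module R M]

noncomputable def proj {H : Γ → Submodule R M} (hH : DirectSum.IsInternal H) (η : Γ) : M →ₗ[R] M :=
  (H η).subtype ∘ₗ DirectSum.component R Γ (fun γ => H γ) η ∘ₗ
    (LinearEquiv.ofBijective (DirectSum.coeLinearMap H) hH).symm.toLinearMap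

theorem proj_of_mem {H : Γ → Submodule R M} (hH : DirectSum.IsInternal H) {μ η : Γ} {x : M}
    (hx : x ∈ H μ) : (μ = η → proj hH η x = x) ∧ (μ ≠ η → proj hH η x = 0) := by
  have e : (LinearEquiv.ofBijective (DirectSum.coeLinearMap H) hH).symm x =
      DirectSum.lof R Γ (fun γ => H γ) μ ⟨x, hx⟩ := by
    rw [LinearEquiv.symm_apply_eq]
    exact (DirectSum.coeLinearMap_of H μ ⟨x, hx⟩).symm
  constructor
  · rintro rfl
    simp only [proj, LinearMap.comp_apply, LinearEquiv.coe_coe, e, DirectSum.component.lof_self]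
    rfl
  · intro h
    simp only [proj, LinearMap.comp_apply, LinearEquiv.coe_coe, e, DirectSum.component.of, dif_neg h]
    rfl

theorem eq_sum_proj {H : Γ → Submodule R M} (hH : DirectSum.IsInternal H) (x : M) :
    ∃ s : Finset Γ, x = ∑ η ∈ s, proj hH η x := by
  classical
  let d := (LinearEquiv.ofBijective (DirectSum.coeLinearMap H) hH).symm x
  refine ⟨d.support, ?_⟩
  conv_lhs => rw [← (LinearEquiv.ofBijective (DirectSum.coeLinearMap H) hH).apply_symm_apply x]
  show DirectSum.coeLinearMap H d = _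
  conv_lhs => rw [← DirectSum.sum_support_of d]
  rw [map_sum]
  refine Finset.sum_congr rfl fun η _ => ?_
  rw [DirectSum.coeLinearMap_of]
  rfl

theorem proj_eq_zero_of_lt {H : Γ → Submodule R M} (hH : DirectSum.IsInternal H) {η γ : Γ}
    (h : η < γ) {x : M} (hx : x ∈ ⨆ μ ∈ Set.Ici γ, H μ) : proj hH η x = 0 := by
  have : (⨆ μ ∈ Set.Ici γ, H μ) ≤ LinearMap.ker (proj hH η) :=
    iSup₂_le fun μ hμ y hy => (proj_of_mem hH hy).2 (h.trans_le hμ).ne'
  exact this hx

theorem mem_of_proj {H : Γ → Submodule R M} (hH : DirectSum.IsInternal H) {γ : Γ} {x : M}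
    (h : ∀ η, η < γ → proj hH η x = 0) : x ∈ ⨆ μ ∈ Set.Ici γ, H μ := by
  classical
  obtain ⟨s, hs⟩ := eq_sum_proj hH x
  rw [hs]
  refine Submodule.sum_mem _ fun η _ => ?_
  rcases lt_or_ge η γ with hη | hη
  · rw [h η hη]; exact Submodule.zero_mem _
  · refine Submodule.mem_iSup_of_mem η (Submodule.mem_iSup_of_mem hη ?_)
    exact Submodule.coe_mem _

variable [AddCommGroup Γ] [IsOrderedAddMonoid Γ] {m : ℕ}

theorem prod_eq_zero {H : Γ → Submodule R M} (hH : DirectSum.IsInternal H)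
    (F₁ F₂ : Γ → Submodule R M) (hF₂ : ∀ γ, F₂ γ = ⨆ η ∈ Set.Ici γ, H η)
    (h : ∀ γ : Γ,
      (⨆ c : {c : Fin (m + 1) → Γ // ∑ i, c i = γ}, LinearMap.range (PiTensorProduct.map (R := R) (fun i => (F₁ (c.1 i)).subtype))) ≤
      (⨆ c : {c : Fin (m + 1) → Γ // ∑ i, c i = γ}, LinearMap.range (PiTensorProduct.map (R := R) (fun i => (F₂ (c.1 i)).subtype))))
    (v : Fin (m + 1) → M) (d μ : Fin (m + 1) → Γ) (hv : ∀ i, v i ∈ F₁ (d i))
    (hlt : ∑ i, μ i < ∑ i, d i) (f : Fin (m + 1) → M →ₗ[R] R) :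
    ∏ i, f i (proj hH (μ i) (v i)) = 0 := by
  let Φ : (⨂[R] _ : Fin (m + 1), M) →ₗ[R] R :=
    PiTensorProduct.lift ((MultilinearMap.mkPiAlgebra R (Fin (m + 1)) R).compLinearMap
      (fun i => (f i).comp (proj hH (μ i))))
  have hΦ : ∀ u : Fin (m + 1) → M, Φ (PiTensorProduct.tprod R u) = ∏ i, f i (proj hH (μ i) (u i)) := by
    intro u; simp [Φ]
  have hle : (⨆ c : {c : Fin (m + 1) → Γ // ∑ i, c i = ∑ i, d i}, LinearMap.range (PiTensorProduct.map (R := R) (fun i => (F₂ (c.1 i)).subtype))) ≤ LinearMap.ker Φ := by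
    refine iSup_le fun c => ?_
    rintro _ ⟨t, rfl⟩
    rw [LinearMap.mem_ker]
    induction t using PiTensorProduct.induction_on with
    | smul_tprod r u =>
      rw [map_smul, map_smul, PiTensorProduct.map_tprod, hΦ]
      obtain ⟨i, hi⟩ : ∃ i, μ i < c.1 i := by
        by_contra hno
        simp only [not_exists, not_lt] at hno
        exact absurd (Finset.sum_le_sum fun i _ => hno i) (not_le.2 (c.2.symm ▸ hlt))
      rw [Finset.prod_eq_zero (Finset.mem_univ i), smul_zero]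
      have hu : ((u i : M)) ∈ ⨆ η ∈ Set.Ici (c.1 i), H η := hF₂ (c.1 i) ▸ (u i).2
      simp [proj_eq_zero_of_lt hH hi hu]
    | add x y hx hy => rw [map_add, map_add, hx, hy, add_zero]
  rw [← hΦ]
  refine hle (h _ (Submodule.mem_iSup_of_mem ⟨d, rfl⟩ ⟨PiTensorProduct.tprod R (fun i => (⟨v i, hv i⟩ : F₁ (d i))), ?_⟩))
  rw [PiTensorProduct.map_tprod]
  rfl

theorem le_of_tensor [Module.Finite R M] [Module.Projective R M] {G H : Γ → Submodule R M}
    (hG : DirectSum.IsInternal G) (hH : DirectSum.IsInternal H)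
    (F₁ F₂ : Γ → Submodule R M) (hF₁ : ∀ γ, F₁ γ = ⨆ η ∈ Set.Ici γ, G η)
    (hF₂ : ∀ γ, F₂ γ = ⨆ η ∈ Set.Ici γ, H η)
    (h : ∀ γ : Γ,
      (⨆ c : {c : Fin (m + 1) → Γ // ∑ i, c i = γ}, LinearMap.range (PiTensorProduct.map (R := R) (fun i => (F₁ (c.1 i)).subtype))) =
      (⨆ c : {c : Fin (m + 1) → Γ // ∑ i, c i = γ}, LinearMap.range (PiTensorProduct.map (R := R) (fun i => (F₂ (c.1 i)).subtype))))
    (γ : Γ) : F₁ γ ≤ F₂ γ := by
  classical
  intro x hx
  rw [hF₂]
  refine mem_of_proj hH fun η hη => ?_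
  set z := proj hH η x with hz
  let J : Ideal R := LinearMap.ker (LinearMap.toSpanSingleton R M z)
  suffices J = ⊤ by
    have h1 : (1 : R) ∈ J := this ▸ Submodule.mem_top
    simpa [J] using h1
  by_contra hJ
  obtain ⟨𝔪, h𝔪, hJm⟩ := Ideal.exists_le_maximal J hJ
  have hprime := h𝔪.isPrime
  obtain ⟨s, hs⟩ := Module.projective_def'.1 (inferInstance : Module.Projective R M)
  have hdual : ∀ v : M, (∀ f : M →ₗ[R] R, f v = 0) → v = 0 := by
    intro v hv
    have : s v = 0 := Finsupp.ext fun i => hv ((Finsupp.lapply i).comp s)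
    simpa [this] using (LinearMap.congr_fun hs v).symm
  have hm : ∀ v : M, (∀ f : M →ₗ[R] R, f v ∈ 𝔪) → v ∈ 𝔪 • (⊤ : Submodule R M) := by
    intro v hv
    have hv' : v = (Finsupp.linearCombination R id) (s v) := (LinearMap.congr_fun hs v).symm
    rw [hv', Finsupp.linearCombination_apply]
    exact Submodule.sum_mem _ fun i _ =>
      Submodule.smul_mem_smul (hv ((Finsupp.lapply i).comp s)) Submodule.mem_top
  -- low components are nilpotent, in both directions
  have hlow : ∀ (A B : Γ → Submodule R M) {L : Γ → Submodule R M} (hL : DirectSum.IsInternal L),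
      (∀ γ, B γ = ⨆ η ∈ Set.Ici γ, L η) →
      (∀ γ : Γ,
      (⨆ c : {c : Fin (m + 1) → Γ // ∑ i, c i = γ}, LinearMap.range (PiTensorProduct.map (R := R) (fun i => (A (c.1 i)).subtype))) ≤
      (⨆ c : {c : Fin (m + 1) → Γ // ∑ i, c i = γ}, LinearMap.range (PiTensorProduct.map (R := R) (fun i => (B (c.1 i)).subtype)))) →
      ∀ (δ μ : Γ) (y : M), y ∈ A δ → μ < δ → proj hL μ y ∈ 𝔪 • (⊤ : Submodule R M) := by
    intro A B L hL hB hAB δ μ y hy hμ
    refine hm _ fun f => hprime.mem_of_pow_mem (m + 1) ?_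
    have := prod_eq_zero hL A B hB hAB (fun _ => y) (fun _ => δ) (fun _ => μ) (fun _ => hy)
      (Finset.sum_lt_sum_of_nonempty Finset.univ_nonempty fun _ _ => hμ) (fun _ => f)
    rw [Finset.prod_const, Finset.card_univ, Fintype.card_fin] at this
    rw [this]; exact 𝔪.zero_mem
  -- unit components kill z
  have hkill : ∀ (δ : Γ) (y : M), y ∈ F₁ δ → proj hH δ y ∈ 𝔪 • (⊤ : Submodule R M) := by
    intro δ y hy
    refine hm _ fun g => hprime.mem_of_pow_mem m (hJm ?_)
    show LinearMap.toSpanSingleton R M z (g (proj hH δ y) ^ m) = 0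
    refine hdual _ fun f => ?_
    have := prod_eq_zero hH F₁ F₂ hF₂ (fun γ => (h γ).le) (Fin.cons x fun _ => y)
      (Fin.cons γ fun _ => δ) (Fin.cons η fun _ => δ) (Fin.cases hx (fun _ => hy))
      (by rw [Fin.sum_cons, Fin.sum_cons]; exact add_lt_add_left hη _) (Fin.cons f fun _ => g)
    rw [Fin.prod_univ_succ] at this
    simp only [Fin.cons_zero, Fin.cons_succ, Finset.prod_const, Finset.card_univ, Fintype.card_fin] at this
    rw [LinearMap.toSpanSingleton_apply, map_smul, smul_eq_mul, mul_comm]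
    exact this
  have hsm : ∀ (f : M →ₗ[R] M) (v : M), v ∈ 𝔪 • (⊤ : Submodule R M) → f v ∈ 𝔪 • (⊤ : Submodule R M) := by
    intro f v hv
    exact Submodule.smul_top_le_comap_smul_top 𝔪 f hv
  have hGm : ∀ (δ : Γ) (y : M), y ∈ G δ → y ∈ 𝔪 • (⊤ : Submodule R M) := by
    intro δ y hy
    have hy1 : y ∈ F₁ δ := by
      rw [hF₁]; exact Submodule.mem_iSup_of_mem δ (Submodule.mem_iSup_of_mem le_rfl hy)
    obtain ⟨t, ht⟩ := eq_sum_proj hH y
    rw [← (proj_of_mem hG hy).1 rfl, ht, map_sum]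
    refine Submodule.sum_mem _ fun μ _ => ?_
    rcases lt_trichotomy μ δ with hμ | rfl | hμ
    · exact hsm _ _ (hlow F₁ F₂ hH hF₂ (fun γ => (h γ).le) δ μ y hy1 hμ)
    · exact hsm _ _ (hkill μ y hy1)
    · refine hlow F₂ F₁ hG hF₁ (fun γ => (h γ).ge) μ δ (proj hH μ y) ?_ hμ
      rw [hF₂]
      exact Submodule.mem_iSup_of_mem μ (Submodule.mem_iSup_of_mem le_rfl (Submodule.coe_mem _))
  have htop : (⊤ : Submodule R M) ≤ 𝔪 • (⊤ : Submodule R M) := by
    intro v _
    obtain ⟨t, ht⟩ := eq_sum_proj hG v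
    rw [ht]
    exact Submodule.sum_mem _ fun δ _ => hGm δ _ (Submodule.coe_mem _)
  obtain ⟨r, hr1, hr2⟩ := Submodule.exists_sub_one_mem_and_smul_eq_zero_of_fg_of_le_smul 𝔪
    (⊤ : Submodule R M) (Module.finite_def.1 inferInstance) htop
  have hrJ : r ∈ J := by
    show LinearMap.toSpanSingleton R M z r = 0
    rw [LinearMap.toSpanSingleton_apply]
    exact hr2 z Submodule.mem_top
  refine h𝔪.ne_top ((Ideal.eq_top_iff_one _).2 ?_)
  have := 𝔪.sub_mem (hJm hrJ) hr1
  simpa using this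

end Groth.Agent.H6SplitFiltTensor
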