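import Mathlib

set_option autoImplicit false

universe v u v' u'
open CategoryTheory

namespace Groth.Agent.H6SubLoc

variable {D : Type u} [Category.{v} D] (P : ObjectProperty D)
  (S : MorphismProperty D) [S.HasRightCalculusOfFractions]
  (hP : ∀ X : D, ∃ (X' : D) (s : X' ⟶ X), P X' ∧ S s)

include hP in
theorem hasRightCalculus : (S.inverseImage P.ι).HasRightCalculusOfFractions :=
  { id_mem := fun X => S.id_mem X.obj
    comp_mem := fun f g hf hg => S.comp_mem _ _ hf hg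
    exists_rightFraction := fun X Y φ => by
      obtain ⟨ψ, hψ⟩ := MorphismProperty.HasRightCalculusOfFractions.exists_rightFraction
        (W := S) (MorphismProperty.LeftFraction.mk φ.f.hom φ.s.hom φ.hs)
      obtain ⟨Z, t, hZ, ht⟩ := hP ψ.X'
      refine ⟨MorphismProperty.RightFraction.mk (X' := ⟨Z, hZ⟩) (ObjectProperty.homMk (t ≫ ψ.s))
        (S.comp_mem _ _ ht ψ.hs) (ObjectProperty.homMk (t ≫ ψ.f)), ?_⟩
      apply ObjectProperty.hom_ext
      simpa using congrArg (fun m => t ≫ m) hψ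
    ext := fun X Y Y' f₁ f₂ s hs h => by
      obtain ⟨X', t, ht, hft⟩ := MorphismProperty.HasRightCalculusOfFractions.ext
        (W := S) f₁.hom f₂.hom s.hom hs (congrArg InducedCategory.Hom.hom h)
      obtain ⟨Z, u, hZ, hu⟩ := hP X'
      refine ⟨⟨Z, hZ⟩, ObjectProperty.homMk (u ≫ t), S.comp_mem _ _ hu ht, ?_⟩
      apply ObjectProperty.hom_ext
      simpa using congrArg (fun m => u ≫ m) hft }

variable {E : Type u'} [Category.{v'} E] (Q : D ⥤ E) [Q.IsLocalization S]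

include hP in
theorem isLocalization : (P.ι ⋙ Q).IsLocalization (S.inverseImage P.ι) := by
  have := hasRightCalculus P S hP
  set W := S.inverseImage P.ι with hW
  have hinv : W.IsInvertedBy (P.ι ⋙ Q) := fun X Y f hf => Localization.inverts Q S _ hf
  let L := W.Q
  let Φ := Localization.lift (P.ι ⋙ Q) hinv L
  let e : L ⋙ Φ ≅ P.ι ⋙ Q := Localization.fac (P.ι ⋙ Q) hinv L
  have hiso : ∀ {A B : D} (s : A ⟶ B), S s → IsIso (Q.map s) :=
    fun s hs => Localization.inverts Q S _ hs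
  have hess : Φ.EssSurj := ⟨fun y => by
    have := Localization.essSurj Q S
    obtain ⟨X', s, hX', hs⟩ := hP (Q.objPreimage y)
    have := hiso s hs
    exact ⟨L.obj ⟨X', hX'⟩, ⟨e.app _ ≪≫ asIso (Q.map s) ≪≫ Q.objObjPreimageIso y⟩⟩⟩
  have hLobj : ∀ a : W.Localization, ∃ X, Nonempty (L.obj X ≅ a) := fun a => by
    have := Localization.essSurj L W
    exact ⟨L.objPreimage a, ⟨L.objObjPreimageIso a⟩⟩
  have hfull : ∀ X Y, ∀ g : Φ.obj (L.obj X) ⟶ Φ.obj (L.obj Y), ∃ a, Φ.map a = g := by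
    intro X Y g
    obtain ⟨φ, hφ⟩ := Localization.exists_rightFraction Q S
      ((e.inv.app X ≫ g ≫ e.hom.app Y : Q.obj X.obj ⟶ Q.obj Y.obj))
    obtain ⟨Z, t, hZ, ht⟩ := hP φ.X'
    let s' : (⟨Z, hZ⟩ : P.FullSubcategory) ⟶ X := ObjectProperty.homMk (t ≫ φ.s)
    let f' : (⟨Z, hZ⟩ : P.FullSubcategory) ⟶ Y := ObjectProperty.homMk (t ≫ φ.f)
    have : IsIso (L.map s') := Localization.inverts L W _ (S.comp_mem _ _ ht φ.hs)
    refine ⟨inv (L.map s') ≫ L.map f', ?_⟩
    rw [Functor.map_comp, Functor.map_inv, IsIso.inv_comp_eq, ← cancel_mono (e.hom.app Y)]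
    have n1 := e.hom.naturality s'
    have n2 := e.hom.naturality f'
    simp only [Functor.comp_map] at n1 n2
    rw [n2]
    have hg : g ≫ e.hom.app Y = e.hom.app X ≫ φ.map Q (Localization.inverts Q S) := by
      rw [← hφ, ← Category.assoc (e.hom.app X), Iso.hom_inv_id_app]
      exact (Category.id_comp _).symm
    rw [Category.assoc, hg, reassoc_of% n1]
    congr 1
    show Q.map (t ≫ φ.f) = Q.map (t ≫ φ.s) ≫ _
    rw [Q.map_comp, Q.map_comp, Category.assoc, MorphismProperty.RightFraction.map_s_comp_map]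
  have hfaith : ∀ X Y, ∀ a b : L.obj X ⟶ L.obj Y, Φ.map a = Φ.map b → a = b := by
    intro X Y a b hab
    obtain ⟨φ, ha⟩ := Localization.exists_rightFraction L W a
    obtain ⟨ψ, hb⟩ := Localization.exists_rightFraction L W (L.map φ.s ≫ b)
    have : IsIso (L.map φ.s) := Localization.inverts L W _ φ.hs
    have : IsIso (L.map ψ.s) := Localization.inverts L W _ ψ.hs
    have h1 : L.map ψ.s ≫ L.map φ.s ≫ a = L.map (ψ.s ≫ φ.f) := by
      rw [ha, MorphismProperty.RightFraction.map_s_comp_map, L.map_comp]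
    have h2 : L.map ψ.s ≫ L.map φ.s ≫ b = L.map ψ.f := by
      rw [hb, MorphismProperty.RightFraction.map_s_comp_map]
    rw [← cancel_epi (L.map φ.s), ← cancel_epi (L.map ψ.s), h1, h2]
    have h3 : Φ.map (L.map (ψ.s ≫ φ.f)) = Φ.map (L.map ψ.f) := by
      rw [← h1, ← h2]
      simp only [Functor.map_comp, hab]
    have h4 : Q.map (ψ.s ≫ φ.f).hom = Q.map ψ.f.hom := by
      have n1 := e.hom.naturality (ψ.s ≫ φ.f)
      have n2 := e.hom.naturality ψ.f
      simp only [Functor.comp_map] at n1 n2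
      rw [h3] at n1
      exact (cancel_epi (e.hom.app ψ.X')).1 (n1.symm.trans n2)
    obtain ⟨T, t, ht, hft⟩ := (S.map_eq_iff_precomp Q _ _).1 h4
    obtain ⟨Z, u, hZ, hu⟩ := hP T
    let t' : (⟨Z, hZ⟩ : P.FullSubcategory) ⟶ ψ.X' := ObjectProperty.homMk (u ≫ t)
    have : IsIso (L.map t') := Localization.inverts L W _ (S.comp_mem _ _ hu ht)
    rw [← cancel_epi (L.map t'), ← L.map_comp, ← L.map_comp]
    congr 1
    apply ObjectProperty.hom_ext
    simpa [t'] using congrArg (fun m => u ≫ m) hft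
  have hF : Φ.Full := ⟨fun {a b} g => by
    obtain ⟨X, ⟨iX⟩⟩ := hLobj a
    obtain ⟨Y, ⟨iY⟩⟩ := hLobj b
    obtain ⟨c, hc⟩ := hfull X Y (Φ.map iX.hom ≫ g ≫ Φ.map iY.inv)
    refine ⟨iX.inv ≫ c ≫ iY.hom, ?_⟩
    simp only [Functor.map_comp, hc, Category.assoc]
    simp [← Functor.map_comp_assoc, ← Functor.map_comp]⟩
  have hFa : Φ.Faithful := ⟨fun {a b} f g h => by
    obtain ⟨X, ⟨iX⟩⟩ := hLobj a
    obtain ⟨Y, ⟨iY⟩⟩ := hLobj b
    have := hfaith X Y (iX.hom ≫ f ≫ iY.inv) (iX.hom ≫ g ≫ iY.inv) (by simp [h])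
    simpa using this⟩
  have : Φ.IsEquivalence := { }
  exact Functor.IsLocalization.of_equivalence_target L W _ Φ.asEquivalence e

end Groth.Agent.H6SubLoc
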