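import Mathlib

set_option autoImplicit false
set_option maxHeartbeats 1000000
attribute [local instance 100] LieRing.ofAssociativeRing

universe u

open Matrix

namespace Groth.Agent.H6SubregularSl

variable {O : Type u} [CommRing O] {n : ℕ}

def ext' (z : Matrix (Fin (n + 1)) (Fin (n + 1)) O) (i j : ℕ) : O :=
  if h : i < n + 1 ∧ j < n + 1 then z ⟨i, h.1⟩ ⟨j, h.2⟩ else 0

theorem ext'_coe (z : Matrix (Fin (n + 1)) (Fin (n + 1)) O) (i j : Fin (n + 1)) : ext' z i j = z i j := by
  rw [ext', dif_pos ⟨i.2, j.2⟩]

def Φ (n : ℕ) : Matrix (Fin (n + 1)) (Fin (n + 1)) O →ₗ[O] (Fin n → O) × O × O where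
  toFun z := (fun k => ∑ t ∈ Finset.range (n - k.val), ext' z (t + k.val) t, ext' z (n - 1) n, ext' z n 0)
  map_add' a b := by
    have h : ∀ i j, ext' (a + b) i j = ext' a i j + ext' b i j := fun i j => by
      simp only [ext']; split_ifs <;> simp
    ext <;> simp [h, Finset.sum_add_distrib]
  map_smul' r a := by
    have h : ∀ i j, ext' (r • a) i j = r * ext' a i j := fun i j => by
      simp only [ext']; split_ifs <;> simp
    ext <;> simp [h, Finset.mul_sum]

variable (x : Matrix (Fin (n + 1)) (Fin (n + 1)) O)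
  (hx : ∀ i j : Fin (n + 1), x i j = if j.val = i.val + 1 ∧ j.val < n then 1 else 0)

include hx in
theorem bracket_apply (y : Matrix (Fin (n + 1)) (Fin (n + 1)) O) (i j : Fin (n + 1)) :
    (x * y - y * x) i j = (if i.val + 1 < n then ext' y (i.val + 1) j.val else 0) -
      (if 1 ≤ j.val ∧ j.val < n then ext' y i.val (j.val - 1) else 0) := by
  rw [Matrix.sub_apply, Matrix.mul_apply, Matrix.mul_apply]
  congr 1
  · simp only [hx, ite_mul, one_mul, zero_mul]
    by_cases h : i.val + 1 < n
    · rw [if_pos h, Finset.sum_eq_single ⟨i.val + 1, by omega⟩]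
      · rw [if_pos ⟨rfl, h⟩, ← ext'_coe y]
      · intro l _ hl
        exact if_neg fun hh => hl (Fin.ext hh.1)
      · simp
    · rw [if_neg h]
      exact Finset.sum_eq_zero fun l _ => if_neg (by omega)
  · simp only [hx, mul_ite, mul_one, mul_zero]
    by_cases h : 1 ≤ j.val ∧ j.val < n
    · rw [if_pos h, Finset.sum_eq_single ⟨j.val - 1, by omega⟩]
      · rw [if_pos ⟨(by show j.val = j.val - 1 + 1; omega), h.2⟩, ← ext'_coe y]
      · intro l _ hl
        refine if_neg fun hh => hl (Fin.ext ?_)
        simp only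
        omega
      · simp
    · rw [if_neg h]
      exact Finset.sum_eq_zero fun l _ => if_neg (by omega)

include hx in
theorem Φ_bracket (hn : 1 ≤ n) (y : Matrix (Fin (n + 1)) (Fin (n + 1)) O) : Φ n (x * y - y * x) = 0 := by
  have he : ∀ i j : ℕ, i < n + 1 → j < n + 1 → ext' (x * y - y * x) i j =
      (if i + 1 < n then ext' y (i + 1) j else 0) - (if 1 ≤ j ∧ j < n then ext' y i (j - 1) else 0) := by
    intro i j hi hj
    exact (ext'_coe _ ⟨i, hi⟩ ⟨j, hj⟩).trans (bracket_apply x hx y ⟨i, hi⟩ ⟨j, hj⟩)
  refine Prod.ext (funext fun k => ?_) (Prod.ext ?_ ?_)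
  · show ∑ t ∈ Finset.range (n - k.val), ext' _ (t + k.val) t = 0
    let u : ℕ → O := fun t => if 1 ≤ t ∧ t < n - k.val then ext' y (t + k.val) (t - 1) else 0
    calc ∑ t ∈ Finset.range (n - k.val), ext' (x * y - y * x) (t + k.val) t
        = ∑ t ∈ Finset.range (n - k.val), (u (t + 1) - u t) := by
          refine Finset.sum_congr rfl fun t ht => ?_
          have ht' : t < n - k.val := Finset.mem_range.1 ht
          rw [he _ _ (by omega) (by omega)]
          congr 1
          · simp only [u]
            by_cases h : t + k.val + 1 < n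
            · rw [if_pos h, if_pos (by omega), show t + 1 + k.val = t + k.val + 1 by omega, show t + 1 - 1 = t by omega]
            · rw [if_neg h, if_neg (by omega)]
          · simp only [u]
            by_cases h : 1 ≤ t
            · rw [if_pos (by omega), if_pos (by omega)]
            · rw [if_neg (by omega), if_neg (by omega)]
      _ = 0 := by
          rw [Finset.sum_range_sub u]
          simp [u]
  · show ext' _ (n - 1) n = 0
    rw [he _ _ (by omega) (by omega), if_neg (by omega), if_neg (by omega), sub_zero]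
  · show ext' _ n 0 = 0
    rw [he _ _ (by omega) (by omega), if_neg (by omega), if_neg (by omega), sub_zero]

include hx in
theorem exists_preimage (hn : 1 ≤ n) (z : Matrix (Fin (n + 1)) (Fin (n + 1)) O) (htr : z.trace = 0)
    (hz : Φ n z = 0) : ∃ y : Matrix (Fin (n + 1)) (Fin (n + 1)) O, x * y - y * x = z := by
  let z' := ext' z
  let B : ℕ → ℕ → O := fun i j => if i < n ∧ j < n then z' i j else 0
  let S : ℕ → ℕ → O := fun a b => ∑ t ∈ Finset.range a, if a ≤ t + b + 1 then B t (t + b + 1 - a) else 0
  let Y : ℕ → ℕ → O := fun a b =>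
    if a < n ∧ b < n then S a b
    else if a < n then (if 1 ≤ a then z' (a - 1) n else 0)
    else if b + 1 < n then - z' n (b + 1) else 0
  refine ⟨Matrix.of fun a b => Y a.val b.val, ?_⟩
  have hY : ∀ a b, a < n + 1 → b < n + 1 → ext' (Matrix.of fun (a b : Fin (n + 1)) => Y a.val b.val) a b = Y a b := by
    intro a b ha hb
    exact ext'_coe _ ⟨a, ha⟩ ⟨b, hb⟩
  have hk : ∀ k, k < n → ∑ t ∈ Finset.range (n - k), z' (t + k) t = 0 :=
    fun k hk => congrFun (congrArg Prod.fst hz) ⟨k, hk⟩
  have hSn : ∀ j, j < n → S n j = 0 := by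
    intro j hj
    obtain ⟨k, hk'⟩ : ∃ k, n = k + (j + 1) := ⟨n - (j + 1), by omega⟩
    show ∑ t ∈ Finset.range n, _ = 0
    refine Eq.trans ?_ (hk k (by omega))
    rw [show n - k = j + 1 by omega]
    conv_lhs => arg 1; rw [hk']
    rw [Finset.sum_range_add, Finset.sum_eq_zero (s := Finset.range k) (fun t ht => if_neg (by have := Finset.mem_range.1 ht; omega)), zero_add]
    refine Finset.sum_congr rfl fun t ht => ?_
    have := Finset.mem_range.1 ht
    rw [if_pos (by omega)]
    simp only [B]
    rw [if_pos ⟨by omega, by omega⟩, show k + t + j + 1 - n = t by omega, add_comm k t]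
  ext i j
  rw [bracket_apply x hx, ← ext'_coe z i j]
  show _ = z' i.val j.val
  have hi := i.2
  have hj := j.2
  generalize hI : (i : ℕ) = a at hi ⊢
  generalize hJ : (j : ℕ) = b at hj ⊢
  by_cases ha : a < n
  · by_cases hb : b < n
    · have e1 : (if a + 1 < n then ext' (Matrix.of fun (a b : Fin (n + 1)) => Y a.val b.val) (a + 1) b else 0) = S (a + 1) b := by
        by_cases h : a + 1 < n
        · rw [if_pos h, hY _ _ (by omega) (by omega)]
          simp only [Y]; rw [if_pos ⟨h, hb⟩]
        · rw [if_neg h, show a + 1 = n by omega, hSn b hb]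
      rw [e1]
      have e2 : S (a + 1) b = (∑ t ∈ Finset.range a, if a + 1 ≤ t + b + 1 then B t (t + b + 1 - (a + 1)) else 0) + z' a b := by
        simp only [S]
        rw [Finset.sum_range_succ, if_pos (by omega), show a + b + 1 - (a + 1) = b by omega]
        simp only [B]; rw [if_pos ⟨ha, hb⟩]
      rw [e2]
      by_cases h1 : 1 ≤ b
      · rw [if_pos ⟨h1, hb⟩, hY _ _ (by omega) (by omega)]
        simp only [Y]
        rw [if_pos (by omega : a < n ∧ b - 1 < n), sub_eq_iff_eq_add, add_comm]
        congr 1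
        refine Finset.sum_congr rfl fun t _ => ?_
        by_cases ht : a + 1 ≤ t + b + 1
        · rw [if_pos ht, if_pos (by omega), show t + (b - 1) + 1 - a = t + b + 1 - (a + 1) by omega]
        · rw [if_neg ht, if_neg (by omega)]
      · rw [if_neg (by omega), sub_zero, add_eq_right]
        exact Finset.sum_eq_zero fun t ht => if_neg (by have := Finset.mem_range.1 ht; omega)
    · have hbn : b = n := by omega
      subst hbn
      rw [if_neg (show ¬(1 ≤ b ∧ b < b) by omega), sub_zero]
      by_cases h : a + 1 < b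
      · rw [if_pos h, hY _ _ (by omega) (by omega)]
        simp only [Y]
        rw [if_neg (by omega), if_pos h, if_pos (by omega), show a + 1 - 1 = a by omega]
      · rw [if_neg h, show a = b - 1 by omega]
        exact (congrArg (fun p => p.2.1) hz).symm
  · have han : a = n := by omega
    subst han
    rw [if_neg (by omega), zero_sub]
    by_cases hb : 1 ≤ b ∧ b < a
    · rw [if_pos hb, hY _ _ (by omega) (by omega)]
      simp only [Y]
      rw [if_neg (by omega), if_neg (by omega), if_pos (by omega), show b - 1 + 1 = b by omega, neg_neg]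
    · rw [if_neg hb, neg_zero]
      rcases (show b = 0 ∨ b = a by omega) with h | h
      · rw [h]; exact (congrArg (fun p => p.2.2) hz).symm
      · rw [h]
        have h0 := hk 0 (by omega)
        simp only [Nat.sub_zero, add_zero] at h0
        rw [Matrix.trace] at htr
        have : ∑ i : Fin (a + 1), z.diag i = ∑ t ∈ Finset.range (a + 1), z' t t := by
          rw [← Fin.sum_univ_eq_sum_range]
          exact Finset.sum_congr rfl fun i _ => (ext'_coe z i i).symm
        rw [this, Finset.sum_range_succ, h0, zero_add] at htr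
        exact htr.symm

theorem Φ_surjective (hn : 1 ≤ n) (w : (Fin n → O) × O × O) :
    ∃ z : Matrix (Fin (n + 1)) (Fin (n + 1)) O, z.trace = 0 ∧ Φ n z = w := by
  obtain ⟨v, a, b⟩ := w
  let v' : ℕ → O := fun k => if h : k < n then v ⟨k, h⟩ else 0
  let Z : ℕ → ℕ → O := fun i j =>
    if j = 0 ∧ i < n then v' i else if i = n - 1 ∧ j = n then a else if i = n ∧ j = 0 then b
    else if i = n ∧ j = n then - v' 0 else 0
  refine ⟨Matrix.of fun i j => Z i.val j.val, ?_, ?_⟩
  · simp only [Matrix.trace, Matrix.diag_apply, Matrix.of_apply]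
    rw [Fin.sum_univ_eq_sum_range (fun i => Z i i), Finset.sum_range_succ, Finset.sum_eq_single 0]
    · simp only [Z, true_and, and_true]
      rw [if_pos (by omega), if_neg (by omega), if_neg (by omega), if_neg (by omega), if_pos trivial]
      simp
    · intro i hi h0
      have := Finset.mem_range.1 hi
      simp only [Z]
      rw [if_neg (by omega), if_neg (by omega), if_neg (by omega), if_neg (by omega)]
    · intro h; exact absurd (Finset.mem_range.2 (by omega)) h
  · have hZ : ∀ i j, i < n + 1 → j < n + 1 → ext' (Matrix.of fun (i j : Fin (n + 1)) => Z i.val j.val) i j = Z i j :=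
      fun i j hi hj => ext'_coe _ ⟨i, hi⟩ ⟨j, hj⟩
    refine Prod.ext (funext fun k => ?_) (Prod.ext ?_ ?_)
    · show ∑ t ∈ Finset.range (n - k.val), ext' _ (t + k.val) t = v k
      rw [Finset.sum_eq_single 0]
      · rw [hZ _ _ (by omega) (by omega)]
        simp only [Z, true_and, and_true]
        rw [if_pos (by omega)]
        simp [v', k.2]
      · intro t ht h0
        have := Finset.mem_range.1 ht
        rw [hZ _ _ (by omega) (by omega)]
        simp only [Z]
        rw [if_neg (by omega), if_neg (by omega), if_neg (by omega), if_neg (by omega)]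
      · intro h; exact absurd (Finset.mem_range.2 (by omega)) h
    · show ext' _ (n - 1) n = a
      rw [hZ _ _ (by omega) (by omega)]
      simp only [Z]
      rw [if_neg (by omega), if_pos (by simp)]
    · show ext' _ n 0 = b
      rw [hZ _ _ (by omega) (by omega)]
      simp only [Z]
      rw [if_neg (by omega), if_neg (by omega), if_pos (by simp)]

theorem main [IsDomain O] [IsLocalRing O] (p : ℕ) [Fact p.Prime] [CharP (IsLocalRing.ResidueField O) p]
    (hn : 1 ≤ n) (hp : n + 1 < p) (x : LieAlgebra.SpecialLinear.sl (Fin (n + 1)) O)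
    (hx : ∀ i j : Fin (n + 1), (x : Matrix (Fin (n + 1)) (Fin (n + 1)) O) i j =
      if j.val = i.val + 1 ∧ j.val < n then 1 else 0) :
    Module.Free O (LieAlgebra.SpecialLinear.sl (Fin (n + 1)) O ⧸
        LinearMap.range (LieAlgebra.ad O (LieAlgebra.SpecialLinear.sl (Fin (n + 1)) O) x)) ∧
      Module.finrank O (LieAlgebra.SpecialLinear.sl (Fin (n + 1)) O ⧸
        LinearMap.range (LieAlgebra.ad O (LieAlgebra.SpecialLinear.sl (Fin (n + 1)) O) x)) = n + 2 := by
  have hu : IsUnit ((n + 1 : ℕ) : O) := by
    rw [← IsLocalRing.notMem_maximalIdeal, ← IsLocalRing.residue_eq_zero_iff, map_natCast, CharP.cast_eq_zero_iff _ p]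
    exact fun h => absurd (Nat.le_of_dvd (Nat.succ_pos n) h) (by omega)
  let L : LieAlgebra.SpecialLinear.sl (Fin (n + 1)) O →ₗ[O] (Fin n → O) × O × O :=
    (Φ n).comp (LieAlgebra.SpecialLinear.sl (Fin (n + 1)) O).toSubmodule.subtype
  have hsurj : Function.Surjective L := fun w => by
    obtain ⟨z, h1, h2⟩ := Φ_surjective hn w
    exact ⟨⟨z, h1⟩, h2⟩
  have hker : LinearMap.ker L = LinearMap.range (LieAlgebra.ad O (LieAlgebra.SpecialLinear.sl (Fin (n + 1)) O) x) := by
    ext z
    constructor
    · intro hz
      obtain ⟨y, hy⟩ := exists_preimage x.1 hx hn z.1 z.2 hz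
      obtain ⟨c, hc⟩ : ∃ c : O, ((n + 1 : ℕ) : O) * c = y.trace := ⟨hu.unit⁻¹ * y.trace, by simp [← mul_assoc]⟩
      refine ⟨⟨y - c • 1, ?_⟩, Subtype.ext ?_⟩
      · show Matrix.trace (y - c • 1) = 0
        simp [← hc, mul_comm]
      · show x.1 * (y - c • 1) - (y - c • 1) * x.1 = z.1
        rw [← hy]
        simp [mul_sub, sub_mul]
    · rintro ⟨y, rfl⟩
      exact Φ_bracket x.1 hx hn y.1
  let E := (Submodule.quotEquivOfEq _ _ hker.symm).trans (L.quotKerEquivOfSurjective hsurj)
  refine ⟨Module.Free.of_equiv E.symm, ?_⟩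
  rw [E.finrank_eq, Module.finrank_prod, Module.finrank_prod, Module.finrank_fin_fun, Module.finrank_self]

end Groth.Agent.H6SubregularSl
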