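import Groth.Agent.Lib.H6.SubtrVal

set_option linter.all false
set_option autoImplicit false
set_option backward.isDefEq.respectTransparency.types false

/-! Chains of specializations: valuation rings and lifting. -/

namespace Groth.Agent.H6.SubtrVal

universe u

open CategoryTheory CategoryTheory.Limits AlgebraicGeometry IsLocalRing

theorem composite_valuationRing {W : Type u} [CommRing W] [IsDomain W] [ValuationRing W]
    (A : ValuationSubring (ResidueField W)) : ValuationRing (A.toSubring.comap (residue W)) := by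
  rw [ValuationRing.iff_dvd_total]
  refine ⟨fun a b => ?_⟩
  obtain ⟨a, ha⟩ := a
  obtain ⟨b, hb⟩ := b
  have key : ∀ a b : W, ∀ (ha : residue W a ∈ A.toSubring) (hb : residue W b ∈ A.toSubring), a ∣ b →
      ((⟨a, ha⟩ : A.toSubring.comap (residue W)) ∣ ⟨b, hb⟩ ∨ (⟨b, hb⟩ : A.toSubring.comap (residue W)) ∣ ⟨a, ha⟩) := by
    rintro a b ha hb ⟨c, rfl⟩
    by_cases hc : residue W c ∈ A.toSubring
    · exact Or.inl ⟨⟨c, hc⟩, rfl⟩
    · have hne : residue W c ≠ 0 := fun h => hc (h ▸ A.toSubring.zero_mem)
      have hu : IsUnit c := by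
        by_contra h
        exact hne ((residue_eq_zero_iff c).2 ((mem_maximalIdeal c).2 h))
      obtain ⟨d, rfl⟩ := hu
      have hd : residue W (↑d⁻¹ : W) ∈ A.toSubring := by
        rcases A.mem_or_inv_mem (residue W (d : W)) with h | h
        · exact absurd h hc
        · have : residue W (↑d⁻¹ : W) = (residue W (d : W))⁻¹ :=
            eq_inv_of_mul_eq_one_left (by rw [← map_mul, Units.inv_mul, map_one])
          rw [this]; exact h
      exact Or.inr ⟨⟨_, hd⟩, Subtype.ext (show a = a * d * ↑d⁻¹ by rw [mul_assoc, Units.mul_inv, mul_one])⟩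
  rcases ValuationRing.dvd_total a b with h | h
  · exact key a b ha hb h
  · exact (key b a hb ha h).symm

theorem exists_valuationRing_chain {Y : Scheme.{u}} (y : ℕ → Y) (n : ℕ) (hy : ∀ m, m < n → y m ⤳ y (m + 1)) :
    ∃ (W : Type u) (_ : CommRing W) (_ : IsDomain W) (_ : ValuationRing W) (g : Spec (CommRingCat.of W) ⟶ Y),
      ∃ P : ℕ → Spec (CommRingCat.of W), (∀ i, i ≤ n → g (P i) = y i) ∧ ∀ i j, i ≤ j → j ≤ n → P i ⤳ P j := by
  suffices H : ∀ m, m ≤ n → ∃ (W : Type u) (_ : CommRing W) (_ : IsDomain W) (_ : ValuationRing W)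
      (α : Y.presheaf.stalk (y m) ⟶ CommRingCat.of W), IsLocalHom α.hom ∧
        ∃ P : ℕ → Spec (CommRingCat.of W), (∀ i, i ≤ m → (Spec.map α ≫ Y.fromSpecStalk (y m)) (P i) = y i) ∧
          ∀ i j, i ≤ j → j ≤ m → P i ⤳ P j by
    obtain ⟨W, _, _, _, α, -, h⟩ := H n le_rfl
    exact ⟨W, inferInstance, inferInstance, inferInstance, _, h⟩
  intro m
  induction m with
  | zero =>
    intro _
    refine ⟨Y.residueField (y 0), inferInstance, inferInstance, inferInstance, Y.residue (y 0),
      inferInstanceAs (IsLocalHom (IsLocalRing.residue (Y.presheaf.stalk (y 0)))),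
      fun _ => closedPoint (Y.residueField (y 0)), fun i hi => ?_, fun _ _ _ _ => specializes_rfl⟩
    rw [Nat.le_zero.1 hi]
    exact Scheme.fromSpecResidueField_apply (y 0) _
  | succ m ih =>
    intro hm
    obtain ⟨W, _, _, _, α, hloc, P, hP, hmono⟩ := ih (Nat.le_of_succ_le hm)
    have hs : y m ⤳ y (m + 1) := hy m hm
    let β : Y.presheaf.stalk (y (m + 1)) ⟶ CommRingCat.of W := Y.presheaf.stalkSpecializes hs ≫ α
    obtain ⟨A, hA, hAloc⟩ := exists_factor_valuationRing ((residue W).comp β.hom)
    haveI : ValuationRing (A.toSubring.comap (residue W)) := composite_valuationRing A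
    let γ : Y.presheaf.stalk (y (m + 1)) ⟶ CommRingCat.of (A.toSubring.comap (residue W)) :=
      CommRingCat.ofHom (β.hom.codRestrict (A.toSubring.comap (residue W)) hA)
    have hγ : IsLocalHom γ.hom := ⟨fun s hs => hAloc.map_nonunit s (by
      exact (hs.map ((residue W).restrict (A.toSubring.comap (residue W)) A.toSubring fun x hx => hx)))⟩
    let P' : ℕ → Spec (CommRingCat.of (A.toSubring.comap (residue W))) := fun i =>
      if i ≤ m then Spec.map (CommRingCat.ofHom (A.toSubring.comap (residue W)).subtype) (P i)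
      else closedPoint (A.toSubring.comap (residue W))
    refine ⟨_, inferInstance, inferInstance, inferInstance, γ, hγ, P', fun i hi => ?_, fun i j hij hj => ?_⟩
    · simp only [P']
      split_ifs with h
      · rw [← hP i h, ← Scheme.Hom.comp_apply]
        congr 2
        rw [← Category.assoc, ← Spec.map_comp, ← Scheme.SpecMap_stalkSpecializes_fromSpecStalk hs, ← Category.assoc, ← Spec.map_comp]
        rfl
      · obtain rfl : i = m + 1 := by omega
        rw [Scheme.Hom.comp_apply]
        have : Spec.map γ (closedPoint (A.toSubring.comap (residue W))) = closedPoint (Y.presheaf.stalk (y (m + 1))) := by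
          haveI := hγ
          exact comap_closedPoint (S := A.toSubring.comap (residue W)) γ.hom
        rw [this, Y.fromSpecStalk_closedPoint]
    · simp only [P']
      by_cases h : j ≤ m
      · rw [if_pos (hij.trans h), if_pos h]
        exact (hmono i j hij h).map (Spec.map _).continuous
      · rw [if_neg h]
        exact specializes_cl _ _

end Groth.Agent.H6.SubtrVal
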