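import Groth.Agent.Lib.H6.SubtrFT
import Groth.Agent.Lib.H6.SubtrVal2
import Groth.Agent.Lib.H6.SubtrTop
import Groth.Agent.Lib.H6.DVRVal2
import Groth.Prelude.Def_SGA1
import Mathlib.RingTheory.PowerSeries.Inverse

set_option linter.all false
set_option autoImplicit false
set_option backward.isDefEq.respectTransparency.types false

/-! Universally submersive morphisms over a locally Noetherian base: discrete valuation rings. -/

namespace Groth.Agent.H6.SubtrDVR

universe u

open CategoryTheory CategoryTheory.Limits AlgebraicGeometry IsLocalRing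

/-- the DVR test: pairs lift over every discrete valuation ring -/
def PairDVR {X Y : Scheme.{u}} (f : X ⟶ Y) : Prop :=
  ∀ (D : Type u) [CommRing D] [IsDomain D] [IsDiscreteValuationRing D] (g : Spec (CommRingCat.of D) ⟶ Y),
    ∃ x x' : ↥(pullback f g), x' ⤳ x ∧ pullback.snd f g x = SubtrVal.cl D ∧ pullback.snd f g x' = SubtrVal.gen D

theorem univ_of_pairDVR {X Y : Scheme.{u}} [IsLocallyNoetherian Y] (f : X ⟶ Y) [QuasiCompact f] [Surjective f]
    (h : PairDVR f) : Subtr.UnivSSubtrusive f := by
  refine SubtrFT.univ_of_finiteType f fun W hW C _ _ hC => ?_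
  haveI : IsNoetherianRing Γ(Y, W) := IsLocallyNoetherian.component_noetherian ⟨W, hW⟩
  haveI : IsNoetherianRing C := Algebra.FiniteType.isNoetherianRing Γ(Y, W) C
  intro y y' hy
  by_cases hne : y' = y
  · subst hne
    haveI : Surjective (pullback.snd f (PullAff.base hW.fromSpec C)) :=
      MorphismProperty.pullback_snd _ _ inferInstance
    obtain ⟨x, hx⟩ := (pullback.snd f (PullAff.base hW.fromSpec C)).surjective y'
    exact ⟨x, x, specializes_rfl, hx, hx⟩
  obtain ⟨V, hV, t, ht, htK⟩ := DVRDom.exists_dvr_pair (Y := Spec (CommRingCat.of C)) hy hne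
    ((Spec (CommRingCat.of C)).residueField y') (𝟙 _)
    (RingHom.FiniteType.of_surjective (RingHom.id ((Spec (CommRingCat.of C)).residueField y')) Function.surjective_id).essFiniteType
  have htg : t (SubtrVal.gen V) = y' := by
    have h1 := congrArg (fun g : Spec (CommRingCat.of ((Spec (CommRingCat.of C)).residueField y')) ⟶ Spec (CommRingCat.of C) =>
      g (closedPoint ((Spec (CommRingCat.of C)).residueField y'))) htK
    simp only [Scheme.Hom.comp_apply] at h1
    rw [show Spec.map (CommRingCat.ofHom V.subtype) (closedPoint ((Spec (CommRingCat.of C)).residueField y')) = SubtrVal.gen V from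
      PrimeSpectrum.ext (by
        show (maximalIdeal ((Spec (CommRingCat.of C)).residueField y')).comap V.subtype = ⊥
        rw [maximalIdeal_eq_bot, ← RingHom.ker_eq_comap_bot]
        exact (RingHom.injective_iff_ker_eq_bot _).1 Subtype.val_injective)] at h1
    exact h1.trans (Scheme.fromSpecResidueField_apply y' _)
  obtain ⟨x, x', hx, hc, hg⟩ := h V (t ≫ PullAff.base hW.fromSpec C)
  let l : pullback f (t ≫ PullAff.base hW.fromSpec C) ⟶ pullback f (PullAff.base hW.fromSpec C) :=
    pullback.lift (pullback.fst _ _) (pullback.snd _ _ ≫ t) (by rw [pullback.condition, Category.assoc])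
  have hl : ∀ p, pullback.snd f (PullAff.base hW.fromSpec C) (l p) = t (pullback.snd f (t ≫ PullAff.base hW.fromSpec C) p) := fun p => by
    rw [← Scheme.Hom.comp_apply, pullback.lift_snd, Scheme.Hom.comp_apply]
  refine ⟨l x, l x', hx.map l.continuous, ?_, ?_⟩
  · rw [hl, hc]; exact ht
  · rw [hl, hg]; exact htg

theorem submersive_of_univ {X Y : Scheme.{u}} (f : X ⟶ Y) [QuasiCompact f] (h : Subtr.UnivSSubtrusive f) :
    SGA1.UnivSubmersive f := by
  intro X' Y' i₁ i₂ f' hsq
  haveI : QuasiCompact f' := MorphismProperty.of_isPullback (P := @QuasiCompact) hsq.flip inferInstance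
  have hS : Subtr.IsSSubtrusive f' := h i₁ i₂ f' hsq
  have hsurj : Function.Surjective f' := fun y => by
    obtain ⟨x, -, -, hx, -⟩ := hS (specializes_rfl (x := y))
    exact ⟨x, hx⟩
  show Topology.IsQuotientMap f'
  refine Topology.isQuotientMap_iff_isClosed.2 ⟨hsurj, fun s => ⟨fun hs => hs.preimage f'.continuous, fun hs => ?_⟩⟩
  refine isClosed_of_closure_subset fun y hy => ?_
  rw [← Set.image_preimage_eq s hsurj] at hy
  obtain ⟨x, hx, hxy⟩ := SubtrVal.exists_mem_specializes_of_isClosed f' hs hy
  obtain ⟨a, a', ha, hay, ha'⟩ := hS hxy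
  have : a' ∈ f' ⁻¹' s := by rw [Set.mem_preimage, ha']; exact hx
  exact hay ▸ (ha.mem_closed hs this : a ∈ f' ⁻¹' s)

theorem surjective_of_submersive {X Y : Scheme.{u}} (f : X ⟶ Y) (h : SGA1.UnivSubmersive f) : Surjective f :=
  ⟨(h (𝟙 X) (𝟙 Y) f (IsPullback.of_vert_isIso (by simp))).surjective⟩

theorem pair_of_submersive {X Y : Scheme.{u}} (f : X ⟶ Y) (h : SGA1.UnivSubmersive f) : PairDVR f := by
  intro D _ _ _ g
  have hq : Topology.IsQuotientMap (pullback.snd f g) :=
    h (pullback.fst f g) g _ (IsPullback.of_hasPullback f g).flip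
  by_contra hno
  push Not at hno
  have h2 : ∀ v : Spec (CommRingCat.of D), v = SubtrVal.gen D ∨ v = SubtrVal.cl D := fun v => by
    by_cases hv : (v : PrimeSpectrum D).asIdeal = ⊥
    · exact Or.inl (PrimeSpectrum.ext hv)
    · exact Or.inr (PrimeSpectrum.ext (IsLocalRing.eq_maximalIdeal ((v : PrimeSpectrum D).2.isMaximal hv)))
  have hC : IsClosed (pullback.snd f g ⁻¹' {SubtrVal.gen D}) := by
    refine isClosed_of_closure_subset fun x hx => ?_
    obtain ⟨x', hx', hx'g⟩ := SubtrVal.exists_specializes_of_mem_closure_preimage (pullback.snd f g) hx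
    exact (h2 _).resolve_right fun hc => hno x x' hx' hc hx'g
  have hgen : IsClosed ({SubtrVal.gen D} : Set (Spec (CommRingCat.of D))) := hq.isClosed_preimage.1 hC
  have : SubtrVal.cl D = SubtrVal.gen D :=
    Set.mem_singleton_iff.1 ((SubtrVal.gen_specializes D (SubtrVal.cl D)).mem_closed hgen (Set.mem_singleton _))
  exact IsDiscreteValuationRing.not_a_field D (congrArg PrimeSpectrum.asIdeal this)

/-- the refined DVR test: a dominating DVR through `X` -/
def LiftDVR {X Y : Scheme.{u}} (f : X ⟶ Y) : Prop :=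
  ∀ (D : Type u) [CommRing D] [IsDomain D] [IsDiscreteValuationRing D] (g : Spec (CommRingCat.of D) ⟶ Y),
    ∃ (D' : Type u) (_ : CommRing D') (_ : IsDomain D') (_ : IsDiscreteValuationRing D')
      (a : Spec (CommRingCat.of D') ⟶ X) (b : Spec (CommRingCat.of D') ⟶ Spec (CommRingCat.of D)),
      Surjective b ∧ a ≫ f = b ≫ g

theorem pair_of_lift {X Y : Scheme.{u}} (f : X ⟶ Y) (h : LiftDVR f) : PairDVR f := by
  intro D _ _ _ g
  obtain ⟨D', _, _, _, a, b, hb, hab⟩ := h D g
  exact SubtrVal.pair_of_surjective (pullback.snd f g) (pullback.lift a b hab) (by rw [pullback.lift_snd]; exact hb)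

theorem surjective_of_lift {X Y : Scheme.{u}} (f : X ⟶ Y) (h : LiftDVR f) : Surjective f := by
  refine ⟨fun y => ?_⟩
  obtain ⟨D', _, _, _, a, b, hb, hab⟩ := h (PowerSeries (Y.residueField y))
    (Spec.map (CommRingCat.ofHom (PowerSeries.C (R := Y.residueField y))) ≫ Y.fromSpecResidueField y)
  refine ⟨a (closedPoint D'), ?_⟩
  rw [← Scheme.Hom.comp_apply, hab, Scheme.Hom.comp_apply, Scheme.Hom.comp_apply]
  exact Scheme.fromSpecResidueField_apply y _

theorem lift_of_univ {X Y : Scheme.{u}} (f : X ⟶ Y) [LocallyOfFiniteType f] (h : Subtr.UnivSSubtrusive f) :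
    LiftDVR f := by
  intro D _ _ _ g
  obtain ⟨x, x', hx, hc, hg⟩ := SubtrVal.isSSubtrusive_snd_of_univ f h g (SubtrVal.gen_specializes D (SubtrVal.cl D))
  haveI : IsLocallyNoetherian (pullback f g) := LocallyOfFiniteType.isLocallyNoetherian (pullback.snd f g)
  have hne : x' ≠ x := by
    rintro rfl
    exact IsDiscreteValuationRing.not_a_field D (congrArg PrimeSpectrum.asIdeal (hc.symm.trans hg))
  obtain ⟨V, hV, t, ht, htK⟩ := DVRDom.exists_dvr_pair hx hne ((pullback f g).residueField x') (𝟙 _)
    (RingHom.FiniteType.of_surjective (RingHom.id ((pullback f g).residueField x')) Function.surjective_id).essFiniteType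
  have htg : t (SubtrVal.gen V) = x' := by
    have h1 := congrArg (fun k : Spec (CommRingCat.of ((pullback f g).residueField x')) ⟶ pullback f g =>
      k (closedPoint ((pullback f g).residueField x'))) htK
    simp only [Scheme.Hom.comp_apply] at h1
    rw [show Spec.map (CommRingCat.ofHom V.subtype) (closedPoint ((pullback f g).residueField x')) = SubtrVal.gen V from
      PrimeSpectrum.ext (by
        show (maximalIdeal ((pullback f g).residueField x')).comap V.subtype = ⊥
        rw [maximalIdeal_eq_bot, ← RingHom.ker_eq_comap_bot]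
        exact (RingHom.injective_iff_ker_eq_bot _).1 Subtype.val_injective)] at h1
    exact h1.trans (Scheme.fromSpecResidueField_apply x' _)
  refine ⟨V, inferInstance, inferInstance, hV, t ≫ pullback.fst f g, t ≫ pullback.snd f g, ?_, ?_⟩
  · refine SubtrVal.surjective_of_valuation _ ?_ ?_
    · rw [Scheme.Hom.comp_apply, htg, hg]
    · rw [Scheme.Hom.comp_apply, ht, hc]
  · rw [Category.assoc, pullback.condition, Category.assoc]

theorem univ_of_submersive {X Y : Scheme.{u}} [IsLocallyNoetherian Y] (f : X ⟶ Y) [QuasiCompact f]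
    (h : SGA1.UnivSubmersive f) : Subtr.UnivSSubtrusive f :=
  haveI := surjective_of_submersive f h
  univ_of_pairDVR f (pair_of_submersive f h)

theorem univ_of_lift {X Y : Scheme.{u}} [IsLocallyNoetherian Y] (f : X ⟶ Y) [QuasiCompact f]
    (h : LiftDVR f) : Subtr.UnivSSubtrusive f :=
  haveI := surjective_of_lift f h
  univ_of_pairDVR f (pair_of_lift f h)

end Groth.Agent.H6.SubtrDVR
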