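import Groth.Agent.Lib.H6.PullAff
import Groth.Agent.Lib.H6.SubtrVal
import Groth.Agent.Lib.H6.DVRVal
import Mathlib.RingTheory.FiniteType

set_option linter.all false
set_option autoImplicit false
set_option backward.isDefEq.respectTransparency.types false

/-! Universal S-subtrusiveness of a quasi-compact morphism is tested by affine base changes of finite type. -/

namespace Groth.Agent.H6.SubtrFT

universe u

open CategoryTheory CategoryTheory.Limits AlgebraicGeometry
open scoped TensorProduct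

theorem exists_le_prime_over_bot {V R : Type u} [CommRing V] [IsDomain V] [CommRing R] (ι : V →+* R) (r : Ideal R) [r.IsPrime]
    (h : ∀ (s : R) (v : V), v ≠ 0 → s * ι v = 0 → s ∈ r) :
    ∃ q : Ideal R, q.IsPrime ∧ q ≤ r ∧ q.comap ι = ⊥ := by
  have hd : Disjoint ((⊥ : Ideal R) : Set R) ↑(r.primeCompl ⊔ (nonZeroDivisors V).map ι.toMonoidHom) := by
    rw [Set.disjoint_left]
    intro z hz hz'
    obtain ⟨s, hs, _, ⟨v, hv, rfl⟩, rfl⟩ := Submonoid.mem_sup.1 (SetLike.mem_coe.1 hz')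
    exact hs (h s v (nonZeroDivisors.ne_zero hv) (Ideal.mem_bot.1 hz))
  obtain ⟨q, hq, -, hdq⟩ := Ideal.exists_le_prime_disjoint _ _ hd
  refine ⟨q, hq, fun z hz => ?_, eq_bot_iff.2 fun v hv => ?_⟩
  · by_contra hzr
    exact Set.disjoint_left.1 hdq hz (Submonoid.mem_sup_left hzr)
  · by_contra hv0
    exact Set.disjoint_left.1 hdq (Ideal.mem_comap.1 hv)
      (Submonoid.mem_sup_right ⟨v, mem_nonZeroDivisors_iff_ne_zero.2 hv0, rfl⟩)

variable {X Y : Scheme.{u}} (f : X ⟶ Y) {A B : Type u} [CommRing A] [CommRing B] [Algebra A B]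
  (i : Spec (CommRingCat.of B) ⟶ X) (w : Spec (CommRingCat.of A) ⟶ Y)
  (hc : i ≫ f = Spec.map (CommRingCat.ofHom (algebraMap A B)) ≫ w)

/-- the sections separating the closed fibre from the generic fibre -/
theorem exists_sections [IsOpenImmersion i] [Mono w] (V : Type u) [CommRing V] [IsDomain V] [ValuationRing V] [Algebra A V]
    (hno : ∀ x x' : ↥(pullback f (PullAff.base w V)), x' ⤳ x →
      pullback.snd f (PullAff.base w V) x = SubtrVal.cl V → pullback.snd f (PullAff.base w V) x' = SubtrVal.gen V → False) :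
    ∃ S : Finset (B ⊗[A] V),
      (∀ r, pullback.snd f (PullAff.base w V) (PullAff.piece f i w hc V r) = SubtrVal.gen V →
        ∀ s ∈ S, s ∈ (r : PrimeSpectrum (B ⊗[A] V)).asIdeal) ∧
      ∀ r, pullback.snd f (PullAff.base w V) (PullAff.piece f i w hc V r) = SubtrVal.cl V →
        ∃ s ∈ S, s ∉ (r : PrimeSpectrum (B ⊗[A] V)).asIdeal := by
  let ι : V →+* B ⊗[A] V := (Algebra.TensorProduct.includeRight (R := A) (A := B) (B := V)).toRingHom
  have hsnd : ∀ r, pullback.snd f (PullAff.base w V) (PullAff.piece f i w hc V r) = Spec.map (CommRingCat.ofHom ι) r :=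
    fun r => by rw [← Scheme.Hom.comp_apply, PullAff.piece_snd]
  let G : Set (PrimeSpectrum (B ⊗[A] V)) := {r | PrimeSpectrum.comap ι r = SubtrVal.gen V}
  let F : Set (PrimeSpectrum (B ⊗[A] V)) := {r | PrimeSpectrum.comap ι r = SubtrVal.cl V}
  have hF : IsCompact F := by
    have hcl : IsClosed (PrimeSpectrum.comap ι ⁻¹' {IsLocalRing.closedPoint V}) :=
      (IsClosed.preimage (PrimeSpectrum.continuous_comap ι) (IsLocalRing.isClosed_singleton_closedPoint (R := V)))
    exact hcl.isCompact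
  have hcov : ∀ r ∈ F, ∃ s : B ⊗[A] V, (∀ q ∈ G, s ∈ q.asIdeal) ∧ s ∉ r.asIdeal := by
    intro r hr
    by_contra hno'
    push Not at hno'
    obtain ⟨q, hq, hqr, hqV⟩ := exists_le_prime_over_bot ι r.asIdeal fun s v hv hsv => hno' s fun p hp => by
      have hp' : p.asIdeal.comap ι = ⊥ := congrArg PrimeSpectrum.asIdeal hp
      refine (p.2.mem_or_mem (hsv ▸ p.asIdeal.zero_mem)).resolve_right fun h => hv ?_
      have : v ∈ p.asIdeal.comap ι := h
      rwa [hp', Ideal.mem_bot] at this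
    refine hno (PullAff.piece f i w hc V r) (PullAff.piece f i w hc V ⟨q, hq⟩) ?_ ((hsnd _).trans hr)
      ((hsnd _).trans (PrimeSpectrum.ext hqV))
    exact ((PrimeSpectrum.le_iff_specializes (⟨q, hq⟩ : PrimeSpectrum (B ⊗[A] V)) r).1 hqr).map (PullAff.piece f i w hc V).continuous
  choose s hsG hsr using hcov
  obtain ⟨T, hT⟩ := hF.elim_finite_subcover (fun r : F => (PrimeSpectrum.basicOpen (s r.1 r.2) : Set (PrimeSpectrum (B ⊗[A] V))))
    (fun r => (PrimeSpectrum.basicOpen _).2) fun r hr => Set.mem_iUnion.2 ⟨⟨r, hr⟩, hsr r hr⟩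
  classical
  refine ⟨T.image fun r => s r.1 r.2, fun r hr t ht => ?_, fun r hr => ?_⟩
  · obtain ⟨p, -, rfl⟩ := Finset.mem_image.1 ht
    exact hsG p.1 p.2 _ ((hsnd r).symm.trans hr)
  · obtain ⟨p, hp, hrp⟩ := Set.mem_iUnion₂.1 (hT ((hsnd r).symm.trans hr : (r : PrimeSpectrum (B ⊗[A] V)) ∈ F))
    exact ⟨_, Finset.mem_image_of_mem _ hp, hrp⟩

theorem isPullback_trans {C D : Type u} [CommRing C] [Algebra A C] [CommRing D] [Algebra A D] (φ : C →ₐ[A] D) :
    IsPullback (PullAff.trans f w φ) (pullback.snd f (PullAff.base w D)) (pullback.snd f (PullAff.base w C))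
      (Spec.map (CommRingCat.ofHom φ.toRingHom)) := by
  refine IsPullback.of_right ?_ (PullAff.trans_snd f w φ) (IsPullback.of_hasPullback f (PullAff.base w C))
  rw [PullAff.trans_fst]
  have : Spec.map (CommRingCat.ofHom φ.toRingHom) ≫ PullAff.base w C = PullAff.base w D := by
    rw [PullAff.base, PullAff.base, ← Category.assoc, ← Spec.map_comp]
    congr 2
    ext a
    exact φ.commutes a
  rw [this]
  exact IsPullback.of_hasPullback f (PullAff.base w D)

/-- a point of a piece lifts over every point above its image -/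
theorem exists_lift_piece [IsOpenImmersion i] [Mono w] {C D : Type u} [CommRing C] [Algebra A C] [CommRing D] [Algebra A D]
    (φ : C →ₐ[A] D) (r : Spec (CommRingCat.of (B ⊗[A] C))) (v : Spec (CommRingCat.of D))
    (h : pullback.snd f (PullAff.base w C) (PullAff.piece f i w hc C r) = Spec.map (CommRingCat.ofHom φ.toRingHom) v) :
    ∃ R, pullback.snd f (PullAff.base w D) (PullAff.piece f i w hc D R) = v ∧
      Spec.map (CommRingCat.ofHom (Algebra.TensorProduct.map (AlgHom.id B B) φ).toRingHom) R = r := by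
  obtain ⟨z, hz1, hz2⟩ := Scheme.exists_preimage_of_isPullback (isPullback_trans f w φ) (PullAff.piece f i w hc C r) v h
  obtain ⟨R, rfl⟩ := PullAff.exists_mem_piece f i w hc D z (by
    rw [← PullAff.trans_fst f w φ, Scheme.Hom.comp_apply, hz1, ← Scheme.Hom.comp_apply, PullAff.piece_fst, Scheme.Hom.comp_apply]
    exact ⟨_, rfl⟩)
  haveI := PullAff.isOpenImmersion_piece f i w hc C
  refine ⟨R, hz2, (PullAff.piece f i w hc C).isOpenEmbedding.injective ?_⟩
  rw [← hz1, ← Scheme.Hom.comp_apply, ← Scheme.Hom.comp_apply, PullAff.piece_trans]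

/-- the pair of a finite type stage contradicts separating sections -/
theorem not_pair [IsOpenImmersion i] [Mono w] (V : Type u) [CommRing V] [IsDomain V] [ValuationRing V] [Algebra A V]
    (C : Subalgebra A V) (S : Finset (B ⊗[A] V))
    (hG : ∀ r, pullback.snd f (PullAff.base w V) (PullAff.piece f i w hc V r) = SubtrVal.gen V →
        ∀ s ∈ S, s ∈ (r : PrimeSpectrum (B ⊗[A] V)).asIdeal)
    (hF : ∀ r, pullback.snd f (PullAff.base w V) (PullAff.piece f i w hc V r) = SubtrVal.cl V →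
        ∃ s ∈ S, s ∉ (r : PrimeSpectrum (B ⊗[A] V)).asIdeal)
    (hS : ∀ s ∈ S, ∃ s₀, Algebra.TensorProduct.map (AlgHom.id B B) C.val s₀ = s)
    (x x' : ↥(pullback f (PullAff.base w C))) (hx : x' ⤳ x)
    (hxc : pullback.snd f (PullAff.base w C) x = Spec.map (CommRingCat.ofHom C.val.toRingHom) (SubtrVal.cl V))
    (hxg : pullback.snd f (PullAff.base w C) x' = Spec.map (CommRingCat.ofHom C.val.toRingHom) (SubtrVal.gen V))
    (hxi : pullback.fst f (PullAff.base w C) x ∈ Set.range i) : False := by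
  haveI := PullAff.isOpenImmersion_piece f i w hc C
  obtain ⟨r, rfl⟩ := PullAff.exists_mem_piece f i w hc C x hxi
  obtain ⟨r', rfl⟩ : x' ∈ Set.range (PullAff.piece f i w hc C) :=
    hx.mem_open (PullAff.piece f i w hc C).isOpenEmbedding.isOpen_range ⟨r, rfl⟩
  have hr : r' ⤳ r := (PullAff.piece f i w hc C).isOpenEmbedding.isInducing.specializes_iff.1 hx
  obtain ⟨R, hR, rfl⟩ := exists_lift_piece f i w hc C.val r _ hxc
  obtain ⟨R', hR', rfl⟩ := exists_lift_piece f i w hc C.val r' _ hxg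
  obtain ⟨s, hs, hsR⟩ := hF R hR
  obtain ⟨s₀, rfl⟩ := hS s hs
  have h1 : s₀ ∈ (Spec.map (CommRingCat.ofHom (Algebra.TensorProduct.map (AlgHom.id B B) C.val).toRingHom) R' :
      PrimeSpectrum (B ⊗[A] C)).asIdeal := hG R' hR' _ hs
  exact hsR ((PrimeSpectrum.le_iff_specializes (_ : PrimeSpectrum (B ⊗[A] C)) _).2 hr h1)

/-- S-subtrusiveness for affine base changes of finite type implies the universal property -/
theorem univ_of_finiteType {X Y : Scheme.{u}} (f : X ⟶ Y) [QuasiCompact f]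
    (H : ∀ (W : Y.Opens) (hW : IsAffineOpen W) (C : Type u) [CommRing C] [Algebra Γ(Y, W) C], Algebra.FiniteType Γ(Y, W) C →
      Subtr.IsSSubtrusive (pullback.snd f (PullAff.base hW.fromSpec C))) :
    Subtr.UnivSSubtrusive f := by
  refine SubtrVal.univ_of_valuation f fun V _ _ _ g => ?_
  obtain ⟨W, hW, hyW, -⟩ := exists_isAffineOpen_mem_and_subset (X := Y) (x := g (SubtrVal.cl V)) (U := ⊤) trivial
  obtain ⟨a, ha⟩ := DVRVal.exists_factor hW g (DVRVal.mem_of_closed g hyW)
  letI : Algebra Γ(Y, W) V := a.hom.toAlgebra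
  obtain rfl : PullAff.base hW.fromSpec V = g := ha
  by_contra hno
  push Not at hno
  obtain ⟨s, hs, hcov⟩ := (isCompact_iff_finite_and_eq_biUnion_affineOpens (U := f ⁻¹ᵁ W)).1
    (QuasiCompact.isCompact_preimage (f := f) (W : Set Y) W.isOpen hW.isCompact)
  have hmem : ∀ x : X, x ∈ f ⁻¹ᵁ W ↔ ∃ U ∈ s, x ∈ (U : X.affineOpens).1 := fun x => by
    rw [hcov]
    simp [TopologicalSpace.Opens.mem_iSup]
  haveI := hs.to_subtype
  have hle : ∀ U : s, U.1.1 ≤ f ⁻¹ᵁ W := fun U p hp => (hmem p).2 ⟨U.1, U.2, hp⟩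
  letI alg : ∀ U : s, Algebra Γ(Y, W) Γ(X, U.1.1) := fun U => (f.appLE W U.1.1 (hle U)).hom.toAlgebra
  have hcomm : ∀ U : s, U.1.2.fromSpec ≫ f =
      Spec.map (CommRingCat.ofHom (algebraMap Γ(Y, W) Γ(X, U.1.1))) ≫ hW.fromSpec :=
    fun U => (hW.SpecMap_appLE_fromSpec f U.1.2 (hle U)).symm
  choose S hG hF using fun U : s => exists_sections f U.1.2.fromSpec hW.fromSpec (hcomm U) V
    fun x x' h hc hg => hno x x' h hc hg
  choose C₁ hC₁ hS₁ using fun U : s => PullAff.exists_fg_sections (S U)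
  let C : Subalgebra Γ(Y, W) V := ⨆ U : s, C₁ U
  have hCfg : C.FG := by
    choose T hT using hC₁
    refine Subalgebra.fg_def.2 ⟨⋃ U : s, (T U : Set V), Set.finite_iUnion fun U => (T U).finite_toSet, ?_⟩
    rw [Algebra.adjoin_iUnion]
    exact iSup_congr hT
  haveI : Algebra.FiniteType Γ(Y, W) C := C.fg_iff_finiteType.1 hCfg
  have hS : ∀ U : s, ∀ t ∈ S U, ∃ t₀, Algebra.TensorProduct.map (AlgHom.id Γ(X, U.1.1) Γ(X, U.1.1)) C.val t₀ = t :=
    fun U t ht => by
    obtain ⟨t₁, ht₁⟩ := hS₁ U t ht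
    refine ⟨Algebra.TensorProduct.map (AlgHom.id Γ(X, U.1.1) Γ(X, U.1.1)) (Subalgebra.inclusion (le_iSup C₁ U)) t₁, ?_⟩
    rw [← ht₁]
    clear ht₁
    induction t₁ using TensorProduct.induction_on with
    | zero => simp
    | tmul b c => simp
    | add p q hp hq => simp only [map_add, hp, hq]
  let m := Spec.map (CommRingCat.ofHom C.val.toRingHom)
  obtain ⟨x, x', hx, hxc, hxg⟩ := H W hW C inferInstance
    (y := m (SubtrVal.cl V)) (y' := m (SubtrVal.gen V))
    ((SubtrVal.gen_specializes V (SubtrVal.cl V)).map m.continuous)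
  have hxW : pullback.fst f (PullAff.base hW.fromSpec C) x ∈ f ⁻¹ᵁ W := by
    show f _ ∈ W
    rw [← Scheme.Hom.comp_apply, pullback.condition]
    show (pullback.snd f (PullAff.base hW.fromSpec C) ≫ Spec.map (CommRingCat.ofHom (algebraMap Γ(Y, W) C)) ≫ hW.fromSpec) x ∈ W
    rw [← Category.assoc, Scheme.Hom.comp_apply]
    exact hW.range_fromSpec.le ⟨_, rfl⟩
  obtain ⟨U, hU, hxU⟩ := (hmem _).1 hxW
  let u : s := ⟨U, hU⟩
  exact not_pair f u.1.2.fromSpec hW.fromSpec (hcomm u) V C (S u) (hG u) (hF u) (hS u) x x' hx hxc hxg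
    (by rw [IsAffineOpen.range_fromSpec]; exact hxU)

end Groth.Agent.H6.SubtrFT
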