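import Mathlib

/-! Abelian extension defined by a symmetric 2-cocycle. -/

namespace Groth.Agent.H6

universe u v

structure SymmCocycle (P : Type u) (Q : Type v) [AddCommGroup P] [AddCommGroup Q] where
  c : P → P → Q
  assoc : ∀ p q r, c p q + c (p + q) r = c p (q + r) + c q r
  symm : ∀ p q, c p q = c q p

variable {P : Type u} {Q : Type v} [AddCommGroup P] [AddCommGroup Q]

namespace SymmCocycle

@[ext] structure Ext (z : SymmCocycle P Q) where
  fst : P
  snd : Q

variable (z : SymmCocycle P Q)

theorem zero_left (p : P) : z.c 0 p = z.c 0 0 := by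
  have := z.assoc 0 0 p
  simp only [zero_add, add_left_inj] at this
  exact this.symm

instance : Add z.Ext := ⟨fun a b => ⟨a.fst + b.fst, a.snd + b.snd + z.c a.fst b.fst⟩⟩
instance : Zero z.Ext := ⟨⟨0, -z.c 0 0⟩⟩
instance : Neg z.Ext := ⟨fun a => ⟨-a.fst, -a.snd - z.c (-a.fst) a.fst - z.c 0 0⟩⟩

theorem add_fst (a b : z.Ext) : (a + b).fst = a.fst + b.fst := rfl
theorem add_snd (a b : z.Ext) : (a + b).snd = a.snd + b.snd + z.c a.fst b.fst := rfl

instance : AddCommGroup z.Ext where
  add_assoc a b c := by
    ext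
    · exact add_assoc _ _ _
    · simp only [add_snd, add_fst]
      have h := z.assoc a.fst b.fst c.fst
      calc a.snd + b.snd + z.c a.fst b.fst + c.snd + z.c (a.fst + b.fst) c.fst
          = a.snd + b.snd + c.snd + (z.c a.fst b.fst + z.c (a.fst + b.fst) c.fst) := by abel
        _ = _ := by rw [h]; abel
  zero_add a := by
    ext
    · exact zero_add _
    · show -z.c 0 0 + a.snd + z.c 0 a.fst = a.snd
      rw [z.zero_left a.fst]; abel
  add_zero a := by
    ext
    · exact add_zero _
    · show a.snd + -z.c 0 0 + z.c a.fst 0 = a.snd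
      rw [z.symm a.fst 0, z.zero_left a.fst]; abel
  nsmul := nsmulRec
  zsmul := zsmulRec
  neg_add_cancel a := by
    ext
    · exact neg_add_cancel _
    · show -a.snd - z.c (-a.fst) a.fst - z.c 0 0 + a.snd + z.c (-a.fst) a.fst = -z.c 0 0
      abel
  add_comm a b := by
    ext
    · exact add_comm _ _
    · show a.snd + b.snd + z.c a.fst b.fst = b.snd + a.snd + z.c b.fst a.fst
      rw [z.symm, add_comm a.snd]

/-- The inclusion of the kernel, normalised. -/
def incl : Q →+ z.Ext where
  toFun q := ⟨0, q - z.c 0 0⟩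
  map_zero' := by ext; · rfl
                  · show (0 : Q) - z.c 0 0 = -z.c 0 0
                    abel
  map_add' a b := by
    ext
    · exact (add_zero (0 : P)).symm
    · show a + b - z.c 0 0 = (a - z.c 0 0) + (b - z.c 0 0) + z.c 0 0
      abel

theorem incl_injective : Function.Injective z.incl := by
  intro a b h
  have := congrArg Ext.snd h
  exact sub_left_inj.1 this

theorem splitting_identity (p q : P) :
    (⟨p + q, 0⟩ : z.Ext) - ⟨p, 0⟩ - ⟨q, 0⟩ = - z.incl (z.c p q) := by
  rw [sub_sub, sub_eq_iff_eq_add, ← sub_eq_neg_add, eq_sub_iff_add_eq]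
  ext
  · exact add_zero _
  · show (0 : Q) + (z.c p q - z.c 0 0) + z.c (p + q) 0 = 0 + 0 + z.c p q
    rw [z.symm (p + q) 0, z.zero_left (p + q)]; abel

end SymmCocycle

end Groth.Agent.H6
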