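import Mathlib
import Groth.Prelude.Def_Omega3

set_option autoImplicit false
set_option linter.all false

/-! Universal thickenings of rings and localisation. -/

universe u

namespace Groth.Agent.H6.ThickLoc

theorem isUnivThickeningRing (A B B' : Type u) [CommRing A] [CommRing B]
    [CommRing B'] [Algebra A B] [Algebra A B'] (π : B' →ₐ[A] B)
    (hπ : OmegaSh.IsUnivThickeningRing A B B' π) (M : Submonoid B) (M' : Submonoid B')
    (hM : M'.map π.toRingHom.toMonoidHom = M)
    (BS B'S : Type u) [CommRing BS] [CommRing B'S]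
    [Algebra B BS] [IsLocalization M BS] [Algebra B' B'S] [IsLocalization M' B'S]
    [Algebra A BS] [IsScalarTower A B BS] [Algebra A B'S] [IsScalarTower A B' B'S]
    (πS : B'S →ₐ[A] BS) (hπS : ∀ x : B', πS (algebraMap B' B'S x) = algebraMap B BS (π x)) :
    OmegaSh.IsUnivThickeningRing A BS B'S πS := by
  obtain ⟨hs, hk, hu⟩ := hπ
  have hM' : ∀ s ∈ M, ∃ s' ∈ M', π s' = s := fun s h => by rw [← hM] at h; exact h
  have hkey : ∀ x : B'S, πS x = 0 → ∃ (b : B') (s : M'), π b = 0 ∧ x * algebraMap B' B'S s = algebraMap B' B'S b := by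
    intro x hx
    obtain ⟨⟨b, s⟩, e⟩ := IsLocalization.surj M' x
    have h0 : algebraMap B BS (π b) = 0 := by rw [← hπS, ← e, map_mul, hx, zero_mul]
    obtain ⟨⟨t, ht⟩, htb⟩ := (IsLocalization.map_eq_zero_iff M BS _).1 h0
    obtain ⟨t', ht', rfl⟩ := hM' t ht
    refine ⟨t' * b, ⟨t', ht'⟩ * s, by rw [map_mul]; exact htb, ?_⟩
    rw [Submonoid.coe_mul, map_mul, map_mul, ← e]
    ring
  refine ⟨fun y => ?_, ?_, fun C _ _ I hI a => ?_⟩
  · obtain ⟨⟨b, ⟨s, hs'⟩⟩, e⟩ := IsLocalization.surj M y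
    obtain ⟨b', rfl⟩ := hs b
    obtain ⟨s', hs'', rfl⟩ := hM' s hs'
    refine ⟨IsLocalization.mk' B'S b' ⟨s', hs''⟩, (IsLocalization.map_units BS (⟨π s', hs'⟩ : M)).mul_left_inj.1 ?_⟩
    rw [e, ← hπS s', ← map_mul]
    exact (congrArg πS (IsLocalization.mk'_spec B'S b' ⟨s', hs''⟩)).trans (hπS b')
  · rw [sq, eq_bot_iff, Ideal.mul_le]
    intro x hx y hy
    obtain ⟨b, s, hb, e⟩ := hkey x hx
    obtain ⟨c, t, hc, e'⟩ := hkey y hy
    have h0 : b * c = 0 := by
      have : b * c ∈ RingHom.ker π.toRingHom ^ 2 := by rw [sq]; exact Ideal.mul_mem_mul hb hc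
      rw [hk] at this
      exact this
    refine ((IsLocalization.map_units B'S s).mul (IsLocalization.map_units B'S t)).mul_left_eq_zero.1 ?_
    rw [mul_mul_mul_comm, e, e', ← map_mul, h0, map_zero]
  · obtain ⟨g, hg, hgu⟩ := hu C I hI (a.comp (IsScalarTower.toAlgHom A B BS))
    have hunit : ∀ s : M', IsUnit (g s) := by
      intro s
      have h1 : IsUnit (Ideal.Quotient.mk I (g s)) := by
        have hgs : Ideal.Quotient.mk I (g s) = a (algebraMap B BS (π s)) := congrArg (fun k => k (s : B')) hg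
        rw [hgs]
        exact (IsLocalization.map_units BS (⟨π s, hM ▸ ⟨s, s.2, rfl⟩⟩ : M)).map a
      exact (IsNilpotent.isUnit_quotient_mk_iff ⟨2, hI⟩).1 h1
    refine ⟨IsLocalization.liftAlgHom (M := M') (f := g) hunit, ?_, fun g' hg' => ?_⟩
    · apply IsLocalization.algHom_ext M'
      ext x
      simp only [AlgHom.comp_apply]
      erw [IsLocalization.lift_eq, hπS]
      exact congrArg (fun k => k x) hg
    · apply IsLocalization.algHom_ext M'
      have h2 : g'.comp (IsScalarTower.toAlgHom A B' B'S) = g := by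
        refine hgu _ (AlgHom.ext fun x => ?_)
        exact (congrArg (fun k => k (algebraMap B' B'S x)) hg').trans (congrArg a (hπS x))
      ext x
      refine ((congrArg (fun k => k x) h2).trans ?_)
      exact (IsLocalization.lift_eq _ x).symm

end Groth.Agent.H6.ThickLoc
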