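import Mathlib

set_option autoImplicit false

open Polynomial

namespace Groth.Agent.H6ThreePointed

variable {k : Type*} [Field k] [CharZero k] (a b : ℕ)

noncomputable def G : k[X] := X ^ a * (X - 1) ^ b

noncomputable def c₁ : k[X] := C (a : k) * (X - 1) + C (b : k) * X

noncomputable def D : k[X] →ₗ[k] k[X] :=
  (LinearMap.mulRight k (X * (X - 1 : k[X]))).comp derivative - LinearMap.mulRight k (c₁ a b)

theorem D_apply (N : k[X]) : D a b N = derivative N * (X * (X - 1)) - N * c₁ a b := rfl

theorem D_G : D a b (G a b : k[X]) = 0 := by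
  rw [D_apply, G, c₁]
  simp only [derivative_mul, derivative_pow, derivative_sub, derivative_X, derivative_one, sub_zero, mul_one]
  rcases a with _ | a <;> rcases b with _ | b <;>
    simp [pow_succ] <;> ring

theorem D_XG : D a b (X * G a b : k[X]) = X ^ (a + 1) * (X - 1) ^ (b + 1) := by
  have h := D_G (k := k) a b
  rw [D_apply] at h
  rw [D_apply, derivative_mul, derivative_X]
  have : (G a b : k[X]) * (X * (X - 1)) = X ^ (a + 1) * (X - 1) ^ (b + 1) := by
    rw [G, pow_succ, pow_succ]; ring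
  rw [← this]
  linear_combination (X : k[X]) * h

theorem tri_surj (c : ℕ) (s : k) (q : k[X]) (hq : q.degree < c) :
    ∃ P : k[X], P.degree < c ∧ (X - C s) * derivative P - C (c : k) * P = q := by
  let L : k[X] →ₗ[k] k[X] :=
    (LinearMap.mulLeft k (X - C s)).comp derivative - (c : k) • LinearMap.id
  have hL : ∀ P, L P = (X - C s) * derivative P - C (c : k) * P := fun P => by
    simp [L, Polynomial.smul_eq_C_mul]
  have hmaps : ∀ P ∈ degreeLT k c, L P ∈ degreeLT k c := by
    intro P hP
    rw [mem_degreeLT] at hP ⊢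
    rw [hL]
    refine lt_of_le_of_lt (degree_sub_le _ _) (max_lt ?_ ?_)
    · by_cases h0 : derivative P = 0
      · rw [h0, mul_zero, degree_zero]; exact WithBot.bot_lt_coe c
      · have hP0 : P ≠ 0 := fun h => h0 (by simp [h])
        have hdeg : (derivative P).natDegree < P.natDegree :=
          natDegree_derivative_lt (fun h => h0 (derivative_of_natDegree_zero h))
        rw [degree_mul, degree_X_sub_C, degree_eq_natDegree h0]
        rw [degree_eq_natDegree hP0] at hP
        have : P.natDegree < c := by exact_mod_cast hP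
        exact_mod_cast show 1 + (derivative P).natDegree < c by omega
    · exact lt_of_le_of_lt ((degree_mul_le _ _).trans (add_le_of_nonpos_left degree_C_le)) hP
  let L' := L.restrict hmaps
  have : Module.Finite k (degreeLT k c) := Module.Finite.equiv (degreeLTEquiv k c).symm
  have hinj : Function.Injective L' := by
    rw [← LinearMap.ker_eq_bot, LinearMap.ker_eq_bot']
    rintro ⟨P, hP⟩ h0
    have h0' : L P = 0 := congrArg Subtype.val h0
    by_contra hne
    have hP0 : P ≠ 0 := fun h => hne (Subtype.ext h)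
    have hd : P.natDegree < c := by
      have := mem_degreeLT.1 hP
      rw [degree_eq_natDegree hP0] at this
      exact_mod_cast this
    have hcoef := congrArg (fun r : k[X] => r.coeff P.natDegree) h0'
    rw [hL] at hcoef
    simp only [coeff_sub, sub_mul, coeff_C_mul, coeff_zero, coeff_derivative] at hcoef
    have hx : (X * derivative P).coeff P.natDegree = (P.natDegree : k) * P.coeff P.natDegree := by
      rcases P.natDegree with _ | d
      · simp
      · rw [coeff_X_mul, coeff_derivative]; push_cast; ring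
    rw [hx, coeff_eq_zero_of_natDegree_lt (p := P) (n := P.natDegree + 1) (by omega)] at hcoef
    simp only [zero_mul, mul_zero, sub_zero, ← sub_mul, mul_eq_zero] at hcoef
    rcases hcoef with h | h
    · rw [sub_eq_zero, Nat.cast_inj] at h; omega
    · exact leadingCoeff_ne_zero.2 hP0 h
  obtain ⟨⟨P, hP⟩, h⟩ := LinearMap.surjective_of_injective hinj ⟨q, mem_degreeLT.2 hq⟩
  exact ⟨P, mem_degreeLT.1 hP, (hL P).symm.trans (congrArg Subtype.val h)⟩

theorem dvd_of_eval {p : k} (hp0 : p ≠ 0) (hp1 : p ≠ 1) {R : k[X]} (hR : R.eval p = 0)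
    {m : ℕ} (h : (X - C p) ^ m ∣ D a b R) : (X - C p) ^ (m + 1) ∣ R := by
  by_cases h0 : R = 0
  · simp [h0]
  obtain ⟨S, hS, hSp⟩ := exists_eq_pow_rootMultiplicity_mul_and_not_dvd R h0 p
  generalize he : rootMultiplicity p R = e at hS
  have he1 : 0 < e := he ▸ (rootMultiplicity_pos h0).2 hR
  obtain ⟨f, rfl⟩ : ∃ f, e = f + 1 := ⟨e - 1, by omega⟩
  suffices hm : m ≤ f by
    rw [hS]
    exact (pow_dvd_pow _ (by omega)).trans (dvd_mul_right _ _)
  by_contra hm
  set T := (C ((f : k) + 1) * S + (X - C p) * derivative S) * (X * (X - 1)) -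
    (X - C p) * S * c₁ a b with hT
  have e1 : D a b R = (X - C p) ^ f * T := by
    rw [hS, D_apply, derivative_mul, derivative_X_sub_C_pow, hT]
    simp [pow_succ]
    ring
  have h2 : (X - C p) ^ (f + 1) ∣ (X - C p) ^ f * T :=
    e1 ▸ (pow_dvd_pow _ (by omega)).trans h
  rw [pow_succ, mul_dvd_mul_iff_left (pow_ne_zero _ (X_sub_C_ne_zero p)), dvd_iff_isRoot,
    IsRoot] at h2
  simp [hT] at h2
  rcases h2 with (h2 | h2) | h2 | h2
  · exact Nat.cast_add_one_ne_zero f h2
  · exact hSp (dvd_iff_isRoot.2 h2)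
  · exact hp0 h2
  · exact hp1 (sub_eq_zero.1 h2)

theorem G_eval {p : k} (hp0 : p ≠ 0) (hp1 : p ≠ 1) : (G a b : k[X]).eval p ≠ 0 := by
  simp [G, hp0, sub_eq_zero, hp1]

theorem natDegree_G : (G a b : k[X]).natDegree ≤ a + b := by
  rw [G]
  refine natDegree_mul_le.trans ?_
  simp [natDegree_pow, ← C_1, -map_one]

variable {a b}

theorem exists_prim {V : Submodule k k[X]}
    (hV : V = ((Ideal.span {(X : k[X]) ^ (a + 1)}).restrictScalars k ⊓ degreeLE k ↑(a + b)) ⊔
      ((Ideal.span {((X : k[X]) - 1) ^ (b + 1)}).restrictScalars k ⊓ degreeLE k ↑(a + b)) ⊔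
      Submodule.span k {(X : k[X]) ^ (a + 1) * (X - 1) ^ (b + 1)})
    {f : k[X]} (hf : f ∈ V) :
    ∃ (N : k[X]) (c : k), N.natDegree ≤ a + b ∧ f = D a b N + c • (X ^ (a + 1) * (X - 1) ^ (b + 1)) := by
  subst hV
  obtain ⟨g, hg, h, hh, rfl⟩ := Submodule.mem_sup.1 hf
  obtain ⟨u, hu, v, hv, rfl⟩ := Submodule.mem_sup.1 hg
  obtain ⟨c, rfl⟩ := Submodule.mem_span_singleton.1 hh
  obtain ⟨hu1, hu2⟩ := Submodule.mem_inf.1 hu
  obtain ⟨hv1, hv2⟩ := Submodule.mem_inf.1 hv
  obtain ⟨q, rfl⟩ := Ideal.mem_span_singleton.1 hu1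
  obtain ⟨r, rfl⟩ := Ideal.mem_span_singleton.1 hv1
  rw [mem_degreeLE] at hu2 hv2
  have hq : q.degree < b := by
    by_cases h0 : q = 0
    · rw [h0, degree_zero]; exact WithBot.bot_lt_coe b
    · rw [degree_mul, degree_X_pow, degree_eq_natDegree h0] at hu2
      rw [degree_eq_natDegree h0]
      have h' : a + 1 + q.natDegree ≤ a + b := by exact_mod_cast hu2
      exact_mod_cast show q.natDegree < b by omega
  have hr : r.degree < a := by
    by_cases h0 : r = 0
    · rw [h0, degree_zero]; exact WithBot.bot_lt_coe a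
    · rw [degree_mul, degree_pow, ← C_1, degree_X_sub_C, degree_eq_natDegree h0] at hv2
      rw [degree_eq_natDegree h0]
      simp only [nsmul_eq_mul, mul_one] at hv2
      have h' : b + 1 + r.natDegree ≤ a + b := by exact_mod_cast hv2
      exact_mod_cast show r.natDegree < a by omega
  obtain ⟨P, hP, hPq⟩ := tri_surj b 1 q hq
  obtain ⟨Q, hQ, hQr⟩ := tri_surj a 0 r hr
  refine ⟨X ^ a * P + (X - 1) ^ b * Q, c, ?_, ?_⟩
  · refine natDegree_add_le_of_degree_le (natDegree_mul_le.trans ?_) (natDegree_mul_le.trans ?_)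
    · have : P.natDegree ≤ b := natDegree_le_of_degree_le hP.le
      simp; omega
    · have : Q.natDegree ≤ a := natDegree_le_of_degree_le hQ.le
      rw [natDegree_pow, ← C_1, natDegree_X_sub_C]; omega
  · congr 1
    rw [map_add]
    congr 1
    · rw [← hPq, D_apply, derivative_mul, derivative_X_pow, c₁, map_one]
      rcases a with _ | a
      · simp; ring
      · simp [pow_succ]; ring
    · rw [← hQr, D_apply, derivative_mul, derivative_pow, c₁]
      rcases b with _ | b
      · simp; ring
      · simp [pow_succ]; ring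

theorem eq_zero_of_dvd {i j n : ℕ} {p q : k} (hpq : p ≠ q) (hn : n < i + j) {R : k[X]}
    (hR : R.natDegree ≤ n) (h1 : (X - C p) ^ i ∣ R) (h2 : (X - C q) ^ j ∣ R) : R = 0 := by
  by_contra h0
  have hco : IsCoprime ((X - C p) ^ i) ((X - C q) ^ j) :=
    (isCoprime_X_sub_C_of_isUnit_sub (sub_ne_zero.2 hpq).isUnit).pow
  have := natDegree_le_of_dvd (hco.mul_dvd h1 h2) h0
  rw [natDegree_mul (pow_ne_zero _ (X_sub_C_ne_zero p)) (pow_ne_zero _ (X_sub_C_ne_zero q)),
    natDegree_pow, natDegree_pow, natDegree_X_sub_C, natDegree_X_sub_C] at this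
  omega

theorem main (i j : ℕ) (hi : 0 < i) (hiab : i ≤ a + b) (hj : i + j = a + b + 2)
    (V : Submodule k k[X])
    (hV : V = ((Ideal.span {(X : k[X]) ^ (a + 1)}).restrictScalars k ⊓ degreeLE k ↑(a + b)) ⊔
      ((Ideal.span {((X : k[X]) - 1) ^ (b + 1)}).restrictScalars k ⊓ degreeLE k ↑(a + b)) ⊔
      Submodule.span k {(X : k[X]) ^ (a + 1) * (X - 1) ^ (b + 1)})
    (p q : k) (hp0 : p ≠ 0) (hp1 : p ≠ 1) (hq0 : q ≠ 0) (hq1 : q ≠ 1) :
    ¬ (1 ≤ Module.finrank k ↥(V ⊓ (Ideal.span {(X - C p) ^ i * (X - C q) ^ j}).restrictScalars k) ∧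
       2 ≤ Module.finrank k ↥(V ⊓ (Ideal.span {(X - C p) ^ (i - 1) * (X - C q) ^ (j - 1)}).restrictScalars k)) := by
  rintro ⟨H1, H2⟩
  obtain ⟨i, rfl⟩ : ∃ i', i = i' + 1 := ⟨i - 1, by omega⟩
  obtain ⟨j, rfl⟩ : ∃ j', j = j' + 1 := ⟨j - 1, by omega⟩
  change 2 ≤ Module.finrank k ↥(V ⊓ (Ideal.span {(X - C p) ^ i * (X - C q) ^ j}).restrictScalars k) at H2
  set F : k[X] := (X - C p) ^ i * (X - C q) ^ j with hF
  set P₀ : k[X] := (X - C p) ^ (i + 1) * (X - C q) ^ (j + 1) with hP₀
  have hFm : F.Monic := ((monic_X_sub_C p).pow i).mul ((monic_X_sub_C q).pow j)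
  have hFd : F.natDegree = a + b := by
    rw [hF, natDegree_mul (pow_ne_zero _ (X_sub_C_ne_zero p)) (pow_ne_zero _ (X_sub_C_ne_zero q)),
      natDegree_pow, natDegree_pow, natDegree_X_sub_C, natDegree_X_sub_C]
    omega
  have hP₀F : P₀ = F * ((X - C p) * (X - C q)) := by rw [hP₀, hF]; ring
  set h : k[X] := X ^ (a + 1) * (X - 1) ^ (b + 1) with hh
  have hhm : h.Monic := (monic_X_pow _).mul (by rw [← C_1]; exact (monic_X_sub_C (1 : k)).pow _)
  have hhd : h.natDegree = a + b + 2 := by
    rw [hh, natDegree_mul (pow_ne_zero _ X_ne_zero) (pow_ne_zero _ (by rw [← C_1]; exact X_sub_C_ne_zero _)),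
      natDegree_X_pow, natDegree_pow, ← C_1, natDegree_X_sub_C]
    omega
  have hdeg : ∀ N : k[X], N.natDegree ≤ a + b → (D a b N).natDegree ≤ a + b + 1 := by
    intro N hN
    rw [D_apply]
    refine (natDegree_sub_le _ _).trans (max_le ?_ ?_)
    · by_cases h0 : N.natDegree = 0
      · rw [derivative_of_natDegree_zero h0]; simp
      · refine natDegree_mul_le.trans ?_
        have h1 := natDegree_derivative_lt h0
        have h2 : (X * (X - 1) : k[X]).natDegree ≤ 2 := by
          refine natDegree_mul_le.trans ?_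
          rw [← C_1, natDegree_X_sub_C, natDegree_X]
        omega
    · refine natDegree_mul_le.trans ?_
      have : (c₁ a b : k[X]).natDegree ≤ 1 := by
        rw [c₁, ← C_1]
        refine natDegree_add_le_of_degree_le ((natDegree_C_mul_le _ _).trans ?_) ((natDegree_C_mul_le _ _).trans ?_)
        · rw [natDegree_X_sub_C]
        · rw [natDegree_X]
      omega
  have hle : ∀ f ∈ V, f.natDegree ≤ a + b + 2 := by
    intro f hf
    obtain ⟨N, c, hN, rfl⟩ := exists_prim hV hf
    exact natDegree_add_le_of_degree_le ((hdeg N hN).trans (by omega))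
      ((natDegree_smul_le _ _).trans hhd.le)
  -- P₀ ∈ V
  have hP₀V : P₀ ∈ V := by
    obtain ⟨f, hf, hf0⟩ := Submodule.exists_mem_ne_zero_of_ne_bot
      (p := V ⊓ (Ideal.span {P₀}).restrictScalars k) (fun h => by rw [h, finrank_bot] at H1; omega)
    obtain ⟨hfV, hfI⟩ := Submodule.mem_inf.1 hf
    obtain ⟨r, hr⟩ := Ideal.mem_span_singleton.1 hfI
    have hr0 : r ≠ 0 := fun h => hf0 (by simp [hr, h])
    have h1 := hle f hfV
    have hP₀d : P₀.natDegree = a + b + 2 := by
      rw [hP₀F, natDegree_mul hFm.ne_zero (mul_ne_zero (X_sub_C_ne_zero p) (X_sub_C_ne_zero q)),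
        natDegree_mul (X_sub_C_ne_zero p) (X_sub_C_ne_zero q), natDegree_X_sub_C, natDegree_X_sub_C, hFd]
    have hP₀0 : P₀ ≠ 0 := mul_ne_zero (pow_ne_zero _ (X_sub_C_ne_zero p)) (pow_ne_zero _ (X_sub_C_ne_zero q))
    rw [hr, natDegree_mul hP₀0 hr0, hP₀d] at h1
    obtain ⟨c, rfl⟩ := (natDegree_eq_zero).1 (show r.natDegree = 0 by omega)
    have hc : c ≠ 0 := fun h => hr0 (by simp [h])
    have : P₀ = c⁻¹ • f := by
      rw [hr, smul_eq_C_mul, mul_left_comm, ← C_mul, inv_mul_cancel₀ hc, C_1, mul_one]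
    rw [this]
    exact V.smul_mem _ hfV
  -- F ∈ V, of degree a + b
  have hFV : F ∈ V := by
    set W := V ⊓ (Ideal.span {F}).restrictScalars k with hW
    have hP₀W : P₀ ∈ W := ⟨hP₀V, Ideal.mem_span_singleton.2 ⟨_, hP₀F⟩⟩
    have hne : ¬ W ≤ Submodule.span k {P₀} := fun hle' => by
      have : Module.Finite k (Submodule.span k {P₀}) := Module.Finite.span_of_finite k (Set.finite_singleton _)
      have := (Submodule.finrank_mono hle').trans (finrank_span_le_card ({P₀} : Set k[X]))
      simp at this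
      omega
    obtain ⟨g, hg, hgne⟩ := SetLike.not_le_iff_exists.1 hne
    obtain ⟨r, hr⟩ := Ideal.mem_span_singleton.1 hg.2
    have hr2 : r.natDegree ≤ 2 := by
      by_cases h0 : r = 0
      · simp [h0]
      have h1 := hle g hg.1
      rw [hr, natDegree_mul hFm.ne_zero h0, hFd] at h1
      omega
    set g' := g - r.coeff 2 • P₀ with hg'
    set s := r - C (r.coeff 2) * ((X - C p) * (X - C q)) with hs
    have hgs : g' = F * s := by rw [hg', hr, hP₀F, hs, smul_eq_C_mul]; ring
    have hs1 : s.natDegree ≤ 1 := by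
      rw [natDegree_le_iff_coeff_eq_zero]
      intro n hn
      have e : ((X - C p) * (X - C q) : k[X]) = X ^ 2 - C (p + q) * X + C (p * q) := by
        simp only [map_add, map_mul]; ring
      rw [hs, e]
      rcases eq_or_lt_of_le (Nat.succ_le_of_lt hn) with h2 | h2
      · subst h2
        simp [coeff_X_pow, coeff_X, coeff_C]
      · rw [coeff_sub, coeff_eq_zero_of_natDegree_lt (by omega : r.natDegree < n)]
        simp [coeff_X_pow, coeff_X, coeff_C, -map_add, -map_mul, show n ≠ 2 by omega, show n ≠ 0 by omega, show 1 ≠ n by omega]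
    have hg'V : g' ∈ V := V.sub_mem hg.1 (V.smul_mem _ hP₀V)
    have hs0 : s ≠ 0 := fun h => hgne (by
      rw [h, mul_zero, sub_eq_zero] at hgs
      rw [hgs]
      exact Submodule.smul_mem _ _ (Submodule.mem_span_singleton_self _))
    obtain ⟨N, c, hN, hNc⟩ := exists_prim hV hg'V
    have hg'd : g'.natDegree ≤ a + b + 1 := by rw [hgs, natDegree_mul hFm.ne_zero hs0, hFd]; omega
    have hc : c = 0 := by
      have := congrArg (fun t : k[X] => t.coeff (a + b + 2)) hNc
      simp only [coeff_add, coeff_smul, smul_eq_mul] at this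
      rw [coeff_eq_zero_of_natDegree_lt (by omega), coeff_eq_zero_of_natDegree_lt (p := D a b N) (by have := hdeg N hN; omega),
        ← hhd, hhm.coeff_natDegree, zero_add, mul_one] at this
      exact this.symm
    rw [hc, zero_smul, add_zero] at hNc
    -- leading coefficient in degree a+b+1 vanishes
    have hc1 : (D a b N).coeff (a + b + 1) = 0 := by
      rw [D_apply, c₁, coeff_sub]
      have e1 : (derivative N * (X * (X - 1))).coeff (a + b + 1) =
          (derivative N).coeff (a + b - 1) - (derivative N).coeff (a + b) := by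
        obtain ⟨n, hn⟩ : ∃ n, a + b = n + 1 := ⟨a + b - 1, by omega⟩
        rw [hn, show derivative N * (X * (X - 1)) = derivative N * X * X - derivative N * X by ring,
          coeff_sub, coeff_mul_X, coeff_mul_X, coeff_mul_X, add_tsub_cancel_right]
      have e2 : (N * (C (a : k) * (X - 1) + C (b : k) * X)).coeff (a + b + 1) =
          ((a : k) + b) * N.coeff (a + b) - (a : k) * N.coeff (a + b + 1) := by
        rw [show N * (C (a : k) * (X - 1) + C (b : k) * X) = C ((a : k) + b) * (N * X) - C (a : k) * N by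
          simp only [map_add]; ring, coeff_sub, coeff_C_mul, coeff_C_mul, coeff_mul_X]
      rw [e1, e2, coeff_derivative, coeff_derivative,
        coeff_eq_zero_of_natDegree_lt (p := N) (n := a + b + 1) (by omega)]
      obtain ⟨n, hn⟩ : ∃ n, a + b = n + 1 := ⟨a + b - 1, by omega⟩
      rw [hn, add_tsub_cancel_right, ← Nat.cast_add, hn]
      push_cast
      ring
    obtain ⟨u, v, huv⟩ : ∃ u v, s = C u * X + C v := ⟨_, _, eq_X_add_C_of_natDegree_le_one hs1⟩
    rw [huv] at hgs hs0
    have hu : u = 0 := by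
      have := congrArg (fun t : k[X] => t.coeff (a + b + 1)) (hgs.symm.trans hNc)
      simp only [hc1] at this
      rw [mul_add, ← mul_assoc, mul_comm F (C u), mul_assoc, coeff_add, coeff_C_mul, coeff_mul_X,
        mul_comm F (C v), coeff_C_mul, coeff_eq_zero_of_natDegree_lt (p := F) (n := a + b + 1) (by omega),
        ← hFd, hFm.coeff_natDegree] at this
      simpa using this
    have hv : v ≠ 0 := fun h => hs0 (by simp [hu, h])
    have : F = v⁻¹ • g' := by
      rw [hgs, hu, C_0, zero_mul, zero_add, smul_eq_C_mul, mul_left_comm, ← C_mul, inv_mul_cancel₀ hv, C_1, mul_one]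
    rw [this]
    exact V.smul_mem _ hg'V
  obtain ⟨N, cN, hN, hNF⟩ := exists_prim hV hFV
  obtain ⟨M', cM, hM', hMP⟩ := exists_prim hV hP₀V
  have hcN : cN = 0 := by
    have := congrArg (fun t : k[X] => t.coeff (a + b + 2)) hNF
    simp only [coeff_add, coeff_smul, smul_eq_mul] at this
    rw [coeff_eq_zero_of_natDegree_lt (by omega), coeff_eq_zero_of_natDegree_lt (p := D a b N) (by have := hdeg N hN; omega),
      ← hhd, hhm.coeff_natDegree, zero_add, mul_one] at this
    exact this.symm
  rw [hcN, zero_smul, add_zero] at hNF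
  set M := M' + cM • (X * G a b) with hMdef
  have hMP' : P₀ = D a b M := by rw [hMP, hMdef, map_add, map_smul, D_XG]
  have hMd : M.natDegree ≤ a + b + 1 := by
    refine natDegree_add_le_of_degree_le (by omega) ((natDegree_smul_le _ _).trans (natDegree_mul_le.trans ?_))
    have := natDegree_G (k := k) a b
    rw [natDegree_X]; omega
  have hGp := G_eval (k := k) a b hp0 hp1
  have hGq := G_eval (k := k) a b hq0 hq1
  rcases eq_or_ne p q with rfl | hpq
  · have h1 : (X - C p) ^ (i + 1 + (j + 1) + 1) ∣ M - C (M.eval p / (G a b).eval p) * G a b := by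
      refine dvd_of_eval a b hp0 hp1 (by simp [hGp]) ?_
      rw [← smul_eq_C_mul, map_sub, map_smul, D_G, smul_zero, sub_zero, ← hMP', hP₀, ← pow_add]
    have h0 : M - C (M.eval p / (G a b).eval p) * G a b = 0 := by
      by_contra h0
      have := natDegree_le_of_dvd h1 h0
      rw [natDegree_pow, natDegree_X_sub_C] at this
      have h2 := (natDegree_sub_le M (C (M.eval p / (G a b).eval p) * G a b)).trans
        (max_le hMd ((natDegree_C_mul_le _ _).trans ((natDegree_G a b).trans (by omega : a + b ≤ a + b + 1))))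
      omega
    rw [sub_eq_zero] at h0
    rw [h0, ← smul_eq_C_mul, map_smul, D_G, smul_zero] at hMP'
    exact mul_ne_zero (pow_ne_zero _ (X_sub_C_ne_zero p)) (pow_ne_zero _ (X_sub_C_ne_zero p)) hMP'
  let φ : k[X] → k := fun R => R.eval p * (G a b).eval q - R.eval q * (G a b).eval p
  have key : ∀ (R : k[X]), R.natDegree ≤ a + b + 1 → φ R = 0 → F ∣ D a b R → D a b R = 0 := by
    intro R hR hφ hdvd
    set R' := R - C (R.eval p / (G a b).eval p) * G a b with hR'
    have hD : D a b R' = D a b R := by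
      rw [hR', ← smul_eq_C_mul, map_sub, map_smul, D_G, smul_zero, sub_zero]
    have h1 : (X - C p) ^ (i + 1) ∣ R' := dvd_of_eval a b hp0 hp1 (by simp [hR', hGp])
      (hD ▸ (dvd_mul_right _ _).trans hdvd)
    have h2 : (X - C q) ^ (j + 1) ∣ R' := by
      refine dvd_of_eval a b hq0 hq1 ?_ (hD ▸ (dvd_mul_left _ _).trans hdvd)
      simp [hR']
      field_simp
      linear_combination -hφ
    have hd : R'.natDegree ≤ a + b + 1 :=
      (natDegree_sub_le _ _).trans (max_le hR ((natDegree_C_mul_le _ _).trans ((natDegree_G a b).trans (by omega))))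
    rw [← hD, eq_zero_of_dvd hpq (by omega) hd h1 h2, map_zero]
  have hdvd : ∀ c₀ d₀ : k, F ∣ D a b (C c₀ * M - C d₀ * N) := by
    intro c₀ d₀
    rw [← smul_eq_C_mul, ← smul_eq_C_mul, map_sub, map_smul, map_smul, ← hMP', ← hNF, hP₀F,
      smul_eq_C_mul, smul_eq_C_mul]
    exact dvd_sub (dvd_mul_of_dvd_right (dvd_mul_right _ _) _) (dvd_mul_left _ _)
  by_cases hN0 : φ N = 0
  · have := key N (by omega) hN0 (hNF ▸ dvd_rfl)
    exact hFm.ne_zero (hNF.trans this)
  · have h0 := key (C (φ N) * M - C (φ M) * N)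
      ((natDegree_sub_le _ _).trans (max_le ((natDegree_C_mul_le _ _).trans hMd) ((natDegree_C_mul_le _ _).trans (by omega))))
      (by simp only [φ, eval_sub, eval_mul, eval_C]; ring) (hdvd _ _)
    rw [← smul_eq_C_mul, ← smul_eq_C_mul, map_sub, map_smul, map_smul, ← hMP', ← hNF, hP₀F,
      smul_eq_C_mul, smul_eq_C_mul,
      show C (φ N) * (F * ((X - C p) * (X - C q))) - C (φ M) * F =
        F * (C (φ N) * ((X - C p) * (X - C q)) - C (φ M)) by ring,
      mul_eq_zero] at h0
    rcases h0 with h0 | h0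
    · exact hFm.ne_zero h0
    · have e := congrArg natDegree (sub_eq_zero.1 h0)
      rw [natDegree_C_mul hN0, natDegree_mul (X_sub_C_ne_zero p) (X_sub_C_ne_zero q),
        natDegree_X_sub_C, natDegree_X_sub_C, natDegree_C] at e
      omega

end Groth.Agent.H6ThreePointed
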