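import Mathlib

/-! The trace on differentials of `R[x]/(x^p - b)` in characteristic `p`. -/

set_option autoImplicit false

open Polynomial

namespace Groth.Agent.H6TP

universe u

variable {p : ℕ} [Fact p.Prime] {R : Type u} [CommRing R] [CharP R p] {b : R}
  {N : Type u} [AddCommGroup N] [Module R N]

theorem cast_inv (j : ℕ) (hj : ¬ p ∣ j) : ∃ m : ℕ, ((m * j : ℕ) : R) = 1 := by
  have hj' : (j : ZMod p) ≠ 0 := fun h => hj ((ZMod.natCast_eq_zero_iff j p).1 h)
  refine ⟨((j : ZMod p)⁻¹).val, ?_⟩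
  have h : (((((j : ZMod p)⁻¹).val * j : ℕ)) : ZMod p) = ((1 : ℕ) : ZMod p) := by
    push_cast
    rw [ZMod.natCast_zmod_val, inv_mul_cancel₀ hj']
  rw [← Nat.cast_one, CharP.natCast_eq_natCast R p]
  exact (ZMod.natCast_eq_natCast_iff _ _ p).1 h

theorem root_pow : AdjoinRoot.root (X ^ p - C b : R[X]) ^ p = algebraMap R _ b := by
  have h := AdjoinRoot.eval₂_root (X ^ p - C b : R[X])
  simp only [eval₂_sub, eval₂_pow, eval₂_X, eval₂_C] at h
  exact sub_eq_zero.1 h

theorem root_pow_reduce (n : ℕ) :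
    AdjoinRoot.root (X ^ p - C b : R[X]) ^ n = b ^ (n / p) • AdjoinRoot.root (X ^ p - C b : R[X]) ^ (n % p) := by
  conv_lhs => rw [← Nat.div_add_mod n p, pow_add, pow_mul, root_pow]
  rw [← map_pow, Algebra.smul_def]

theorem algebraMap_injective : Function.Injective (algebraMap R (AdjoinRoot (X ^ p - C b : R[X]))) := by
  have hp := (Fact.out : p.Prime)
  haveI : Nontrivial R := CharP.nontrivial_of_char_ne_one (v := p) hp.ne_one
  rw [injective_iff_map_eq_zero]
  intro r hr
  have hmon : (X ^ p - C b : R[X]).Monic := monic_X_pow_sub_C b hp.ne_zero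
  rw [AdjoinRoot.algebraMap_eq, ← AdjoinRoot.mk_C, AdjoinRoot.mk_eq_zero, ← modByMonic_eq_zero_iff_dvd hmon,
    (modByMonic_eq_self_iff hmon).2 (lt_of_le_of_lt degree_C_le (by
      rw [degree_X_pow_sub_C hp.pos]; exact_mod_cast hp.pos))] at hr
  exact C_eq_zero.1 hr

variable (T : Ω[AdjoinRoot (X ^ p - C b : R[X])⁄R] →ₗ[R] N)

theorem exact_zero
    (hT : ∀ i : ℕ, i + 2 ≤ p →
      T (AdjoinRoot.root (X ^ p - C b) ^ i • KaehlerDifferential.D R _ (AdjoinRoot.root (X ^ p - C b))) = 0)
    (w : AdjoinRoot (X ^ p - C b : R[X])) : T (KaehlerDifferential.D R _ w) = 0 := by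
  obtain ⟨Q, rfl⟩ := AdjoinRoot.mk_surjective w
  induction Q using Polynomial.induction_on' with
  | add f g hf hg => simp [hf, hg]
  | monomial n c =>
    rw [← C_mul_X_pow_eq_monomial, map_mul, map_pow, AdjoinRoot.mk_C, AdjoinRoot.mk_X,
      ← AdjoinRoot.algebraMap_eq, ← Algebra.smul_def, (KaehlerDifferential.D R _).map_smul,
      LinearMap.map_smul, Derivation.leibniz_pow]
    rcases n with _ | m
    · simp
    by_cases hdvd : p ∣ m + 1
    · rw [← Nat.cast_smul_eq_nsmul R, (CharP.cast_eq_zero_iff R p _).2 hdvd, zero_smul, map_zero, smul_zero]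
    · rw [LinearMap.map_smul_of_tower, Nat.add_sub_cancel, root_pow_reduce, smul_assoc,
        LinearMap.map_smul, hT, smul_zero, smul_zero, smul_zero]
      have hlt := Nat.mod_lt m (Nat.Prime.pos (Fact.out : p.Prime))
      by_contra hc
      apply hdvd
      have hm : m % p = p - 1 := by omega
      refine ⟨m / p + 1, ?_⟩
      have := Nat.div_add_mod m p
      rw [Nat.mul_add, mul_one]
      omega

/-- `z ↦ T (z^{p-1} dz)` -/
noncomputable def F (z : AdjoinRoot (X ^ p - C b : R[X])) : N :=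
  T (z ^ (p - 1) • KaehlerDifferential.D R _ z)

theorem low_zero
    (hT : ∀ i : ℕ, i + 2 ≤ p →
      T (AdjoinRoot.root (X ^ p - C b) ^ i • KaehlerDifferential.D R _ (AdjoinRoot.root (X ^ p - C b))) = 0)
    (z : AdjoinRoot (X ^ p - C b : R[X])) (r : ℕ) (hr : r + 2 ≤ p) :
    T (z ^ r • KaehlerDifferential.D R _ z) = 0 := by
  obtain ⟨m, hm⟩ := cast_inv (p := p) (R := R) (r + 1)
    (Nat.not_dvd_of_pos_of_lt (Nat.succ_pos r) (by omega))
  have h := exact_zero T hT (z ^ (r + 1))
  rw [Derivation.leibniz_pow, Nat.add_sub_cancel, LinearMap.map_smul_of_tower] at h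
  rw [← one_smul R (T _), ← hm, Nat.cast_smul_eq_nsmul, mul_smul, h, smul_zero]

theorem F_add
    (hT : ∀ i : ℕ, i + 2 ≤ p →
      T (AdjoinRoot.root (X ^ p - C b) ^ i • KaehlerDifferential.D R _ (AdjoinRoot.root (X ^ p - C b))) = 0)
    (u v : AdjoinRoot (X ^ p - C b : R[X])) : F T (u + v) = F T u + F T v := by
  have hp := (Fact.out : p.Prime)
  obtain ⟨q, hq⟩ : ∃ q, p = q + 1 := ⟨p - 1, by have := hp.pos; omega⟩
  set D := KaehlerDifferential.D R (AdjoinRoot (X ^ p - C b : R[X]))
  -- the exact correction term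
  let G : AdjoinRoot (X ^ p - C b : R[X]) :=
    ∑ k ∈ Finset.range q, (p.choose (k + 1) / p) • (u ^ (k + 1) * v ^ (q - k))
  have key : D G = (∑ k ∈ Finset.range q, q.choose k • (u ^ k * v ^ (q - k))) • D u +
      (∑ k ∈ Finset.range q, q.choose (k + 1) • (u ^ (k + 1) * v ^ (q - (k + 1)))) • D v := by
    simp only [G, map_sum, Finset.sum_smul, ← Finset.sum_add_distrib]
    refine Finset.sum_congr rfl fun k hk => ?_
    rw [Finset.mem_range] at hk
    obtain ⟨c, hc⟩ := hp.dvd_choose_self (Nat.succ_ne_zero k) (by omega)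
    have hcd : p.choose (k + 1) / p = c := by rw [hc, Nat.mul_div_cancel_left _ hp.pos]
    have h1 : c * (k + 1) = q.choose k := by
      have := Nat.add_one_mul_choose_eq q k
      rw [← hq, hc] at this
      exact Nat.eq_of_mul_eq_mul_left hp.pos (by rw [this, mul_assoc])
    have h2 : c * (q - k) = q.choose (k + 1) := by
      have h3 := Nat.choose_succ_succ' q k
      rw [← hq, hc] at h3
      have h4 : c * (q - k) + c * (k + 1) = p * c := by
        rw [← Nat.mul_add, mul_comm]; congr 1; omega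
      omega
    rw [hcd, map_nsmul, Derivation.leibniz, Derivation.leibniz_pow, Derivation.leibniz_pow,
      Nat.add_sub_cancel, show q - (k + 1) = q - k - 1 by omega, smul_add, ← h1, ← h2]
    simp only [smul_assoc, smul_smul, ← Nat.cast_smul_eq_nsmul (AdjoinRoot (X ^ p - C b : R[X]))]
    push_cast
    module
  have hG : T (D G) = 0 := exact_zero T hT G
  have hexp : (u + v) ^ q • (D u + D v) = u ^ q • D u + v ^ q • D v + D G := by
    rw [key]
    have hu : (u + v) ^ q = (∑ k ∈ Finset.range q, q.choose k • (u ^ k * v ^ (q - k))) + u ^ q := by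
      rw [add_pow, Finset.sum_range_succ]
      congr 1
      · exact Finset.sum_congr rfl fun k _ => by rw [nsmul_eq_mul, mul_comm]
      · simp
    have hv : (u + v) ^ q = (∑ k ∈ Finset.range q, q.choose (k + 1) • (u ^ (k + 1) * v ^ (q - (k + 1)))) + v ^ q := by
      rw [add_pow, Finset.sum_range_succ']
      congr 1
      · exact Finset.sum_congr rfl fun k _ => by rw [nsmul_eq_mul, mul_comm]
      · simp
    rw [smul_add]
    conv_lhs => arg 1; rw [hu]
    conv_lhs => arg 2; rw [hv]
    module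
  show T ((u + v) ^ (p - 1) • D (u + v)) = T (u ^ (p - 1) • D u) + T (v ^ (p - 1) • D v)
  rw [show p - 1 = q by omega, map_add, hexp, map_add, map_add, hG, add_zero]

theorem F_formula
    (δ : R → N) (hadd : ∀ x y, δ (x + y) = δ x + δ y) (hmul : ∀ x y, δ (x * y) = x • δ y + y • δ x)
    (hδp : ∀ c : R, δ (c ^ p) = 0)
    (hT : ∀ i : ℕ, i + 2 ≤ p →
      T (AdjoinRoot.root (X ^ p - C b) ^ i • KaehlerDifferential.D R _ (AdjoinRoot.root (X ^ p - C b))) = 0)
    (hT' : T (AdjoinRoot.root (X ^ p - C b) ^ (p - 1) • KaehlerDifferential.D R _ (AdjoinRoot.root (X ^ p - C b))) = δ b)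
    (z : AdjoinRoot (X ^ p - C b : R[X])) :
    ∃ a : R, z ^ p = algebraMap R _ a ∧ F T z = δ a := by
  have hp := (Fact.out : p.Prime)

  have hδ1 : δ 1 = 0 := by simpa using hδp 1
  have hδ0 : δ 0 = 0 := by simpa [zero_pow hp.ne_zero] using hδp 0
  have hpow : ∀ n : ℕ, δ (b ^ n) = ((n : R) * b ^ (n - 1)) • δ b := by
    intro n
    induction n with
    | zero => simp [hδ1]
    | succ n ih =>
      rw [pow_succ, hmul, ih, smul_smul, Nat.add_sub_cancel, ← add_smul]
      congr 1
      rcases n with _ | k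
      · simp
      · simp only [Nat.add_sub_cancel, Nat.cast_add, Nat.cast_one, pow_succ]; ring
  obtain ⟨Q, rfl⟩ := AdjoinRoot.mk_surjective z
  induction Q using Polynomial.induction_on' with
  | add f g hf hg =>
    obtain ⟨a, ha, hFa⟩ := hf
    obtain ⟨a', ha', hFa'⟩ := hg
    haveI : CharP (AdjoinRoot (X ^ p - C b : R[X])) p :=
      charP_of_injective_algebraMap (algebraMap_injective (p := p) (b := b)) p
    exact ⟨a + a', by rw [map_add, add_pow_char, ha, ha', map_add], by rw [map_add, F_add T hT, hFa, hFa', hadd]⟩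
  | monomial n c =>
    refine ⟨c ^ p * b ^ n, ?_, ?_⟩
    · rw [← C_mul_X_pow_eq_monomial, map_mul, map_pow, AdjoinRoot.mk_C, AdjoinRoot.mk_X, mul_pow,
        ← pow_mul, mul_comm n, pow_mul, root_pow, ← AdjoinRoot.algebraMap_eq, map_mul, map_pow, map_pow]
    · rw [← C_mul_X_pow_eq_monomial, map_mul, map_pow, AdjoinRoot.mk_C, AdjoinRoot.mk_X,
        ← AdjoinRoot.algebraMap_eq, ← Algebra.smul_def, hmul, hδp, smul_zero, add_zero, hpow]
      rcases n with _ | m
      · simp [F]
      obtain ⟨q, hq⟩ : ∃ q, p = q + 1 := ⟨p - 1, by have := hp.pos; omega⟩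
      set x := AdjoinRoot.root (X ^ p - C b) with hx
      have hring : ∀ (c x : AdjoinRoot (X ^ p - C b : R[X])),
          (c * x ^ (m + 1)) ^ q * (c * (((m + 1 : ℕ) : AdjoinRoot (X ^ p - C b : R[X])) * x ^ m)) =
            c ^ (q + 1) * ((m + 1 : ℕ) : AdjoinRoot (X ^ p - C b : R[X])) * (x ^ (q + 1)) ^ m * x ^ q :=
        fun c x => by ring
      have e : (c • x ^ (m + 1)) ^ (p - 1) • KaehlerDifferential.D R _ (c • x ^ (m + 1)) =
          (c ^ p * ((m + 1 : ℕ) : R) * b ^ m) • (x ^ (p - 1) • KaehlerDifferential.D R _ x) := by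
        rw [(KaehlerDifferential.D R _).map_smul, Derivation.leibniz_pow, Nat.add_sub_cancel,
          ← Nat.cast_smul_eq_nsmul (AdjoinRoot (X ^ p - C b : R[X])),
          ← IsScalarTower.algebraMap_smul (AdjoinRoot (X ^ p - C b : R[X])) c (_ • _ : Ω[_⁄R]),
          ← IsScalarTower.algebraMap_smul (AdjoinRoot (X ^ p - C b : R[X])) (c ^ p * _ * _),
          smul_smul, smul_smul, smul_smul, smul_smul]
        congr 1
        rw [Algebra.smul_def, map_mul, map_mul, map_pow, map_natCast, map_pow, ← root_pow,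
          show p - 1 = q by omega, ← hx]
        have := hring (algebraMap R _ c) x
        rw [← hq] at this
        rw [← this]
        ring
      show T ((c • x ^ (m + 1)) ^ (p - 1) • KaehlerDifferential.D R _ (c • x ^ (m + 1))) = _
      rw [e, LinearMap.map_smul, hT', Nat.add_sub_cancel, smul_smul, mul_assoc]

end Groth.Agent.H6TP
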