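import Groth.Prelude.Def_Pi1
import Mathlib.RingTheory.Flat.Tensor
import Mathlib.RingTheory.Finiteness.Descent
import Mathlib.RingTheory.Etale.Descent
import Mathlib.RingTheory.Smooth.Fiber

set_option linter.all false
set_option autoImplicit false

/-! Descent along universally injective ring maps. -/

namespace Groth.Agent.H6.UIDesc

universe u

open TensorProduct

variable {R S : Type u} [CommRing R] [CommRing S] [Algebra R S]

theorem mk_one_injective (h : Pi1.UnivInjective R S) (P : Type u) [AddCommGroup P] [Module R P] :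
    Function.Injective fun p : P => (1 : S) ⊗ₜ[R] p := by
  intro a b hab
  have h1 := congrArg (TensorProduct.comm R S P) hab
  simp only [TensorProduct.comm_tmul] at h1
  have h2 : LinearMap.lTensor P (Algebra.linearMap R S) (a ⊗ₜ[R] (1 : R)) =
      LinearMap.lTensor P (Algebra.linearMap R S) (b ⊗ₜ[R] (1 : R)) := by
    simpa using h1
  have := congrArg (TensorProduct.rid R P) (h P h2)
  simpa using this

theorem subsingleton_of_tensor (h : Pi1.UnivInjective R S) (P : Type u) [AddCommGroup P] [Module R P]
    [Subsingleton (S ⊗[R] P)] : Subsingleton P :=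
  ⟨fun a b => mk_one_injective h P (Subsingleton.elim _ _)⟩

theorem surjective_of_lTensor (h : Pi1.UnivInjective R S) {M N : Type u} [AddCommGroup M] [Module R M]
    [AddCommGroup N] [Module R N] (f : M →ₗ[R] N) (hf : Function.Surjective (f.lTensor S)) : Function.Surjective f := by
  have hex : Function.Exact (f.lTensor S) ((LinearMap.range f).mkQ.lTensor S) :=
    lTensor_exact S (LinearMap.exact_map_mkQ_range f) (Submodule.mkQ_surjective _)
  intro n
  have h0 : (1 : S) ⊗ₜ[R] (LinearMap.range f).mkQ n = 0 := by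
    rw [← LinearMap.lTensor_tmul]
    exact (hex _).2 (hf _)
  have h1 : (LinearMap.range f).mkQ n = 0 := mk_one_injective h _ (by simpa using h0)
  exact (Submodule.Quotient.mk_eq_zero (LinearMap.range f)).1 h1

theorem injective_of_lTensor (h : Pi1.UnivInjective R S) {M N : Type u} [AddCommGroup M] [Module R M]
    [AddCommGroup N] [Module R N] (f : M →ₗ[R] N) (hf : Function.Injective (f.lTensor S)) : Function.Injective f :=
  fun a b hab => mk_one_injective h M (hf (by simp [hab]))

theorem exists_char_splitting (h : Pi1.UnivInjective R S) :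
    ∃ σ : CharacterModule R →ₗ[R] CharacterModule S, ∀ c r, σ c (algebraMap R S r) = c r := by
  let χ₀ : CharacterModule (CharacterModule R ⊗[R] R) := CharacterModule.uncurry LinearMap.id
  obtain ⟨χ, hχ⟩ := CharacterModule.dual_surjective_of_injective
    (LinearMap.lTensor (CharacterModule R) (Algebra.linearMap R S)) (h (CharacterModule R)) χ₀
  refine ⟨CharacterModule.curry χ, fun c r => ?_⟩
  have := DFunLike.congr_fun hχ (c ⊗ₜ[R] r)
  exact this

theorem flat_descend (h : Pi1.UnivInjective R S) (M : Type u) [AddCommGroup M] [Module R M]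
    [Module.Flat S (S ⊗[R] M)] : Module.Flat R M := by
  obtain ⟨σ, hσ⟩ := exists_char_splitting h
  let F := M →₀ R
  let q : F →ₗ[R] M := Finsupp.linearCombination R id
  have hq : Function.Surjective q := Finsupp.linearCombination_id_surjective R M
  let θ : ∀ (X : Type u) [AddCommGroup X] [Module R X], CharacterModule X →ₗ[R] CharacterModule (S ⊗[R] X) :=
    fun X _ _ => CharacterModule.dual (TensorProduct.comm R S X).toLinearMap ∘ₗ CharacterModule.uncurry ∘ₗ
      LinearMap.compRight R σ ∘ₗ CharacterModule.curry ∘ₗ CharacterModule.dual (TensorProduct.rid R X).toLinearMap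
  have hone : ∀ (c : CharacterModule R), σ c 1 = c 1 := fun c => (congrArg (σ c) (map_one (algebraMap R S)).symm).trans (hσ c 1)
  have hθ1 : ∀ (φ : CharacterModule M) (m : M), θ M φ ((1 : S) ⊗ₜ[R] m) = φ m := fun φ m => by
    show σ (CharacterModule.curry (CharacterModule.dual (TensorProduct.rid R M).toLinearMap φ) m) 1 = φ m
    rw [hone]
    show φ (TensorProduct.rid R M (m ⊗ₜ[R] (1 : R))) = φ m
    rw [TensorProduct.rid_tmul, one_smul]
  let qS : (S ⊗[R] F) →ₗ[S] (S ⊗[R] M) := AlgebraTensorModule.lTensor S S q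
  have hqS : Function.Surjective qS := LinearMap.lTensor_surjective S hq
  have hnat : ∀ φ : CharacterModule M, θ F (CharacterModule.dual q φ) = CharacterModule.dual qS (θ M φ) := fun φ => by
    refine CharacterModule.ext _ fun z => ?_
    induction z using TensorProduct.induction_on with
    | zero => exact (map_zero _).trans (map_zero _).symm
    | tmul s x =>
      show σ (CharacterModule.curry (CharacterModule.dual (TensorProduct.rid R F).toLinearMap (CharacterModule.dual q φ)) x) s =
        σ (CharacterModule.curry (CharacterModule.dual (TensorProduct.rid R M).toLinearMap φ) (q x)) s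
      congr 2
      refine CharacterModule.ext _ fun r => ?_
      show φ (q (TensorProduct.rid R F (x ⊗ₜ[R] r))) = φ (TensorProduct.rid R M (q x ⊗ₜ[R] r))
      simp
    | add a b ha hb => rw [map_add, map_add, ha, hb]
  haveI : Module.Injective S (CharacterModule (S ⊗[R] M)) :=
    Module.Flat.iff_characterModule_injective.1 inferInstance
  obtain ⟨r, hr⟩ := Module.Injective.out (R := S) (Q := CharacterModule (S ⊗[R] M)) (CharacterModule.dual qS)
    (CharacterModule.dual_injective_of_surjective qS hqS) LinearMap.id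
  let T : CharacterModule F →ₗ[R] CharacterModule M :=
    { toFun := fun φ => ((r (θ F φ)).comp ((TensorProduct.mk R S M 1).toAddMonoidHom) : M →+ AddCircle (1 : ℚ))
      map_add' := fun a b => CharacterModule.ext _ fun m => by
        show r (θ F (a + b)) ((1 : S) ⊗ₜ[R] m) = r (θ F a) ((1 : S) ⊗ₜ[R] m) + r (θ F b) ((1 : S) ⊗ₜ[R] m)
        rw [map_add, map_add]; rfl
      map_smul' := fun a φ => CharacterModule.ext _ fun m => by
        show r (θ F (a • φ)) ((1 : S) ⊗ₜ[R] m) = r (θ F φ) ((1 : S) ⊗ₜ[R] (a • m))
        have e : (a • θ F φ : CharacterModule (S ⊗[R] F)) = algebraMap R S a • θ F φ :=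
          CharacterModule.ext _ fun z => by simp
        rw [map_smul, e, map_smul, CharacterModule.smul_apply, TensorProduct.smul_tmul', TensorProduct.tmul_smul, TensorProduct.smul_tmul', smul_eq_mul, Algebra.smul_def] }
  have hT : ∀ φ, T (CharacterModule.dual q φ) = φ := fun φ => CharacterModule.ext _ fun m => by
    show r (θ F (CharacterModule.dual q φ)) ((1 : S) ⊗ₜ[R] m) = φ m
    rw [hnat, hr]
    exact hθ1 φ m
  haveI : Module.Injective R (CharacterModule F) := Module.Flat.iff_characterModule_injective.1 inferInstance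
  refine Module.Flat.iff_characterModule_injective.2 ⟨fun X Y _ _ _ _ f hf g => ?_⟩
  obtain ⟨k, hk⟩ := Module.Injective.out f hf (CharacterModule.dual q ∘ₗ g)
  exact ⟨T ∘ₗ k, fun x => by rw [LinearMap.comp_apply, hk]; exact hT (g x)⟩

theorem finite_descend (h : Pi1.UnivInjective R S) (M : Type u) [AddCommGroup M] [Module R M]
    [Module.Finite S (S ⊗[R] M)] : Module.Finite R M := by
  classical
  obtain ⟨n, s, hs⟩ := Module.Finite.exists_fin (R := S) (M := S ⊗[R] M)
  choose k t m hm using fun i : Fin n ↦ TensorProduct.exists_sum_tmul_eq (s i)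
  let f₀ : ((Σ i, Fin (k i)) → R) →ₗ[R] M := (Pi.basisFun R _).constr R fun ⟨i, j⟩ ↦ m i j
  apply Module.Finite.of_surjective f₀
  have : Function.Surjective (AlgebraTensorModule.lTensor S S f₀) := by
    rw [← LinearMap.range_eq_top, eq_top_iff, ← hs, Submodule.span_le, Set.range_subset_iff]
    intro i
    use ∑ (j : Fin (k i)), t i j ⊗ₜ Pi.basisFun R _ ⟨i, j⟩
    simp [f₀, -Pi.basisFun_equivFun, -Pi.basisFun_apply, hm i]
  exact surjective_of_lTensor h f₀ this

theorem finitePresentation_descend (h : Pi1.UnivInjective R S) (M : Type u) [AddCommGroup M] [Module R M]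
    [Module.FinitePresentation S (S ⊗[R] M)] : Module.FinitePresentation R M := by
  classical
  haveI := finite_descend h M
  obtain ⟨n, f, hf⟩ := Module.Finite.exists_fin' R M
  let K := LinearMap.ker f
  have hex : Function.Exact (K.subtype.lTensor S) (f.lTensor S) :=
    lTensor_exact S (LinearMap.exact_subtype_ker_map f) hf
  let fS : (S ⊗[R] (Fin n → R)) →ₗ[S] (S ⊗[R] M) := AlgebraTensorModule.lTensor S S f
  obtain ⟨T, hT⟩ := Module.FinitePresentation.fg_ker fS (LinearMap.lTensor_surjective S hf)
  have hsrc : ∀ t : T, ∃ z : S ⊗[R] K, K.subtype.lTensor S z = t.1 := fun t =>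
    (hex _).1 (by
      have : t.1 ∈ LinearMap.ker fS := hT ▸ Submodule.subset_span t.2
      exact this)
  choose z hz using hsrc
  choose g hg using fun t : T => TensorProduct.exists_finset (z t)
  let G : Finset K := Finset.univ.biUnion fun t : T => (g t).image Prod.snd
  let K₀ : Submodule R (Fin n → R) := Submodule.span R ((G.image Subtype.val : Finset _) : Set (Fin n → R))
  have hK₀ : K₀ ≤ K := Submodule.span_le.2 fun x hx => by
    obtain ⟨y, -, rfl⟩ := Finset.mem_image.1 hx
    exact y.2
  let π : ((Fin n → R) ⧸ K₀) →ₗ[R] M := K₀.liftQ f hK₀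
  have hπ : Function.Surjective π := fun y => by
    obtain ⟨x, rfl⟩ := hf y
    exact ⟨Submodule.Quotient.mk x, rfl⟩
  have hkill : ∀ w ∈ LinearMap.ker fS, AlgebraTensorModule.lTensor S S K₀.mkQ w = 0 := by
    rw [← hT]
    intro w hw
    induction hw using Submodule.span_induction with
    | mem w hw =>
      rw [show w = (⟨w, hw⟩ : T).1 from rfl, ← hz, hg, map_sum, map_sum]
      refine Finset.sum_eq_zero fun p hp => ?_
      show p.1 ⊗ₜ[R] K₀.mkQ (p.2 : Fin n → R) = 0
      rw [show K₀.mkQ (p.2 : Fin n → R) = 0 from (Submodule.Quotient.mk_eq_zero K₀).2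
        (Submodule.subset_span (Finset.mem_image_of_mem _ (Finset.mem_biUnion.2 ⟨⟨w, hw⟩, Finset.mem_univ _, Finset.mem_image_of_mem _ hp⟩))),
        tmul_zero]
    | zero => simp
    | add a b _ _ ha hb => simp [map_add, ha, hb]
    | smul a b _ hb => rw [map_smul, hb, smul_zero]
  have hπinj : Function.Injective π := by
    refine injective_of_lTensor h π ((injective_iff_map_eq_zero _).2 fun w hw => ?_)
    obtain ⟨v, rfl⟩ := LinearMap.lTensor_surjective S (Submodule.mkQ_surjective K₀) w
    refine hkill v ?_
    rw [LinearMap.mem_ker]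
    rw [← LinearMap.comp_apply, ← LinearMap.lTensor_comp, Submodule.liftQ_mkQ] at hw
    exact hw
  have hKer : LinearMap.ker f = K₀ := by
    refine le_antisymm (fun x hx => ?_) hK₀
    exact (Submodule.Quotient.mk_eq_zero K₀).1 (hπinj ((hx : f x = 0).trans (map_zero π).symm))
  exact Module.finitePresentation_of_surjective f hf (hKer ▸ ⟨_, rfl⟩)

theorem finiteType_descend (h : Pi1.UnivInjective R S) (A : Type u) [CommRing A] [Algebra R A]
    [Algebra.FiniteType S (S ⊗[R] A)] : Algebra.FiniteType R A := by
  obtain ⟨s, hs⟩ := Algebra.FiniteType.out (R := S) (A := S ⊗[R] A)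
  have (x : s) := TensorProduct.exists_sum_tmul_eq x.1
  choose k t m hm using this
  let f : MvPolynomial (Σ x : s, Fin (k x)) R →ₐ[R] A := MvPolynomial.aeval (fun ⟨x, i⟩ ↦ m x i)
  apply Algebra.FiniteType.of_surjective f
  have hf : Function.Surjective (Algebra.TensorProduct.map (.id S S) f) := by
    rw [← AlgHom.range_eq_top, _root_.eq_top_iff, ← hs, Algebra.adjoin_le_iff]
    intro x hx
    let i : s := ⟨x, hx⟩
    use ∑ (j : Fin (k i)), t i j ⊗ₜ MvPolynomial.X ⟨i, j⟩
    simp [f, ← hm, i]
  exact surjective_of_lTensor h f.toLinearMap hf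

theorem algFinitePresentation_descend (h : Pi1.UnivInjective R S) (A : Type u) [CommRing A] [Algebra R A]
    [Algebra.FinitePresentation S (S ⊗[R] A)] : Algebra.FinitePresentation R A := by
  classical
  haveI := finiteType_descend h A
  obtain ⟨n, f, hf⟩ := Algebra.FiniteType.iff_quotient_mvPolynomial''.1 (inferInstance : Algebra.FiniteType R A)
  let P := MvPolynomial (Fin n) R
  let fS : (S ⊗[R] P) →ₐ[S] (S ⊗[R] A) := Algebra.TensorProduct.map (.id S S) f
  have hfS : Function.Surjective fS := LinearMap.lTensor_surjective S (g := f.toLinearMap) hf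
  haveI : Algebra.FinitePresentation S (S ⊗[R] P) := inferInstance
  obtain ⟨T, hT⟩ := Algebra.FinitePresentation.ker_fG_of_surjective fS hfS
  have hex : Function.Exact ((LinearMap.ker f.toLinearMap).subtype.lTensor S) (f.toLinearMap.lTensor S) :=
    lTensor_exact S (LinearMap.exact_subtype_ker_map _) hf
  have hsrc : ∀ t : T, ∃ z : S ⊗[R] (LinearMap.ker f.toLinearMap), (LinearMap.ker f.toLinearMap).subtype.lTensor S z = t.1 := fun t =>
    (hex _).1 (by
      have : t.1 ∈ RingHom.ker fS.toRingHom := hT ▸ Ideal.subset_span t.2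
      exact this)
  choose z hz using hsrc
  choose g hg using fun t : T => TensorProduct.exists_finset (z t)
  let G : Finset P := Finset.univ.biUnion fun t : T => (g t).image fun p => (p.2 : P)
  let J : Ideal P := Ideal.span (G : Set P)
  have hGker : ∀ x ∈ G, f x = 0 := fun x hx => by
    obtain ⟨t, -, hx⟩ := Finset.mem_biUnion.1 hx
    obtain ⟨p, -, rfl⟩ := Finset.mem_image.1 hx
    exact p.2.2
  have hJ : J ≤ RingHom.ker f.toRingHom := Ideal.span_le.2 hGker
  let π : (P ⧸ J) →ₐ[R] A := Ideal.Quotient.liftₐ J f fun a ha => hJ ha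
  let qS : (S ⊗[R] P) →ₐ[S] (S ⊗[R] (P ⧸ J)) := Algebra.TensorProduct.map (.id S S) (Ideal.Quotient.mkₐ R J)
  have hkill : RingHom.ker fS.toRingHom ≤ RingHom.ker qS.toRingHom := by
    rw [← hT, Ideal.span_le]
    intro w hw
    show qS w = 0
    rw [show w = (⟨w, hw⟩ : T).1 from rfl, ← hz, hg, map_sum, map_sum]
    refine Finset.sum_eq_zero fun p hp => ?_
    show p.1 ⊗ₜ[R] Ideal.Quotient.mk J (p.2 : P) = 0
    rw [Ideal.Quotient.eq_zero_iff_mem.2 (Ideal.subset_span (Finset.mem_biUnion.2 ⟨(⟨w, hw⟩ : T), Finset.mem_univ _, Finset.mem_image_of_mem (fun p : S × LinearMap.ker f.toLinearMap => (p.2 : P)) hp⟩)), tmul_zero]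
  have hπinj : Function.Injective π := by
    refine injective_of_lTensor h π.toLinearMap ((injective_iff_map_eq_zero _).2 fun w hw => ?_)
    obtain ⟨v, rfl⟩ := LinearMap.lTensor_surjective S (g := (Ideal.Quotient.mkₐ R J).toLinearMap) Ideal.Quotient.mk_surjective w
    refine hkill ?_
    rw [RingHom.mem_ker]
    rw [← LinearMap.comp_apply, ← LinearMap.lTensor_comp] at hw
    exact hw
  have hker : RingHom.ker f.toRingHom = J := le_antisymm (fun x hx =>
    Ideal.Quotient.eq_zero_iff_mem.1 (hπinj ((show π (Ideal.Quotient.mk J x) = f x from rfl).trans ((hx : f x = 0).trans (map_zero π).symm)))) hJ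
  exact Algebra.FinitePresentation.of_surjective hf (hker ▸ ⟨G, rfl⟩)

theorem etale_descend (h : Pi1.UnivInjective R S) (A : Type u) [CommRing A] [Algebra R A]
    [Algebra.Etale S (S ⊗[R] A)] : Algebra.Etale R A := by
  haveI := algFinitePresentation_descend h A
  haveI := flat_descend h A
  haveI : Algebra.FormallyUnramified R A := by
    constructor
    let _ : Algebra A (S ⊗[R] A) := Algebra.TensorProduct.rightAlgebra
    haveI : Subsingleton (S ⊗[R] Ω[A⁄R]) :=
      (KaehlerDifferential.tensorKaehlerEquivBase R S A (S ⊗[R] A)).subsingleton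
    exact subsingleton_of_tensor h _
  exact Algebra.Etale.of_formallyUnramified_of_flat

end Groth.Agent.H6.UIDesc
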