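import Groth.Agent.Lib.H6.UhImage
import Groth.Agent.Lib.H6.AWN2
import Mathlib.AlgebraicGeometry.Morphisms.Integral
import Mathlib.Algebra.Category.Ring.FinitePresentation

set_option linter.all false
set_option autoImplicit false

/-! Universal homeomorphisms of rings: subalgebras, colimits, standard extensions. -/

namespace Groth.Agent.H6.UhApps

universe u

open CategoryTheory AlgebraicGeometry
open Groth.Agent.H6.AWN (Uh)
open Groth.Agent.H6 Groth.Agent.H6.Tower

variable {A B : Type u} [CommRing A] [CommRing B]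

theorem uc_iff (ψ : A →+* B) :
    UniversallyClosed (Spec.map (CommRingCat.ofHom ψ)) ↔ ψ.IsIntegral :=
  ⟨fun h => IsIntegralHom.SpecMap_iff.1
    (IsIntegralHom.iff_universallyClosed_and_isAffineHom.2 ⟨h, inferInstance⟩),
    fun h => (IsIntegralHom.iff_universallyClosed_and_isAffineHom.1 (IsIntegralHom.SpecMap_iff.2 h)).1⟩

theorem ui_iff (ψ : A →+* B) : UniversallyInjective (Spec.map (CommRingCat.ofHom ψ)) ↔
    ∀ (K : Type u) [Field K] (u v : B →+* K), u.comp ψ = v.comp ψ → u = v := by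
  have e := (tfae_universallyInjective (Spec.map (CommRingCat.ofHom ψ))).out 0 1
  constructor
  · intro h2 K _ u v huv
    have h := e.1 h2 K (a₁ := Spec.map (CommRingCat.ofHom u)) (a₂ := Spec.map (CommRingCat.ofHom v)) (by
      change Spec.map _ ≫ _ = Spec.map _ ≫ _
      rw [← Spec.map_comp, ← Spec.map_comp, ← CommRingCat.ofHom_comp, ← CommRingCat.ofHom_comp, huv])
    exact congrArg CommRingCat.Hom.hom (Spec.map_injective h)
  · intro h
    refine e.2 fun K _ g₁ g₂ hg => ?_
    obtain ⟨u, rfl⟩ := Spec.map_surjective g₁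
    obtain ⟨v, rfl⟩ := Spec.map_surjective g₂
    change Spec.map u ≫ _ = Spec.map v ≫ _ at hg
    rw [← Spec.map_comp, ← Spec.map_comp] at hg
    congr 1
    exact CommRingCat.hom_ext (h K _ _ (congrArg CommRingCat.Hom.hom (Spec.map_injective hg)))

theorem surj_of_rational (j : A →+* B) (Q : Ideal B) [Q.IsPrime]
    (h : ∀ c : B, ∃ (s : A) (a : A), j s ∉ Q ∧ j s * c - j a ∈ Q) :
    Function.Surjective (Ideal.ResidueField.map (Q.comap j) Q j rfl) := by
  have hall : ∀ c : B, algebraMap B Q.ResidueField c ∈ (Ideal.ResidueField.map (Q.comap j) Q j rfl).fieldRange :=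
    fun c => by
    obtain ⟨s, a, hs, hsa⟩ := h c
    refine ⟨algebraMap A _ a / algebraMap A _ s, ?_⟩
    rw [map_div₀, Ideal.ResidueField.map_algebraMap, Ideal.ResidueField.map_algebraMap,
      div_eq_iff (fun h0 => hs (Ideal.algebraMap_residueField_eq_zero.1 h0)), ← map_mul, eq_comm,
      ← sub_eq_zero, ← map_sub, Ideal.algebraMap_residueField_eq_zero, mul_comm]
    exact hsa
  intro y
  obtain ⟨a, s, -, rfl⟩ := IsFractionRing.div_surjective (A := B ⧸ Q) y
  obtain ⟨a, rfl⟩ := Ideal.Quotient.mk_surjective a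
  obtain ⟨s, rfl⟩ := Ideal.Quotient.mk_surjective s
  rw [Ideal.algebraMap_quotient_residueField_mk, Ideal.algebraMap_quotient_residueField_mk]
  exact RingHom.mem_fieldRange.1 (div_mem (hall a) (hall s))

/-- scheme-theoretic form of trivial residue extensions -/
theorem res_iff (j : A →+* B) :
    (∀ x : Spec (CommRingCat.of B), Function.Surjective ((Spec.map (CommRingCat.ofHom j)).residueFieldMap x)) ↔
      ∀ (Q : Ideal B) [Q.IsPrime], Function.Surjective (Ideal.ResidueField.map (Q.comap j) Q j rfl) := by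
  constructor
  · intro h Q hQ
    exact (residueFieldMap_surj_iff j ⟨Q, hQ⟩).1 (h _)
  · intro h x
    haveI : x.asIdeal.IsPrime := x.isPrime
    exact (residueFieldMap_surj_iff j x).2 (h x.asIdeal)

theorem res_rational_iff (j : A →+* B) :
    (∀ x : Spec (CommRingCat.of B), Function.Surjective ((Spec.map (CommRingCat.ofHom j)).residueFieldMap x)) ↔
      ∀ (Q : Ideal B), Q.IsPrime → ∀ c : B, ∃ (s : A) (a : A), j s ∉ Q ∧ j s * c - j a ∈ Q :=
  (res_iff j).trans ⟨fun h Q hQ c => residue_rational j Q (h Q) c,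
    fun h Q hQ => surj_of_rational j Q (h Q hQ)⟩

section sub

variable [Algebra A B] (B' : Subalgebra A B)

theorem sub_int (h : (algebraMap A B).IsIntegral) : (algebraMap A B').IsIntegral := fun x =>
  (isIntegral_algHom_iff B'.val Subtype.val_injective).1 (show IsIntegral A (x : B) from h (x : B))

theorem sub_val_int (h : (algebraMap A B).IsIntegral) : B'.val.toRingHom.IsIntegral :=
  RingHom.IsIntegral.tower_top (algebraMap A B') B'.val.toRingHom h

theorem sub_surj (h : Function.Surjective (PrimeSpectrum.comap (algebraMap A B))) :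
    Function.Surjective (PrimeSpectrum.comap (algebraMap A B')) := fun p => by
  obtain ⟨q, hq⟩ := h p
  exact ⟨PrimeSpectrum.comap B'.val.toRingHom q, hq⟩

theorem sub_inj (hint : (algebraMap A B).IsIntegral)
    (h : ∀ (K : Type u) [Field K] (u v : B →+* K), u.comp (algebraMap A B) = v.comp (algebraMap A B) → u = v) :
    ∀ (K : Type u) [Field K] (u v : B' →+* K), u.comp (algebraMap A B') = v.comp (algebraMap A B') → u = v := by
  intro K _ u v huv
  let L := AlgebraicClosure K
  have hi := sub_val_int B' hint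
  obtain ⟨u', hu'⟩ := Eta.exists_alg_point B'.val.toRingHom hi
    (hi.comap_surjective Subtype.val_injective) ((algebraMap K L).comp u)
  obtain ⟨v', hv'⟩ := Eta.exists_alg_point B'.val.toRingHom hi
    (hi.comap_surjective Subtype.val_injective) ((algebraMap K L).comp v)
  have := h L u' v' (RingHom.ext fun a => by
    have e1 := RingHom.congr_fun hu' (algebraMap A B' a)
    have e2 := RingHom.congr_fun hv' (algebraMap A B' a)
    exact (e1.trans (congrArg (algebraMap K L) (RingHom.congr_fun huv a))).trans e2.symm)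
  refine RingHom.ext fun x => (algebraMap K L).injective ?_
  exact ((RingHom.congr_fun hu' x).symm.trans (RingHom.congr_fun this _)).trans (RingHom.congr_fun hv' x)

theorem sub_uh (h : Uh (algebraMap A B)) : Uh (algebraMap A B') :=
  ⟨sub_int B' h.int, sub_surj B' h.surj, sub_inj B' h.int h.inj⟩

theorem sub_rational (hint : (algebraMap A B).IsIntegral)
    (h : ∀ (Q : Ideal B), Q.IsPrime → ∀ c : B, ∃ (s : A) (a : A),
      algebraMap A B s ∉ Q ∧ algebraMap A B s * c - algebraMap A B a ∈ Q)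
    (Q : Ideal B') (hQ : Q.IsPrime) (c : B') :
    ∃ (s : A) (a : A), algebraMap A B' s ∉ Q ∧ algebraMap A B' s * c - algebraMap A B' a ∈ Q := by
  obtain ⟨q, hq⟩ := (sub_val_int B' hint).comap_surjective Subtype.val_injective ⟨Q, hQ⟩
  obtain rfl : q.asIdeal.comap B'.val.toRingHom = Q := congrArg PrimeSpectrum.asIdeal hq
  exact h q.asIdeal q.isPrime c

end sub

section towers

theorem sat_sub {P : ∀ {C : Type u} [CommRing C], Set C → C → Prop} [Algebra A B]
    (hmono : ∀ S T : Set B, S ⊆ T → ∀ b, P S b → P T b)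
    (hsub : ∀ (B' : Subalgebra A B) (S : Set B') (b : B'), P (Subtype.val '' S) (b : B) → P S b)
    (F : Finset (sat (A := A) (P := P) hmono)) :
    ∃ l : List (sat (A := A) (P := P) hmono),
      (↑F : Set (sat (A := A) (P := P) hmono)) ⊆ Algebra.adjoin A {b | b ∈ l} ∧ Ok A P l := by
  classical
  have hF : ∀ E : Finset B, (∀ e ∈ E, e ∈ sat (A := A) (P := P) hmono) →
      ∃ l : List B, (↑E : Set B) ⊆ Algebra.adjoin A {b : B | b ∈ l} ∧ Ok A P l := fun E => by
    induction E using Finset.induction_on with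
    | empty => exact fun _ => ⟨[], by simp, ok_nil⟩
    | insert x E _ ih =>
      intro hE
      obtain ⟨l, hl, hlok⟩ := ih fun e he => hE e (Finset.mem_insert_of_mem he)
      obtain ⟨m, hm, hx⟩ := hE x (Finset.mem_insert_self x E)
      refine ⟨l ++ m, ?_, ok_append hmono hlok hm⟩
      rw [Finset.coe_insert, Set.insert_subset_iff]
      exact ⟨Algebra.adjoin_mono (fun b hb => List.mem_append_right _ hb) hx,
        fun y hy => Algebra.adjoin_mono (fun b hb => List.mem_append_left _ hb) (hl hy)⟩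
  obtain ⟨l, hl, hok⟩ := hF (F.image Subtype.val) fun e he => by
    obtain ⟨x, -, rfl⟩ := Finset.mem_image.1 he
    exact x.2
  have hin : ∀ {b : B}, b ∈ l → b ∈ sat (A := A) (P := P) hmono :=
    fun hb => ⟨l, hok, Algebra.subset_adjoin hb⟩
  let S := sat (A := A) (P := P) hmono
  let l' : List S := l.attach.map fun b => ⟨b.1, hin b.2⟩
  have hlen : l'.length = l.length := by simp [l']
  have hget : ∀ j : Fin l'.length, (l'.get j : B) = l.get ⟨j, hlen ▸ j.2⟩ := fun j => by simp [l']
  have hadj : ∀ (T : Set S) (x : S), (x : B) ∈ Algebra.adjoin A (Subtype.val '' T) → x ∈ Algebra.adjoin A T :=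
    fun T x hx => by
    have e : Algebra.adjoin A (Subtype.val '' T) = (Algebra.adjoin A T).map S.val := by
      rw [AlgHom.map_adjoin]; rfl
    rw [e] at hx
    obtain ⟨y, hy, hyx⟩ := hx
    exact (Subtype.ext hyx : y = x) ▸ hy
  refine ⟨l', fun x hx => hadj _ x (Algebra.adjoin_mono ?_ (hl (Finset.mem_image_of_mem _ hx))), fun i => ?_⟩
  · intro b hb
    exact ⟨⟨b, hin hb⟩, List.mem_map.2 ⟨⟨b, hb⟩, List.mem_attach _ _, rfl⟩, rfl⟩
  · refine hsub S _ _ ?_
    rw [hget i]
    refine hmono _ _ ?_ _ (hok ⟨i, hlen ▸ i.2⟩)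
    intro z hz
    have hzS : z ∈ S := Algebra.adjoin_le (fun t ht => by
      obtain ⟨j, -, rfl⟩ := ht; exact hin (List.get_mem l j)) hz
    refine ⟨⟨z, hzS⟩, hadj _ _ (Algebra.adjoin_mono ?_ hz), rfl⟩
    rintro _ ⟨j, hj, rfl⟩
    exact ⟨l'.get ⟨j, hlen.symm ▸ j.2⟩, ⟨⟨j, hlen.symm ▸ j.2⟩, hj, rfl⟩, hget _⟩

theorem sat_map {C : Type u} [CommRing C] [Algebra A B] [Algebra A C] (g : C →ₐ[A] B) {l : List C}
    (h : Ok A SqStep l) : Ok A SqStep (l.map g) := by
  intro i
  have hi : (i : ℕ) < l.length := by simpa using i.2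
  have e : (l.map g).get i = g (l.get ⟨i, hi⟩) := by simp
  have key : ∀ y, y ∈ pre A l ⟨i, hi⟩ → g y ∈ pre A (l.map g) i := fun y hy => by
    have h1 : g y ∈ (pre A l ⟨i, hi⟩).map g := ⟨y, hy, rfl⟩
    rw [pre, AlgHom.map_adjoin] at h1
    refine Algebra.adjoin_mono ?_ h1
    rintro _ ⟨_, ⟨j, hj, rfl⟩, rfl⟩
    exact ⟨⟨j, by simp⟩, hj, by simp⟩
  rw [e]
  exact ⟨by rw [← map_pow]; exact key _ (h ⟨i, hi⟩).1, by rw [← map_pow]; exact key _ (h ⟨i, hi⟩).2⟩

theorem exists_sn_subalgebra [Algebra A B]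
    (hd : RingHom.ker (algebraMap A B) ≤ nilradical A) :
    ∃ B' : Subalgebra A B, (Uh (algebraMap A B') ∧ ∀ (Q : Ideal B') [Q.IsPrime],
        Function.Surjective (Ideal.ResidueField.map (Q.comap (algebraMap A B')) Q (algebraMap A B') rfl)) ∧
      ∀ (C : Type u) [CommRing C] [Algebra A C] (g : C →ₐ[A] B), Uh (algebraMap A C) →
        (∀ (Q : Ideal C) [Q.IsPrime],
          Function.Surjective (Ideal.ResidueField.map (Q.comap (algebraMap A C)) Q (algebraMap A C) rfl)) →
        g.range ≤ B' := by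
  let S := sat (A := A) (B := B) sq_mono
  have hcov := sat_sub (A := A) (B := B) (P := fun {C} _ => SqStep (B := C)) sq_mono
    (fun B' T b hb => ⟨by
      obtain ⟨x, hx, e⟩ := hb.1; exact (Subtype.ext e : x = b ^ 2) ▸ hx, by
      obtain ⟨x, hx, e⟩ := hb.2; exact (Subtype.ext e : x = b ^ 3) ▸ hx⟩)
  have hint : ∀ x : S, IsIntegral A x := fun x => by
    obtain ⟨l, hl, hok⟩ := hcov {x}
    refine ok_good (fun y => IsIntegral A y) (fun T hT y hy => ?_)
      (fun T b hT hb => step_integral hT (Or.inl hb)) hok x (hl (by simp))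
    exact (Algebra.adjoin_le (S := integralClosure A S) hT) hy
  have hsurj : Function.Surjective (PrimeSpectrum.comap (algebraMap A S)) := by
    let k := (algebraMap A B).rangeRestrict
    let m : (algebraMap A B).range →+* S := (algebraMap A B).range.subtype.codRestrict S
      (fun a => by obtain ⟨_, a, rfl⟩ := a; exact Subalgebra.algebraMap_mem S a)
    have e : m.comp k = algebraMap A S := RingHom.ext fun a => rfl
    have hk : Uh k := uh_surjective _ (RingHom.rangeRestrict_surjective _) (by rw [RingHom.ker_rangeRestrict]; exact hd)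
    have hm : Function.Surjective (PrimeSpectrum.comap m) :=
      RingHom.IsIntegral.comap_surjective (RingHom.IsIntegral.tower_top k m (e.symm ▸ hint))
        (fun a b h => Subtype.ext (congrArg (fun z : S => (z : B)) h))
    rw [← e, PrimeSpectrum.comap_comp]
    exact hk.surj.comp hm
  refine ⟨S, ⟨uh_of_cover' hsurj (fun _ _ h => Or.inl h) hcov, fun Q _ => residue_surj_of_cover hcov Q⟩,
    fun C _ _ g hC hr => ?_⟩
  rintro _ ⟨x, rfl⟩
  obtain ⟨l, hl, hok⟩ := cover_sq hC hr {x}
  refine ⟨l.map g, sat_map g hok, ?_⟩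
  have h1 : g x ∈ (Algebra.adjoin A {b : C | b ∈ l}).map g := ⟨x, hl (by simp), rfl⟩
  rw [AlgHom.map_adjoin] at h1
  refine Algebra.adjoin_mono ?_ h1
  rintro _ ⟨c, hc, rfl⟩
  exact List.mem_map_of_mem hc

theorem exists_sq (φ : A →+* B) (hinj : Function.Injective φ) (hns : ¬ Function.Surjective φ) (h : Uh φ)
    (hr : ∀ (Q : Ideal B) [Q.IsPrime], Function.Surjective (Ideal.ResidueField.map (Q.comap φ) Q φ rfl)) :
    ∃ b : B, b ∉ φ.range ∧ b ^ 2 ∈ φ.range ∧ b ^ 3 ∈ φ.range := by
  letI := φ.toAlgebra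
  by_contra hcon
  push Not at hcon
  refine hns fun x => ?_
  obtain ⟨l, hl, hok⟩ := (sq_iff (A := A) (B := B) hinj).1 ⟨h, hr⟩ {x}
  refine RingHom.mem_range.1 (ok_good (A := A) (fun y => y ∈ φ.range) (fun T hT y hy => ?_)
    (fun T b hT hb => ?_) hok x (hl (by simp)))
  · exact (Algebra.adjoin_le (S := (Algebra.ofId A B).range) hT) hy
  · by_contra hb'
    exact hcon b hb' (hT _ hb.1) (hT _ hb.2)

theorem exists_any (φ : A →+* B) (hinj : Function.Injective φ) (hns : ¬ Function.Surjective φ) (h : Uh φ) :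
    (∃ b : B, b ∉ φ.range ∧ b ^ 2 ∈ φ.range ∧ b ^ 3 ∈ φ.range) ∨
      ∃ (p : ℕ) (b : B), p.Prime ∧ b ∉ φ.range ∧ (p : B) * b ∈ φ.range ∧ b ^ p ∈ φ.range := by
  letI := φ.toAlgebra
  by_contra hcon
  push Not at hcon
  refine hns fun x => ?_
  obtain ⟨l, hl, hok⟩ := (any_iff (A := A) (B := B) hinj).1 h {x}
  refine RingHom.mem_range.1 (ok_good (A := A) (fun y => y ∈ φ.range) (fun T hT y hy => ?_)
    (fun T b hT hb => ?_) hok x (hl (by simp)))
  · exact (Algebra.adjoin_le (S := (Algebra.ofId A B).range) hT) hy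
  · by_contra hb'
    rcases hb with hb | ⟨p, hp, h1, h2⟩
    · exact hcon.1 b hb' (hT _ hb.1) (hT _ hb.2)
    · exact hcon.2 p b hp hb' (hT _ h1) (hT _ h2)

end towers

section standard

open Polynomial

theorem single_cover (I : Ideal A[X]) (P : Set (A[X] ⧸ I) → (A[X] ⧸ I) → Prop)
    (h : P (Algebra.adjoin A (∅ : Set (A[X] ⧸ I)) : Set _) (Ideal.Quotient.mk I X))
    (hmono : ∀ S T : Set (A[X] ⧸ I), S ⊆ T → ∀ b, P S b → P T b) (F : Finset (A[X] ⧸ I)) :
    ∃ l : List (A[X] ⧸ I), (↑F : Set (A[X] ⧸ I)) ⊆ Algebra.adjoin A {b | b ∈ l} ∧ Ok A P l := by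
  refine ⟨[] ++ [Ideal.Quotient.mk I X], fun y hy => ?_, ok_snoc hmono ok_nil ?_⟩
  · clear hy
    obtain ⟨q, rfl⟩ := Ideal.Quotient.mk_surjective y
    induction q using Polynomial.induction_on with
    | C a => exact Subalgebra.algebraMap_mem _ a
    | add p q hp hq => rw [map_add]; exact add_mem hp hq
    | monomial n a _ =>
      rw [map_mul, map_pow]
      exact mul_mem (Subalgebra.algebraMap_mem _ a)
        (pow_mem (Algebra.subset_adjoin (by simp)) _)
  · exact hmono _ _ (SetLike.coe_subset_coe.2 (Algebra.adjoin_mono (Set.empty_subset _))) _ h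

theorem point_surj (I : Ideal A[X])
    (h : ∀ (L : Type u) [Field L] [IsAlgClosed L] (φ : A →+* L), ∃ a : L, ∀ q ∈ I, eval₂ φ a q = 0) :
    Function.Surjective (PrimeSpectrum.comap (algebraMap A (A[X] ⧸ I))) := fun p => by
  let L := AlgebraicClosure p.asIdeal.ResidueField
  let φ : A →+* L := (algebraMap p.asIdeal.ResidueField L).comp (algebraMap A _)
  obtain ⟨a, ha⟩ := h L φ
  let w := Ideal.Quotient.lift I (eval₂RingHom φ a) ha
  refine ⟨⟨RingHom.ker w, RingHom.ker_isPrime _⟩, PrimeSpectrum.ext ?_⟩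
  change (RingHom.ker w).comap (algebraMap A (A[X] ⧸ I)) = p.asIdeal
  rw [RingHom.comap_ker]
  ext r
  rw [RingHom.mem_ker]
  have e : w (algebraMap A (A[X] ⧸ I) r) = φ r := eval₂_C φ a
  exact Iff.trans (Eq.congr_left e) ((map_eq_zero_iff _ (algebraMap p.asIdeal.ResidueField L).injective).trans
      Ideal.algebraMap_residueField_eq_zero)

theorem sq_root (x y : A) (h : x ^ 3 = y ^ 2) :
    Uh (algebraMap A (A[X] ⧸ Ideal.span ({X ^ 2 - C x, X ^ 3 - C y} : Set A[X]))) ∧
      ∀ (Q : Ideal (A[X] ⧸ Ideal.span ({X ^ 2 - C x, X ^ 3 - C y} : Set A[X]))) [Q.IsPrime],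
        Function.Surjective (Ideal.ResidueField.map (Q.comap (algebraMap A _)) Q (algebraMap A _) rfl) := by
  set I := Ideal.span ({X ^ 2 - C x, X ^ 3 - C y} : Set A[X])
  have hx : Ideal.Quotient.mk I X ^ 2 = algebraMap A (A[X] ⧸ I) x :=
    (map_pow _ _ _).symm.trans (Ideal.Quotient.eq.2 (Ideal.subset_span (by simp)))
  have hy : Ideal.Quotient.mk I X ^ 3 = algebraMap A (A[X] ⧸ I) y :=
    (map_pow _ _ _).symm.trans (Ideal.Quotient.eq.2 (Ideal.subset_span (by simp)))
  have hcov := single_cover I SqStep ⟨hx ▸ Subalgebra.algebraMap_mem _ x, hy ▸ Subalgebra.algebraMap_mem _ y⟩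
    sq_mono
  refine ⟨uh_of_cover' (point_surj I fun L _ _ φ => ?_) (fun _ _ h => Or.inl h) hcov,
    fun Q _ => residue_surj_of_cover hcov Q⟩
  obtain ⟨a, ha, ha'⟩ := AWN.exists_field_sq (φ x) (φ y) (by rw [← map_pow, ← map_pow, h])
  refine ⟨a, fun q hq => ?_⟩
  have : I ≤ RingHom.ker (eval₂RingHom φ a) := Ideal.span_le.2 (by
    rintro q (rfl | rfl) <;> simp [ha, ha'])
  exact this hq

theorem p_root (p : ℕ) (hp : p.Prime) (x y : A) (h : (p : A) ^ p * x = y ^ p) :
    Uh (algebraMap A (A[X] ⧸ Ideal.span ({X ^ p - C x, C (p : A) * X - C y} : Set A[X]))) := by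
  set I := Ideal.span ({X ^ p - C x, C (p : A) * X - C y} : Set A[X])
  have hx : Ideal.Quotient.mk I X ^ p = algebraMap A (A[X] ⧸ I) x :=
    (map_pow _ _ _).symm.trans (Ideal.Quotient.eq.2 (Ideal.subset_span (by simp)))
  have hy : (p : A[X] ⧸ I) * Ideal.Quotient.mk I X = algebraMap A (A[X] ⧸ I) y := by
    rw [← map_natCast (Ideal.Quotient.mk I), ← map_mul]
    exact Ideal.Quotient.eq.2 (Ideal.subset_span (by simp))
  have hcov := single_cover I AnyStep
    (Or.inr ⟨p, hp, hy ▸ Subalgebra.algebraMap_mem _ y, hx ▸ Subalgebra.algebraMap_mem _ x⟩) any_mono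
  refine uh_of_cover' (point_surj I fun L _ _ φ => ?_) (fun _ _ h => h) hcov
  obtain ⟨a, ha, ha'⟩ := AWN.exists_field_p hp (φ x) (φ y)
    (by rw [← map_natCast φ, ← map_pow, ← map_pow, ← map_mul, h])
  refine ⟨a, fun q hq => ?_⟩
  have : I ≤ RingHom.ker (eval₂RingHom φ a) := Ideal.span_le.2 (by
    rintro q (rfl | rfl) <;> simp [ha, ha'])
  exact this hq

end standard

section colimit

open Limits

variable {R : CommRingCat.{u}} {J : Type u} [SmallCategory J] [IsFiltered J] {F : J ⥤ Under R}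
  {c : Cocone F} (hc : IsColimit c)

include hc in
theorem rep (x : c.pt.right) : ∃ (j : J) (y : (F.obj j).right), (c.ι.app j).right y = x :=
  Types.jointly_surjective _ (isColimitOfPreserves (forget CommRingCat)
    (isColimitOfPreserves (Under.forget R) hc)) x

omit [IsFiltered J] in
theorem leg (j : J) (a : R) : (c.ι.app j).right ((F.obj j).hom a) = c.pt.hom a :=
  ConcreteCategory.congr_hom (Under.w (c.ι.app j)) a

include hc in
theorem colim_int (h : ∀ j, (F.obj j).hom.hom.IsIntegral) : c.pt.hom.hom.IsIntegral := fun x => by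
  obtain ⟨j, y, rfl⟩ := rep hc x
  obtain ⟨P, hP, hP0⟩ := h j y
  refine ⟨P, hP, ?_⟩
  rw [show c.pt.hom.hom = (c.ι.app j).right.hom.comp (F.obj j).hom.hom from
    RingHom.ext fun a => (leg j a).symm, ← Polynomial.hom_eval₂, hP0, map_zero]

include hc in
theorem colim_inj (h : ∀ j, ∀ (K : Type u) [Field K] (u v : (F.obj j).right →+* K),
      u.comp (F.obj j).hom.hom = v.comp (F.obj j).hom.hom → u = v) :
    ∀ (K : Type u) [Field K] (u v : c.pt.right →+* K), u.comp c.pt.hom.hom = v.comp c.pt.hom.hom → u = v := by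
  intro K _ u v huv
  refine RingHom.ext fun x => ?_
  obtain ⟨j, y, rfl⟩ := rep hc x
  exact RingHom.congr_fun (h j K (u.comp (c.ι.app j).right.hom) (v.comp (c.ι.app j).right.hom)
    (RingHom.ext fun a => (congrArg u (leg j a)).trans
      ((RingHom.congr_fun huv a).trans (congrArg v (leg j a)).symm))) y

include hc in
theorem colim_surj (h : ∀ j, Uh (F.obj j).hom.hom) :
    Function.Surjective (PrimeSpectrum.comap c.pt.hom.hom) := fun p => by
  let L := AlgebraicClosure p.asIdeal.ResidueField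
  let φ : R →+* L := (algebraMap p.asIdeal.ResidueField L).comp (algebraMap R _)
  choose w hw using fun j => AWN.exists_point (h j) φ
  let s : Cocone (F ⋙ Under.forget R) :=
    { pt := CommRingCat.of L
      ι :=
        { app := fun j => CommRingCat.ofHom (w j)
          naturality := fun i j f => CommRingCat.hom_ext (by
            refine ((h i).inj L ((w j).comp (F.map f).right.hom) (w i) (RingHom.ext fun a => ?_)).trans rfl
            exact (congrArg (w j) (ConcreteCategory.congr_hom (Under.w (F.map f)) a)).trans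
              ((RingHom.congr_fun (hw j) a).trans (RingHom.congr_fun (hw i) a).symm)) } }
  let hc' := isColimitOfPreserves (Under.forget R) hc
  let u : c.pt.right →+* L := (hc'.desc s).hom
  obtain ⟨j⟩ := IsFiltered.nonempty (C := J)
  have hu : u.comp c.pt.hom.hom = φ := RingHom.ext fun a =>
    (congrArg u (leg j a).symm).trans ((ConcreteCategory.congr_hom (hc'.fac s j) ((F.obj j).hom a)).trans
      (RingHom.congr_fun (hw j) a))
  refine ⟨⟨RingHom.ker u, RingHom.ker_isPrime _⟩, PrimeSpectrum.ext ?_⟩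
  change (RingHom.ker u).comap c.pt.hom.hom = p.asIdeal
  rw [RingHom.comap_ker, hu]
  ext a
  rw [RingHom.mem_ker]
  exact ((map_eq_zero_iff _ (algebraMap p.asIdeal.ResidueField L).injective).trans
    Ideal.algebraMap_residueField_eq_zero)

include hc in
theorem colim_rational (h : ∀ j, ∀ (Q : Ideal (F.obj j).right), Q.IsPrime → ∀ y, ∃ (s a : R),
      (F.obj j).hom.hom s ∉ Q ∧ (F.obj j).hom.hom s * y - (F.obj j).hom.hom a ∈ Q)
    (Q : Ideal c.pt.right) (hQ : Q.IsPrime) (x : c.pt.right) :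
    ∃ (s a : R), c.pt.hom.hom s ∉ Q ∧ c.pt.hom.hom s * x - c.pt.hom.hom a ∈ Q := by
  obtain ⟨j, y, rfl⟩ := rep hc x
  obtain ⟨s, a, hs, hsa⟩ := h j (Q.comap (c.ι.app j).right.hom) inferInstance y
  refine ⟨s, a, fun h' => hs ?_, ?_⟩
  · rw [Ideal.mem_comap]
    exact (leg j s).symm ▸ h'
  · have := Ideal.mem_comap.1 hsa
    rw [map_sub, map_mul] at this
    exact (leg (c := c) j s) ▸ (leg (c := c) j a) ▸ this

end colimit

end Groth.Agent.H6.UhApps
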