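import Groth.Agent.Lib.H6.UhTower2
import Mathlib.RingTheory.Nilpotent.Lemmas
import Mathlib.Algebra.MvPolynomial.Supported

set_option linter.all false
set_option autoImplicit false

/-! Towers for universal homeomorphisms which need not be injective. -/

namespace Groth.Agent.H6.Tower

universe u

open Groth.Agent.H6.AWN (Uh)

variable {A B : Type u} [CommRing A] [CommRing B] [Algebra A B]

/-- the image of the base -/
abbrev Im (A B : Type u) [CommRing A] [CommRing B] [Algebra A B] : Type u := (algebraMap A B).range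

theorem uh_surjective {C : Type u} [CommRing C] (ψ : A →+* C) (h : Function.Surjective ψ)
    (hk : RingHom.ker ψ ≤ nilradical A) : Uh ψ := by
  refine ⟨RingHom.isIntegral_of_surjective _ h, fun p => ?_, fun K _ u v e => RingHom.ext fun c => ?_⟩
  · have hp : p.asIdeal ∈ Set.range (fun q : PrimeSpectrum C => q.asIdeal.comap ψ) := by
      refine ⟨⟨p.asIdeal.map ψ, Ideal.map_isPrime_of_surjective h
        (hk.trans (nilradical_le_prime p.asIdeal))⟩, ?_⟩
      change (p.asIdeal.map ψ).comap ψ = p.asIdeal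
      rw [Ideal.comap_map_of_surjective ψ h, ← RingHom.ker_eq_comap_bot,
        sup_eq_left.2 (hk.trans (nilradical_le_prime p.asIdeal))]
    obtain ⟨q, hq⟩ := hp
    exact ⟨q, PrimeSpectrum.ext hq⟩
  · obtain ⟨a, rfl⟩ := h c
    exact RingHom.congr_fun e a

theorem ker_le_nil {C : Type u} [CommRing C] {ψ : A →+* C}
    (h : Function.Surjective (PrimeSpectrum.comap ψ)) : RingHom.ker ψ ≤ nilradical A := fun a ha => by
  rw [mem_nilradical, nilpotent_iff_mem_prime]
  intro P hP
  obtain ⟨Q, hQ⟩ := h ⟨P, hP⟩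
  rw [show P = Q.asIdeal.comap ψ from (congrArg PrimeSpectrum.asIdeal hQ).symm, Ideal.mem_comap,
    RingHom.mem_ker.1 ha]
  exact zero_mem _

theorem uh_rangeRestrict (hd : Function.Surjective (PrimeSpectrum.comap (algebraMap A B))) :
    Uh (algebraMap A B).rangeRestrict :=
  uh_surjective _ (RingHom.rangeRestrict_surjective _) (by rw [RingHom.ker_rangeRestrict]; exact ker_le_nil hd)

theorem uh_im (h : Uh (algebraMap A B)) : Uh (algebraMap (Im A B) B) := by
  have hs : (algebraMap (Im A B) B).comp (algebraMap A B).rangeRestrict = algebraMap A B := RingHom.ext fun _ => rfl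
  refine ⟨RingHom.IsIntegral.tower_top (algebraMap A B).rangeRestrict _ (hs.symm ▸ h.int), ?_,
    fun K _ u v e => h.inj K u v (by rw [← hs, ← RingHom.comp_assoc, ← RingHom.comp_assoc, e])⟩
  exact RingHom.IsIntegral.comap_surjective
    (RingHom.IsIntegral.tower_top (algebraMap A B).rangeRestrict _ (hs.symm ▸ h.int)) Subtype.val_injective

theorem res_im
    (hr : ∀ (Q : Ideal B) [Q.IsPrime],
      Function.Surjective (Ideal.ResidueField.map (Q.comap (algebraMap A B)) Q (algebraMap A B) rfl))
    (Q : Ideal B) [Q.IsPrime] :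
    Function.Surjective (Ideal.ResidueField.map (Q.comap (algebraMap (Im A B) B)) Q (algebraMap (Im A B) B) rfl) := by
  intro y
  obtain ⟨z, rfl⟩ := hr Q y
  obtain ⟨a, s, -, rfl⟩ := IsFractionRing.div_surjective (A := A ⧸ Q.comap (algebraMap A B)) z
  obtain ⟨a, rfl⟩ := Ideal.Quotient.mk_surjective a
  obtain ⟨s, rfl⟩ := Ideal.Quotient.mk_surjective s
  let k := (algebraMap A B).rangeRestrict
  refine ⟨algebraMap (Im A B) (Q.comap (algebraMap (Im A B) B)).ResidueField (k a) /
    algebraMap (Im A B) _ (k s), ?_⟩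
  rw [Ideal.algebraMap_quotient_residueField_mk, Ideal.algebraMap_quotient_residueField_mk, map_div₀,
    map_div₀, Ideal.ResidueField.map_algebraMap, Ideal.ResidueField.map_algebraMap,
    Ideal.ResidueField.map_algebraMap, Ideal.ResidueField.map_algebraMap]
  rfl

theorem adj_im (T : Set B) : (Algebra.adjoin (Im A B) T : Set B) ⊆ (Algebra.adjoin A T : Set B) := by
  intro x hx
  induction hx using Algebra.adjoin_induction with
  | mem t ht => exact Algebra.subset_adjoin ht
  | algebraMap a =>
    obtain ⟨_, a', rfl⟩ := a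
    exact Subalgebra.algebraMap_mem _ a'
  | add a b _ _ ha hb => exact add_mem ha hb
  | mul a b _ _ ha hb => exact mul_mem ha hb

theorem ok_im {P : Set B → B → Prop} (hmono : ∀ S T : Set B, S ⊆ T → ∀ b, P S b → P T b)
    {l : List B} (h : Ok (Im A B) P l) : Ok A P l :=
  fun i => hmono _ _ (adj_im _) _ (h i)

theorem cover_any (h : Uh (algebraMap A B)) (E : Finset B) :
    ∃ l : List B, (↑E : Set B) ⊆ Algebra.adjoin A {b : B | b ∈ l} ∧ Ok A AnyStep l := by
  obtain ⟨l, hl, hok⟩ := (any_iff (A := Im A B) (B := B) Subtype.val_injective).1 (uh_im h) E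
  exact ⟨l, hl.trans (adj_im _), ok_im any_mono hok⟩

theorem cover_sq (h : Uh (algebraMap A B))
    (hr : ∀ (Q : Ideal B) [Q.IsPrime],
      Function.Surjective (Ideal.ResidueField.map (Q.comap (algebraMap A B)) Q (algebraMap A B) rfl))
    (E : Finset B) :
    ∃ l : List B, (↑E : Set B) ⊆ Algebra.adjoin A {b : B | b ∈ l} ∧ Ok A SqStep l := by
  obtain ⟨l, hl, hok⟩ := (sq_iff (A := Im A B) (B := B) Subtype.val_injective).1 ⟨uh_im h, res_im hr⟩ E
  exact ⟨l, hl.trans (adj_im _), ok_im sq_mono hok⟩

end Groth.Agent.H6.Tower
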