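import Groth.Agent.Lib.H6.UhImage
import Mathlib.RingTheory.FinitePresentation
import Mathlib.CategoryTheory.Filtered.Basic
import Mathlib.Algebra.Category.Ring.Under.Basic
import Mathlib.RingTheory.RingHom.FinitePresentation

set_option linter.all false
set_option autoImplicit false

/-! Universal homeomorphisms of rings are filtered colimits of finitely presented ones. -/

namespace Groth.Agent.H6.UhLimit

universe u

open CategoryTheory MvPolynomial
open Groth.Agent.H6.AWN (Uh)
open Groth.Agent.H6.Tower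

variable {A B : Type u} [CommRing A] [CommRing B] [Algebra A B]

/-- generators and relations -/
structure Stg (A B : Type u) [CommRing A] [CommRing B] [Algebra A B] where
  E : Finset B
  R : Finset (MvPolynomial B A)
  ker : ∀ r ∈ R, aeval (R := A) id r = 0

/-- relations in the variables of the stage -/
noncomputable def rel (s : Stg A B) : Ideal (MvPolynomial s.E A) :=
  Ideal.span {q | rename Subtype.val q ∈ s.R}

/-- the algebra of a stage -/
abbrev Q (s : Stg A B) : Type u := MvPolynomial s.E A ⧸ rel s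

/-- order -/
def Le (s t : Stg A B) : Prop := s.E ⊆ t.E ∧ s.R ⊆ t.R

theorem Le.refl (s : Stg A B) : Le s s := ⟨subset_rfl, subset_rfl⟩

theorem Le.trans {s t r : Stg A B} (h : Le s t) (h' : Le t r) : Le s r :=
  ⟨h.1.trans h'.1, h.2.trans h'.2⟩

theorem rel_map {s t : Stg A B} (h : Le s t) :
    rel s ≤ (rel t).comap (rename (R := A) fun e : s.E => (⟨e.1, h.1 e.2⟩ : t.E)) := by
  refine Ideal.span_le.2 fun q hq => ?_
  refine Ideal.subset_span ?_
  change rename Subtype.val (rename (fun e : s.E => (⟨e.1, h.1 e.2⟩ : t.E)) q) ∈ t.R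
  rw [rename_rename]
  exact h.2 hq

/-- transition -/
noncomputable def trans' {s t : Stg A B} (h : Le s t) : Q s →ₐ[A] Q t :=
  Ideal.quotientMapₐ (rel t) (rename (R := A) fun e : s.E => (⟨e.1, h.1 e.2⟩ : t.E)) (rel_map h)

/-- the class of a generator -/
noncomputable def G (s : Stg A B) {b : B} (h : b ∈ s.E) : Q s := Ideal.Quotient.mk (rel s) (X ⟨b, h⟩)

theorem trans_G {s t : Stg A B} (h : Le s t) {b : B} (hb : b ∈ s.E) :
    trans' h (G s hb) = G t (h.1 hb) := by
  simp [trans', G]

theorem rel_ker (s : Stg A B) : rel s ≤ RingHom.ker (aeval (R := A) fun e : s.E => e.1) := by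
  refine Ideal.span_le.2 fun q hq => ?_
  have := s.ker _ hq
  rw [aeval_rename] at this
  exact this

/-- the map to the limit -/
noncomputable def toB (s : Stg A B) : Q s →ₐ[A] B :=
  Ideal.Quotient.liftₐ (rel s) (aeval fun e : s.E => e.1) fun q hq => rel_ker s hq

theorem toB_G (s : Stg A B) {b : B} (h : b ∈ s.E) : toB s (G s h) = b := by
  simp [toB, G]

theorem hom_ext_G {C : Type u} [CommRing C] {s : Stg A B} {u v : Q s →+* C}
    (ha : u.comp (algebraMap A (Q s)) = v.comp (algebraMap A (Q s)))
    (hG : ∀ (b : B) (h : b ∈ s.E), u (G s h) = v (G s h)) : u = v := by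
  refine Ideal.Quotient.ringHom_ext (MvPolynomial.ringHom_ext (fun a => ?_) fun e => hG e.1 e.2)
  exact RingHom.congr_fun ha a

theorem trans_toB {s t : Stg A B} (h : Le s t) : (toB t).toRingHom.comp (trans' h).toRingHom = (toB s).toRingHom := by
  refine hom_ext_G (RingHom.ext fun a => ?_) fun b hb => ?_
  · change toB t (trans' h (algebraMap A _ a)) = toB s (algebraMap A _ a)
    rw [AlgHom.commutes, AlgHom.commutes, AlgHom.commutes]
  · change toB t (trans' h (G s hb)) = toB s (G s hb)
    rw [trans_G, toB_G, toB_G]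

/-- an expression over some earlier generators -/
theorem exists_expr {T : Set B} {b : B} (hb : b ∈ Algebra.adjoin A T) :
    ∃ q : MvPolynomial T A, aeval (R := A) id (rename Subtype.val q) = b := by
  rw [Algebra.adjoin_eq_range, AlgHom.mem_range] at hb
  obtain ⟨q, hq⟩ := hb
  exact ⟨q, by rw [aeval_rename]; exact hq⟩

theorem mk_aeval_rename {σ τ : Type u} (I : Ideal (MvPolynomial τ A)) (f : σ → τ) (q : MvPolynomial σ A) :
    aeval (fun x => Ideal.Quotient.mk I (X (f x))) q = Ideal.Quotient.mkₐ A I (rename f q) := by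
  have : aeval (fun x => Ideal.Quotient.mk I (X (f x))) = (Ideal.Quotient.mkₐ A I).comp (rename f) :=
    MvPolynomial.algHom_ext fun x => by simp
  rw [this]; rfl

theorem mem_of_rel {s : Stg A B} {T : Set B} (hT : ∀ x ∈ T, x ∈ s.E) (m : MvPolynomial s.E A)
    (q : MvPolynomial T A) (h : rename Subtype.val m - rename Subtype.val q ∈ s.R) :
    Ideal.Quotient.mk (rel s) m ∈ Algebra.adjoin A {y : Q s | ∃ (x : B) (hx : x ∈ T), y = G s (hT x hx)} := by
  have e : Ideal.Quotient.mk (rel s) m =
      Ideal.Quotient.mk (rel s) (rename (fun x : T => (⟨x.1, hT x.1 x.2⟩ : s.E)) q) := by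
    refine Ideal.Quotient.eq.2 (Ideal.subset_span ?_)
    change rename Subtype.val (m - rename _ q) ∈ s.R
    rw [map_sub, rename_rename]
    exact h
  rw [e, ← Ideal.Quotient.mkₐ_eq_mk A (rel s), ← mk_aeval_rename (rel s) _ q]
  have h1 : aeval (fun x : T => G s (hT x.1 x.2)) q ∈ Algebra.adjoin A (Set.range fun x : T => G s (hT x.1 x.2)) := by
    rw [Algebra.adjoin_range_eq_range_aeval]
    exact ⟨q, rfl⟩
  refine Algebra.adjoin_mono ?_ h1
  rintro _ ⟨x, rfl⟩
  exact ⟨x.1, x.2, rfl⟩

end Groth.Agent.H6.UhLimit
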