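import Groth.Agent.Lib.H6.UhLimit
import Mathlib.Algebra.Category.Ring.Colimits

set_option linter.all false
set_option autoImplicit false
set_option backward.isDefEq.respectTransparency.types false

namespace Groth.Agent.H6.UhLimit

universe u

open CategoryTheory MvPolynomial
open Groth.Agent.H6.AWN (Uh)
open Groth.Agent.H6.Tower

variable {A B : Type u} [CommRing A] [CommRing B] [Algebra A B]

theorem adjoin_top (s : Stg A B) :
    Algebra.adjoin A {y : Q s | ∃ (b : B) (h : b ∈ s.E), y = G s h} = ⊤ := by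
  refine Algebra.eq_top_iff.2 fun y => ?_
  obtain ⟨q, rfl⟩ := Ideal.Quotient.mk_surjective y
  induction q using MvPolynomial.induction_on with
  | C a => exact Subalgebra.algebraMap_mem _ a
  | add p q hp hq => rw [map_add]; exact add_mem hp hq
  | mul_X p e hp => rw [map_mul]; exact mul_mem hp (Algebra.subset_adjoin ⟨e.1, e.2, rfl⟩)

/-- membership witness -/
def Wit (T : Set B) (y : B) (m : MvPolynomial B A) (r : MvPolynomial B A) : Prop :=
  ∃ q : MvPolynomial T A, r = m - rename Subtype.val q ∧ aeval (R := A) id r = 0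

theorem exists_wit {T : Set B} {y : B} (h : y ∈ Algebra.adjoin A T) (m : MvPolynomial B A)
    (hm : aeval (R := A) id m = y) : ∃ r, Wit T y m r := by
  obtain ⟨q, hq⟩ := exists_expr h
  exact ⟨_, q, rfl, by rw [map_sub, hm, hq, sub_self]⟩

theorem of_wit {s : Stg A B} {T : Set B} (hT : ∀ x ∈ T, x ∈ s.E) {y : B} {m r : MvPolynomial B A}
    (m' : MvPolynomial s.E A) (hm : rename Subtype.val m' = m) (h : Wit T y m r) (hr : r ∈ s.R) :
    Ideal.Quotient.mk (rel s) m' ∈ Algebra.adjoin A {z : Q s | ∃ (x : B) (hx : x ∈ T), z = G s (hT x hx)} := by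
  obtain ⟨q, rfl, -⟩ := h
  exact mem_of_rel hT m' q (hm ▸ hr)

/-- a step lifts to stages containing suitable relations -/
def Lifts (P : ∀ {C : Type u} [CommRing C], Set C → C → Prop) (A B : Type u) [CommRing A] [CommRing B]
    [Algebra A B] : Prop :=
  ∀ (T : Set B) (b : B), P (Algebra.adjoin A T : Set B) b →
    ∃ R : Finset (MvPolynomial B A), (∀ r ∈ R, aeval (R := A) id r = 0) ∧
      ∀ (s : Stg A B) (hT : ∀ x ∈ T, x ∈ s.E) (hb : b ∈ s.E), R ⊆ s.R →
        P (Algebra.adjoin A {z : Q s | ∃ (x : B) (hx : x ∈ T), z = G s (hT x hx)} : Set (Q s)) (G s hb)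

theorem lifts_pow {T : Set B} {b : B} (n : ℕ) (h : b ^ n ∈ Algebra.adjoin A T) :
    ∃ r : MvPolynomial B A, aeval (R := A) id r = 0 ∧
      ∀ (s : Stg A B) (hT : ∀ x ∈ T, x ∈ s.E) (hb : b ∈ s.E), r ∈ s.R →
        G s hb ^ n ∈ Algebra.adjoin A {z : Q s | ∃ (x : B) (hx : x ∈ T), z = G s (hT x hx)} := by
  obtain ⟨r, hr⟩ := exists_wit h (X b ^ n) (by simp)
  refine ⟨r, hr.choose_spec.2, fun s hT hb hrs => ?_⟩
  have := of_wit hT (X ⟨b, hb⟩ ^ n) (by simp) hr hrs
  rwa [map_pow] at this

theorem lifts_mul {T : Set B} {b : B} (p : ℕ) (h : (p : B) * b ∈ Algebra.adjoin A T) :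
    ∃ r : MvPolynomial B A, aeval (R := A) id r = 0 ∧
      ∀ (s : Stg A B) (hT : ∀ x ∈ T, x ∈ s.E) (hb : b ∈ s.E), r ∈ s.R →
        (p : Q s) * G s hb ∈ Algebra.adjoin A {z : Q s | ∃ (x : B) (hx : x ∈ T), z = G s (hT x hx)} := by
  obtain ⟨r, hr⟩ := exists_wit h ((p : MvPolynomial B A) * X b) (by simp)
  refine ⟨r, hr.choose_spec.2, fun s hT hb hrs => ?_⟩
  have := of_wit hT ((p : MvPolynomial s.E A) * X ⟨b, hb⟩) (by simp) hr hrs
  rwa [map_mul, map_natCast] at this

theorem lifts_sq : Lifts (fun {C} _ => SqStep (B := C)) A B := by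
  classical
  intro T b hb
  obtain ⟨r₁, e₁, h₁⟩ := lifts_pow 2 hb.1
  obtain ⟨r₂, e₂, h₂⟩ := lifts_pow 3 hb.2
  refine ⟨{r₁, r₂}, by simp [e₁, e₂], fun s hT hb hR => ⟨h₁ s hT hb (hR (by simp)), h₂ s hT hb (hR (by simp))⟩⟩

theorem lifts_any : Lifts (fun {C} _ => AnyStep (B := C)) A B := by
  classical
  intro T b hb
  rcases hb with hb | ⟨p, hp, h1, h2⟩
  · obtain ⟨R, hR, h⟩ := lifts_sq T b hb
    exact ⟨R, hR, fun s hT hb hs => Or.inl (h s hT hb hs)⟩
  · obtain ⟨r₁, e₁, h₁⟩ := lifts_mul p h1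
    obtain ⟨r₂, e₂, h₂⟩ := lifts_pow p h2
    exact ⟨{r₁, r₂}, by simp [e₁, e₂], fun s hT hb hR =>
      Or.inr ⟨p, hp, h₁ s hT hb (hR (by simp)), h₂ s hT hb (hR (by simp))⟩⟩

/-- stages with towers -/
def Towered (P : ∀ {C : Type u} [CommRing C], Set C → C → Prop) (s : Stg A B) : Prop :=
  ∀ F : Finset (Q s), ∃ l : List (Q s), (↑F : Set (Q s)) ⊆ Algebra.adjoin A {b : Q s | b ∈ l} ∧ Ok A P l

theorem exists_towered (P : ∀ {C : Type u} [CommRing C], Set C → C → Prop)
    (hmono : ∀ {C : Type u} [CommRing C] (S T : Set C), S ⊆ T → ∀ b, P S b → P T b) (hlift : Lifts P A B)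
    (hcov : ∀ E : Finset B, ∃ l : List B, (↑E : Set B) ⊆ Algebra.adjoin A {b : B | b ∈ l} ∧ Ok A P l)
    (s : Stg A B) : ∃ t : Stg A B, Le s t ∧ Towered P t := by
  classical
  obtain ⟨l, hl, hok⟩ := hcov s.E
  choose R hR hstep using fun i : Fin l.length => hlift _ _ (hok i)
  choose r hr using fun e : s.E => exists_wit (hl e.2) (X e.1) (by simp)
  let t : Stg A B :=
    { E := s.E ∪ l.toFinset
      R := s.R ∪ (Finset.univ.biUnion R ∪ Finset.univ.image r)
      ker := fun q hq => by
        simp only [Finset.mem_union, Finset.mem_biUnion, Finset.mem_image, Finset.mem_univ, true_and] at hq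
        rcases hq with hq | ⟨i, hi⟩ | ⟨e, rfl⟩
        · exact s.ker q hq
        · exact hR i q hi
        · exact (hr e).choose_spec.2 }
  have hlE : ∀ {b}, b ∈ l → b ∈ t.E := fun h => Finset.mem_union_right _ (List.mem_toFinset.2 h)
  refine ⟨t, ⟨Finset.subset_union_left, Finset.subset_union_left⟩, fun F => ?_⟩
  let l' : List (Q t) := l.attach.map fun b => G t (hlE b.2)
  have hlen : l'.length = l.length := by simp [l']
  have hget : ∀ (j : Fin l'.length), l'.get j = G t (hlE (List.get_mem l ⟨j, hlen ▸ j.2⟩)) := fun j => by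
    simp [l']
  refine ⟨l', fun y _ => ?_, fun i => ?_⟩
  · have htop : Algebra.adjoin A {b : Q t | b ∈ l'} = ⊤ := by
      rw [eq_top_iff, ← adjoin_top t, Algebra.adjoin_le_iff]
      rintro _ ⟨b, hb, rfl⟩
      have hin : ∀ {x} (hx : x ∈ l), G t (hlE hx) ∈ Algebra.adjoin A {b : Q t | b ∈ l'} := fun {x} hx =>
        Algebra.subset_adjoin (List.mem_map.2 ⟨⟨x, hx⟩, List.mem_attach _ _, rfl⟩)
      rcases Finset.mem_union.1 hb with hbs | hbl
      · have := of_wit (s := t) (T := {x | x ∈ l}) (fun x hx => hlE hx) (X ⟨b, hb⟩) (rename_X _ _)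
          (hr ⟨b, hbs⟩) (Finset.mem_union_right _ (Finset.mem_union_right _
            (Finset.mem_image.2 ⟨_, Finset.mem_univ _, rfl⟩)))
        exact Algebra.adjoin_le (by rintro _ ⟨x, hx, rfl⟩; exact hin hx) this
      · exact hin (List.mem_toFinset.1 hbl)
    rw [htop]; trivial
  · let i' : Fin l.length := ⟨i, hlen ▸ i.2⟩
    have h := hstep i' t (fun x hx => by obtain ⟨j, -, rfl⟩ := hx; exact hlE (List.get_mem l j))
      (hlE (List.get_mem l i')) (fun q hq => Finset.mem_union_right _ (Finset.mem_union_left _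
        (Finset.mem_biUnion.2 ⟨i', Finset.mem_univ _, hq⟩)))
    rw [hget i]
    refine hmono _ _ (SetLike.coe_subset_coe.2 (Algebra.adjoin_mono ?_)) _ h
    rintro _ ⟨x, ⟨j, hj, rfl⟩, rfl⟩
    exact ⟨⟨j, hlen.symm ▸ j.2⟩, hj, (hget ⟨j, hlen.symm ▸ j.2⟩).symm⟩

theorem toB_surj (s : Stg A B) (h : Function.Surjective (PrimeSpectrum.comap (algebraMap A B))) :
    Function.Surjective (PrimeSpectrum.comap (algebraMap A (Q s))) := fun p => by
  obtain ⟨q, hq⟩ := h p
  refine ⟨PrimeSpectrum.comap (toB s).toRingHom q, ?_⟩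
  rw [← PrimeSpectrum.comap_comp_apply, AlgHom.toRingHom_eq_coe, AlgHom.comp_algebraMap]
  exact hq

theorem fp (s : Stg A B) : Algebra.FinitePresentation A (Q s) := by
  refine Algebra.FinitePresentation.quotient ?_
  have : {q : MvPolynomial s.E A | rename Subtype.val q ∈ s.R}.Finite :=
    s.R.finite_toSet.preimage (rename_injective _ Subtype.val_injective).injOn
  exact ⟨this.toFinset, by rw [Set.Finite.coe_toFinset]; rfl⟩

/-- the index category -/
abbrev Idx (good : Stg A B → Prop) : Type u := {s : Stg A B // good s}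

instance (good : Stg A B → Prop) : Preorder (Idx good) where
  le s t := Le s.1 t.1
  le_refl s := Le.refl s.1
  le_trans _ _ _ h h' := h.trans h'

/-- the diagram -/
noncomputable def diag (good : Stg A B → Prop) : Idx good ⥤ Under (CommRingCat.of A) where
  obj s := Under.mk (CommRingCat.ofHom (algebraMap A (Q s.1)))
  map f := Under.homMk (CommRingCat.ofHom (trans' f.le).toRingHom)
    (CommRingCat.hom_ext (AlgHom.comp_algebraMap (trans' f.le)))
  map_id s := Under.UnderMorphism.ext (CommRingCat.hom_ext (hom_ext_G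
    (RingHom.ext fun a => (trans' (Le.refl s.1)).commutes a) fun b hb => trans_G (Le.refl s.1) hb))
  map_comp f g := Under.UnderMorphism.ext (CommRingCat.hom_ext (hom_ext_G
    (RingHom.ext fun a => ((trans' (Le.trans f.le g.le)).commutes a).trans
      ((congrArg (trans' g.le) ((trans' f.le).commutes a)).trans ((trans' g.le).commutes a)).symm)
    fun b hb => (trans_G (Le.trans f.le g.le) hb).trans ((congrArg (trans' g.le) (trans_G f.le hb)).trans (trans_G g.le _)).symm))

/-- the cocone -/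
noncomputable def cc (good : Stg A B → Prop) : Limits.Cocone (diag good) where
  pt := Under.mk (CommRingCat.ofHom (algebraMap A B))
  ι.app s := Under.homMk (CommRingCat.ofHom (toB s.1).toRingHom) (CommRingCat.hom_ext (toB s.1).comp_algebraMap)
  ι.naturality s t f := Under.UnderMorphism.ext (CommRingCat.hom_ext (trans_toB f.le))

theorem exists_colimit (good : Stg A B → Prop) (hcof : ∀ s, ∃ t, Le s t ∧ good t) :
    ∃ _ : IsFiltered (Idx good), Nonempty (Limits.IsColimit (cc good)) := by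
  classical
  haveI : Nonempty (Idx good) :=
    let ⟨t, _, ht⟩ := hcof ⟨∅, ∅, by simp⟩
    ⟨⟨t, ht⟩⟩
  haveI : IsDirected (Idx good) (· ≤ ·) := ⟨fun s t => by
    obtain ⟨r, hr, hg⟩ := hcof ⟨s.1.E ∪ t.1.E, s.1.R ∪ t.1.R, fun q hq =>
      (Finset.mem_union.1 hq).elim (s.1.ker q) (t.1.ker q)⟩
    exact ⟨⟨r, hg⟩, Le.trans ⟨Finset.subset_union_left, Finset.subset_union_left⟩ hr,
      Le.trans ⟨Finset.subset_union_right, Finset.subset_union_right⟩ hr⟩⟩
  refine ⟨inferInstance, ?_⟩
  have hstage : ∀ (E : Finset B) (R : Finset (MvPolynomial B A)), (∀ r ∈ R, aeval (R := A) id r = 0) →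
      ∃ s : Idx good, E ⊆ s.1.E ∧ R ⊆ s.1.R := fun E R hR => by
    obtain ⟨r, hr, hg⟩ := hcof ⟨E, R, hR⟩
    exact ⟨⟨r, hg⟩, hr.1, hr.2⟩
  choose st hst using fun b : B => hstage {b} ∅ (by simp)
  have hb : ∀ b, b ∈ (st b).1.E := fun b => (hst b).1 (Finset.mem_singleton_self b)
  let f := fun (c : Limits.Cocone (diag good)) (b : B) => (c.ι.app (st b)).right (G (st b).1 (hb b))
  have hf : ∀ (c : Limits.Cocone (diag good)) (s : Idx good) (b : B) (h : b ∈ s.1.E),
      (c.ι.app s).right (G s.1 h) = f c b := fun c s b h => by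
    obtain ⟨r, hr₁, hr₂⟩ := exists_ge_ge s (st b)
    have w₁ := congrArg (fun g => g.right (G s.1 h)) (c.w (homOfLE hr₁))
    have w₂ := congrArg (fun g => g.right (G (st b).1 (hb b))) (c.w (homOfLE hr₂))
    refine w₁.symm.trans (Eq.trans ?_ w₂)
    exact congrArg (c.ι.app r).right ((trans_G hr₁ h).trans (trans_G hr₂ (hb b)).symm)
  have ha : ∀ (c : Limits.Cocone (diag good)) (s : Idx good) (a : A),
      (c.ι.app s).right (algebraMap A (Q s.1) a) = c.pt.hom a := fun c s a =>
    ConcreteCategory.congr_hom (Under.w (c.ι.app s)) a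
  have hrel : ∀ (E : Finset B) (m : MvPolynomial E A), aeval (R := A) (fun e : E => e.1) m = 0 →
      ∃ s : Idx good, ∃ h : E ⊆ s.1.E,
        Ideal.Quotient.mk (rel s.1) (rename (fun e : E => (⟨e.1, h e.2⟩ : s.1.E)) m) = 0 := fun E m hm => by
    obtain ⟨s, hs, hs'⟩ := hstage E {rename Subtype.val m} (by
      intro r hr
      rw [Finset.mem_singleton.1 hr, aeval_rename]
      exact hm)
    refine ⟨s, hs, Ideal.Quotient.eq_zero_iff_mem.2 (Ideal.subset_span ?_)⟩
    change rename Subtype.val (rename (fun e : E => (⟨e.1, hs e.2⟩ : s.1.E)) m) ∈ s.1.R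
    rw [rename_rename]
    exact hs' (Finset.mem_singleton_self _)
  let D : ∀ c : Limits.Cocone (diag good), B →+* c.pt.right := fun c =>
    { toFun := f c
      map_one' := by
        obtain ⟨s, hs, h0⟩ := hrel {1} (X ⟨1, by simp⟩ - 1) (by simp)
        simp only [map_sub, rename_X, map_one, sub_eq_zero] at h0
        rw [← hf c s 1 (hs (by simp))]
        exact (congrArg (c.ι.app s).right h0).trans (map_one _)
      map_zero' := by
        obtain ⟨s, hs, h0⟩ := hrel {0} (X ⟨0, by simp⟩) (by simp)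
        simp only [rename_X] at h0
        rw [← hf c s 0 (hs (by simp))]
        exact (congrArg (c.ι.app s).right h0).trans (map_zero _)
      map_mul' := fun x y => by
        obtain ⟨s, hs, h0⟩ := hrel {x, y, x * y} (X ⟨x * y, by simp⟩ - X ⟨x, by simp⟩ * X ⟨y, by simp⟩) (by simp)
        simp only [map_sub, map_mul, rename_X, sub_eq_zero] at h0
        rw [← hf c s (x * y) (hs (by simp)), ← hf c s x (hs (by simp)), ← hf c s y (hs (by simp))]
        exact (congrArg (c.ι.app s).right h0).trans (map_mul _ _ _)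
      map_add' := fun x y => by
        obtain ⟨s, hs, h0⟩ := hrel {x, y, x + y} (X ⟨x + y, by simp⟩ - (X ⟨x, by simp⟩ + X ⟨y, by simp⟩)) (by simp)
        simp only [map_sub, map_add, rename_X, sub_eq_zero] at h0
        rw [← hf c s (x + y) (hs (by simp)), ← hf c s x (hs (by simp)), ← hf c s y (hs (by simp))]
        exact (congrArg (c.ι.app s).right h0).trans (map_add _ _ _) }
  have hD : ∀ (c : Limits.Cocone (diag good)) (a : A), D c (algebraMap A B a) = c.pt.hom a := fun c a => by
    obtain ⟨s, hs, h0⟩ := hrel {algebraMap A B a} (X ⟨algebraMap A B a, by simp⟩ - C a) (by simp)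
    simp only [map_sub, rename_X, rename_C, sub_eq_zero] at h0
    refine (hf c s _ (hs (by simp))).symm.trans ((congrArg (c.ι.app s).right h0).trans ?_)
    exact ha c s a
  exact ⟨
    { desc := fun c => Under.homMk (CommRingCat.ofHom (D c)) (CommRingCat.hom_ext (RingHom.ext (hD c)))
      fac := fun c s => Under.UnderMorphism.ext (CommRingCat.hom_ext (hom_ext_G
        (RingHom.ext fun a => (congrArg (D c) ((toB s.1).commutes a)).trans ((hD c a).trans (ha c s a).symm))
        fun b h => (congrArg (D c) (toB_G s.1 h)).trans (hf c s b h).symm))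
      uniq := fun c m hm => Under.UnderMorphism.ext (CommRingCat.hom_ext (RingHom.ext fun b =>
        (congrArg m.right (toB_G (st b).1 (hb b)).symm).trans
          (congrArg (fun g => g.right (G (st b).1 (hb b))) (hm (st b))))) }⟩

end Groth.Agent.H6.UhLimit
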