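import Groth.Agent.Lib.H6.AWN
import Mathlib.FieldTheory.PurelyInseparable.Basic
import Mathlib.Tactic.LinearCombination
import Mathlib.RingTheory.IntegralClosure.Algebra.Basic

set_option linter.all false
set_option autoImplicit false

/-! Universal homeomorphisms of rings as towers of elementary extensions. -/

namespace Groth.Agent.H6.Tower

universe u

open Groth.Agent.H6.AWN (Uh)

variable {A B : Type u} [CommRing A] [CommRing B] [Algebra A B]

/-- seminormal step -/
def SqStep (S : Set B) (b : B) : Prop := b ^ 2 ∈ S ∧ b ^ 3 ∈ S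

/-- weakly normal step -/
def AnyStep (S : Set B) (b : B) : Prop :=
  (b ^ 2 ∈ S ∧ b ^ 3 ∈ S) ∨ ∃ p : ℕ, p.Prime ∧ (p : B) * b ∈ S ∧ b ^ p ∈ S

theorem step_inj {K : Type u} [Field K] (u v : B →+* K) {S : Set B} {b : B} (h : AnyStep S b)
    (huv : ∀ s ∈ S, u s = v s) : u b = v b := by
  rcases h with ⟨h2, h3⟩ | ⟨p, hp, hpb, hbp⟩
  · have e2 : u b ^ 2 = v b ^ 2 := by rw [← map_pow, ← map_pow, huv _ h2]
    have e3 : u b ^ 3 = v b ^ 3 := by rw [← map_pow, ← map_pow, huv _ h3]
    by_cases hv : v b = 0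
    · rw [hv] at e2 ⊢
      exact eq_zero_of_pow_eq_zero (e2.trans (zero_pow two_ne_zero))
    · refine mul_right_cancel₀ (pow_ne_zero 2 hv) ?_
      calc u b * v b ^ 2 = u b ^ 3 := by rw [← e2]; ring
        _ = v b * v b ^ 2 := by rw [e3]; ring
  · have e1 : (p : K) * u b = (p : K) * v b := by
      have := huv _ hpb
      rwa [map_mul, map_mul, map_natCast, map_natCast] at this
    by_cases hp0 : (p : K) = 0
    · haveI := Fact.mk hp
      haveI : CharP K p := (CharP.charP_iff_prime_eq_zero hp).2 hp0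
      haveI : ExpChar K p := expChar_prime K p
      have e2 : u b ^ p = v b ^ p := by rw [← map_pow, ← map_pow, huv _ hbp]
      exact frobenius_inj K p e2
    · exact mul_left_cancel₀ hp0 e1

theorem uh_sub (h : Uh (algebraMap A B)) (hinj : Function.Injective (algebraMap A B))
    (S : Subalgebra A B) : Uh (algebraMap A S) := by
  haveI : Algebra.IsIntegral A B := ⟨h.int⟩
  have hi : ∀ x : S, IsIntegral A x := fun x =>
    (isIntegral_algHom_iff S.val Subtype.val_injective).1 (Algebra.IsIntegral.isIntegral (x : B))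
  have hSB : S.val.toRingHom.IsIntegral := RingHom.IsIntegral.tower_top (algebraMap A S) S.val.toRingHom
    (fun b => Algebra.IsIntegral.isIntegral b)
  refine ⟨hi, (RingHom.IsIntegral.comap_surjective (f := algebraMap A S) hi
    (fun a a' e => hinj (congrArg Subtype.val e))), fun K _ u v huv => RingHom.ext fun x => ?_⟩
  let L := AlgebraicClosure K
  obtain ⟨u', hu'⟩ := Eta.exists_alg_point S.val.toRingHom hSB
    (hSB.comap_surjective Subtype.val_injective) ((algebraMap K L).comp u)
  obtain ⟨v', hv'⟩ := Eta.exists_alg_point S.val.toRingHom hSB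
    (hSB.comap_surjective Subtype.val_injective) ((algebraMap K L).comp v)
  have := h.inj L u' v' (RingHom.ext fun a => by
    have e1 := RingHom.congr_fun hu' (algebraMap A S a)
    have e2 := RingHom.congr_fun hv' (algebraMap A S a)
    exact (e1.trans (congrArg (algebraMap K L) (RingHom.congr_fun huv a))).trans e2.symm)
  apply (algebraMap K L).injective
  exact ((RingHom.congr_fun hu' x).symm.trans (RingHom.congr_fun this _)).trans (RingHom.congr_fun hv' x)

section closed

variable {R C : Type u} [CommRing R] [CommRing C] (j : R →+* C)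

/-- the conductor -/
def cond : Ideal C where
  carrier := {x | ∀ y, x * y ∈ j.range}
  add_mem' := fun {a b} ha hb y => by rw [add_mul]; exact Subring.add_mem _ (ha y) (hb y)
  zero_mem' := fun y => by rw [zero_mul]; exact zero_mem _
  smul_mem' := fun c x hx y => by rw [smul_eq_mul, mul_comm c x, mul_assoc]; exact hx _

theorem cond_le {x : C} (hx : x ∈ cond j) : x ∈ j.range := by simpa using hx 1

theorem radical_le (hsq : ∀ b, SqStep (j.range : Set C) b → b ∈ j.range) :
    (cond j).radical ≤ cond j := by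
  intro x hx
  obtain ⟨N, hN⟩ := hx
  intro y
  have hxy : (x * y) ^ N ∈ cond j := by rw [mul_pow]; exact Ideal.mul_mem_right _ _ hN
  suffices ∀ k, k ≤ N → ∀ m, N - k ≤ m → 1 ≤ m → (x * y) ^ m ∈ j.range by
    simpa using this N le_rfl 1 (by omega) le_rfl
  intro k
  induction k with
  | zero =>
    intro _ m hm _
    exact cond_le j ((cond j).pow_mem_of_pow_mem hxy (by omega))
  | succ k ih =>
    intro hk m hm hm1
    refine hsq _ ⟨?_, ?_⟩ <;> rw [← pow_mul] <;> exact ih (by omega) _ (by omega) (by omega)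

theorem closed_surj (hf : (letI := j.toAlgebra; Module.Finite R C))
    (hsq : ∀ b, SqStep (j.range : Set C) b → b ∈ j.range)
    (hres : ∀ (Q : Ideal C) [Q.IsPrime] (c : C),
      (∃ (s : R) (a : R), j s ∉ Q ∧ j s * c - j a ∈ Q) ∨
      ∃ (p : ℕ) (c' : C) (s a : R), p.Prime ∧ (p : C) ∈ Q ∧ j s ∉ Q ∧ j s * c' ^ p - j a ∈ Q ∧
        ∀ s' a' : R, j s' ∉ Q → j s' * c' - j a' ∉ Q)
    (hpstep : (∀ b, AnyStep (j.range : Set C) b → b ∈ j.range) ∨
      ∀ (Q : Ideal C) [Q.IsPrime] (c : C), ∃ (s : R) (a : R), j s ∉ Q ∧ j s * c - j a ∈ Q)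
    (hb : ∀ (Q Q' : Ideal C), Q.IsPrime → Q'.IsPrime → Q.comap j = Q'.comap j → Q = Q')
    (hsurj : ∀ p : Ideal R, p.IsPrime → ∃ Q : Ideal C, Q.IsPrime ∧ Q.comap j = p) :
    Function.Surjective j := by
  classical
  by_contra hne
  have htop : (cond j).comap j ≠ ⊤ := fun h => hne fun c => by
    have h1 : j 1 ∈ cond j := Ideal.mem_comap.1 (h ▸ Submodule.mem_top)
    have h2 := h1 c
    rwa [map_one, one_mul] at h2
  obtain ⟨m, hm, hle⟩ := Ideal.exists_le_maximal _ htop
  obtain ⟨p, hp, -⟩ := Ideal.exists_minimalPrimes_le (J := m) (I := (cond j).comap j) hle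
  haveI hpp : p.IsPrime := hp.1.1
  obtain ⟨Q, hQ, hQp⟩ := hsurj p hpp
  haveI := hQ
  -- elements of `Q` land in the image after multiplying by some element outside `p`
  have hkey : ∀ x ∈ Q, ∃ t : R, t ∉ p ∧ j t * x ∈ cond j := by
    intro x hx
    by_contra hcon
    push Not at hcon
    let M : Submonoid C :=
      { carrier := {z | ∃ (t : R) (n : ℕ), t ∉ p ∧ z = j t * x ^ n}
        one_mem' := ⟨1, 0, fun h => hpp.ne_top ((Ideal.eq_top_iff_one _).2 h), by simp⟩
        mul_mem' := by
          rintro _ _ ⟨t, n, ht, rfl⟩ ⟨t', n', ht', rfl⟩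
          exact ⟨t * t', n + n', fun h => (hpp.mem_or_mem h).elim ht ht',
            by rw [map_mul, pow_add]; ring⟩ }
    have hdisj : Disjoint ((cond j : Ideal C) : Set C) M := by
      refine Set.disjoint_left.2 ?_
      rintro _ hz ⟨t, n, ht, rfl⟩
      refine hcon t ht (radical_le j hsq ⟨n + 1, ?_⟩)
      have : (j t * x) ^ (n + 1) = (j t ^ n * x) * (j t * x ^ n) := by rw [mul_pow]; ring
      rw [this]
      exact Ideal.mul_mem_left _ _ hz
    obtain ⟨P, hP, hPle, hPd⟩ := Ideal.exists_le_prime_disjoint _ _ hdisj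
    have h1 : P.comap j ≤ p := fun r hr => by
      by_contra hrp
      exact Set.disjoint_left.1 hPd hr ⟨r, 0, hrp, by simp⟩
    have h2 : P.comap j = p := le_antisymm h1 (hp.2 ⟨hP.comap j, Ideal.comap_mono hPle⟩ h1)
    have h3 : P = Q := hb P Q hP hQ (h2.trans hQp.symm)
    exact Set.disjoint_left.1 hPd (h3 ▸ hx : x ∈ P)
      ⟨1, 1, fun h => hpp.ne_top ((Ideal.eq_top_iff_one _).2 h), by simp⟩
  have hout : ∀ {t : R}, t ∉ p → j t ∉ Q := fun {t} ht h => ht (hQp ▸ (h : t ∈ Q.comap j))
  have hout' : ∀ {t : R}, j t ∉ Q → t ∉ p := fun {t} ht h => ht (hQp.ge h : t ∈ Q.comap j)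
  -- every residue class is rational
  have hrat : ∀ c : C, ∃ (s : R) (a : R), j s ∉ Q ∧ j s * c - j a ∈ Q := by
    intro c
    rcases hres Q c with h | ⟨q, c', s, a, hq, hqQ, hs, hsa, hirr⟩
    · exact h
    · rcases hpstep with hst | hst
      · exfalso
        obtain ⟨t, ht, htx⟩ := hkey _ hsa
        obtain ⟨t', ht', htq⟩ := hkey ((q : C) * c') (Ideal.mul_mem_right _ _ hqQ)
        let d := j (s * t * t') * c'
        have hd : d ∈ j.range := by
          refine hst d (Or.inr ⟨q, hq, ?_, ?_⟩)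
          · have : (q : C) * d = j (s * t) * (j t' * ((q : C) * c')) := by
              simp only [d, map_mul]; ring
            rw [this]
            exact cond_le j (Ideal.mul_mem_left _ _ htq)
          · obtain ⟨k, hk⟩ := Nat.exists_eq_succ_of_ne_zero hq.ne_zero
            have : d ^ q = (j (t * t') * j ((s * t * t') ^ k)) * (j s * c' ^ q - j a)
                + j (t * t' * (s * t * t') ^ k * a) := by
              simp only [d, hk, map_mul, map_pow, mul_pow, pow_succ]; ring
            rw [this]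
            refine add_mem (cond_le j ?_) ⟨_, rfl⟩
            have : (j (t * t') * j ((s * t * t') ^ k)) * (j s * c' ^ q - j a) =
                (j t' * j ((s * t * t') ^ k)) * (j t * (j s * c' ^ q - j a)) := by
              simp only [map_mul]; ring
            rw [this]
            exact Ideal.mul_mem_left _ _ htx
        obtain ⟨r, hr⟩ := hd
        refine hirr (s * t * t') r ?_ ?_
        · exact hout fun h => ((hpp.mem_or_mem h).elim
            (fun h => (hpp.mem_or_mem h).elim (hout' hs) ht) ht')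
        · rw [hr]; simp [d]
      · exact hst Q c
  have hmul : ∀ c : C, ∃ s : R, s ∉ p ∧ j s * c ∈ j.range := by
    intro c
    obtain ⟨s, a, hs, hsa⟩ := hrat c
    obtain ⟨t, ht, htx⟩ := hkey _ hsa
    refine ⟨t * s, fun h => (hpp.mem_or_mem h).elim ht (hout' hs), ?_⟩
    have : j (t * s) * c = j t * (j s * c - j a) + j (t * a) := by simp only [map_mul]; ring
    rw [this]
    exact add_mem (cond_le j htx) ⟨_, rfl⟩
  choose s hs hsc using hmul
  letI := j.toAlgebra
  obtain ⟨G, hG⟩ := hf.fg_top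
  have hall : j (∏ c ∈ G, s c) ∈ cond j := by
    intro y
    have hy : y ∈ Submodule.span R (G : Set C) := hG ▸ Submodule.mem_top
    refine Submodule.span_induction ?_ (by rw [mul_zero]; exact zero_mem _)
      (fun a b _ _ ha hb => by rw [mul_add]; exact add_mem ha hb) ?_ hy
    · intro c hc
      rw [← Finset.mul_prod_erase _ _ (Finset.mem_coe.1 hc), map_mul, mul_right_comm]
      exact Subring.mul_mem _ (hsc c) ⟨_, rfl⟩
    · intro r b _ hb
      rw [Algebra.smul_def, mul_left_comm]
      exact Subring.mul_mem _ ⟨r, rfl⟩ hb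
  have hmem : ∏ c ∈ G, s c ∈ p := hp.1.2 hall
  obtain ⟨c, -, hc⟩ := hpp.prod_mem_iff.1 hmem
  exact hs c hc

end closed

/-- residue classes of a universal homeomorphism are purely inseparable -/
theorem residue_cases {R C : Type u} [CommRing R] [CommRing C] (j : R →+* C) (h : Uh j)
    (Q : Ideal C) [Q.IsPrime] (c : C) :
    (∃ (s : R) (a : R), j s ∉ Q ∧ j s * c - j a ∈ Q) ∨
      ∃ (p : ℕ) (c' : C) (s a : R), p.Prime ∧ (p : C) ∈ Q ∧ j s ∉ Q ∧ j s * c' ^ p - j a ∈ Q ∧
        ∀ s' a' : R, j s' ∉ Q → j s' * c' - j a' ∉ Q := by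
  classical
  let P : Ideal R := Q.comap j
  let k := P.ResidueField
  let k' := Q.ResidueField
  let i : k →+* k' := Ideal.ResidueField.map P Q j rfl
  letI : Algebra k k' := i.toAlgebra
  have hi : ∀ r, i (algebraMap R k r) = algebraMap C k' (j r) := fun r =>
    Ideal.ResidueField.map_algebraMap P Q j rfl r
  have hrat : ∀ x : C, (algebraMap C k' x ∈ i.range) → ∃ (s : R) (a : R), j s ∉ Q ∧ j s * x - j a ∈ Q := by
    rintro x ⟨y, hy⟩
    obtain ⟨a, s, hs, rfl⟩ := IsFractionRing.div_surjective (A := R ⧸ P) y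
    obtain ⟨a, rfl⟩ := Ideal.Quotient.mk_surjective a
    obtain ⟨s, rfl⟩ := Ideal.Quotient.mk_surjective s
    have hs' : j s ∉ Q := fun h => nonZeroDivisors.ne_zero hs
      (Ideal.Quotient.eq_zero_iff_mem.2 (show s ∈ P from h))
    refine ⟨s, a, hs', ?_⟩
    rw [Ideal.algebraMap_quotient_residueField_mk, Ideal.algebraMap_quotient_residueField_mk,
      map_div₀, hi, hi] at hy
    rw [← Ideal.algebraMap_residueField_eq_zero, map_sub, map_mul, ← hy, mul_div_cancel₀ _
      (fun h => hs' (Ideal.algebraMap_residueField_eq_zero.1 h)), sub_self]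
  by_cases hc : algebraMap C k' c ∈ i.range
  · exact Or.inl (hrat c hc)
  refine Or.inr ?_
  haveI hint : Algebra.IsIntegral k k' := by
    refine ⟨fun y => ?_⟩
    obtain ⟨a, s, -, rfl⟩ := IsFractionRing.div_surjective (A := C ⧸ Q) y
    have hel : ∀ z : C ⧸ Q, IsIntegral k (algebraMap (C ⧸ Q) k' z) := fun z => by
      obtain ⟨z, rfl⟩ := Ideal.Quotient.mk_surjective z
      obtain ⟨F, hF, hF0⟩ := h.int z
      refine ⟨F.map (algebraMap R k), hF.map _, ?_⟩
      rw [Polynomial.eval₂_map, Ideal.algebraMap_quotient_residueField_mk,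
        show (algebraMap k k').comp (algebraMap R k) = (algebraMap C k').comp j from RingHom.ext hi,
        ← Polynomial.hom_eval₂, hF0, map_zero]
    exact div_eq_mul_inv (algebraMap (C ⧸ Q) k' a) _ ▸ (hel a).mul (hel s).inv
  haveI hpi : IsPurelyInseparable k k' := by
    rw [isPurelyInseparable_iff_finSepDegree_eq_one]
    haveI : Subsingleton (Field.Emb k k') := ⟨fun u v => by
      have h1 : (u.toRingHom.comp (algebraMap C k')).comp j = (v.toRingHom.comp (algebraMap C k')).comp j := by
        refine RingHom.ext fun r => ?_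
        change u (algebraMap C k' (j r)) = v (algebraMap C k' (j r))
        rw [← hi]
        exact (u.commutes _).trans (v.commutes _).symm
      have h2 := h.inj _ _ _ h1
      exact AlgHom.coe_ringHom_injective (Ideal.ResidueField.ringHom_ext h2)⟩
    rw [Field.finSepDegree]
    exact Nat.card_eq_one_iff_unique.2 ⟨inferInstance, inferInstance⟩
  obtain ⟨e, he⟩ := ExpChar.exists k
  haveI := he
  obtain ⟨n, hn⟩ := IsPurelyInseparable.pow_mem k e (algebraMap C k' c)
  cases he with
  | zero =>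
    exfalso
    apply hc
    rw [one_pow, pow_one] at hn
    exact hn
  | prime hq =>
    -- the last power that is not rational
    have hex : ∃ m, algebraMap C k' (c ^ e ^ m) ∈ i.range := ⟨n, by rw [map_pow]; exact hn⟩
    have hm := Nat.find_spec hex
    obtain ⟨m, hm'⟩ : ∃ m, Nat.find hex = m + 1 := by
      refine Nat.exists_eq_succ_of_ne_zero fun h0 => hc ?_
      rw [h0, pow_zero, pow_one] at hm
      exact hm
    have hmin : algebraMap C k' (c ^ e ^ m) ∉ i.range := Nat.find_min hex (by omega)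
    rw [hm', pow_succ, pow_mul] at hm
    obtain ⟨s, a, hs, hsa⟩ := hrat _ hm
    refine ⟨e, c ^ e ^ m, s, a, hq, ?_, hs, hsa, fun s' a' hs' hmem => hmin ?_⟩
    · rw [← Ideal.algebraMap_residueField_eq_zero, map_natCast]
      haveI : CharP k' e := charP_of_injective_ringHom i.injective e
      exact CharP.cast_eq_zero k' e
    · refine ⟨algebraMap R k a' / algebraMap R k s', ?_⟩
      rw [map_div₀, hi, hi, div_eq_iff (fun h0 => hs' (Ideal.algebraMap_residueField_eq_zero.1 h0)),
        ← map_mul, eq_comm, ← sub_eq_zero, ← map_sub, Ideal.algebraMap_residueField_eq_zero, mul_comm]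
      exact hmem

theorem residue_rational {R C : Type u} [CommRing R] [CommRing C] (j : R →+* C)
    (Q : Ideal C) [Q.IsPrime]
    (h : Function.Surjective (Ideal.ResidueField.map (Q.comap j) Q j rfl)) (c : C) :
    ∃ (s : R) (a : R), j s ∉ Q ∧ j s * c - j a ∈ Q := by
  obtain ⟨y, hy⟩ := h (algebraMap C Q.ResidueField c)
  obtain ⟨a, s, hs, rfl⟩ := IsFractionRing.div_surjective (A := R ⧸ Q.comap j) y
  obtain ⟨a, rfl⟩ := Ideal.Quotient.mk_surjective a
  obtain ⟨s, rfl⟩ := Ideal.Quotient.mk_surjective s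
  have hs' : j s ∉ Q := fun h => nonZeroDivisors.ne_zero hs
    (Ideal.Quotient.eq_zero_iff_mem.2 (show s ∈ Q.comap j from h))
  refine ⟨s, a, hs', ?_⟩
  rw [Ideal.algebraMap_quotient_residueField_mk, Ideal.algebraMap_quotient_residueField_mk,
    map_div₀, Ideal.ResidueField.map_algebraMap, Ideal.ResidueField.map_algebraMap] at hy
  rw [← Ideal.algebraMap_residueField_eq_zero, map_sub, map_mul, ← hy, mul_div_cancel₀ _
    (fun h => hs' (Ideal.algebraMap_residueField_eq_zero.1 h)), sub_self]

/-! towers -/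

variable (A) in
/-- the algebra generated by the members of `l` before `i` -/
def pre (l : List B) (i : Fin l.length) : Subalgebra A B :=
  Algebra.adjoin A {b : B | ∃ j : Fin l.length, j < i ∧ b = l.get j}

variable (A) in
/-- a tower for a step predicate -/
def Ok (P : Set B → B → Prop) (l : List B) : Prop :=
  ∀ i : Fin l.length, P (pre A l i : Set B) (l.get i)

variable {P : Set B → B → Prop} (hmono : ∀ S T : Set B, S ⊆ T → ∀ b, P S b → P T b)

include hmono in
theorem ok_append {l₁ l₂ : List B} (h₁ : Ok A P l₁) (h₂ : Ok A P l₂) : Ok A P (l₁ ++ l₂) := by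
  rintro ⟨i, hi⟩
  by_cases hi1 : i < l₁.length
  · have e : (l₁ ++ l₂).get ⟨i, hi⟩ = l₁.get ⟨i, hi1⟩ := List.getElem_append_left hi1
    rw [e]
    refine hmono _ _ (SetLike.coe_subset_coe.2 (Algebra.adjoin_mono ?_)) _ (h₁ ⟨i, hi1⟩)
    rintro b ⟨⟨k, hk⟩, hki, rfl⟩
    exact ⟨⟨k, by rw [List.length_append]; omega⟩, hki, (List.getElem_append_left hk).symm⟩
  · have hi2 : i - l₁.length < l₂.length := by rw [List.length_append] at hi; omega
    have e : (l₁ ++ l₂).get ⟨i, hi⟩ = l₂.get ⟨i - l₁.length, hi2⟩ :=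
      List.getElem_append_right (by omega)
    rw [e]
    refine hmono _ _ (SetLike.coe_subset_coe.2 (Algebra.adjoin_mono ?_)) _ (h₂ ⟨_, hi2⟩)
    rintro b ⟨⟨k, hk⟩, hki, rfl⟩
    have hki' : k < i - l₁.length := hki
    refine ⟨⟨l₁.length + k, by rw [List.length_append]; omega⟩,
      (show l₁.length + k < i by omega), ?_⟩
    exact (List.getElem_append_right (by omega)).trans (by congr 1; omega) |>.symm

include hmono in
theorem ok_snoc {l : List B} (h : Ok A P l) {b : B}
    (hb : P (Algebra.adjoin A {x | x ∈ l} : Set B) b) : Ok A P (l ++ [b]) := by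
  rintro ⟨i, hi⟩
  by_cases hi1 : i < l.length
  · have e : (l ++ [b]).get ⟨i, hi⟩ = l.get ⟨i, hi1⟩ := List.getElem_append_left hi1
    rw [e]
    refine hmono _ _ (SetLike.coe_subset_coe.2 (Algebra.adjoin_mono ?_)) _ (h ⟨i, hi1⟩)
    rintro x ⟨⟨k, hk⟩, hki, rfl⟩
    exact ⟨⟨k, by rw [List.length_append]; omega⟩, hki, (List.getElem_append_left hk).symm⟩
  · obtain rfl : i = l.length := by rw [List.length_append, List.length_singleton] at hi; omega
    have e : (l ++ [b]).get ⟨l.length, hi⟩ = b := by simp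
    rw [e]
    refine hmono _ _ (SetLike.coe_subset_coe.2 (Algebra.adjoin_mono ?_)) _ hb
    intro x hx
    obtain ⟨k, hk, rfl⟩ := List.getElem_of_mem hx
    exact ⟨⟨k, by rw [List.length_append]; omega⟩, hk, (List.getElem_append_left hk).symm⟩

theorem ok_nil : Ok A P ([] : List B) := fun i => absurd i.2 (by simp)

/-- elements reachable by towers -/
def sat : Subalgebra A B where
  carrier := {x | ∃ l, Ok A P l ∧ x ∈ Algebra.adjoin A {b | b ∈ l}}
  algebraMap_mem' a := ⟨[], ok_nil, Subalgebra.algebraMap_mem _ a⟩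
  one_mem' := ⟨[], ok_nil, one_mem _⟩
  zero_mem' := ⟨[], ok_nil, zero_mem _⟩
  mul_mem' := by
    rintro x y ⟨l, hl, hx⟩ ⟨m, hm, hy⟩
    exact ⟨l ++ m, ok_append hmono hl hm, mul_mem
      (Algebra.adjoin_mono (fun b hb => List.mem_append_left _ hb) hx)
      (Algebra.adjoin_mono (fun b hb => List.mem_append_right _ hb) hy)⟩
  add_mem' := by
    rintro x y ⟨l, hl, hx⟩ ⟨m, hm, hy⟩
    exact ⟨l ++ m, ok_append hmono hl hm, add_mem
      (Algebra.adjoin_mono (fun b hb => List.mem_append_left _ hb) hx)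
      (Algebra.adjoin_mono (fun b hb => List.mem_append_right _ hb) hy)⟩

theorem sat_pair {x y : B} (hx : x ∈ sat (A := A) hmono) (hy : y ∈ sat (A := A) hmono) :
    ∃ l, Ok A P l ∧ x ∈ Algebra.adjoin A {b | b ∈ l} ∧ y ∈ Algebra.adjoin A {b | b ∈ l} := by
  obtain ⟨l, hl, hx⟩ := hx
  obtain ⟨m, hm, hy⟩ := hy
  exact ⟨l ++ m, ok_append hmono hl hm,
    Algebra.adjoin_mono (fun b hb => List.mem_append_left _ hb) hx,
    Algebra.adjoin_mono (fun b hb => List.mem_append_right _ hb) hy⟩

theorem sat_mem_snoc {l : List B} (h : Ok A P l) {b : B}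
    (hb : P (Algebra.adjoin A {x | x ∈ l} : Set B) b) : b ∈ sat (A := A) hmono :=
  ⟨l ++ [b], ok_snoc hmono h hb, Algebra.subset_adjoin (List.mem_append_right _ (List.mem_singleton.2 rfl))⟩

theorem cover_of_sat (h : sat (A := A) hmono = ⊤) (E : Finset B) :
    ∃ l : List B, (↑E : Set B) ⊆ Algebra.adjoin A {b : B | b ∈ l} ∧ Ok A P l := by
  classical
  induction E using Finset.induction_on with
  | empty => exact ⟨[], by simp, ok_nil⟩
  | insert x E _ ih =>
    obtain ⟨l, hl, hlok⟩ := ih
    obtain ⟨m, hm, hx⟩ : x ∈ sat (A := A) hmono := h ▸ Algebra.mem_top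
    refine ⟨l ++ m, ?_, ok_append hmono hlok hm⟩
    rw [Finset.coe_insert, Set.insert_subset_iff]
    exact ⟨Algebra.adjoin_mono (fun b hb => List.mem_append_right _ hb) hx,
      fun y hy => Algebra.adjoin_mono (fun b hb => List.mem_append_left _ hb) (hl hy)⟩

theorem step_integral {S : Set B} (hS : ∀ s ∈ S, IsIntegral A s) {b : B}
    (h : AnyStep S b) : IsIntegral A b := by
  rcases h with ⟨h2, -⟩ | ⟨p, hp, -, hp'⟩
  · exact IsIntegral.of_pow two_pos (hS _ h2)
  · exact IsIntegral.of_pow hp.pos (hS _ hp')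

theorem ok_good (Pr : B → Prop) (hadj : ∀ T : Set B, (∀ t ∈ T, Pr t) → ∀ x ∈ Algebra.adjoin A T, Pr x)
    (hstep : ∀ (S : Set B) b, (∀ s ∈ S, Pr s) → P S b → Pr b)
    {l : List B} (h : Ok A P l) : ∀ x ∈ Algebra.adjoin A {b | b ∈ l}, Pr x := by
  have : ∀ (i : ℕ) (hi : i < l.length), Pr (l.get ⟨i, hi⟩) := by
    intro i
    induction i using Nat.strongRecOn with
    | ind i ih =>
      intro hi
      refine hstep _ _ (fun s hs => hadj _ ?_ s hs) (h ⟨i, hi⟩)
      rintro t ⟨⟨k, hk⟩, hki, rfl⟩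
      exact ih k hki hk
  refine hadj _ fun t ht => ?_
  obtain ⟨k, hk, rfl⟩ := List.getElem_of_mem ht
  exact this k hk

theorem uh_of_cover (hinj : Function.Injective (algebraMap A B))
    (hP : ∀ S b, P S b → AnyStep S b)
    (h : ∀ E : Finset B, ∃ l : List B, (↑E : Set B) ⊆ Algebra.adjoin A {b : B | b ∈ l} ∧ Ok A P l) :
    Uh (algebraMap A B) := by
  have hint : ∀ x : B, IsIntegral A x := fun x => by
    obtain ⟨l, hl, hok⟩ := h {x}
    refine ok_good (fun y => IsIntegral A y) (fun T hT y hy => ?_)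
      (fun S b hS hb => step_integral hS (hP S b hb)) hok x (hl (by simp))
    exact (Algebra.adjoin_le (S := integralClosure A B) hT) hy
  refine ⟨hint, RingHom.IsIntegral.comap_surjective hint hinj, fun K _ u v huv => RingHom.ext fun x => ?_⟩
  obtain ⟨l, hl, hok⟩ := h {x}
  refine ok_good (fun y => u y = v y) (fun T hT y hy => ?_)
    (fun S b hS hb => step_inj u v (hP S b hb) hS) hok x (hl (by simp))
  induction hy using Algebra.adjoin_induction with
  | mem t ht => exact hT t ht
  | algebraMap a => exact RingHom.congr_fun huv a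
  | add a b _ _ ha hb => rw [map_add, map_add, ha, hb]
  | mul a b _ _ ha hb => rw [map_mul, map_mul, ha, hb]

theorem uh_of_cover' (hsurj : Function.Surjective (PrimeSpectrum.comap (algebraMap A B)))
    (hP : ∀ S b, P S b → AnyStep S b)
    (h : ∀ E : Finset B, ∃ l : List B, (↑E : Set B) ⊆ Algebra.adjoin A {b : B | b ∈ l} ∧ Ok A P l) :
    Uh (algebraMap A B) := by
  have hint : ∀ x : B, IsIntegral A x := fun x => by
    obtain ⟨l, hl, hok⟩ := h {x}
    refine ok_good (fun y => IsIntegral A y) (fun T hT y hy => ?_)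
      (fun S b hS hb => step_integral hS (hP S b hb)) hok x (hl (by simp))
    exact (Algebra.adjoin_le (S := integralClosure A B) hT) hy
  refine ⟨hint, hsurj, fun K _ u v huv => RingHom.ext fun x => ?_⟩
  obtain ⟨l, hl, hok⟩ := h {x}
  refine ok_good (fun y => u y = v y) (fun T hT y hy => ?_)
    (fun S b hS hb => step_inj u v (hP S b hb) hS) hok x (hl (by simp))
  induction hy using Algebra.adjoin_induction with
  | mem t ht => exact hT t ht
  | algebraMap a => exact RingHom.congr_fun huv a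
  | add a b _ _ ha hb => rw [map_add, map_add, ha, hb]
  | mul a b _ _ ha hb => rw [map_mul, map_mul, ha, hb]

theorem closed_top (h : Uh (algebraMap A B)) (hinj : Function.Injective (algebraMap A B))
    (S : Subalgebra A B) (hsq : ∀ b, SqStep (S : Set B) b → b ∈ S)
    (hp : (∀ b, AnyStep (S : Set B) b → b ∈ S) ∨ ∀ (Q : Ideal B) [Q.IsPrime],
      Function.Surjective (Ideal.ResidueField.map (Q.comap (algebraMap A B)) Q (algebraMap A B) rfl)) :
    S = ⊤ := by
  classical
  refine eq_top_iff.2 fun b _ => ?_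
  let C : Subalgebra A B := Algebra.adjoin A ((S : Set B) ∪ {b})
  have hSC : S ≤ C := fun x hx => Algebra.subset_adjoin (Or.inl hx)
  let j : S →+* C := (Subalgebra.inclusion hSC).toRingHom
  have hjcomp : j.comp (algebraMap A S) = algebraMap A C := (Subalgebra.inclusion hSC).comp_algebraMap
  have hC := uh_sub h hinj C
  have hj : Uh j := by
    refine ⟨RingHom.IsIntegral.tower_top (algebraMap A S) j (hjcomp ▸ hC.int), ?_,
      fun K _ u v huv => hC.inj K u v (by rw [← hjcomp, ← RingHom.comp_assoc, ← RingHom.comp_assoc, huv])⟩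
    exact RingHom.IsIntegral.comap_surjective (RingHom.IsIntegral.tower_top (algebraMap A S) j (hjcomp ▸ hC.int))
      (Subalgebra.inclusion_injective hSC)
  have hmem : ∀ c : C, (c : B) ∈ S → c ∈ j.range := fun c hc => ⟨⟨c, hc⟩, rfl⟩
  have hmem' : ∀ c : C, c ∈ j.range → (c : B) ∈ S := by rintro _ ⟨s, rfl⟩; exact s.2
  have hfin : letI := j.toAlgebra; Module.Finite S C := by
    letI := j.toAlgebra
    let bC : C := ⟨b, Algebra.subset_adjoin (Or.inr rfl)⟩
    have htop : Algebra.adjoin S ({bC} : Set C) = ⊤ := by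
      refine eq_top_iff.2 ?_
      rintro ⟨x, hx⟩ -
      induction hx using Algebra.adjoin_induction with
      | mem y hy =>
        rcases hy with hy | hy
        · exact Subalgebra.algebraMap_mem (Algebra.adjoin S ({bC} : Set C)) (⟨y, hy⟩ : S)
        · obtain rfl : y = b := hy
          exact Algebra.subset_adjoin rfl
      | algebraMap a =>
        exact Subalgebra.algebraMap_mem (Algebra.adjoin S ({bC} : Set C)) (algebraMap A S a)
      | add x y hx hy ihx ihy => exact add_mem ihx ihy
      | mul x y hx hy ihx ihy => exact mul_mem ihx ihy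
    have := IsIntegral.fg_adjoin_singleton (R := S) (x := bC) (hj.int bC)
    rw [htop, Algebra.top_toSubmodule] at this
    exact ⟨this⟩
  have hsurj := closed_surj j hfin
    (fun c hc => hmem c (hsq _ ⟨hmem' _ hc.1, hmem' _ hc.2⟩))
    (fun Q _ c => residue_cases j hj Q c) ?_
    (fun Q Q' hQ hQ' e => congrArg PrimeSpectrum.asIdeal
      ((Eta.univHomeo_integral j ((AWN.uh_iff j).2 hj)).2.1
        (a₁ := ⟨Q, hQ⟩) (a₂ := ⟨Q', hQ'⟩) (PrimeSpectrum.ext e)))
    (fun p hp => by
      obtain ⟨q, hq⟩ := hj.surj ⟨p, hp⟩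
      exact ⟨q.asIdeal, q.isPrime, congrArg PrimeSpectrum.asIdeal hq⟩)
  · obtain ⟨s, hs⟩ := hsurj ⟨b, Algebra.subset_adjoin (Or.inr rfl)⟩
    exact hmem' ⟨b, _⟩ ⟨s, hs⟩
  · rcases hp with hp | hp
    · refine Or.inl fun c hc => hmem c (hp _ ?_)
      rcases hc with ⟨h2, h3⟩ | ⟨q, hq, h1, h2⟩
      · exact Or.inl ⟨hmem' _ h2, hmem' _ h3⟩
      · exact Or.inr ⟨q, hq, by simpa using hmem' _ h1, hmem' _ h2⟩
    · refine Or.inr fun Q hQ c => ?_
      obtain ⟨Q', hQ', hQQ⟩ : ∃ Q' : Ideal B, Q'.IsPrime ∧ Q'.comap C.val.toRingHom = Q := by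
        have hCB : C.val.toRingHom.IsIntegral :=
          RingHom.IsIntegral.tower_top (algebraMap A C) _ h.int
        obtain ⟨q, hq⟩ := hCB.comap_surjective Subtype.val_injective ⟨Q, hQ⟩
        exact ⟨q.asIdeal, q.isPrime, congrArg PrimeSpectrum.asIdeal hq⟩
      subst hQQ
      haveI := hQ'
      obtain ⟨s, a, hs, hsa⟩ := residue_rational (algebraMap A B) Q' (hp Q') (c : B)
      exact ⟨algebraMap A S s, algebraMap A S a, hs, hsa⟩

end Groth.Agent.H6.Tower
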