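import Groth.Agent.Lib.H6.UhTower

set_option linter.all false
set_option autoImplicit false

namespace Groth.Agent.H6.Tower

universe u

open AlgebraicGeometry CategoryTheory
open Groth.Agent.H6.AWN (Uh)

variable {A B : Type u} [CommRing A] [CommRing B] [Algebra A B]

theorem sq_mono : ∀ S T : Set B, S ⊆ T → ∀ b, SqStep S b → SqStep T b :=
  fun _ _ h _ hb => ⟨h hb.1, h hb.2⟩

theorem any_mono : ∀ S T : Set B, S ⊆ T → ∀ b, AnyStep S b → AnyStep T b := by
  rintro S T h b (⟨h2, h3⟩ | ⟨p, hp, h1, h2⟩)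
  · exact Or.inl ⟨h h2, h h3⟩
  · exact Or.inr ⟨p, hp, h h1, h h2⟩

theorem sat_sq_closed {P : Set B → B → Prop}
    (hmono : ∀ S T : Set B, S ⊆ T → ∀ b, P S b → P T b) (hP : ∀ S b, SqStep S b → P S b)
    (b : B) (hb : SqStep (sat (A := A) hmono : Set B) b) : b ∈ sat (A := A) hmono := by
  obtain ⟨l, hl, h2, h3⟩ := sat_pair hmono hb.1 hb.2
  exact sat_mem_snoc hmono hl (hP _ _ ⟨h2, h3⟩)

theorem any_iff (hinj : Function.Injective (algebraMap A B)) :
    Uh (algebraMap A B) ↔ ∀ E : Finset B, ∃ l : List B,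
      (↑E : Set B) ⊆ Algebra.adjoin A {b : B | b ∈ l} ∧ Ok A AnyStep l := by
  refine ⟨fun h => cover_of_sat any_mono (closed_top h hinj _ ?_ (Or.inl ?_)),
    uh_of_cover hinj fun _ _ h => h⟩
  · exact sat_sq_closed any_mono fun _ _ h => Or.inl h
  · rintro b (hb | ⟨p, hp, h1, h2⟩)
    · exact sat_sq_closed any_mono (fun _ _ h => Or.inl h) b hb
    · obtain ⟨l, hl, h1, h2⟩ := sat_pair any_mono h1 h2
      exact sat_mem_snoc any_mono hl (Or.inr ⟨p, hp, h1, h2⟩)

theorem residue_surj_of_cover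
    (h : ∀ E : Finset B, ∃ l : List B,
      (↑E : Set B) ⊆ Algebra.adjoin A {b : B | b ∈ l} ∧ Ok A SqStep l)
    (Q : Ideal B) [Q.IsPrime] :
    Function.Surjective (Ideal.ResidueField.map (Q.comap (algebraMap A B)) Q (algebraMap A B) rfl) := by
  let i := Ideal.ResidueField.map (Q.comap (algebraMap A B)) Q (algebraMap A B) rfl
  have hall : ∀ x : B, algebraMap B Q.ResidueField x ∈ i.fieldRange := fun x => by
    obtain ⟨l, hl, hok⟩ := h {x}
    refine ok_good (fun y => algebraMap B Q.ResidueField y ∈ i.fieldRange)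
      (fun T hT y hy => ?_) (fun S b hS hb => ?_) hok x (hl (by simp))
    · induction hy using Algebra.adjoin_induction with
      | mem t ht => exact hT t ht
      | algebraMap a => exact ⟨algebraMap A _ a, Ideal.ResidueField.map_algebraMap _ _ _ rfl a⟩
      | add a b _ _ ha hb => rw [map_add]; exact add_mem ha hb
      | mul a b _ _ ha hb => rw [map_mul]; exact mul_mem ha hb
    · have h2 := hS _ hb.1
      have h3 := hS _ hb.2
      simp only [map_pow] at h2 h3
      by_cases h0 : algebraMap B Q.ResidueField b = 0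
      · rw [h0]; exact zero_mem _
      · have := div_mem h3 h2
        rwa [pow_succ (algebraMap B Q.ResidueField b) 2, mul_div_cancel_left₀ _ (pow_ne_zero 2 h0)] at this
  intro y
  obtain ⟨a, s, -, rfl⟩ := IsFractionRing.div_surjective (A := B ⧸ Q) y
  obtain ⟨a, rfl⟩ := Ideal.Quotient.mk_surjective a
  obtain ⟨s, rfl⟩ := Ideal.Quotient.mk_surjective s
  rw [Ideal.algebraMap_quotient_residueField_mk, Ideal.algebraMap_quotient_residueField_mk]
  exact RingHom.mem_fieldRange.1 (div_mem (hall a) (hall s))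

theorem sq_iff (hinj : Function.Injective (algebraMap A B)) :
    (Uh (algebraMap A B) ∧ ∀ (Q : Ideal B) [Q.IsPrime],
      Function.Surjective (Ideal.ResidueField.map (Q.comap (algebraMap A B)) Q (algebraMap A B) rfl)) ↔
    ∀ E : Finset B, ∃ l : List B,
      (↑E : Set B) ⊆ Algebra.adjoin A {b : B | b ∈ l} ∧ Ok A SqStep l := by
  refine ⟨fun h => cover_of_sat sq_mono (closed_top h.1 hinj _ ?_ (Or.inr h.2)),
    fun h => ⟨uh_of_cover hinj (fun _ _ h => Or.inl h) h, fun Q _ => residue_surj_of_cover h Q⟩⟩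
  exact sat_sq_closed sq_mono fun _ _ h => h

theorem residueFieldMap_surj_iff {A B : Type u} [CommRing A] [CommRing B] (φ : A →+* B)
    (Q : Spec (.of B)) :
    Function.Surjective ((Spec.map (CommRingCat.ofHom φ)).residueFieldMap Q) ↔
      Function.Surjective
        (Ideal.ResidueField.map (PrimeSpectrum.comap φ Q).asIdeal Q.asIdeal φ rfl) := by
  have e := fun x => ConcreteCategory.congr_hom (Eta.residueFieldMap_square φ Q) x
  have hb1 := ConcreteCategory.bijective_of_isIso (Scheme.Spec.residueFieldIso (.of B) Q).inv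
  have hb2 := ConcreteCategory.bijective_of_isIso
    (Scheme.Spec.residueFieldIso (.of A) ((Spec.map (CommRingCat.ofHom φ)).base Q)).inv
  constructor
  · intro h y
    obtain ⟨z, hz⟩ := h ((Scheme.Spec.residueFieldIso (.of B) Q).inv y)
    obtain ⟨x, hx⟩ := hb2.2 z
    refine ⟨x, hb1.1 ?_⟩
    rw [← hx] at hz
    exact (e x).symm.trans hz
  · intro h y
    obtain ⟨z, hz⟩ := hb1.2 y
    obtain ⟨x, hx⟩ := h z
    rw [← hx] at hz
    exact ⟨_, (e x).trans hz⟩

end Groth.Agent.H6.Tower
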