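import Mathlib
import Groth.Agent.S6485
import Groth.Agent.S13785

set_option autoImplicit false
set_option maxHeartbeats 1000000

universe u

namespace Groth.Agent.H6UnitsGL

open MvPolynomial

variable (A : Type u) [CommRing A] (n : ℕ)

noncomputable abbrev D : MvPolynomial (Fin n × Fin n) A := (Matrix.mvPolynomialX (Fin n) (Fin n) A).det

theorem D_homog : (D A n).IsHomogeneous n := by
  rw [D, Matrix.det_apply]
  refine IsHomogeneous.sum _ _ _ fun σ _ => ?_
  have h : (∏ i, Matrix.mvPolynomialX (Fin n) (Fin n) A (σ i) i).IsHomogeneous n := by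
    have := IsHomogeneous.prod (Finset.univ : Finset (Fin n))
      (fun i => Matrix.mvPolynomialX (Fin n) (Fin n) A (σ i) i) (fun _ => 1) (fun i _ => isHomogeneous_X _ _)
    simpa using this
  rcases Int.units_eq_one_or (Equiv.Perm.sign σ) with h' | h' <;> rw [h']
  · simpa using h
  · rw [Units.neg_smul, one_smul]; exact h.neg

theorem map_D {B : Type u} [CommRing B] (φ : A →+* B) : MvPolynomial.map φ (D A n) = D B n := by
  rw [D, D, RingHom.map_det]
  congr 1
  ext i j : 1
  simp [Matrix.mvPolynomialX_apply]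

noncomputable def evalId : MvPolynomial (Fin n × Fin n) A →+* A :=
  MvPolynomial.eval fun ij => if ij.1 = ij.2 then 1 else 0

theorem evalId_D : evalId A n (D A n) = 1 := by
  rw [D, RingHom.map_det]
  rw [← Matrix.det_one (R := A) (n := Fin n)]
  congr 1
  ext i j
  simp [evalId, Matrix.mvPolynomialX_apply, Matrix.one_apply]

theorem evalId_map {B : Type u} [CommRing B] (φ : A →+* B) (g : MvPolynomial (Fin n × Fin n) A) :
    evalId B n (MvPolynomial.map φ g) = φ (evalId A n g) := by
  refine RingHom.congr_fun (show (evalId B n).comp (MvPolynomial.map φ) = φ.comp (evalId A n) from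
    MvPolynomial.ringHom_ext (fun r => by simp [evalId]) (fun ij => ?_)) g
  simp only [evalId, RingHom.comp_apply, map_X, eval_X]
  split_ifs <;> simp

theorem pow_eq (hn : 0 < n) [Nontrivial A] {a : A} {i j : ℕ} (h : C a * D A n ^ i = D A n ^ j) :
    i = j ∧ a = 1 := by
  have ha : a = 1 := by
    have := congrArg (evalId A n) h
    rw [map_mul, map_pow, map_pow, evalId_D, one_pow, one_pow, mul_one] at this
    simpa [evalId] using this
  subst ha
  rw [C_1, one_mul] at h
  have hne : D A n ^ i ≠ 0 := fun h0 => by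
    have := congrArg (evalId A n) h0
    simp [evalId_D] at this
  have h1 := (D_homog A n).pow i
  have h2 := (D_homog A n).pow j
  rw [← h] at h2
  have := h1.inj_right h2 hne
  exact ⟨Nat.eq_of_mul_eq_mul_left hn this, rfl⟩

theorem factor_field (k : Type u) [Field k] (hn : 0 < n) (g h : MvPolynomial (Fin n × Fin n) k) (N : ℕ)
    (hgh : g * h = D k n ^ N) : ∃ (c : k) (i : ℕ), c ≠ 0 ∧ g = C c * D k n ^ i := by
  have hp : Prime (D k n) := UniqueFactorizationMonoid.irreducible_iff_prime.1 (S6485.irreducible_det k n hn)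
  obtain ⟨i, -, hi⟩ := (dvd_prime_pow hp N).1 (Dvd.intro h hgh)
  obtain ⟨v, hv⟩ := hi.symm
  obtain ⟨c, hc, hcv⟩ := MvPolynomial.isUnit_iff_eq_C_of_isReduced.1 v.isUnit
  exact ⟨c, i, hc.ne_zero, by rw [← hv, hcv, mul_comm]⟩

theorem factor (hn : 0 < n) [Nontrivial A] [IsReduced A] (hconn : ∀ e : A, IsIdempotentElem e → e = 0 ∨ e = 1)
    (g h : MvPolynomial (Fin n × Fin n) A) (N : ℕ) (hgh : g * h = D A n ^ N) :
    ∃ (c : Aˣ) (i : ℕ), g = C (c : A) * D A n ^ i := by
  classical
  have key : ∀ p : Ideal A, p.IsPrime → ∀ φ : A →+* FractionRing (A ⧸ p),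
      φ = (algebraMap (A ⧸ p) (FractionRing (A ⧸ p))).comp (Ideal.Quotient.mk p) →
      ∃ (i : ℕ), φ (evalId A n g) ≠ 0 ∧ MvPolynomial.map φ g = C (φ (evalId A n g)) * D _ n ^ i := by
    intro p hp φ _
    haveI := hp
    have := congrArg (MvPolynomial.map φ) hgh
    rw [map_mul, map_pow, map_D] at this
    obtain ⟨c, i, hc, hg⟩ := factor_field n _ hn _ _ N this
    have hce : φ (evalId A n g) = c := by
      rw [← evalId_map, hg, map_mul, map_pow, evalId_D]
      simp [evalId]
    exact ⟨i, hce ▸ hc, hce.symm ▸ hg⟩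
  have hzero : ∀ a : A, (∀ p : Ideal A, p.IsPrime → a ∈ p) → a = 0 := fun a ha => by
    have : a ∈ nilradical A := by rw [nilradical_eq_sInf, Submodule.mem_sInf]; exact ha
    rwa [nilradical_eq_zero] at this
  have hker : ∀ (p : Ideal A) [p.IsPrime] (a : A),
      algebraMap (A ⧸ p) (FractionRing (A ⧸ p)) (Ideal.Quotient.mk p a) = 0 ↔ a ∈ p := fun p _ a => by
    rw [map_eq_zero_iff _ (IsFractionRing.injective _ _), Ideal.Quotient.eq_zero_iff_mem]
  have hcu : IsUnit (evalId A n g) := by
    by_contra hc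
    obtain ⟨m, hm, hcm⟩ := exists_max_ideal_of_mem_nonunits hc
    haveI := hm
    obtain ⟨i, hne, -⟩ := key m inferInstance _ rfl
    exact hne ((hker m _).2 hcm)
  let Cj : ℕ → Ideal A := fun j => Ideal.span (Set.range fun d => coeff d (homogeneousComponent j g))
  have hexp : ∀ p : Ideal A, p.IsPrime → ∃ i, (∀ j, j ≠ n * i → Cj j ≤ p) ∧
      (∀ d, coeff d g - coeff d (C (evalId A n g) * D A n ^ i) ∈ p) := by
    intro p hp
    haveI := hp
    let φ := (algebraMap (A ⧸ p) (FractionRing (A ⧸ p))).comp (Ideal.Quotient.mk p)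
    obtain ⟨i, -, hi⟩ := key p hp φ rfl
    refine ⟨i, fun j hj => Ideal.span_le.2 ?_, fun d => (hker p _).1 ?_⟩
    · rintro _ ⟨d, rfl⟩
      refine (hker p _).1 ?_
      show φ _ = 0
      simp only [coeff_homogeneousComponent]
      split_ifs with hd
      · rw [← coeff_map, hi, coeff_C_mul, ((D_homog _ n).pow i).coeff_eq_zero, mul_zero]
        rw [hd]; exact hj
      · exact map_zero φ
    · show φ _ = 0
      rw [map_sub, ← coeff_map, ← coeff_map, map_mul, map_pow, map_D, map_C, hi, sub_self]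
  have htop : (⨆ j, Cj j) = ⊤ := by
    by_contra hne
    obtain ⟨m, hm, hle⟩ := Ideal.exists_le_maximal _ hne
    haveI := hm
    obtain ⟨i, hne', hi⟩ := key m inferInstance _ rfl
    refine hne' ((hker m _).2 ?_)
    rw [evalId, MvPolynomial.eval_eq']
    refine Ideal.sum_mem _ fun d _ => Ideal.mul_mem_right _ _ ?_
    refine hle (Submodule.mem_iSup_of_mem d.degree (Ideal.subset_span ⟨d, ?_⟩))
    simp only [coeff_homogeneousComponent, if_true]
  have horth : ∀ i j, i ≠ j → ∀ a ∈ Cj i, ∀ b ∈ Cj j, a * b = 0 := by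
    intro i j hij a ha b hb
    refine hzero _ fun p hp => ?_
    obtain ⟨e, he, -⟩ := hexp p hp
    by_cases hie : i = n * e
    · exact Ideal.mul_mem_left _ _ (he j (fun hje => hij (hie.trans hje.symm)) hb)
    · exact Ideal.mul_mem_right _ _ (he i hie ha)
  obtain ⟨e, he, hsum⟩ := (Submodule.mem_iSup_iff_exists_finsupp _ _).1 ((Ideal.eq_top_iff_one _).1 htop)
  have hid : ∀ j, IsIdempotentElem (e j) := fun j => by
    show e j * e j = e j
    conv_rhs => rw [← mul_one (e j), ← hsum, Finsupp.sum, Finset.mul_sum]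
    rw [Finset.sum_eq_single j (fun k _ hk => horth j k hk.symm _ (he j) _ (he k))
      (fun hj => by rw [Finsupp.notMem_support_iff.1 hj, mul_zero])]
  obtain ⟨j, hj⟩ : ∃ j, e j = 1 := by
    by_contra hno
    push Not at hno
    refine one_ne_zero (α := A) ?_
    rw [← hsum, Finsupp.sum]
    exact Finset.sum_eq_zero fun j _ => (hconn _ (hid j)).resolve_right (hno j)
  have hp0 : ∀ p : Ideal A, p.IsPrime → ∀ i, (∀ k, k ≠ n * i → Cj k ≤ p) → j = n * i := by
    intro p hp i hi
    by_contra hne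
    exact hp.ne_top ((Ideal.eq_top_iff_one _).2 (hj ▸ hi j hne (he j)))
  obtain ⟨m, hm⟩ := Ideal.exists_maximal A
  obtain ⟨i0, hi0, -⟩ := hexp m hm.isPrime
  refine ⟨hcu.unit, i0, MvPolynomial.ext _ _ fun d => sub_eq_zero.1 (hzero _ fun p hp => ?_)⟩
  obtain ⟨i, hi, hd⟩ := hexp p hp
  obtain rfl : i = i0 := Nat.eq_of_mul_eq_mul_left hn ((hp0 p hp i hi).symm.trans (hp0 m hm.isPrime i0 hi0))
  exact hd d

theorem mk_eq (a : Aˣ) (e : ℤ) :
    ∃ p q : ℕ, e = (p : ℤ) - q ∧
      ((Units.map (algebraMap A (Localization.Away (D A n))).toMonoidHom a *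
        (IsLocalization.Away.algebraMap_isUnit (S := Localization.Away (D A n)) (D A n)).unit ^ e : (Localization.Away (D A n))ˣ) :
          Localization.Away (D A n)) * algebraMap _ _ (D A n ^ q) = algebraMap _ _ (C (a : A) * D A n ^ p) := by
  refine ⟨e.toNat, (-e).toNat, by omega, ?_⟩
  set w := (IsLocalization.Away.algebraMap_isUnit (S := Localization.Away (D A n)) (D A n)).unit
  have hwD : (algebraMap (MvPolynomial (Fin n × Fin n) A) (Localization.Away (D A n))) (D A n) = (w : Localization.Away (D A n)) := rfl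
  rw [map_mul, map_pow, map_pow, hwD, ← MvPolynomial.algebraMap_eq, ← IsScalarTower.algebraMap_apply,
    Units.val_mul, mul_assoc, ← Units.val_pow_eq_pow_val, ← Units.val_pow_eq_pow_val, ← Units.val_mul,
    ← zpow_natCast w, ← zpow_natCast w, ← zpow_add, show e + ((-e).toNat : ℤ) = (e.toNat : ℤ) by omega]
  rfl

theorem injective [Nontrivial A] (hn : 0 < n) :
    Function.Injective (fun p : Aˣ × ℤ =>
        Units.map (algebraMap A (Localization.Away (D A n))).toMonoidHom p.1 *
          (IsLocalization.Away.algebraMap_isUnit (S := Localization.Away (D A n)) (D A n)).unit ^ p.2) := by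
  rintro ⟨a, e⟩ ⟨b, e'⟩ h
  obtain ⟨p, q, rfl, h1⟩ := mk_eq A n a e
  obtain ⟨p', q', rfl, h2⟩ := mk_eq A n b e'
  simp only at h
  rw [h] at h1
  have h3 : algebraMap (MvPolynomial (Fin n × Fin n) A) (Localization.Away (D A n)) (C (b : A) * D A n ^ (p' + q)) =
      algebraMap _ _ (C (a : A) * D A n ^ (p + q')) := by
    rw [pow_add, pow_add, ← mul_assoc, ← mul_assoc, map_mul, ← h2, map_mul (algebraMap _ _) (C (a : A) * _), ← h1,
      mul_assoc, mul_assoc, mul_comm (algebraMap _ _ (D A n ^ q'))]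
  have h4 := IsLocalization.injective (Localization.Away (D A n))
    (Submonoid.powers_le.2 (S13785.result A n)) h3
  have h5 : C ((a⁻¹ * b : Aˣ) : A) * D A n ^ (p' + q) = D A n ^ (p + q') := by
    rw [Units.val_mul, C_mul, mul_assoc, h4, ← mul_assoc, ← C_mul, Units.inv_mul, C_1, one_mul]
  obtain ⟨hi, hab⟩ := pow_eq A n hn h5
  refine Prod.ext ?_ (by simp only; omega)
  have : a⁻¹ * b = 1 := Units.ext hab
  exact inv_mul_eq_one.1 this

end Groth.Agent.H6UnitsGL
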