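import Groth.Agent.Lib.H6.ValDense
import Groth.Agent.Lib.H6.DVRValAt
import Mathlib.FieldTheory.IntermediateField.Adjoin.Algebra

set_option linter.all false
set_option autoImplicit false
set_option backward.isDefEq.respectTransparency.types false

/-! Existence of lifts at a point, tested on discrete valuation rings. -/

namespace Groth.Agent.H6.ValDense

universe u

open CategoryTheory CategoryTheory.Limits AlgebraicGeometry IsLocalRing

theorem exists_lift_of_dvr_field {X S : Scheme.{u}} [IsLocallyNoetherian S] (f : X ⟶ S) [LocallyOfFiniteType f] [QuasiCompact f]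
    {K : Type u} [Field K] (i₁ : Spec (CommRingCat.of K) ⟶ X) (E : Set K) (hE : E.Finite)
    (hfull : ∀ L : Subfield K, E ⊆ L → ∀ i : Spec (CommRingCat.of L) ⟶ X,
      Spec.map (CommRingCat.ofHom L.subtype) ≫ i = i₁ → L = ⊤)
    (H : ∀ (V : ValuationSubring K), IsDiscreteValuationRing V → ∀ y : Spec (CommRingCat.of V) ⟶ S,
      Spec.map (CommRingCat.ofHom V.subtype) ≫ y = i₁ ≫ f →
      ∃ l : Spec (CommRingCat.of V) ⟶ X, l ≫ f = y ∧ Spec.map (CommRingCat.ofHom V.subtype) ≫ l = i₁)
    (A : ValuationSubring K) (y : Spec (CommRingCat.of A) ⟶ S)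
    (hy : Spec.map (CommRingCat.ofHom A.subtype) ≫ y = i₁ ≫ f) :
    ∃ l : Spec (CommRingCat.of A) ⟶ X, l ≫ f = y ∧ Spec.map (CommRingCat.ofHom A.subtype) ≫ l = i₁ := by
  let P : ∀ (L : Type u) [Field L], (Spec (CommRingCat.of L) ⟶ X) → Prop := fun L _ i =>
    ∃ e : K ≃+* L, Spec.map (CommRingCat.ofHom e.toRingHom) ≫ i₁ = i
  have hH : ∀ sq : ValuativeCommSq f, IsDiscreteValuationRing sq.R → P sq.K sq.i₁ → sq.commSq.HasLift := by
    rintro sq hdvr ⟨e, he⟩
    let V : ValuationSubring K := res sq.R e.toRingHom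
    obtain ⟨ρ, hρ, hρloc⟩ := exists_rho (R := sq.R) (K := sq.K) e.toRingHom
    have hsurj : Function.Surjective ρ := fun r => by
      refine ⟨⟨e.symm (algebraMap sq.R sq.K r), ⟨r, (e.apply_symm_apply _).symm⟩⟩, IsFractionRing.injective sq.R sq.K ?_⟩
      exact (RingHom.congr_fun hρ _).trans (e.apply_symm_apply _)
    have hinj : Function.Injective ρ := fun a b h => Subtype.val_injective (e.injective
      ((RingHom.congr_fun hρ a).symm.trans ((congrArg (algebraMap sq.R sq.K) h).trans (RingHom.congr_fun hρ b))))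
    let eV : V ≃+* sq.R := RingEquiv.ofBijective ρ ⟨hinj, hsurj⟩
    haveI : IsDiscreteValuationRing V := IsDiscreteValuationRing.RingEquivClass.isDiscreteValuationRing eV.symm
    obtain ⟨y', hy'₁, hy'₂⟩ := descend e.toRingHom ρ hρ (i₁ ≫ f) sq.i₂ (by
      rw [← sq.commSq.w, ← he, Category.assoc])
    obtain ⟨l, hl₁, hl₂⟩ := H V inferInstance y' hy'₁
    refine ⟨⟨⟨Spec.map (CommRingCat.ofHom ρ) ≫ l, ?_, ?_⟩⟩⟩
    · show Spec.map (CommRingCat.ofHom (algebraMap sq.R sq.K)) ≫ Spec.map (CommRingCat.ofHom ρ) ≫ l = sq.i₁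
      rw [← Spec.map_comp_assoc, ← CommRingCat.ofHom_comp, hρ, ← he, ← hl₂, ← Spec.map_comp_assoc]
      rfl
    · rw [Category.assoc, hl₁, hy'₂]
  obtain ⟨⟨l, h₁, h₂⟩⟩ := (DVRVal.existence_of_dvr_at f P hH ⟨A, K, i₁, y, ⟨hy.symm⟩⟩ E hE fun L hL i hi => by
    obtain rfl : L = ⊤ := hfull L hL i hi
    refine ⟨(Subfield.topEquiv (K := K)).symm, ?_⟩
    have hi' : Spec.map (CommRingCat.ofHom (⊤ : Subfield K).subtype) ≫ i = i₁ := hi
    refine (congrArg (Spec.map (CommRingCat.ofHom (Subfield.topEquiv (K := K)).symm.toRingHom) ≫ ·) hi'.symm).trans ?_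
    rw [← Spec.map_comp_assoc]
    have : CommRingCat.ofHom (⊤ : Subfield K).subtype ≫ CommRingCat.ofHom (Subfield.topEquiv (K := K)).symm.toRingHom = 𝟙 _ := by
      ext z; rfl
    rw [this, Spec.map_id, Category.id_comp]).exists_lift
  exact ⟨l, h₂, h₁⟩

theorem image_subset_of_point {X : Scheme.{u}} (d : X) {K : Type u} [Field K] (φ : X.residueField d ⟶ CommRingCat.of K)
    (L : Subfield K) (i : Spec (CommRingCat.of L) ⟶ X)
    (h : Spec.map (CommRingCat.ofHom L.subtype) ≫ i = Spec.map φ ≫ X.fromSpecResidueField d) (z : X.residueField d) :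
    φ.hom z ∈ L := by
  obtain ⟨⟨x, ψ⟩, hψ⟩ := (Scheme.SpecToEquivOfField L X).symm.surjective i
  rw [Scheme.SpecToEquivOfField_symm_apply] at hψ
  obtain rfl : x = d := by
    have := congrArg (fun g : Spec (CommRingCat.of K) ⟶ X => g (closedPoint K)) h
    simp only [← hψ, Scheme.Hom.comp_apply, Scheme.fromSpecResidueField_apply] at this
    exact this
  have h' : Spec.map (ψ ≫ CommRingCat.ofHom L.subtype) = Spec.map φ := by
    rw [← cancel_mono (X.fromSpecResidueField x), Spec.map_comp, Category.assoc]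
    exact (congrArg _ hψ).trans h
  rw [← Spec.map_inj.mp h']
  exact (ψ.hom z).2

theorem exists_finite_full {k K : Type u} [Field k] [Field K] (φ : k →+* K) (hφ : φ.EssFiniteType) :
    ∃ E : Set K, E.Finite ∧ ∀ L : Subfield K, E ⊆ L → (∀ z, φ z ∈ L) → L = ⊤ := by
  letI : Algebra k K := φ.toAlgebra
  haveI : Algebra.EssFiniteType k K := hφ
  obtain ⟨s, hs⟩ := IntermediateField.fg_top (F := k) (E := K)
  refine ⟨s, s.finite_toSet, fun L hL hk => eq_top_iff.2 fun z _ => ?_⟩
  let L' : IntermediateField k K := { L with algebraMap_mem' := hk, inv_mem' := fun a ha => L.inv_mem ha }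
  have : (⊤ : IntermediateField k K) ≤ L' := by
    rw [← hs, IntermediateField.adjoin_le_iff]
    exact hL
  exact this (IntermediateField.mem_top (x := z))

theorem lift_frac {U X S : Scheme.{u}} (f : X ⟶ S) (h : U ⟶ X) {K : Type u} [Field K] (V : ValuationSubring K)
    (q : Spec (CommRingCat.of K) ⟶ U) (y : Spec (CommRingCat.of V) ⟶ S)
    (hy : Spec.map (CommRingCat.ofHom V.subtype) ≫ y = (q ≫ h) ≫ f)
    (H : ∀ (u : Spec (CommRingCat.of (FractionRing V)) ⟶ U),
      u ≫ h ≫ f = Spec.map (CommRingCat.ofHom (algebraMap V (FractionRing V))) ≫ y →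
        ∃ l : Spec (CommRingCat.of V) ⟶ X, l ≫ f = y ∧ Spec.map (CommRingCat.ofHom (algebraMap V (FractionRing V))) ≫ l = u ≫ h) :
    ∃ l : Spec (CommRingCat.of V) ⟶ X, l ≫ f = y ∧ Spec.map (CommRingCat.ofHom V.subtype) ≫ l = q ≫ h := by
  let e : FractionRing V ≃ₐ[V] K := FractionRing.algEquiv V K
  have he : CommRingCat.ofHom V.subtype ≫ CommRingCat.ofHom e.symm.toRingHom = CommRingCat.ofHom (algebraMap V (FractionRing V)) := by
    ext a
    exact e.symm.commutes a
  obtain ⟨l, hl₁, hl₂⟩ := H (Spec.map (CommRingCat.ofHom e.symm.toRingHom) ≫ q) (by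
    rw [← he, Spec.map_comp, Category.assoc, Category.assoc, hy, Category.assoc])
  refine ⟨l, hl₁, ?_⟩
  have he2 : CommRingCat.ofHom e.symm.toRingHom ≫ CommRingCat.ofHom e.toRingHom = 𝟙 _ := by
    ext a
    exact e.apply_symm_apply a
  rw [← he, Spec.map_comp, Category.assoc, Category.assoc] at hl₂
  have := congrArg (Spec.map (CommRingCat.ofHom e.toRingHom) ≫ ·) hl₂
  simp only [← Category.assoc, ← Spec.map_comp] at this
  rw [Category.assoc, he2, Category.comp_id] at this
  simp only [Spec.map_id, Category.id_comp] at this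
  exact this

theorem liftAt_range_of_dvr {U X S : Scheme.{u}} [IsLocallyNoetherian S] (f : X ⟶ S) [LocallyOfFiniteType f] [QuasiCompact f]
    (h : U ⟶ X) [LocallyOfFiniteType h]
    (H : ∀ (A : Type u) [CommRing A] [IsDomain A] [IsDiscreteValuationRing A]
      (u : Spec (CommRingCat.of (FractionRing A)) ⟶ U) (y : Spec (CommRingCat.of A) ⟶ S),
      u ≫ h ≫ f = Spec.map (CommRingCat.ofHom (algebraMap A (FractionRing A))) ≫ y →
        ∃ l : Spec (CommRingCat.of A) ⟶ X, l ≫ f = y ∧ Spec.map (CommRingCat.ofHom (algebraMap A (FractionRing A))) ≫ l = u ≫ h)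
    (u : U) : LiftAt f (h u) := by
  intro A y hy
  have hp : U.fromSpecResidueField u ≫ h = Spec.map (h.residueFieldMap u) ≫ X.fromSpecResidueField (h u) :=
    (Scheme.Hom.SpecMap_residueFieldMap_fromSpecResidueField h u).symm
  obtain ⟨B, m, hm, hloc, hA⟩ := exists_ext A (h.residueFieldMap u).hom
  haveI := hloc
  obtain ⟨E, hE, hfull⟩ := exists_finite_full (h.residueFieldMap u).hom (DVRVal.residueFieldMap_essFiniteType h u)
  obtain ⟨l, hl, hlg⟩ := exists_lift_of_dvr_field (K := U.residueField u) f (U.fromSpecResidueField u ≫ h) E hE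
    (fun L hL i hi => hfull L hL fun z => image_subset_of_point (h u) (h.residueFieldMap u) L i (hi.trans hp) z)
    (fun V hV y' hy' => lift_frac f h V (U.fromSpecResidueField u) y' hy' fun q hq => H V q y' hq)
    B (Spec.map (CommRingCat.ofHom m) ≫ y) (by
      rw [hp, Category.assoc]
      erw [← hy]
      rw [← Spec.map_comp_assoc]
      erw [← Spec.map_comp_assoc]
      congr 2
      ext a
      exact RingHom.congr_fun hm a)
  exact exists_lift_of_ext f A (h.residueFieldMap u).hom B m hm hA (X.fromSpecResidueField (h u)) y hy l hl (hlg.trans hp)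

theorem existence_of_dense {U X S : Scheme.{u}} (f : X ⟶ S) (h : U ⟶ X) [QuasiCompact h] (hd : DenseRange h.base)
    (H₁ : ∀ u : U, LiftAt f (h u)) (H₂ : ∀ u : U, UniqAt f (h u)) : ValuativeCriterion.Existence f :=
  existence_of_points f (Set.range h.base) (fun x => by
    obtain ⟨u, hu⟩ := SubtrVal.exists_specializes_of_mem_closure_range h (hd x)
    exact ⟨h u, ⟨u, rfl⟩, hu⟩)
    (fun _ ⟨u, hu⟩ => hu ▸ H₁ u) (fun _ ⟨u, hu⟩ => hu ▸ H₂ u)

end Groth.Agent.H6.ValDense
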