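import Groth.Agent.Lib.H6.AWN2
import Groth.Agent.Lib.H6.EtaleReduced
import Mathlib.RingTheory.Smooth.IntegralClosure
import Mathlib.RingTheory.LocalProperties.Reduced

set_option linter.all false
set_option autoImplicit false

/-! Weak subintegral closure and flat base change with reduced fibres. -/

namespace Groth.Agent.H6.WeakSubint

universe u

open TensorProduct AWN

variable {A B : Type u} [CommRing A] [CommRing B] [Algebra A B]

theorem uh_adjoin (hinj : Function.Injective (algebraMap A B)) [Algebra.IsIntegral A B] (b : B)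
    (hn : IsNilpotent (b ⊗ₜ[A] (1 : B) - (1 : B) ⊗ₜ[A] b)) : Uh (algebraMap A (Algebra.adjoin A ({b} : Set B))) := by
  let D := Algebra.adjoin A ({b} : Set B)
  have hint : (algebraMap A D).IsIntegral := fun x =>
    (isIntegral_algHom_iff D.val Subtype.val_injective).1 (Algebra.IsIntegral.isIntegral (R := A) (x : B))
  have hDB : D.val.toRingHom.IsIntegral := fun x => (Algebra.IsIntegral.isIntegral (R := A) x).tower_top
  refine ⟨hint, RingHom.IsIntegral.comap_surjective hint fun x y h => hinj (congrArg D.val h), fun K _ u v huv => ?_⟩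
  let L := AlgebraicClosure K
  have hsurj : Function.Surjective (PrimeSpectrum.comap D.val.toRingHom) :=
    RingHom.IsIntegral.comap_surjective hDB Subtype.val_injective
  obtain ⟨u', hu'⟩ := Eta.exists_alg_point D.val.toRingHom hDB hsurj ((algebraMap K L).comp u)
  obtain ⟨v', hv'⟩ := Eta.exists_alg_point D.val.toRingHom hDB hsurj ((algebraMap K L).comp v)
  letI : Algebra A L := ((algebraMap K L).comp (u.comp (algebraMap A D))).toAlgebra
  let uA : B →ₐ[A] L := { u' with commutes' := fun a => RingHom.congr_fun hu' (algebraMap A D a) }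
  let vA : B →ₐ[A] L := { v' with commutes' := fun a => (RingHom.congr_fun hv' (algebraMap A D a)).trans (congrArg (algebraMap K L) (RingHom.congr_fun huv a).symm) }
  have h0 := (hn.map (Algebra.TensorProduct.productMap uA vA)).eq_zero
  rw [map_sub, Algebra.TensorProduct.productMap_apply_tmul, Algebra.TensorProduct.productMap_apply_tmul, map_one, map_one, mul_one, one_mul,
    sub_eq_zero] at h0
  have hb' : u ⟨b, Algebra.subset_adjoin rfl⟩ = v ⟨b, Algebra.subset_adjoin rfl⟩ :=
    (algebraMap K L).injective ((RingHom.congr_fun hu' ⟨b, Algebra.subset_adjoin rfl⟩).symm.trans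
      (h0.trans (RingHom.congr_fun hv' ⟨b, Algebra.subset_adjoin rfl⟩)))
  refine RingHom.ext fun x => ?_
  obtain ⟨x, hx⟩ := x
  induction hx using Algebra.adjoin_induction with
  | mem y hy =>
    obtain rfl : y = b := hy
    exact hb'
  | algebraMap r => exact RingHom.congr_fun huv r
  | add y z hy hz h1 h2 =>
    show u (⟨y, hy⟩ + ⟨z, hz⟩) = v (⟨y, hy⟩ + ⟨z, hz⟩)
    rw [map_add, map_add, h1, h2]
  | mul y z hy hz h1 h2 =>
    show u (⟨y, hy⟩ * ⟨z, hz⟩) = v (⟨y, hy⟩ * ⟨z, hz⟩)
    rw [map_mul, map_mul, h1, h2]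

theorem uh_of_surjective {D E : Type u} [CommRing D] [CommRing E] [Algebra A D] [Algebra A E] (h : Uh (algebraMap A D))
    (φ : D →ₐ[A] E) (hφ : Function.Surjective φ) (hinj : Function.Injective (algebraMap A E)) : Uh (algebraMap A E) := by
  have hint : (algebraMap A E).IsIntegral := fun x => by
    obtain ⟨y, rfl⟩ := hφ x
    exact IsIntegral.map φ (h.int y)
  refine ⟨hint, RingHom.IsIntegral.comap_surjective hint hinj, fun K _ u v e => ?_⟩
  have := h.inj K (u.comp φ.toRingHom) (v.comp φ.toRingHom) (RingHom.ext fun a => by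
    show u (φ (algebraMap A D a)) = v (φ (algebraMap A D a))
    rw [φ.commutes]
    exact RingHom.congr_fun e a)
  refine RingHom.ext fun x => ?_
  obtain ⟨y, rfl⟩ := hφ x
  exact RingHom.congr_fun this y

/-- the difference map -/
noncomputable def delta (A R : Type u) [CommRing A] [CommRing R] [Algebra A R] : R →ₗ[A] R ⊗[A] R :=
  (Algebra.TensorProduct.includeLeft (R := A) (S := A) (A := R) (B := R)).toLinearMap -
    (Algebra.TensorProduct.includeRight (R := A) (A := R) (B := R)).toLinearMap

/-- the difference map to the reduction -/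
noncomputable def deltaRed (A R : Type u) [CommRing A] [CommRing R] [Algebra A R] :
    R →ₗ[A] (R ⊗[A] R) ⧸ nilradical (R ⊗[A] R) :=
  (Ideal.Quotient.mkₐ A (nilradical (R ⊗[A] R))).toLinearMap ∘ₗ delta A R

theorem deltaRed_eq_zero (r : B) : deltaRed A B r = 0 ↔ IsNilpotent (r ⊗ₜ[A] (1 : B) - (1 : B) ⊗ₜ[A] r) := by
  rw [← mem_nilradical, ← Ideal.Quotient.eq_zero_iff_mem]
  rfl

theorem deltaRed_eq_zero_of_uh (C : Subalgebra A B) (h : Uh (algebraMap A C)) (R : Subalgebra A B) (hCR : C ≤ R)
    (r : R) (hr : (r : B) ∈ C) : deltaRed A R r = 0 := by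
  rw [deltaRed_eq_zero]
  rw [← mem_nilradical, mem_nilradical, nilpotent_iff_mem_prime]
  intro P hP
  let q := algebraMap (R ⊗[A] R) P.ResidueField
  have := h.inj P.ResidueField
    ((q.comp (Algebra.TensorProduct.includeLeft (R := A) (S := A) (A := R) (B := R)).toRingHom).comp (Subalgebra.inclusion hCR).toRingHom)
    ((q.comp (Algebra.TensorProduct.includeRight (R := A) (A := R) (B := R)).toRingHom).comp (Subalgebra.inclusion hCR).toRingHom)
    (RingHom.ext fun a => congrArg q (((Algebra.TensorProduct.includeLeft (R := A) (S := A) (A := R) (B := R)).commutes a).trans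
      ((Algebra.TensorProduct.includeRight (R := A) (A := R) (B := R)).commutes a).symm))
  refine Ideal.algebraMap_residueField_eq_zero.1 ?_
  rw [map_sub]
  exact sub_eq_zero.2 (RingHom.congr_fun this ⟨r, hr⟩)

theorem lTensor_eq_zero {A' R Q : Type u} [CommRing A'] [Algebra A A'] [CommRing R] [Algebra A R] [CommRing Q] [Algebra A Q]
    [IsReduced (A' ⊗[A] Q)] (d : R →ₗ[A] Q) (l₀ r₀ : R →ₐ[A] Q) (hd : ∀ x, d x = l₀ x - r₀ x)
    {C' : Type u} [CommRing C'] [Algebra A' C'] (hC' : Uh (algebraMap A' C')) (κ : C' →ₐ[A'] A' ⊗[A] R) (x : C') :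
    d.lTensor A' (κ x) = 0 := by
  let l : A' ⊗[A] R →ₐ[A'] A' ⊗[A] Q := Algebra.TensorProduct.map (AlgHom.id A' A') l₀
  let r : A' ⊗[A] R →ₐ[A'] A' ⊗[A] Q := Algebra.TensorProduct.map (AlgHom.id A' A') r₀
  have hlr : ∀ w, d.lTensor A' w = l w - r w := fun w => by
    induction w using TensorProduct.induction_on with
    | zero => simp
    | tmul a c => simp [l, r, hd, TensorProduct.tmul_sub]
    | add p q hp hq => simp only [map_add, hp, hq]; abel
  refine IsReduced.eq_zero _ (mem_nilradical.1 ?_)
  rw [nilradical_eq_sInf, Ideal.mem_sInf]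
  intro P hP
  haveI : P.IsPrime := hP
  let Φ : A' ⊗[A] Q →+* P.ResidueField := algebraMap _ _
  have := hC'.inj P.ResidueField ((Φ.comp l.toRingHom).comp κ.toRingHom) ((Φ.comp r.toRingHom).comp κ.toRingHom)
    (RingHom.ext fun a => congrArg Φ (((l.comp κ).commutes a).trans ((r.comp κ).commutes a).symm))
  refine Ideal.algebraMap_residueField_eq_zero.1 ?_
  show Φ _ = 0
  rw [hlr, map_sub]
  exact sub_eq_zero.2 (RingHom.congr_fun this x)

theorem baseChange_eq (hinj : Function.Injective (algebraMap A B)) {A' : Type u} [CommRing A'] [Algebra A A'] [Module.Flat A A']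
    (hbij : Function.Bijective (TensorProduct.toIntegralClosure A A' B))
    (hred : ∀ (R : Type u) [CommRing R] [Algebra A R] [IsReduced R], IsReduced (A' ⊗[A] R))
    (C : Subalgebra A B) (hC : Uh (algebraMap A C))
    (hmax : ∀ D : Subalgebra A B, Uh (algebraMap A D) → D ≤ C)
    (C' : Subalgebra A' (A' ⊗[A] B)) (hC' : Uh (algebraMap A' C'))
    (hmax' : ∀ D : Subalgebra A' (A' ⊗[A] B), Uh (algebraMap A' D) → D ≤ C') :
    (C' : Set (A' ⊗[A] B)) = Set.range (Algebra.TensorProduct.map (AlgHom.id A A') C.val) := by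
  let m : A' ⊗[A] C →ₐ[A'] A' ⊗[A] B := Algebra.TensorProduct.map (AlgHom.id A' A') C.val
  have hm : ∀ z, m z = Algebra.TensorProduct.map (AlgHom.id A A') C.val z := fun z => by
    induction z using TensorProduct.induction_on with
    | zero => simp
    | tmul a c => simp [m]
    | add p q hp hq => simp only [map_add, hp, hq]
  have hinj' : Function.Injective (algebraMap A' (A' ⊗[A] B)) := fun x y h => by
    have hl := Module.Flat.lTensor_preserves_injective_linearMap (M := A') (Algebra.linearMap A B) hinj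
    have := @hl (x ⊗ₜ[A] (1 : A)) (y ⊗ₜ[A] (1 : A)) (by simpa using h)
    simpa using congrArg (TensorProduct.rid A A') this
  refine subset_antisymm (fun x hx => ?_) ?_
  swap
  · rintro _ ⟨z, rfl⟩
    rw [← hm]
    refine hmax' m.range ?_ ⟨z, rfl⟩
    refine uh_of_surjective (A := A') (D := A' ⊗[A] C) ?_ m.rangeRestrict m.rangeRestrict_surjective fun a b h => hinj' (congrArg Subtype.val h)
    haveI : Algebra.IsIntegral A C := ⟨hC.int⟩
    refine ⟨fun y => Algebra.IsIntegral.isIntegral y, ?_, fun K _ u v e => ?_⟩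
    · refine RingHom.IsIntegral.comap_surjective (fun y => Algebra.IsIntegral.isIntegral y) fun a b h => hinj' ?_
      rw [← m.commutes, ← m.commutes, h]
    · apply Algebra.TensorProduct.ringHom_ext
      · exact e
      · refine hC.inj K _ _ (RingHom.ext fun a => ?_)
        have := RingHom.congr_fun e (algebraMap A A' a)
        simp only [RingHom.comp_apply] at this ⊢
        simpa [Algebra.TensorProduct.algebraMap_apply', ← IsScalarTower.algebraMap_apply] using this
  let R := integralClosure A B
  have hCR : C ≤ R := fun c hc => IsIntegral.map C.val (hC.int ⟨c, hc⟩)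
  have hxint : x ∈ integralClosure A' (A' ⊗[A] B) := IsIntegral.map C'.val (hC'.int ⟨x, hx⟩)
  obtain ⟨z, hz⟩ := hbij.2 ⟨x, hxint⟩
  have hjx : ∀ w, ((TensorProduct.toIntegralClosure A A' B w : integralClosure A' (A' ⊗[A] B)) : A' ⊗[A] B) =
      Algebra.TensorProduct.map (AlgHom.id A A') R.val w := fun w => by
    induction w using TensorProduct.induction_on with
    | zero => simp
    | tmul a c => rfl
    | add p q hp hq => simp only [map_add, ← hp, ← hq]; rfl
  have hCint : C'.toSubring ≤ (integralClosure A' (A' ⊗[A] B)).toSubring := fun c hc => IsIntegral.map C'.val (hC'.int ⟨c, hc⟩)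
  let e := AlgEquiv.ofBijective (TensorProduct.toIntegralClosure A A' B) hbij
  let κ : C' →ₐ[A'] A' ⊗[A] R := e.symm.toAlgHom.comp (Subalgebra.inclusion hCint)
  have hκ : κ ⟨x, hx⟩ = z := e.symm_apply_eq.2 hz.symm
  have hδ : (deltaRed A R).lTensor A' z = 0 := by
    haveI : IsReduced ((R ⊗[A] R) ⧸ nilradical (R ⊗[A] R)) := (Ideal.isRadical_iff_quotient_reduced _).1 (Ideal.radical_isRadical _)
    haveI := hred ((R ⊗[A] R) ⧸ nilradical (R ⊗[A] R))
    rw [← hκ]
    exact lTensor_eq_zero (deltaRed A R) ((Ideal.Quotient.mkₐ A _).comp Algebra.TensorProduct.includeLeft)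
      ((Ideal.Quotient.mkₐ A _).comp Algebra.TensorProduct.includeRight) (fun w => by simp [deltaRed, delta]) hC' κ ⟨x, hx⟩
  have hexact : Function.Exact (Subalgebra.inclusion hCR).toLinearMap (deltaRed A R) := fun r => by
    constructor
    · intro hr
      refine ⟨⟨r, ?_⟩, rfl⟩
      haveI : Algebra.IsIntegral A R := integralClosure.AlgebraIsIntegral
      have hu := uh_adjoin (fun a b h => hinj (congrArg R.val h)) r ((deltaRed_eq_zero r).1 hr)
      let D := Algebra.adjoin A ({r} : Set R)
      refine hmax (D.map R.val) ?_ ⟨r, Algebra.subset_adjoin rfl, rfl⟩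
      exact uh_of_surjective hu (D.equivMapOfInjective R.val Subtype.val_injective).toAlgHom
        (AlgEquiv.surjective _) fun a b h => hinj (congrArg Subtype.val h)
    · rintro ⟨c, rfl⟩
      exact deltaRed_eq_zero_of_uh C hC R hCR _ c.2
  obtain ⟨w, hw⟩ := (Module.Flat.lTensor_exact A' hexact z).1 hδ
  refine ⟨w, ?_⟩
  have hxz : x = Algebra.TensorProduct.map (AlgHom.id A A') R.val z := (congrArg Subtype.val hz).symm.trans (hjx z)
  rw [hxz, ← hw]
  clear hw
  induction w using TensorProduct.induction_on with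
  | zero => simp
  | tmul a c => rfl
  | add p q hp hq => simp only [map_add, hp, hq]

end Groth.Agent.H6.WeakSubint
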