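import Mathlib

set_option autoImplicit false
set_option linter.all false
set_option backward.isDefEq.respectTransparency.types false
universe u v

open WittVector Function

namespace Groth.Agent.H6.WittDisjoint

variable {p : ℕ} [hp : Fact p.Prime] {S : Type u} [CommRing S] [CharP S p]

theorem frobenius_iterate_teichmuller (z : S) (i : ℕ) :
    (frobenius : WittVector p S →+* WittVector p S)^[i] (teichmuller p z) = teichmuller p (z ^ p ^ i) := by
  ext k
  rw [iterate_frobenius_coeff]
  rcases k with _ | k
  · rw [teichmuller_coeff_zero, teichmuller_coeff_zero]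
  · rw [teichmuller_coeff_pos p z _ k.succ_pos, teichmuller_coeff_pos p _ _ k.succ_pos,
      zero_pow (pow_ne_zero _ hp.out.ne_zero)]

theorem coeff_teichmuller_mul (z : S) (x : WittVector p S) (i : ℕ) :
    (teichmuller p z * x).coeff i = z ^ p ^ i * x.coeff i := by
  induction i generalizing z x with
  | zero => simp [mul_coeff_zero]
  | succ i ih =>
    let x' : WittVector p S := x.shift 1
    have hV : ∀ (w : WittVector p S) (k : ℕ), (verschiebung w).coeff (k + 1) = w.coeff k := fun w k =>
      verschiebung_coeff_succ w k
    have hdisj : ∀ (a : S) (w : WittVector p S) (k : ℕ), (teichmuller p a).coeff k = 0 ∨ (verschiebung w).coeff k = 0 := by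
      intro a w k
      rcases k with _ | k
      · exact Or.inr (verschiebung_coeff_zero w)
      · exact Or.inl (teichmuller_coeff_pos p a _ k.succ_pos)
    have hx : x = teichmuller p (x.coeff 0) + verschiebung x' := by
      ext k
      rw [coeff_add_of_disjoint _ _ _ (hdisj _ _)]
      rcases k with _ | k
      · simp
      · rw [teichmuller_coeff_pos p _ _ k.succ_pos, hV, zero_add, shift_coeff, add_comm]
    have e : teichmuller p z * x = teichmuller p (z * x.coeff 0) + verschiebung (teichmuller p (z ^ p) * x') := by
      conv_lhs => rw [hx]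
      rw [mul_add, ← map_mul, mul_comm (teichmuller p z) (verschiebung x'), ← verschiebung_mul_frobenius,
        mul_comm x']
      have := frobenius_iterate_teichmuller (p := p) z 1
      rw [iterate_one, pow_one] at this
      rw [this]
    rw [e, coeff_add_of_disjoint _ _ _ (hdisj _ _), teichmuller_coeff_pos p _ _ i.succ_pos, hV, zero_add, ih,
      shift_coeff, ← pow_mul, ← pow_succ', add_comm 1 i]

variable {κ : Type v}

omit [CharP S p] in
theorem verschiebung_iterate_sum (n : ℕ) (s : Finset κ) (f : κ → WittVector p S) :
    verschiebung^[n] (∑ a ∈ s, f a) = ∑ a ∈ s, verschiebung^[n] (f a) := by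
  induction n with
  | zero => rfl
  | succ n ih => simp only [iterate_succ_apply', ih, map_sum]

theorem sum_disjoint (s : Finset κ) (f : κ → ℕ → S)
    (h : ∀ i, ∀ a ∈ s, ∀ b ∈ s, f a i ≠ 0 → f b i ≠ 0 → a = b) :
    (∑ a ∈ s, WittVector.mk p (f a)) = WittVector.mk p fun i => ∑ a ∈ s, f a i := by
  classical
  induction s using Finset.induction with
  | empty => ext i; simp
  | insert a s ha ih =>
    rw [Finset.sum_insert ha, ih fun i x hx y hy => h i x (Finset.mem_insert_of_mem hx) y (Finset.mem_insert_of_mem hy)]
    ext i
    rw [coeff_add_of_disjoint]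
    · simp [Finset.sum_insert ha]
    · intro k
      by_cases hfa : f a k = 0
      · exact Or.inl hfa
      · refine Or.inr (Finset.sum_eq_zero fun b hb => ?_)
        by_contra hfb
        exact ha (h k a (Finset.mem_insert_self a s) b (Finset.mem_insert_of_mem hb) hfa hfb ▸ hb)

theorem trunc_eq_of_shift (x y : WittVector p S) (i : ℕ) (hx : ∀ j < i, x.coeff j = 0) (hy : ∀ j < i, y.coeff j = 0)
    (h : x.coeff i = y.coeff i) : ∀ j < i + 1, (x - y).coeff j = 0 := by
  intro j hj
  obtain ⟨x', rfl⟩ : ∃ x', verschiebung^[i] x' = x := ⟨_, (eq_iterate_verschiebung hx).symm⟩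
  obtain ⟨y', rfl⟩ : ∃ y', verschiebung^[i] y' = y := ⟨_, (eq_iterate_verschiebung hy).symm⟩
  rw [← iterate_map_sub]
  rcases Nat.lt_succ_iff_lt_or_eq.1 hj with hj | rfl
  · exact iterate_verschiebung_coeff_eq_zero _ hj
  · have := iterate_verschiebung_coeff (x' - y') j 0
    rw [zero_add] at this
    rw [this]
    have h0 : ∀ w : WittVector p S, (verschiebung^[j] w).coeff j = w.coeff 0 := fun w => by
      simpa using iterate_verschiebung_coeff w j 0
    rw [h0, h0] at h
    show constantCoeff (x' - y') = 0
    rw [map_sub]
    exact sub_eq_zero.2 h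

/-- Every Witt vector is a finite sum of vectors with components in the given lines. -/
theorem exists_decomp {A : Type u} [CommRing A] [Algebra A S] (Y : Finset S) (hY : Submodule.span A (Y : Set S) = ⊤)
    (η : WittVector p S) :
    ∃ g : S → ℕ → A, η = ∑ y ∈ Y, WittVector.mk p (fun i => g y i • y) := by
  classical
  have hd : ∀ b : S, ∃ d : S → A, ∑ y ∈ Y, d y • y = b := by
    intro b
    have hb : b ∈ Submodule.span A (Y : Set S) := by rw [hY]; trivial
    obtain ⟨d, -, hd⟩ := Submodule.mem_span_finset.1 hb
    exact ⟨d, hd⟩
  choose d hd using hd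
  let F : (S → ℕ → A) → WittVector p S := fun g => ∑ y ∈ Y, WittVector.mk p (fun i => g y i • y)
  let step : ℕ → (S → ℕ → A) → (S → ℕ → A) := fun i g y => Function.update (g y) i (d ((η - F g).coeff i) y)
  let G : ℕ → S → ℕ → A := fun n => Nat.rec (fun _ _ => 0) step n
  have hG0 : ∀ n y i, n ≤ i → G n y i = 0 := by
    intro n
    induction n with
    | zero => intros; rfl
    | succ n ih =>
      intro y i hi
      show Function.update (G n y) n _ i = 0
      rw [Function.update_of_ne (by omega)]
      exact ih y i (by omega)
  have hGs : ∀ n m y i, i < n → n ≤ m → G m y i = G n y i := by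
    intro n m y i hi hm
    induction m, hm using Nat.le_induction with
    | base => rfl
    | succ m hm ih =>
      show Function.update (G m y) m _ i = _
      rw [Function.update_of_ne (by omega)]
      exact ih
  have hinv : ∀ n, ∀ j < n, (η - F (G n)).coeff j = 0 := by
    intro n
    induction n with
    | zero => intro j hj; omega
    | succ n ih =>
      set c := (η - F (G n)).coeff n with hc
      let δ : S → WittVector p S := fun y => WittVector.mk p (fun i => if i = n then d c y • y else 0)
      have hsplit : F (G (n + 1)) = F (G n) + ∑ y ∈ Y, δ y := by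
        simp only [F, ← Finset.sum_add_distrib]
        refine Finset.sum_congr rfl fun y _ => ?_
        ext i
        rw [coeff_add_of_disjoint]
        · show Function.update (G n y) n (d c y) i • y = G n y i • y + if i = n then d c y • y else 0
          by_cases hin : i = n
          · subst hin; rw [Function.update_self, hG0 i y i le_rfl, zero_smul, zero_add, if_pos rfl]
          · rw [Function.update_of_ne hin, if_neg hin, add_zero]
        · intro k
          by_cases hkn : k = n
          · exact Or.inl (show G n y k • y = 0 by rw [hG0 n y k (by omega), zero_smul])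
          · exact Or.inr (if_neg hkn)
      rw [hsplit, ← sub_sub]
      have hδV : ∀ y ∈ Y, δ y = verschiebung^[n] (teichmuller p (d c y • y)) := by
        intro y _
        ext k
        show (if k = n then d c y • y else 0) = _
        rcases lt_trichotomy k n with hk | rfl | hk
        · rw [if_neg hk.ne, iterate_verschiebung_coeff_eq_zero _ hk]
        · have := iterate_verschiebung_coeff (teichmuller p (d c y • y)) k 0
          rw [zero_add] at this
          rw [if_pos rfl, this, teichmuller_coeff_zero]
        · obtain ⟨r, rfl⟩ : ∃ r, k = r + 1 + n := ⟨k - n - 1, by omega⟩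
          rw [if_neg hk.ne', iterate_verschiebung_coeff, teichmuller_coeff_pos p _ _ r.succ_pos]
      have hsum : (∑ y ∈ Y, δ y) = verschiebung^[n] (∑ y ∈ Y, teichmuller p (d c y • y)) := by
        rw [Finset.sum_congr rfl hδV, verschiebung_iterate_sum]
      rw [hsum]
      refine trunc_eq_of_shift _ _ n ih (fun j hj => iterate_verschiebung_coeff_eq_zero _ hj) ?_
      have := iterate_verschiebung_coeff (∑ y ∈ Y, teichmuller p (d c y • y)) n 0
      rw [zero_add] at this
      rw [← hc, this]
      show c = constantCoeff (∑ y ∈ Y, teichmuller p (d c y • y))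
      rw [map_sum]
      exact (hd c).symm.trans (Finset.sum_congr rfl fun y _ => (teichmuller_coeff_zero p _).symm)
  refine ⟨fun y i => G (i + 1) y i, ?_⟩
  refine WittVector.ext fun i => ?_
  have h1 : WittVector.truncate (i + 1) η = WittVector.truncate (i + 1) (F (G (i + 1))) := by
    rw [← sub_eq_zero, ← map_sub, ← RingHom.mem_ker, mem_ker_truncate]
    exact hinv (i + 1)
  have h2 : WittVector.truncate (i + 1) (F (G (i + 1))) =
      WittVector.truncate (i + 1) (∑ y ∈ Y, WittVector.mk p (fun j => G (j + 1) y j • y)) := by
    simp only [F, map_sum]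
    refine Finset.sum_congr rfl fun y _ => TruncatedWittVector.ext fun k => ?_
    rw [coeff_truncate, coeff_truncate]
    show G (i + 1) y k • y = G ((k : ℕ) + 1) y k • y
    rw [hGs ((k : ℕ) + 1) (i + 1) y k (Nat.lt_succ_self _) k.2]
  have h3 := congrArg (TruncatedWittVector.coeff ⟨i, i.lt_succ_self⟩) (h1.trans h2)
  rwa [coeff_truncate, coeff_truncate] at h3

end Groth.Agent.H6.WittDisjoint
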