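import Mathlib

set_option autoImplicit false
set_option linter.all false
set_option backward.isDefEq.respectTransparency.types false
set_option maxHeartbeats 1000000
universe u v

open TensorProduct

namespace Groth.Agent.H6.WittProj

variable {W : Type u} [CommRing W]

theorem exists_lift (I : Ideal W) {P : Type v} [AddCommGroup P] [Module W P]
    [Module.Projective (W ⧸ I) (P ⧸ I • (⊤ : Submodule W P))]
    {X Y : Type u} [AddCommGroup X] [Module W X] [AddCommGroup Y] [Module W Y]
    (hX : Module.IsTorsionBySet W X I) (hY : Module.IsTorsionBySet W Y I)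
    (g : X →ₗ[W] Y) (hg : Function.Surjective g) (h : P →ₗ[W] Y) : ∃ l : P →ₗ[W] X, g.comp l = h := by
  letI : Module (W ⧸ I) X := Module.IsTorsionBySet.module (R := W) (M := X) hX
  letI : Module (W ⧸ I) Y := Module.IsTorsionBySet.module (R := W) (M := Y) hY
  haveI : IsScalarTower W (W ⧸ I) X := Module.IsTorsionBySet.isScalarTower hX
  haveI : IsScalarTower W (W ⧸ I) Y := Module.IsTorsionBySet.isScalarTower hY
  have hs : Function.Surjective (algebraMap W (W ⧸ I)) := Ideal.Quotient.mk_surjective
  have hle : I • (⊤ : Submodule W P) ≤ LinearMap.ker h := Submodule.smul_le.2 fun r hr x _ => by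
    rw [LinearMap.mem_ker, map_smul]
    exact @hY (h x) ⟨r, hr⟩
  obtain ⟨l, hl⟩ := Module.projective_lifting_property (g.extendScalarsOfSurjective hs)
    (((I • (⊤ : Submodule W P)).liftQ h hle).extendScalarsOfSurjective hs) hg
  exact ⟨(l.restrictScalars W).comp (I • (⊤ : Submodule W P)).mkQ, LinearMap.ext fun x => LinearMap.congr_fun hl _⟩

theorem isTorsionBySet_quot {M : Type v} [AddCommGroup M] [Module W M] {I J : Ideal W} (h : I ≤ J) :
    Module.IsTorsionBySet W (M ⧸ J • (⊤ : Submodule W M)) I := by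
  intro x r
  obtain ⟨x, rfl⟩ := Submodule.Quotient.mk_surjective _ x
  rw [← Submodule.Quotient.mk_smul, Submodule.Quotient.mk_eq_zero]
  exact Submodule.smul_mem_smul (h r.2) Submodule.mem_top

theorem mem_smul_top_pi {m : ℕ} (J : Ideal W) (x : Fin m → W) :
    x ∈ J • (⊤ : Submodule W (Fin m → W)) ↔ ∀ k, x k ∈ J := by
  classical
  constructor
  · intro hx
    refine Submodule.smul_induction_on hx (fun r hr y _ k => J.mul_mem_right _ hr) (fun a b ha hb k => add_mem (ha k) (hb k))
  · intro h
    rw [pi_eq_sum_univ' x]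
    exact Submodule.sum_mem _ fun k _ => Submodule.smul_mem_smul (h k) Submodule.mem_top

theorem main (I : ℕ → Ideal W) (hanti : Antitone I) (h0 : I 0 = ⊤) (hsep : ∀ x, (∀ n, x ∈ I n) → x = 0)
    (hcomp : ∀ x : ℕ → W, (∀ n, x (n + 1) - x n ∈ I n) → ∃ l, ∀ n, l - x n ∈ I n)
    (hnil : ∀ n, ∃ N, I 1 ^ N ≤ I n) (P : Type v) [AddCommGroup P] [Module W P] :
    (Module.Finite W P ∧ Module.Projective W P) ↔
      ((⨅ n : ℕ, (I n • (⊤ : Submodule W P))) = ⊥ ∧
        ∀ n : ℕ, Module.Finite (W ⧸ I n) (P ⧸ I n • (⊤ : Submodule W P)) ∧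
          Module.Projective (W ⧸ I n) (P ⧸ I n • (⊤ : Submodule W P))) := by
  constructor
  · rintro ⟨hfin, hproj⟩
    refine ⟨eq_bot_iff.2 fun x hx => ?_, fun n => ⟨Module.Finite.of_restrictScalars_finite W _ _, ?_⟩⟩
    · obtain ⟨m, f, i, -, -, hfi⟩ := Module.Finite.exists_comp_eq_id_of_projective W P
      have hix : i x = 0 := funext fun k => hsep _ fun n => by
        have : i x ∈ I n • (⊤ : Submodule W (Fin m → W)) := by
          have h1 := Submodule.mem_map_of_mem (f := i) ((Submodule.mem_iInf _).1 hx n)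
          rw [Submodule.map_smul''] at h1
          exact Submodule.smul_mono le_rfl le_top h1
        exact (mem_smul_top_pi _ _).1 this k
      rw [Submodule.mem_bot, ← LinearMap.id_apply (R := W) x, ← hfi, LinearMap.comp_apply, hix, map_zero]
    · have hs : Function.Surjective (algebraMap W (W ⧸ I n)) := Ideal.Quotient.mk_surjective
      exact Module.Projective.of_equiv ((TensorProduct.quotTensorEquivQuotSMul P (I n)).extendScalarsOfSurjective hs)
  · rintro ⟨hsP, hP⟩
    obtain ⟨hfin1, -⟩ := hP 1
    haveI : Module.Finite W (W ⧸ I 1) := inferInstance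
    haveI : Module.Finite W (P ⧸ I 1 • (⊤ : Submodule W P)) := Module.Finite.trans (W ⧸ I 1) _
    obtain ⟨m, q, hq⟩ := Module.Finite.exists_fin' W (P ⧸ I 1 • (⊤ : Submodule W P))
    obtain ⟨f, hf⟩ := Module.projective_lifting_property (I 1 • (⊤ : Submodule W P)).mkQ q (Submodule.mkQ_surjective _)
    have h1 : (⊤ : Submodule W P) ≤ LinearMap.range f ⊔ I 1 • ⊤ := by
      intro x _
      obtain ⟨y, hy⟩ := hq (Submodule.Quotient.mk x)
      rw [← hf] at hy
      exact Submodule.mem_sup.2 ⟨f y, ⟨y, rfl⟩, x - f y, (Submodule.Quotient.eq _).1 hy.symm, add_sub_cancel _ _⟩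
    have hk : ∀ k, (⊤ : Submodule W P) ≤ LinearMap.range f ⊔ I 1 ^ k • ⊤ := by
      intro k
      induction k with
      | zero => simp
      | succ k ih =>
        refine ih.trans (sup_le le_sup_left ((Submodule.smul_mono le_rfl h1).trans ?_))
        rw [Submodule.smul_sup, ← Submodule.smul_assoc, smul_eq_mul, ← pow_succ]
        exact sup_le_sup_right Submodule.smul_le_right _
    have hsur : ∀ n, ∀ x : P, ∃ y, x - f y ∈ I n • (⊤ : Submodule W P) := by
      intro n x
      obtain ⟨N, hN⟩ := hnil n
      obtain ⟨_, ⟨y, rfl⟩, z, hz, rfl⟩ := Submodule.mem_sup.1 (hk N (Submodule.mem_top (x := x)))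
      exact ⟨y, by rw [add_sub_cancel_left]; exact Submodule.smul_mono hN le_rfl hz⟩
    let fb : ∀ n, ((Fin m → W) ⧸ I n • (⊤ : Submodule W (Fin m → W))) →ₗ[W] P ⧸ I n • (⊤ : Submodule W P) := fun n =>
      Submodule.mapQ _ _ f (Submodule.smul_le.2 fun r hr x _ => by
        rw [Submodule.mem_comap]
        rw [map_smul]; exact Submodule.smul_mem_smul hr Submodule.mem_top)
    have hmono : ∀ {a b}, a ≤ b → I b • (⊤ : Submodule W (Fin m → W)) ≤ I a • ⊤ := fun h =>
      Submodule.smul_mono (hanti h) le_rfl
    let red : ∀ n, ((Fin m → W) ⧸ I (n + 1) • (⊤ : Submodule W (Fin m → W))) →ₗ[W] (Fin m → W) ⧸ I n • (⊤ : Submodule W (Fin m → W)) :=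
      fun n => Submodule.factor (hmono n.le_succ)
    have step : ∀ n, ∀ σ : P →ₗ[W] (Fin m → W) ⧸ I n • (⊤ : Submodule W (Fin m → W)),
        (fb n).comp σ = (I n • (⊤ : Submodule W P)).mkQ →
        ∃ σ' : P →ₗ[W] (Fin m → W) ⧸ I (n + 1) • (⊤ : Submodule W (Fin m → W)),
          (fb (n + 1)).comp σ' = (I (n + 1) • (⊤ : Submodule W P)).mkQ ∧ (red n).comp σ' = σ := by
      intro n σ hσ
      haveI := (hP (n + 1)).2
      have hfs : Function.Surjective (fb (n + 1)) := fun z => by
        obtain ⟨x, rfl⟩ := Submodule.Quotient.mk_surjective _ z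
        obtain ⟨y, hy⟩ := hsur (n + 1) x
        exact ⟨Submodule.Quotient.mk y, ((Submodule.Quotient.eq _).2 hy).symm⟩
      -- work in universe of P is irrelevant: lift in two steps
      let X := LinearMap.ker (fb (n + 1))
      let Y := LinearMap.ker (fb n)
      let e := fb (n + 1)
      obtain ⟨t, ht⟩ : ∃ t : P →ₗ[W] (Fin m → W) ⧸ I (n + 1) • (⊤ : Submodule W (Fin m → W)),
          e.comp t = (I (n + 1) • (⊤ : Submodule W P)).mkQ := by
        have hs : Function.Surjective (algebraMap W (W ⧸ I (n + 1))) := Ideal.Quotient.mk_surjective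
        obtain ⟨l, hl⟩ := Module.projective_lifting_property (e.extendScalarsOfSurjective hs) (LinearMap.id) hfs
        exact ⟨(l.restrictScalars W).comp (Submodule.mkQ _), LinearMap.ext fun x => LinearMap.congr_fun hl _⟩
      have hcompat : ∀ w, fb n (red n w) = Submodule.factor (Submodule.smul_mono (hanti n.le_succ) le_rfl) (fb (n + 1) w) := by
        intro w
        obtain ⟨y, rfl⟩ := Submodule.Quotient.mk_surjective _ w
        rfl
      have hd : ∀ x, σ x - red n (t x) ∈ Y := fun x => by
        rw [LinearMap.mem_ker, map_sub, hcompat]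
        have e1 := LinearMap.congr_fun hσ x
        have e2 := LinearMap.congr_fun ht x
        rw [LinearMap.comp_apply] at e1 e2
        rw [e1, e2]
        exact sub_self _
      let d : P →ₗ[W] Y := (σ - (red n).comp t).codRestrict Y hd
      let g : X →ₗ[W] Y := ((red n).comp X.subtype).codRestrict Y fun w => by
        rw [LinearMap.mem_ker]
        show fb n (red n w.1) = 0
        rw [hcompat, LinearMap.mem_ker.1 w.2, map_zero]
      have hg : Function.Surjective g := by
        rintro ⟨w, hw⟩
        obtain ⟨y, rfl⟩ := Submodule.Quotient.mk_surjective _ w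
        have hy : f y ∈ I n • (⊤ : Submodule W P) := (Submodule.Quotient.mk_eq_zero _).1 (LinearMap.mem_ker.1 hw)
        have hle : I n • (⊤ : Submodule W P) ≤ (I n • (⊤ : Submodule W (Fin m → W))).map f ⊔ I (n + 1) • ⊤ := by
          rw [Submodule.map_smul'', Submodule.map_top]
          refine Submodule.smul_le.2 fun r hr x _ => ?_
          obtain ⟨y, hy⟩ := hsur (n + 1) x
          rw [show r • x = r • f y + r • (x - f y) by rw [← smul_add, add_sub_cancel]]
          exact Submodule.add_mem_sup (Submodule.smul_mem_smul hr ⟨y, rfl⟩) (Submodule.smul_mem _ r hy)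
        obtain ⟨_, ⟨z, hz, rfl⟩, u, hu, hzu⟩ := Submodule.mem_sup.1 (hle hy)
        refine ⟨⟨Submodule.Quotient.mk (y - z), LinearMap.mem_ker.2 ((Submodule.Quotient.mk_eq_zero _).2 ?_)⟩, Subtype.ext ?_⟩
        · rw [map_sub, ← hzu, add_sub_cancel_left]; exact hu
        · show Submodule.Quotient.mk (y - z) = _
          rw [Submodule.Quotient.eq]
          simpa using neg_mem hz
      have hX : Module.IsTorsionBySet W X (I (n + 1)) := fun w r => Subtype.ext (@isTorsionBySet_quot W _ (Fin m → W) _ _ _ _ le_rfl w.1 r)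
      have hY : Module.IsTorsionBySet W Y (I (n + 1)) := fun w r => Subtype.ext (@isTorsionBySet_quot W _ (Fin m → W) _ _ _ _ (hanti n.le_succ) w.1 r)
      obtain ⟨l, hl⟩ := exists_lift (I (n + 1)) hX hY g hg d
      refine ⟨t + X.subtype.comp l, LinearMap.ext fun x => ?_, LinearMap.ext fun x => ?_⟩
      · show fb (n + 1) (t x + (l x).1) = _
        rw [map_add, LinearMap.mem_ker.1 (l x).2, add_zero]
        exact LinearMap.congr_fun ht x
      · show red n (t x + (l x).1) = _
        have := congrArg Subtype.val (LinearMap.congr_fun hl x)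
        change red n (l x).1 = σ x - red n (t x) at this
        rw [map_add, this, add_sub_cancel]
    have hbase : (fb 0).comp (0 : P →ₗ[W] (Fin m → W) ⧸ I 0 • (⊤ : Submodule W (Fin m → W))) = (I 0 • (⊤ : Submodule W P)).mkQ := by
      refine LinearMap.ext fun x => ?_
      rw [LinearMap.comp_zero, LinearMap.zero_apply]
      exact ((Submodule.Quotient.mk_eq_zero _).2 (by rw [h0, Submodule.top_smul]; trivial)).symm
    choose next hn1 hn2 using step
    let σ : ∀ n, {σ : P →ₗ[W] (Fin m → W) ⧸ I n • (⊤ : Submodule W (Fin m → W)) // (fb n).comp σ = (I n • (⊤ : Submodule W P)).mkQ} :=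
      fun n => Nat.rec ⟨0, hbase⟩ (fun n s => ⟨next n s.1 s.2, hn1 n s.1 s.2⟩) n
    have hσ : ∀ n x, red n ((σ (n + 1)).1 x) = (σ n).1 x := fun n x => LinearMap.congr_fun (hn2 n (σ n).1 (σ n).2) x
    have huniq : ∀ a b : Fin m → W, (∀ n, (Submodule.Quotient.mk a : (Fin m → W) ⧸ I n • (⊤ : Submodule W (Fin m → W))) = Submodule.Quotient.mk b) → a = b :=
      fun a b h => funext fun k => sub_eq_zero.1 (hsep _ fun n => (mem_smul_top_pi _ _).1 ((Submodule.Quotient.eq _).1 (h n)) k)
    have hex : ∀ x, ∃ l : Fin m → W, ∀ n, Submodule.Quotient.mk l = (σ n).1 x := by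
      intro x
      choose y hy using fun n => Submodule.Quotient.mk_surjective _ ((σ n).1 x)
      have hc : ∀ k n, y (n + 1) k - y n k ∈ I n := fun k n => by
        have h := hσ n x
        rw [← hy, ← hy] at h
        exact (mem_smul_top_pi _ _).1 ((Submodule.Quotient.eq _).1 h) k
      choose l hl using fun k => hcomp (fun n => y n k) (hc k)
      exact ⟨l, fun n => by rw [← hy]; exact (Submodule.Quotient.eq _).2 ((mem_smul_top_pi _ _).2 fun k => hl k n)⟩
    choose S hS using hex
    let s : P →ₗ[W] (Fin m → W) :=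
      { toFun := S
        map_add' := fun a b => huniq _ _ fun n => by rw [Submodule.Quotient.mk_add, hS, hS, hS, map_add]
        map_smul' := fun r a => huniq _ _ fun n => by rw [RingHom.id_apply, Submodule.Quotient.mk_smul, hS, hS, map_smul] }
    have hfs : f.comp s = LinearMap.id := LinearMap.ext fun x => by
      refine sub_eq_zero.1 ((Submodule.mem_bot W).1 (hsP ▸ (Submodule.mem_iInf _).2 fun n => ?_))
      rw [← Submodule.Quotient.eq]
      have h := LinearMap.congr_fun (σ n).2 x
      rw [LinearMap.comp_apply, ← hS x n] at h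
      exact h
    exact ⟨Module.Finite.of_surjective f fun x => ⟨s x, LinearMap.congr_fun hfs x⟩, Module.Projective.of_split s f hfs⟩

theorem witt_hnil (p : ℕ) [Fact p.Prime] (R : Type u) [CommRing R] (hp : IsNilpotent (p : R)) (n : ℕ) :
    ∃ N, RingHom.ker (WittVector.truncate (p := p) (R := R) 1) ^ N ≤ RingHom.ker (WittVector.truncate (p := p) (R := R) n) := by
  obtain ⟨t, ht⟩ := hp
  have hA : ∀ n (x : WittVector p R), ∀ i < n, ((p : WittVector p R) ^ (t * n) * x).coeff i = 0 := by
    intro n
    induction n with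
    | zero => intro x i hi; omega
    | succ n ih =>
      intro x i hi
      have hy := WittVector.eq_iterate_verschiebung (ih x)
      generalize WittVector.shift ((p : WittVector p R) ^ (t * n) * x) n = y at hy
      have he : (p : WittVector p R) ^ (t * (n + 1)) * x = (⇑WittVector.verschiebung)^[n] ((p ^ t) • y) := by
        rw [iterate_map_nsmul, ← hy, nsmul_eq_mul, Nat.cast_pow, Nat.mul_succ, pow_add]
        ring
      rw [he]
      rcases Nat.lt_succ_iff_lt_or_eq.1 hi with h | h
      · exact WittVector.iterate_verschiebung_coeff_eq_zero _ h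
      · subst h
        have h0 := WittVector.iterate_verschiebung_coeff ((p ^ t) • y) i 0
        rw [zero_add] at h0
        rw [h0]
        show WittVector.constantCoeff ((p ^ t) • y) = 0
        rw [map_nsmul, nsmul_eq_mul, Nat.cast_pow, ht, zero_mul]
  set J := RingHom.ker (WittVector.truncate (p := p) (R := R) 1) with hJ
  have hV : ∀ x ∈ J, ∃ z, x = WittVector.verschiebung z := fun x hx => by
    refine ⟨x.shift 1, ?_⟩
    simpa using WittVector.eq_iterate_verschiebung (x := x) (n := 1) ((WittVector.mem_ker_truncate 1 x).1 hx)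
  have hJJ : J * J ≤ Ideal.span {(p : WittVector p R)} * J := Ideal.mul_le.2 fun a ha b hb => by
    obtain ⟨a, rfl⟩ := hV a ha
    obtain ⟨b, rfl⟩ := hV b hb
    rw [← WittVector.verschiebung_mul_frobenius, WittVector.frobenius_verschiebung, ← mul_assoc,
      mul_comm _ (p : WittVector p R), ← nsmul_eq_mul, map_nsmul, nsmul_eq_mul]
    refine Ideal.mul_mem_mul (Ideal.mem_span_singleton_self _) ?_
    rw [hJ, WittVector.mem_ker_truncate]
    intro i hi
    obtain rfl : i = 0 := by omega
    exact WittVector.verschiebung_coeff_zero _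
  have hpow : ∀ k, J ^ (k + 1) ≤ Ideal.span {(p : WittVector p R)} ^ k * J := by
    intro k
    induction k with
    | zero => simp
    | succ k ih =>
      calc J ^ (k + 1 + 1) = J ^ (k + 1) * J := pow_succ _ _
        _ ≤ Ideal.span {(p : WittVector p R)} ^ k * J * J := Ideal.mul_mono_left ih
        _ ≤ Ideal.span {(p : WittVector p R)} ^ k * (Ideal.span {(p : WittVector p R)} * J) := by
            rw [mul_assoc]; exact Ideal.mul_mono_right hJJ
        _ = _ := by rw [← mul_assoc, pow_succ]
  refine ⟨t * n + 1, (hpow _).trans (Ideal.mul_le_left.trans fun x hx => ?_)⟩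
  rw [Ideal.span_singleton_pow, Ideal.mem_span_singleton'] at hx
  obtain ⟨z, rfl⟩ := hx
  rw [WittVector.mem_ker_truncate, mul_comm z]
  exact hA n z

end Groth.Agent.H6.WittProj
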