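import Mathlib
import Groth.Prelude.Def_ZClos
import Groth.Agent.Lib.H6.ZApps
import Groth.Agent.Lib.H7Coprod
import Groth.Agent.Lib.H7PerfPull
import Groth.Agent.Lib.LQcqs

set_option autoImplicit false
set_option linter.all false
set_option maxHeartbeats 800000
set_option backward.isDefEq.respectTransparency.types false

/-! The Z-closure is left exact and preserves quasi-coherence. -/

universe u

open CategoryTheory CategoryTheory.Limits AlgebraicGeometry TopologicalSpace Opposite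

namespace Groth.Agent.H6.ZExact

open ZBasic ZApps

variable {X : Scheme.{u}} [IsLocallyNoetherian X] {Z : Set X}

omit [IsLocallyNoetherian X] in
theorem preservesFiniteLimits_H0 : PreservesFiniteLimits (ZClos.H0 Z) := by
  haveI : ∀ T : ZClos.Cl Z, PreservesFiniteLimits (ZClos.diagram Z ⋙ (evaluation (ZClos.Cl Z) X.Modules).obj T) := fun T => by
    haveI : PreservesFiniteLimits (Scheme.Modules.restrictFunctor T.U.ι) := inferInstance
    exact inferInstanceAs (PreservesFiniteLimits (ZClos.resPush T.U))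
  haveI : PreservesFiniteLimits (ZClos.diagram Z) :=
    ⟨fun J _ _ => preservesLimitsOfShape_of_evaluation (ZClos.diagram Z) J fun T => inferInstance⟩
  haveI : PreservesFiniteLimits (colim (J := ZClos.Cl Z) (C := X.Modules)) := by
    haveI : HasExactColimitsOfShape (ZClos.Cl Z) X.Modules := inferInstance
    infer_instance
  exact comp_preservesFiniteLimits (ZClos.diagram Z) colim

theorem mk_smul (F : X.Modules) (T : ZClos.Cl Z) (V : X.Opens) (r : Γ(X, V)) (s : F.presheaf.obj (op (P Z T V))) :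
    mk F T V (LQcoh.resO (P_le T V) r • (s : Γ(F, P Z T V))) = r • (mk F T V s : Γ((ZClos.H0 Z).obj F, V)) :=
  Eq.trans (congrArg (mk F T V) (by
    have h : (LQcoh.resO (P_le T V)) r = ((T.U.ι.appIso (T.U.ι ⁻¹ᵁ V)).inv.hom ((T.U.ι.app V).hom r) : Γ(X, P Z T V)) := by
      rw [← CommRingCat.comp_apply, Scheme.Hom.app_eq_appLE, Scheme.Opens.ι_appLE, Scheme.Opens.ι_appIso]
      rfl
    exact congrArg (fun a : Γ(X, P Z T V) => a • (s : Γ(F, P Z T V))) h)) 
  (Scheme.Modules.Hom.app_smul (colimit.ι ((ZClos.diagram Z).obj F) T : (ZClos.resPush T.U).obj F ⟶ (ZClos.H0 Z).obj F) r s)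

theorem isQuasicoherent_H0 (F : X.Modules) [F.IsQuasicoherent] : ((ZClos.H0 Z).obj F).IsQuasicoherent := by
  refine LQcoh.isQuasicoherent_of_forall_locAt _ fun V hV g => ?_
  have hVc := hV.isCompact
  have hW : ∀ T : ZClos.Cl Z, LQcoh.LocAt F (P Z T V) := fun T =>
    LQcoh.locAt_of_qcqs F (compact_P T hVc) fun A B _ _ hA hB =>
      isCompact_of_subset hVc (show ((A ⊓ B : X.Opens) : Set X) ⊆ V from fun y hy => P_le T V (hA hy.1))
  have hD : ∀ T : ZClos.Cl Z, X.basicOpen (LQcoh.resO (P_le T V) g) = P Z T V ⊓ X.basicOpen g := fun T =>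
    Scheme.basicOpen_res X g (homOfLE (P_le T V)).op
  have hDle : X.basicOpen g ≤ V := X.basicOpen_le g
  have hDc : IsCompact ((X.basicOpen g : X.Opens) : Set X) := isCompact_of_subset hVc hDle
  refine ⟨fun c => ?_, fun y hy => ?_⟩
  · obtain ⟨T, s, rfl⟩ := exists_mk F hDc c
    have h1 : X.basicOpen (LQcoh.resO (P_le T V) g) ≤ P Z T (X.basicOpen g) := by
      rw [hD]; exact fun y hy => mem_P.2 ⟨(mem_P.1 hy.1).1, hy.2⟩
    have h2 : P Z T (X.basicOpen g) ≤ X.basicOpen (LQcoh.resO (P_le T V) g) := by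
      rw [hD]; exact fun y hy => ⟨P_mono le_rfl hDle hy, (mem_P.1 hy).2⟩
    obtain ⟨N, y, hy⟩ := (hW T (LQcoh.resO (P_le T V) g)).1 (ZBasic.res F h1 s)
    refine ⟨N, mk F T V y, ?_⟩
    show ZBasic.res ((ZClos.H0 Z).obj F) hDle (mk F T V y) = _
    rw [mk_res, ← mk_smul]
    congr 1
    have h3 := congrArg (ZBasic.res F h2) hy
    have h4 : ZBasic.res F h2 (ZBasic.res F (LQcoh.basicOpen_le_open (LQcoh.resO (P_le T V) g)) y) =
        ZBasic.res F (P_mono le_rfl hDle) y := ZBasic.res_res F h2 _ y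
    refine h4.symm.trans (h3.trans ?_)
    refine (LQcoh.res_smul F h2 _ _).trans ?_
    congr 1
    · rw [← map_pow, LQcoh.resO_resO, LQcoh.resO_resO, LQcoh.resO_resO]
    · exact (ZBasic.res_res F h2 h1 s).trans (ZBasic.res_self F le_rfl s)
  · obtain ⟨T, s, rfl⟩ := exists_mk F hVc y
    have hy' : mk F T (X.basicOpen g) (ZBasic.res F (P_mono le_rfl hDle) s) = 0 := (mk_res F hDle s).symm.trans hy
    obtain ⟨T', hT, h'⟩ := exists_of_mk_eq_zero F hDc hy'
    have h1 : X.basicOpen (LQcoh.resO (P_le T' V) g) ≤ P Z T' (X.basicOpen g) := by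
      rw [hD]; exact fun y hy => mem_P.2 ⟨(mem_P.1 hy.1).1, hy.2⟩
    have h0 : LQcoh.res F (LQcoh.basicOpen_le_open (LQcoh.resO (P_le T' V) g)) (ZBasic.res F (P_mono hT le_rfl) s) = 0 := by
      show ZBasic.res F _ (ZBasic.res F (P_mono hT le_rfl) s) = 0
      rw [ZBasic.res_res]
      have h3 := congrArg (ZBasic.res F h1) h'
      rw [map_zero, ZBasic.res_res, ZBasic.res_res] at h3
      exact h3
    obtain ⟨N, hN⟩ := (hW T' (LQcoh.resO (P_le T' V) g)).2 _ h0
    refine ⟨N, ?_⟩
    rw [← mk_trans F hT s, ← mk_smul]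
    refine (congrArg (mk F T' V) ?_).trans (map_zero _)
    exact (congrArg (fun a => a • ((ZBasic.res F (P_mono hT le_rfl) s : Γ(F, P Z T' V)))) (map_pow (X.presheaf.map (homOfLE (P_le T' V)).op).hom g N)).trans hN

end Groth.Agent.H6.ZExact
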