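import Mathlib
import Groth.Prelude.Def_ZClos
import Groth.Prelude.Def_CAlg
import Groth.Prelude.Def_FDesc
import Groth.Agent.Lib.H6.ZS2
import Groth.Agent.Lib.H6.ZExact
import Groth.Agent.Lib.LCoh

set_option autoImplicit false
set_option linter.all false
set_option maxHeartbeats 1000000
set_option backward.isDefEq.respectTransparency.types false

/-! `i_*(F|X∖T)` is quasi-coherent and injects into `H⁰`. -/

universe u

open CategoryTheory CategoryTheory.Limits AlgebraicGeometry TopologicalSpace Opposite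

namespace Groth.Agent.H6.ZPush

open ZBasic ZStalk ZApps

variable {X : Scheme.{u}} [IsLocallyNoetherian X] {Z : Set X} (F : X.Modules) [F.IsQuasicoherent]

omit [F.IsQuasicoherent] in
theorem resPush_smul (T : ZClos.Cl Z) (V : X.Opens) (r : Γ(X, V)) (s : F.presheaf.obj (op (P Z T V))) :
    (r • @id Γ((ZClos.resPush T.U).obj F, V) s : Γ((ZClos.resPush T.U).obj F, V)) =
      (LQcoh.resO (P_le T V) r • (s : Γ(F, P Z T V)) : Γ(F, P Z T V)) := by
  have h : (LQcoh.resO (P_le T V)) r = ((T.U.ι.appIso (T.U.ι ⁻¹ᵁ V)).inv.hom ((T.U.ι.app V).hom r) : Γ(X, P Z T V)) := by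
    rw [← CommRingCat.comp_apply, Scheme.Hom.app_eq_appLE, Scheme.Opens.ι_appLE, Scheme.Opens.ι_appIso]
    rfl
  rw [h]
  rfl

theorem isQuasicoherent_resPush (T : ZClos.Cl Z) : ((ZClos.resPush T.U).obj F).IsQuasicoherent := by
  refine LQcoh.isQuasicoherent_of_forall_locAt _ fun V hV g => ?_
  have hVc := hV.isCompact
  have hW : LQcoh.LocAt F (P Z T V) :=
    LQcoh.locAt_of_qcqs F (compact_P T hVc) fun A B _ _ hA hB =>
      isCompact_of_subset hVc (show ((A ⊓ B : X.Opens) : Set X) ⊆ V from fun y hy => P_le T V (hA hy.1))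
  have hD : X.basicOpen (LQcoh.resO (P_le T V) g) = P Z T V ⊓ X.basicOpen g :=
    Scheme.basicOpen_res X g (homOfLE (P_le T V)).op
  have hDle : X.basicOpen g ≤ V := X.basicOpen_le g
  have h1 : X.basicOpen (LQcoh.resO (P_le T V) g) ≤ P Z T (X.basicOpen g) := by
    rw [hD]; exact fun y hy => mem_P.2 ⟨(mem_P.1 hy.1).1, hy.2⟩
  have h2 : P Z T (X.basicOpen g) ≤ X.basicOpen (LQcoh.resO (P_le T V) g) := by
    rw [hD]; exact fun y hy => ⟨P_mono le_rfl hDle hy, (mem_P.1 hy).2⟩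
  refine ⟨fun c => ?_, fun y hy => ?_⟩
  · obtain ⟨N, y, hy⟩ := (hW (LQcoh.resO (P_le T V) g)).1 (ZBasic.res F h1 c)
    refine ⟨N, y, ?_⟩
    refine Eq.trans ?_ (resPush_smul F T _ _ c).symm
    show ZBasic.res F (P_mono le_rfl hDle) y = _
    have h3 := congrArg (ZBasic.res F h2) hy
    have h4 : ZBasic.res F h2 (ZBasic.res F (LQcoh.basicOpen_le_open (LQcoh.resO (P_le T V) g)) y) =
        ZBasic.res F (P_mono le_rfl hDle) y := ZBasic.res_res F h2 _ y
    refine h4.symm.trans (h3.trans ?_)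
    refine (LQcoh.res_smul F h2 _ _).trans ?_
    congr 1
    · rw [← map_pow, LQcoh.resO_resO, LQcoh.resO_resO, LQcoh.resO_resO]
    · exact (ZBasic.res_res F h2 h1 _).trans (ZBasic.res_self F le_rfl _)
  · have hy' : ZBasic.res F (P_mono le_rfl hDle) (@id (F.presheaf.obj (op (P Z T V))) y) = 0 := hy
    have h0 : LQcoh.res F (LQcoh.basicOpen_le_open (LQcoh.resO (P_le T V) g)) (@id (F.presheaf.obj (op (P Z T V))) y) = 0 := by
      show ZBasic.res F _ (@id (F.presheaf.obj (op (P Z T V))) y) = 0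
      rw [← ZBasic.res_res F h1 (P_mono le_rfl hDle) (@id (F.presheaf.obj (op (P Z T V))) y), hy', map_zero]
    obtain ⟨N, hN⟩ := (hW (LQcoh.resO (P_le T V) g)).2 _ h0
    refine ⟨N, ?_⟩
    refine (resPush_smul F T V _ y).trans ?_
    exact (congrArg (fun a => a • @id Γ(F, P Z T V) y) (map_pow (X.presheaf.map (homOfLE (P_le T V)).op).hom g N)).trans hN

theorem mono_ι [SheafOfModules.IsFiniteType (R := X.ringCatSheaf) F] (hass : ∀ x ∈ AssSch.Ass F, x ∉ Z) (T : ZClos.Cl Z) :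
    Mono (colimit.ι ((ZClos.diagram Z).obj F) T : (ZClos.resPush T.U).obj F ⟶ (ZClos.H0 Z).obj F) := by
  refine mono_of_compact _ fun V hV => ?_
  show Function.Injective (mk F T V)
  rw [injective_iff_map_eq_zero]
  intro s hs
  obtain ⟨T', hT, h0⟩ := exists_of_mk_eq_zero F hV hs
  refine ZPoint.eq_zero_of_germs F s fun z hz => ?_
  show gM F hz s = 0
  obtain ⟨W, hW, hzW, hWP⟩ := exists_isAffineOpen_mem_and_subset (X := X) (x := z) (U := P Z T V) hz
  haveI : IsNoetherianRing Γ(X, W) := IsLocallyNoetherian.component_noetherian ⟨W, hW⟩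
  have hle : W ≤ P Z T V := hWP
  rw [← gM_res F hle hzW s]
  by_contra hne
  obtain ⟨q, hq, -, hq'⟩ := exists_ass_le hW hzW hne
  obtain ⟨x', hx', rfl⟩ := exists_point hW q hq.isPrime
  have hx'a : x' ∈ AssSch.Ass F := by_contra fun h =>
    (ZDepth.one_le_depth_iff_ass hW hx').1 (ZS2.one_le_depth_of_not_ass F h) hq
  have hx'P : x' ∈ P Z T' V := mem_P.2 ⟨not_mem_Z (hass x' hx'a), (mem_P.1 (hle hx')).2⟩
  have h1 : gM F hx' (res F hle s) = 0 := by
    rw [gM_res, ← gM_res F (P_mono hT le_rfl) hx'P s, h0, map_zero]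
  obtain ⟨v, hv, hv0⟩ := (gM_eq_zero_iff hW hx' _).1 h1
  exact hv (hq' v hv0)

end Groth.Agent.H6.ZPush
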