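import Groth.Agent.Lib.H6.ValDense
import Groth.Agent.Lib.H6.DVRDom2
import Mathlib.Order.Filter.Ultrafilter.Basic

set_option linter.all false
set_option autoImplicit false
set_option backward.isDefEq.respectTransparency.types false

/-! Valuative conditions at a prime spread out to a basic neighbourhood. -/

namespace Groth.Agent.H6.ZRCompact

universe u

open IsLocalRing

variable {A K : Type u} [CommRing A] [Field K] [Algebra A K] {ι : Type u} (S : ι → Set K)

theorem inv_mem_nonunits {R : ValuationSubring K} {b : K} (hb : b ∉ R) : b⁻¹ ∈ R.nonunits := by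
  have hb0 : b ≠ 0 := fun h => hb (h ▸ R.zero_mem)
  have hi : b⁻¹ ∈ R := (R.mem_or_inv_mem b).resolve_left hb
  refine ValuationSubring.mem_nonunits_iff_exists_mem_maximalIdeal.2 ⟨hi, (mem_maximalIdeal _).2 fun hu => hb ?_⟩
  obtain ⟨v, hv⟩ := hu
  have h1 : ((↑v⁻¹ : R) : K) * b⁻¹ = 1 := by
    rw [show b⁻¹ = ((↑v : R) : K) by rw [hv], ← MulMemClass.coe_mul, Units.inv_mul]; rfl
  have h2 : ((↑v⁻¹ : R) : K) = b := by rw [← inv_inv b]; exact eq_inv_of_mul_eq_one_left h1
  rw [← h2]
  exact (↑v⁻¹ : R).2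

theorem not_mem_of_inv_mem_nonunits {R : ValuationSubring K} {b : K} (hb0 : b ≠ 0) (hb : b⁻¹ ∈ R.nonunits) : b ∉ R := by
  intro h
  obtain ⟨hi, hm⟩ := ValuationSubring.mem_nonunits_iff_exists_mem_maximalIdeal.1 hb
  exact (mem_maximalIdeal _).1 hm (IsUnit.of_mul_eq_one (⟨b, h⟩ : R) (Subtype.ext (inv_mul_cancel₀ hb0)))

/-- a valuation ring with a given centre can be replaced by a discrete one -/
theorem exists_dvr_bad [IsNoetherianRing A] [Algebra.EssFiniteType A K] [Nonempty ι] [Finite ι] (R : ValuationSubring K)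
    (hA : ∀ a : A, algebraMap A K a ∈ R) (hbad : ∀ i, ¬ S i ⊆ R) :
    ∃ V : ValuationSubring K, IsDiscreteValuationRing V ∧ (∀ a : A, algebraMap A K a ∈ V) ∧
      (∀ a : A, algebraMap A K a ∈ V.nonunits ↔ algebraMap A K a ∈ R.nonunits) ∧ ∀ i, ¬ S i ⊆ V := by
  classical
  choose b hbS hbR using fun i => Set.not_subset.1 (hbad i)
  let T := Algebra.adjoin A (Set.range fun i => (b i)⁻¹)
  haveI : Algebra.FiniteType A T := (Subalgebra.fg_iff_finiteType T).1 (Subalgebra.fg_def.2 ⟨_, Set.finite_range _, rfl⟩)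
  haveI : IsNoetherianRing T := Algebra.FiniteType.isNoetherianRing A T
  have hTR : ∀ t ∈ T, t ∈ R := fun t ht => by
    induction ht using Algebra.adjoin_induction with
    | mem y hy =>
      obtain ⟨i, rfl⟩ := hy
      exact (R.mem_or_inv_mem _).resolve_left (hbR i)
    | algebraMap r => exact hA r
    | add y y' _ _ e e' => exact add_mem e e'
    | mul y y' _ _ e e' => exact mul_mem e e'
  let j : T →+* R := T.val.toRingHom.codRestrict R.toSubring fun t => hTR t t.2
  let P : Ideal T := (maximalIdeal R).comap j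
  haveI : P.IsPrime := Ideal.comap_isPrime _ _
  have hPmem : ∀ t : T, t ∈ P ↔ (t : K) ∈ R.nonunits := fun t => by
    constructor
    · exact fun h => ValuationSubring.mem_nonunits_iff_exists_mem_maximalIdeal.2 ⟨hTR t t.2, h⟩
    · intro h
      obtain ⟨hi, hm⟩ := ValuationSubring.mem_nonunits_iff_exists_mem_maximalIdeal.1 h
      exact hm
  let TP := Localization.AtPrime P
  letI : Algebra TP K := (IsLocalization.lift (M := P.primeCompl) (g := algebraMap T K) (fun y => by
    rw [isUnit_iff_ne_zero]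
    exact fun h => y.2 (by rw [show (y : T) = 0 from Subtype.ext h]; exact zero_mem _))).toAlgebra
  haveI : IsScalarTower T TP K := IsScalarTower.of_algebraMap_eq fun s => (IsLocalization.lift_eq _ s).symm
  have hTPinj : Function.Injective (algebraMap TP K) := by
    rw [injective_iff_map_eq_zero]
    intro z hz
    obtain ⟨t, s, rfl⟩ := IsLocalization.exists_mk'_eq P.primeCompl z
    have h1 := congrArg (algebraMap TP K) (IsLocalization.mk'_spec TP t s)
    rw [map_mul, hz, zero_mul, ← IsScalarTower.algebraMap_apply] at h1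
    rw [show t = 0 from Subtype.ext h1.symm]
    exact IsLocalization.mk'_zero _
  haveI : FaithfulSMul TP K := (faithfulSMul_iff_algebraMap_injective TP K).2 hTPinj
  let F := FractionRing TP
  letI : Algebra F K := FractionRing.liftAlgebra TP K
  haveI : IsScalarTower TP F K := FractionRing.isScalarTower_liftAlgebra TP K
  haveI : Algebra.EssFiniteType T K := Algebra.EssFiniteType.of_comp A T K
  haveI : Algebra.EssFiniteType TP K := Algebra.EssFiniteType.of_comp T TP K
  haveI : Algebra.EssFiniteType F K := Algebra.EssFiniteType.of_comp TP F K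
  let i₀ : ι := Classical.arbitrary ι
  have hb0 : ∀ i, b i ≠ 0 := fun i h => hbR i (h ▸ R.zero_mem)
  let w : ι → T := fun i => ⟨(b i)⁻¹, Algebra.subset_adjoin ⟨i, rfl⟩⟩
  have hwP : ∀ i, w i ∈ P := fun i => (hPmem _).2 (inv_mem_nonunits (hbR i))
  have hnf : ¬ IsField TP := by
    intro hf
    have h1 : algebraMap T TP (w i₀) ∈ maximalIdeal TP := (IsLocalization.AtPrime.to_map_mem_maximal_iff TP P _).2 (hwP i₀)
    rw [isField_iff_maximalIdeal_eq.1 hf, Ideal.mem_bot] at h1
    have h2 := congrArg (algebraMap TP K) h1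
    rw [← IsScalarTower.algebraMap_apply, map_zero] at h2
    exact inv_ne_zero (hb0 i₀) h2
  obtain ⟨V, hV, h1, h2⟩ := DVRDom.exists_dvr (R := TP) F K hnf
  have hTV : ∀ t : T, (t : K) ∈ V := fun t => by
    rw [show (t : K) = algebraMap T K t from rfl, IsScalarTower.algebraMap_apply T TP K]
    exact h1 _
  have hiff : ∀ t : T, (t : K) ∈ V.nonunits ↔ t ∈ P := fun t => by
    rw [show (t : K) = algebraMap T K t from rfl, IsScalarTower.algebraMap_apply T TP K,
      ← IsLocalization.AtPrime.to_map_mem_maximal_iff TP P]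
    constructor
    · intro h
      by_contra hn
      obtain ⟨u, hu⟩ := not_not.1 (fun h' => hn ((mem_maximalIdeal _).2 h'))
      obtain ⟨hm, hmm⟩ := ValuationSubring.mem_nonunits_iff_exists_mem_maximalIdeal.1 h
      refine (mem_maximalIdeal _).1 hmm (IsUnit.of_mul_eq_one (⟨algebraMap TP K ↑u⁻¹, h1 _⟩ : V) (Subtype.ext ?_))
      show algebraMap TP K (algebraMap T TP t) * algebraMap TP K ↑u⁻¹ = 1
      rw [← map_mul, ← hu, Units.mul_inv, map_one]
    · exact fun h => h2 _ h
  refine ⟨V, hV, fun a => hTV (algebraMap A T a), fun a => ?_, fun i hi => ?_⟩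
  · exact (hiff (algebraMap A T a)).trans (hPmem _)
  · exact not_mem_of_inv_mem_nonunits (hb0 i) ((hiff (w i)).2 (hwP i)) (hi (hbS i))

/-- if all discrete valuation rings centred at a prime are good, then so are all valuation rings centred near it -/
theorem exists_good_element [IsNoetherianRing A] [Algebra.EssFiniteType A K] [Nonempty ι] [Finite ι]
    (hS : ∀ i, (S i).Finite) (p : Ideal A) [p.IsPrime]
    (H : ∀ V : ValuationSubring K, IsDiscreteValuationRing V → (∀ a : A, algebraMap A K a ∈ V) →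
      (∀ a : A, algebraMap A K a ∈ V.nonunits ↔ a ∈ p) → ∃ i, S i ⊆ V) :
    ∃ s : A, s ∉ p ∧ ∀ R : ValuationSubring K, (∀ a : A, algebraMap A K a ∈ R) → algebraMap A K s ∉ R.nonunits →
      ∃ i, S i ⊆ R := by
  classical
  by_contra hno
  push Not at hno
  choose Rs hRsA hRss hRsbad using hno
  let B : {s : A // s ∉ p} → Set (ValuationSubring K) := fun s =>
    {R | (∀ a : A, algebraMap A K a ∈ R) ∧ algebraMap A K (s : A) ∉ R.nonunits ∧ ∀ i, ¬ S i ⊆ R}
  haveI : Nonempty {s : A // s ∉ p} := ⟨⟨1, fun h => (‹p.IsPrime›).ne_top ((Ideal.eq_top_iff_one _).2 h)⟩⟩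
  have hunit : ∀ (R : ValuationSubring K), (∀ a : A, algebraMap A K a ∈ R) → ∀ s t : A,
      algebraMap A K (s * t) ∉ R.nonunits → algebraMap A K s ∉ R.nonunits := fun R hA s t hst h => hst (by
    obtain ⟨h1, h2⟩ := ValuationSubring.mem_nonunits_iff_exists_mem_maximalIdeal.1 h
    refine ValuationSubring.mem_nonunits_iff_exists_mem_maximalIdeal.2 ⟨hA _, ?_⟩
    rw [show (⟨algebraMap A K (s * t), hA _⟩ : R) = ⟨_, h1⟩ * ⟨_, hA t⟩ from Subtype.ext (map_mul _ _ _)]
    exact Ideal.mul_mem_right _ _ h2)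
  let F₀ : Filter (ValuationSubring K) := ⨅ s, Filter.principal (B s)
  haveI : F₀.NeBot := by
    refine Filter.iInf_neBot_of_directed ?_ fun s => ?_
    · intro s t
      refine ⟨⟨s.1 * t.1, fun h => ((‹p.IsPrime›).mem_or_mem h).elim s.2 t.2⟩, ?_, ?_⟩ <;>
        refine Filter.principal_mono.2 fun R hR => ⟨hR.1, ?_, hR.2.2⟩
      · exact hunit R hR.1 _ _ hR.2.1
      · exact hunit R hR.1 t.1 s.1 (by rw [mul_comm]; exact hR.2.1)
    · rw [Filter.principal_neBot_iff]
      exact ⟨Rs s.1 s.2, hRsA _ _, hRss _ _, fun i => Set.not_subset.2 (by simpa [Set.not_subset] using hRsbad s.1 s.2 i)⟩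
  let F := Ultrafilter.of F₀
  have hF : ∀ s, B s ∈ F := fun s =>
    Ultrafilter.of_le F₀ (Filter.mem_iInf_of_mem s (Filter.mem_principal_self _))
  let RF : ValuationSubring K :=
    { carrier := {z | ∀ᶠ R in (F : Filter (ValuationSubring K)), z ∈ R}
      mul_mem' := fun ha hb => (ha.and hb).mono fun R h => mul_mem h.1 h.2
      one_mem' := Filter.Eventually.of_forall fun R => one_mem R
      add_mem' := fun ha hb => (ha.and hb).mono fun R h => add_mem h.1 h.2
      zero_mem' := Filter.Eventually.of_forall fun R => zero_mem R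
      neg_mem' := fun ha => ha.mono fun R h => neg_mem h
      mem_or_inv_mem' := fun z => Ultrafilter.eventually_or.1 (Filter.Eventually.of_forall fun R => R.mem_or_inv_mem z) }
  let s₀ : {s : A // s ∉ p} := Classical.arbitrary _
  have hRA : ∀ a : A, algebraMap A K a ∈ RF := fun a =>
    Filter.mem_of_superset (hF s₀) fun R hR => hR.1 a
  let j : A →+* RF := (algebraMap A K).codRestrict RF.toSubring hRA
  have hunitp : ∀ s, s ∉ p → IsUnit (j s) := by
    intro s hs
    have hne : algebraMap A K s ≠ 0 := fun h => by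
      obtain ⟨R, hR⟩ := (F.neBot.nonempty_of_mem (hF ⟨s, hs⟩))
      exact hR.2.1 (h ▸ ValuationSubring.mem_nonunits_iff_exists_mem_maximalIdeal.2 ⟨zero_mem R, zero_mem _⟩)
    have hinv : (algebraMap A K s)⁻¹ ∈ RF := Filter.mem_of_superset (hF ⟨s, hs⟩) fun R hR => by
      show _ ∈ R
      by_contra h
      exact hR.2.1 (inv_inv (algebraMap A K s) ▸ inv_mem_nonunits h)
    exact IsUnit.of_mul_eq_one (⟨_, hinv⟩ : RF) (Subtype.ext (mul_inv_cancel₀ hne))
  let ψ : A →+* ResidueField RF := (residue RF).comp j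
  have hψ : ∀ s : p.primeCompl, IsUnit (ψ s) := fun s => (hunitp s s.2).map (residue RF)
  let r : Localization.AtPrime p →+* ResidueField RF := IsLocalization.lift (M := p.primeCompl) hψ
  have hr : ∀ a, r (algebraMap A (Localization.AtPrime p) a) = ψ a := fun a => IsLocalization.lift_eq hψ a
  obtain ⟨A', hA', hloc⟩ := exists_factor_valuationRing r
  let C := ValDense.compositeVS RF A'
  have hCA : ∀ a : A, algebraMap A K a ∈ C := fun a =>
    (ValDense.mem_compositeVS RF A' _).2 ⟨hRA a, by
      show ψ a ∈ A'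
      rw [← hr a]
      exact hA' _⟩
  have hCp : ∀ a : A, algebraMap A K a ∈ C.nonunits ↔ a ∈ p := by
    intro a
    constructor
    · intro h
      by_contra hap
      obtain ⟨h1, h2⟩ := ValuationSubring.mem_nonunits_iff_exists_mem_maximalIdeal.1 h
      obtain ⟨v, hv⟩ := hunitp a hap
      refine (mem_maximalIdeal _).1 h2 (IsUnit.of_mul_eq_one (⟨((↑v⁻¹ : RF) : K), ?_⟩ : C) (Subtype.ext ?_))
      · refine (ValDense.mem_compositeVS RF A' _).2 ⟨(↑v⁻¹ : RF).2, ?_⟩
        show residue RF ↑v⁻¹ ∈ A'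
        have e1 : residue RF ↑v⁻¹ = r (IsLocalization.mk' _ 1 (⟨a, hap⟩ : p.primeCompl)) := by
          rw [IsLocalization.lift_mk']
          rw [map_one, one_mul]
          refine (Units.eq_inv_of_mul_eq_one_left ?_)
          rw [IsUnit.coe_liftRight]
          show ψ a * residue RF ↑v⁻¹ = 1
          rw [show ψ a = residue RF ↑v by rw [hv]; rfl, ← map_mul, Units.mul_inv, map_one]
        rw [e1]
        exact hA' _
      · show algebraMap A K a * ((↑v⁻¹ : RF) : K) = 1
        rw [show algebraMap A K a = ((↑v : RF) : K) by rw [hv]; rfl, ← MulMemClass.coe_mul, Units.mul_inv]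
        rfl
    · intro hap
      refine ValuationSubring.mem_nonunits_iff_exists_mem_maximalIdeal.2 ⟨hCA a, (mem_maximalIdeal _).2 fun hu => ?_⟩
      obtain ⟨⟨c, hc⟩, hcm⟩ := hu.exists_right_inv
      obtain ⟨hcR, hcA⟩ := (ValDense.mem_compositeVS RF A' _).1 hc
      have h1 : IsUnit ((r.codRestrict A'.toSubring hA') (algebraMap A _ a)) := by
        refine IsUnit.of_mul_eq_one (⟨residue RF ⟨c, hcR⟩, hcA⟩ : A') (Subtype.ext ?_)
        show r (algebraMap A _ a) * residue RF ⟨c, hcR⟩ = 1
        rw [hr]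
        show residue RF (j a) * residue RF ⟨c, hcR⟩ = 1
        rw [← map_mul, show j a * ⟨c, hcR⟩ = 1 from Subtype.ext (congrArg (fun q : C => (q : K)) hcm), map_one]
      haveI := hloc
      have h2 : IsUnit (algebraMap A (Localization.AtPrime p) a) := isUnit_of_map_unit (r.codRestrict A'.toSubring hA') _ h1
      exact (IsLocalization.AtPrime.isUnit_to_map_iff _ p a).1 h2 hap
  have hCle : ∀ z, z ∈ C → z ∈ RF := fun z hz => ((ValDense.mem_compositeVS RF A' z).1 hz).1
  obtain ⟨i, hi⟩ : ∃ i, S i ⊆ C := by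
    by_contra hn
    push Not at hn
    obtain ⟨V, hV, h1, h2, h3⟩ := exists_dvr_bad S C hCA hn
    obtain ⟨i, hi⟩ := H V hV h1 fun a => (h2 a).trans (hCp a)
    exact h3 i hi
  have hev : ∀ᶠ R : ValuationSubring K in (F : Filter (ValuationSubring K)), S i ⊆ (R : Set K) := by
    have := (Filter.eventually_all_finite (hS i)).2 fun z hz => (hCle z (hi hz) : ∀ᶠ R in (F : Filter (ValuationSubring K)), z ∈ R)
    exact this.mono fun R h z hz => h z hz
  obtain ⟨R, hR1, hR2⟩ := (hev.and (hF s₀)).exists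
  exact hR2.2.2 i hR1

end Groth.Agent.H6.ZRCompact
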