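import Mathlib
import Groth.Prelude.Def_ZClos
import Groth.Agent.Lib.H6.ZApps

set_option autoImplicit false
set_option linter.all false
set_option maxHeartbeats 800000
set_option backward.isDefEq.respectTransparency.types false

/-! The universal property of the Z-closure. -/

universe u

open CategoryTheory CategoryTheory.Limits AlgebraicGeometry TopologicalSpace Opposite

namespace Groth.Agent.H6.ZUniv

open ZBasic ZApps

variable {X : Scheme.{u}} [IsLocallyNoetherian X] {Z : Set X} {F F' : X.Modules}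

theorem mk_restrict (T : ZClos.Cl Z) (V : X.Opens) (s : F.presheaf.obj (op (P Z T V))) :
    res ((ZClos.H0 Z).obj F) (P_le T V) (mk F T V s) = (ZClos.rhoApp Z F).app (P Z T V) s := by
  rw [mk_res, rho_eq F T]

theorem v_restrict (v : (ZClos.H0 Z).obj F ⟶ F') (u : F ⟶ F') (hv : ZClos.rhoApp Z F ≫ v = u)
    (T : ZClos.Cl Z) (V : X.Opens) (s : F.presheaf.obj (op (P Z T V))) :
    res F' (P_le T V) (v.app V (mk F T V s)) = u.app (P Z T V) s := by
  rw [← res_naturality, mk_restrict]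
  exact ConcreteCategory.congr_hom (congrArg (fun φ : F ⟶ F' => φ.app (P Z T V)) hv) s

theorem hom_ext (hF' : ZClos.IsZClosed Z F') {v w : (ZClos.H0 Z).obj F ⟶ F'}
    (h : ZClos.rhoApp Z F ≫ v = ZClos.rhoApp Z F ≫ w) : v = w := by
  refine H7Stalk.hom_ext_elem fun V σ => ?_
  obtain ⟨ι, W, hW, hcov, hWc⟩ := exists_compact_cover V
  refine ext_cover F' W hW hcov fun i => ?_
  rw [← res_naturality, ← res_naturality]
  obtain ⟨T, s, hs⟩ := exists_mk F (hWc i) (res _ (hW i) σ)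
  rw [← hs]
  exact ((isZClosed_iff F').1 hF' T (W i) (hWc i)).1 ((v_restrict v _ rfl T (W i) s).trans (v_restrict w _ h.symm T (W i) s).symm)

theorem existsUnique (hF' : ZClos.IsZClosed Z F') (u : F ⟶ F') :
    ∃! v : (ZClos.H0 Z).obj F ⟶ F', ZClos.rhoApp Z F ≫ v = u := by
  haveI : ∀ T : ZClos.Cl Z, IsIso (ZClos.toDiagram Z F' T) := (isZClosed_iff_isIso F').1 hF'
  let c : Cocone ((ZClos.diagram Z).obj F) :=
    { pt := F'
      ι :=
        { app := fun T => ((ZClos.diagram Z).map u).app T ≫ inv (ZClos.toDiagram Z F' T)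
          naturality := fun T T' f => by
            dsimp only [Functor.const_obj_obj, Functor.const_obj_map]
            rw [← Category.assoc, NatTrans.naturality ((ZClos.diagram Z).map u) f, Category.assoc, Category.comp_id]
            congr 1
            rw [IsIso.comp_inv_eq, IsIso.eq_inv_comp, ZClos.toDiagram_map] } }
  have hc : ZClos.rhoApp Z F ≫ colimit.desc _ c = u := by
    show (ZClos.toDiagram Z F ⊥ ≫ colimit.ι ((ZClos.diagram Z).obj F) ⊥) ≫ colimit.desc _ c = u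
    rw [Category.assoc, colimit.ι_desc]
    show ZClos.toDiagram Z F ⊥ ≫ ((ZClos.diagram Z).map u).app ⊥ ≫ inv (ZClos.toDiagram Z F' ⊥) = u
    rw [← ZClos.toDiagram_naturality_assoc, IsIso.hom_inv_id, Category.comp_id]
  exact ⟨colimit.desc _ c, hc, fun w hw => hom_ext hF' (hw.trans hc.symm)⟩

theorem germ_eq_zero_of_app (u : F ⟶ F')
    (hu : ∀ x : X, x ∉ Z → Function.Bijective ((TopCat.Presheaf.stalkFunctor (C := Ab.{u}) x).map u.mapPresheaf))
    {W : X.Opens} (s : F.presheaf.obj (op W)) (hs : u.app W s = 0) (x : X) (hx : x ∈ W) (hxZ : x ∉ Z) :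
    F.presheaf.germ W x hx s = 0 := by
  apply (hu x hxZ).1
  refine (TopCat.Presheaf.stalkFunctor_map_germ_apply W x hx u.mapPresheaf s).trans ?_
  refine Eq.trans ?_ (map_zero _).symm
  show F'.presheaf.germ W x hx (u.app W s) = 0
  rw [hs, map_zero]

theorem isIso_fac (hZ : StableUnderSpecialization Z) (hF' : ZClos.IsZClosed Z F') (u : F ⟶ F')
    (hu : ∀ x : X, x ∉ Z → Function.Bijective ((TopCat.Presheaf.stalkFunctor (C := Ab.{u}) x).map u.mapPresheaf))
    (v : (ZClos.H0 Z).obj F ⟶ F') (hv : ZClos.rhoApp Z F ≫ v = u) : IsIso v := by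
  classical
  refine isIso_of_compact _ fun V hV => ⟨?_, fun s' => ?_⟩
  · rw [injective_iff_map_eq_zero]
    intro σ hσ
    obtain ⟨T, s, rfl⟩ := exists_mk F hV σ
    have h1 : u.app (P Z T V) s = 0 := by rw [← v_restrict v u hv T V s, hσ, map_zero]
    obtain ⟨T1, h2⟩ := exists_res_eq_zero F hZ s (germ_eq_zero_of_app u hu s h1)
    rw [← mk_trans F (le_sup_left : T ≤ T ⊔ T1) s,
      h2 _ _ (fun y hy => ZClos.Cl.U_anti le_sup_right (mem_P.1 hy).1), map_zero]
  · have hloc : ∀ x : ((V : Set X) \ Z : Set X), ∃ (W : X.Opens) (hW : W ≤ V), (x : X) ∈ W ∧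
        ∃ t : F.presheaf.obj (op W), u.app W t = res F' hW s' := by
      rintro ⟨x, hxV, hxZ⟩
      obtain ⟨y, hy⟩ := (hu x hxZ).2 (F'.presheaf.germ V x hxV s')
      obtain ⟨W, hxW, t, rfl⟩ := F.presheaf.exists_germ_eq (x := x) y
      rw [TopCat.Presheaf.stalkFunctor_map_germ_apply W x hxW u.mapPresheaf t] at hy
      obtain ⟨W', hxW', i, j, e⟩ := F'.presheaf.germ_eq x hxW hxV _ _ hy
      exact ⟨W', j.le, hxW', res F i.le t, (res_naturality u i.le t).trans e⟩
    choose W hW hxW t ht using hloc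
    have hOc : IsCompact (⋃ x, (W x : Set X)) := isCompact_of_subset hV (Set.iUnion_subset fun x => hW x)
    obtain ⟨f, hf⟩ := hOc.elim_finite_subcover (fun x => (W x : Set X)) (fun x => (W x).isOpen) subset_rfl
    obtain ⟨T0, hT0⟩ := exists_cl hZ (S := (V : Set X) ∩ (⋃ x, (W x : Set X))ᶜ)
      (V.isOpen.isLocallyClosed.inter (isOpen_iUnion fun x => (W x).isOpen).isClosed_compl.isLocallyClosed) (by
        rintro x ⟨hxV, hxO⟩
        by_contra hxZ
        exact hxO (Set.mem_iUnion.2 ⟨⟨x, hxV, hxZ⟩, hxW _⟩))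
    have hpair : ∀ p : {x // x ∈ f} × {x // x ∈ f}, ∃ T' : ZClos.Cl Z, ∀ (V' : X.Opens) (hV' : V' ≤ W p.1.1 ⊓ W p.2.1), V' ≤ T'.U →
        res F hV' (res F inf_le_left (t p.1.1) - res F inf_le_right (t p.2.1)) = 0 := fun p =>
      exists_res_eq_zero F hZ _ (germ_eq_zero_of_app u hu _ (by
        rw [map_sub, res_naturality, res_naturality, ht, ht, res_res, res_res, sub_self]))
    choose T2 hT2 using hpair
    let T : ZClos.Cl Z := T0 ⊔ Finset.univ.sup T2
    have hcov : P Z T V ≤ ⨆ i : {x // x ∈ f}, P Z T (W i.1) := by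
      intro y hy
      have hyO : y ∈ ⋃ x, (W x : Set X) := by
        by_contra hyO
        exact ZClos.Cl.U_anti (le_sup_left : T0 ≤ T) (mem_P.1 hy).1 (hT0 ⟨(mem_P.1 hy).2, hyO⟩)
      obtain ⟨i, hi, hyi⟩ := Set.mem_iUnion₂.1 (hf hyO)
      exact Opens.mem_iSup.2 ⟨⟨i, hi⟩, mem_P.2 ⟨(mem_P.1 hy).1, hyi⟩⟩
    obtain ⟨g, hg⟩ := glue F (fun i : {x // x ∈ f} => P Z T (W i.1)) (fun i => P_mono le_rfl (hW i.1)) hcov
      (fun i => res F (P_le T (W i.1)) (t i.1)) (fun i j => by
        have h := hT2 (i, j) (P Z T (W i.1) ⊓ P Z T (W j.1)) (fun y hy => ⟨(mem_P.1 hy.1).2, (mem_P.1 hy.2).2⟩)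
          (fun y hy => ZClos.Cl.U_anti ((Finset.le_sup (Finset.mem_univ (i, j))).trans le_sup_right) (mem_P.1 hy.1).1)
        rw [map_sub, sub_eq_zero, res_res, res_res] at h
        rw [res_res, res_res]
        exact h)
    refine ⟨mk F T V g, ((isZClosed_iff F').1 hF' T V hV).1 ?_⟩
    rw [v_restrict v u hv]
    refine ext_cover F' (fun i : {x // x ∈ f} => P Z T (W i.1)) (fun i => P_mono le_rfl (hW i.1)) hcov fun i => ?_
    rw [← res_naturality, hg, res_naturality, ht, res_res, res_res]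

/-- `H⁰` vanishes iff the support is in `Z`. -/
theorem isZero_iff (hZ : StableUnderSpecialization Z) :
    IsZero ((ZClos.H0 Z).obj F) ↔ ∀ x : X, x ∉ Z → Subsingleton (F.presheaf.stalk x) := by
  constructor
  · intro h x hx
    refine ⟨fun a b => (isZClosedAt_of_not_mem F hx).1 ?_⟩
    have h0 : ∀ (V : X.Opens) (σ : ((ZClos.H0 Z).obj F).presheaf.obj (op V)), σ = 0 := fun V σ => by
      have h2 := ConcreteCategory.congr_hom (congrArg (fun φ : (ZClos.H0 Z).obj F ⟶ (ZClos.H0 Z).obj F => φ.app V) ((IsZero.iff_id_eq_zero _).1 h)) σ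
      exact h2
    have key : ∀ z : ((ZClos.H0 Z).obj F).presheaf.stalk x, z = 0 := fun z => by
      obtain ⟨V, hxV, σ, rfl⟩ := ((ZClos.H0 Z).obj F).presheaf.exists_germ_eq (x := x) z
      rw [h0 V σ, map_zero]
    rw [key (ZClos.rhoStalk Z F x a), key (ZClos.rhoStalk Z F x b)]
  · intro h
    rw [IsZero.iff_id_eq_zero]
    refine H7Stalk.hom_ext_elem fun V σ => ?_
    show σ = 0
    obtain ⟨ι, W, hW, hcov, hWc⟩ := exists_compact_cover V
    refine ext_cover _ W hW hcov fun i => ?_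
    obtain ⟨T, s, hs⟩ := exists_mk F (hWc i) (res _ (hW i) σ)
    rw [map_zero, ← hs]
    obtain ⟨T1, h2⟩ := exists_res_eq_zero F hZ s (fun x hx hxZ => (h x hxZ).elim _ _)
    rw [← mk_trans F (le_sup_left : T ≤ T ⊔ T1) s,
      h2 _ _ (fun y hy => ZClos.Cl.U_anti le_sup_right (mem_P.1 hy).1), map_zero]

end Groth.Agent.H6.ZUniv
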